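import Cfsg.Agent.Lib.Elusive.Semisimple

/-!
Elements of prime order `r` of `PSL n q`, `r` not the characteristic: invariant subspace dimensions.
-/

set_option autoImplicit false
set_option linter.style.haveILetI false

namespace Cfsg.Agent.Elusive

open Module

variable {F : Type*} [Field F] [Fintype F]

/-- The counting identity for subspaces of a given dimension. -/
theorem card_subspaces_mul {V : Type*} [AddCommGroup V] [Module F V] [FiniteDimensional F V] {m : ℕ}
    (hm : m ≤ finrank F V) :
    Nat.card {W : Submodule F V // finrank F W = m} *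
      ∏ j : Fin m, (Fintype.card F ^ (m - j.val) - 1) =
      ∏ j : Fin m, (Fintype.card F ^ (finrank F V - j.val) - 1) := by
  classical
  haveI : Finite V := Module.finite_of_finite F
  set q := Fintype.card F
  let f : ((W : {W : Submodule F V // finrank F W = m}) × {s : Fin m → W.1 // LinearIndependent F s}) →
      {s : Fin m → V // LinearIndependent F s} :=
    fun x => ⟨Subtype.val ∘ x.2.1, x.2.2.map' x.1.1.subtype x.1.1.ker_subtype⟩
  have hspan : ∀ (x : (W : {W : Submodule F V // finrank F W = m}) ×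
      {s : Fin m → W.1 // LinearIndependent F s}), Submodule.span F (Set.range (f x).1) = x.1.1 := by
    intro x
    refine Submodule.eq_of_le_of_finrank_eq (Submodule.span_le.2 ?_) ?_
    · rintro _ ⟨l, rfl⟩; exact (x.2.1 l).2
    · rw [finrank_span_eq_card (f x).2, Fintype.card_fin, x.1.2]
  have hbij : Function.Bijective f := by
    refine ⟨fun x y h => ?_, fun s => ?_⟩
    · have hW : x.1 = y.1 := Subtype.ext (by rw [← hspan x, ← hspan y, h])
      obtain ⟨W, s⟩ := x
      obtain ⟨W', s'⟩ := y
      subst hW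
      refine Sigma.ext rfl (heq_of_eq (Subtype.ext (funext fun l => Subtype.ext ?_)))
      exact congrFun (congrArg Subtype.val h) l
    · let W : Submodule F V := Submodule.span F (Set.range s.1)
      have hW : finrank F W = m := by rw [finrank_span_eq_card s.2, Fintype.card_fin]
      let s' : Fin m → W := fun l => ⟨s.1 l, Submodule.subset_span ⟨l, rfl⟩⟩
      exact ⟨⟨⟨W, hW⟩, ⟨s', LinearIndependent.of_comp W.subtype s.2⟩⟩, rfl⟩
  have hcard := Nat.card_congr (Equiv.ofBijective f hbij)
  haveI := Fintype.ofFinite {W : Submodule F V // finrank F W = m}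
  rw [Nat.card_sigma, card_linearIndependent hm,
    Finset.sum_congr rfl fun W _ => (card_linearIndependent (K := F) (V := W.1) W.2.ge).trans (by rw [W.2]),
    Finset.sum_const, smul_eq_mul, Finset.card_univ, ← Nat.card_eq_fintype_card] at hcard
  have hfac : ∀ N, m ≤ N → ∏ j : Fin m, (q ^ N - q ^ j.val) =
      (∏ j : Fin m, q ^ j.val) * ∏ j : Fin m, (q ^ (N - j.val) - 1) := by
    intro N hN
    rw [← Finset.prod_mul_distrib]
    refine Finset.prod_congr rfl fun j _ => ?_
    rw [Nat.mul_sub, mul_one, ← pow_add, Nat.add_sub_cancel' (by have := j.2; omega)]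
  rw [hfac m le_rfl, hfac _ hm, mul_left_comm] at hcard
  exact Nat.eq_of_mul_eq_mul_left (Finset.prod_pos fun j _ => pow_pos Fintype.card_pos _) hcard

/-- The characteristic does not divide the number of subspaces of a given dimension. -/
theorem not_dvd_card_subspaces_char {V : Type*} [AddCommGroup V] [Module F V] [FiniteDimensional F V]
    {p : ℕ} [Fact p.Prime] [CharP F p] {m : ℕ} (hm : m ≤ finrank F V) :
    ¬ p ∣ Nat.card {W : Submodule F V // finrank F W = m} := by
  intro hd
  have h := hd.mul_right (∏ j : Fin m, (Fintype.card F ^ (m - j.val) - 1))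
  rw [card_subspaces_mul hm, (Fact.out : p.Prime).prime.dvd_finsetProd_iff] at h
  obtain ⟨j, -, hj⟩ := h
  obtain ⟨f, -, hf⟩ := FiniteField.card F p
  have hpos : 0 < finrank F V - j.val := by have := j.2; omega
  have h1 : p ∣ Fintype.card F ^ (finrank F V - j.val) :=
    dvd_pow (by rw [hf]; exact dvd_pow_self p f.pos.ne') hpos.ne'
  have h2 := Nat.dvd_sub h1 hj
  have h3 : 1 ≤ Fintype.card F ^ (finrank F V - j.val) := Nat.one_le_pow _ _ Fintype.card_pos
  rw [Nat.sub_sub_self h3, Nat.dvd_one] at h2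
  exact (Fact.out : p.Prime).ne_one h2

theorem exists_multiple_of_dvd_card_subspaces {V : Type*} [AddCommGroup V] [Module F V]
    [FiniteDimensional F V] {r : ℕ} [Fact r.Prime] {m : ℕ} (hm : m ≤ finrank F V)
    (hd : r ∣ Nat.card {W : Submodule F V // finrank F W = m}) :
    ∃ j < m, orderOf (Fintype.card F : ZMod r) ∣ finrank F V - j := by
  have h := hd.mul_right (∏ j : Fin m, (Fintype.card F ^ (m - j.val) - 1))
  rw [card_subspaces_mul hm, (Fact.out : r.Prime).prime.dvd_finsetProd_iff] at h
  obtain ⟨j, -, hj⟩ := h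
  refine ⟨j, j.2, orderOf_dvd_of_pow_eq_one ?_⟩
  rw [← ZMod.natCast_eq_zero_iff, Nat.cast_sub (Nat.one_le_pow _ _ Fintype.card_pos), Nat.cast_one,
    sub_eq_zero, Nat.cast_pow] at hj
  exact hj

/-- If `r` divides the number of `m`-spaces then `n mod ord_r q < m ≤ n`. -/
theorem mod_lt_of_dvd_card_subspaces {V : Type*} [AddCommGroup V] [Module F V] [FiniteDimensional F V]
    {r : ℕ} [Fact r.Prime] {m : ℕ} (hm : m ≤ finrank F V)
    (hd : r ∣ Nat.card {W : Submodule F V // finrank F W = m}) :
    finrank F V % orderOf (Fintype.card F : ZMod r) < m ∧ orderOf (Fintype.card F : ZMod r) ≤ finrank F V := by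
  obtain ⟨j, hj, hdvd⟩ := exists_multiple_of_dvd_card_subspaces hm hd
  obtain ⟨k, hk⟩ := hdvd
  set i := orderOf (Fintype.card F : ZMod r)
  have hn : finrank F V = j + i * k := by omega
  refine ⟨?_, ?_⟩
  · rw [hn, Nat.add_mul_mod_self_left]
    exact lt_of_le_of_lt (Nat.mod_le _ _) hj
  · rcases Nat.eq_zero_or_pos k with rfl | hk'
    · omega
    · have := Nat.le_mul_of_pos_right i hk'
      omega

section

variable {p : ℕ} [Fact p.Prime] [CharP F p] {r : ℕ} [Fact r.Prime]

theorem natCast_prime_ne_zero (hrp : r ≠ p) : (r : F) ≠ 0 := fun h =>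
  hrp ((Nat.prime_dvd_prime_iff_eq Fact.out Fact.out).1 ((CharP.cast_eq_zero_iff F p r).1 h)).symm

theorem card_cast_ne_zero (hrp : r ≠ p) : (Fintype.card F : ZMod r) ≠ 0 := by
  intro h
  obtain ⟨f, -, hf⟩ := FiniteField.card F p
  rw [ZMod.natCast_eq_zero_iff, hf] at h
  exact hrp ((Nat.prime_dvd_prime_iff_eq Fact.out Fact.out).1 ((Fact.out : r.Prime).dvd_of_dvd_pow h))

theorem orderOf_card_pos (hrp : r ≠ p) : 0 < orderOf (Fintype.card F : ZMod r) := by
  rw [orderOf_pos_iff]
  exact (isUnit_iff_ne_zero.2 (card_cast_ne_zero hrp)).isOfFinOrder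

theorem orderOf_card_eq_one_iff :
    orderOf (Fintype.card F : ZMod r) = 1 ↔ r ∣ Fintype.card F - 1 := by
  rw [orderOf_eq_one_iff, ← ZMod.natCast_eq_zero_iff, Nat.cast_sub Fintype.card_pos, Nat.cast_one,
    sub_eq_zero]

theorem coprime_of_orderOf_ne_one (hi : orderOf (Fintype.card F : ZMod r) ≠ 1) :
    Nat.Coprime r (Fintype.card F - 1) :=
  (Fact.out : r.Prime).coprime_iff_not_dvd.2 fun h => hi (orderOf_card_eq_one_iff.2 h)

/-- Outside the case `r ∣ q - 1` every element is an `r`-th power. -/
theorem exists_pow_eq_of_orderOf_ne_one (hi : orderOf (Fintype.card F : ZMod r) ≠ 1) (c : F) :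
    ∃ b : F, b ^ r = c := by
  by_cases hc : c = 0
  · exact ⟨0, by rw [hc, zero_pow (Fact.out : r.Prime).ne_zero]⟩
  have hcop : (Nat.card Fˣ).Coprime r := by
    rw [Nat.card_units, Nat.card_eq_fintype_card]
    exact (coprime_of_orderOf_ne_one hi).symm
  obtain ⟨b, hb⟩ := (powCoprime hcop).surjective (Units.mk0 c hc)
  exact ⟨b, by rw [← Units.val_pow_eq_pow_val, ← powCoprime_apply hcop, hb, Units.val_mk0]⟩

theorem eq_one_of_pow_eq_one (hi : orderOf (Fintype.card F : ZMod r) ≠ 1) {d : F} (hd : d ^ r = 1) :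
    d = 1 := by
  have hd0 : d ≠ 0 := fun h => by rw [h, zero_pow (Fact.out : r.Prime).ne_zero] at hd; exact zero_ne_one hd
  have h := pow_gcd_eq_one.2 ⟨hd, FiniteField.pow_card_sub_one_eq_one d hd0⟩
  rwa [(coprime_of_orderOf_ne_one hi).gcd_eq_one, pow_one] at h

/-- A matrix of determinant one from a linear map of determinant one. -/
theorem exists_SL_of_end {n : ℕ} {W : Type*} [AddCommGroup W] [Module F W] [FiniteDimensional F W]
    (hW : finrank F W = n) (B : Module.End F W) (hdet : LinearMap.det B = 1) :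
    ∃ (x : Matrix.SpecialLinearGroup (Fin n) F) (e : W ≃ₗ[F] (Fin n → F)),
      ∀ w, Matrix.toLin' (x : Matrix (Fin n) (Fin n) F) (e w) = e (B w) := by
  obtain ⟨e⟩ : Nonempty (W ≃ₗ[F] (Fin n → F)) :=
    ⟨LinearEquiv.ofFinrankEq W (Fin n → F) (by rw [hW, finrank_pi, Fintype.card_fin])⟩
  let A : Module.End F (Fin n → F) := (e : W →ₗ[F] _) ∘ₗ B ∘ₗ (e.symm : _ →ₗ[F] W)
  refine ⟨⟨LinearMap.toMatrix' A, ?_⟩, e, fun w => ?_⟩
  · rw [LinearMap.det_toMatrix', LinearMap.det_conj, hdet]
  · show Matrix.toLin' (LinearMap.toMatrix' A) (e w) = _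
    rw [Matrix.toLin'_toMatrix']
    simp [A]

omit [Fintype F] [Fact r.Prime] in
/-- A matrix whose `r`-th power is scalar, as a linear map. -/
theorem toLin'_pow_eq {n : ℕ} (x : Matrix.SpecialLinearGroup (Fin n) F) {c : F}
    (hc : ((x ^ r : Matrix.SpecialLinearGroup (Fin n) F) : Matrix (Fin n) (Fin n) F) =
      c • (1 : Matrix (Fin n) (Fin n) F)) :
    (Matrix.toLin' (x : Matrix (Fin n) (Fin n) F) : Module.End F (Fin n → F)) ^ r =
      c • (1 : Module.End F (Fin n → F)) := by
  rw [← Matrix.toLin'_pow, ← Matrix.SpecialLinearGroup.coe_pow, hc, map_smul, Matrix.toLin'_one]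
  rfl

omit [Fintype F] [Fact r.Prime] in
theorem scalar_ne_zero {n : ℕ} (hn : 0 < n) (x : Matrix.SpecialLinearGroup (Fin n) F) {c : F}
    (hc : ((x ^ r : Matrix.SpecialLinearGroup (Fin n) F) : Matrix (Fin n) (Fin n) F) =
      c • (1 : Matrix (Fin n) (Fin n) F)) : c ≠ 0 := by
  intro h
  haveI : Nonempty (Fin n) := ⟨⟨0, hn⟩⟩
  have h1 := congrArg Matrix.det hc
  rw [(x ^ r).det_coe, h, zero_smul, Matrix.det_zero] at h1
  exact one_ne_zero h1

omit [Fintype F] [Fact r.Prime] in
/-- The matrix of `exists_SL_of_end` has the scalar power of the linear map. -/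
theorem pow_eq_scalar {n : ℕ} {W : Type*} [AddCommGroup W] [Module F W] (B : Module.End F W) {c : F}
    (hB : B ^ r = c • (1 : Module.End F W)) (x : Matrix.SpecialLinearGroup (Fin n) F)
    (e : W ≃ₗ[F] (Fin n → F))
    (hx : ∀ w, Matrix.toLin' (x : Matrix (Fin n) (Fin n) F) (e w) = e (B w)) :
    ((x ^ r : Matrix.SpecialLinearGroup (Fin n) F) : Matrix (Fin n) (Fin n) F) =
      c • (1 : Matrix (Fin n) (Fin n) F) := by
  rw [Matrix.SpecialLinearGroup.coe_pow]
  have hl : ∀ (l : ℕ) (w : W), ((Matrix.toLin' (x : Matrix (Fin n) (Fin n) F)) ^ l : Module.End F _) (e w) =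
      e ((B ^ l) w) := by
    intro l
    induction l with
    | zero => intro w; rfl
    | succ l ih => intro w; rw [pow_succ', pow_succ', Module.End.mul_apply, Module.End.mul_apply, ih, hx]
  refine Matrix.toLin'.injective (LinearMap.ext fun v => ?_)
  obtain ⟨w, rfl⟩ := e.surjective v
  rw [Matrix.toLin'_pow, hl, hB, map_smul, Matrix.toLin'_one]
  simp

/-- A semisimple element with `j` blocks of size `ord_r q` and a fixed space. -/
theorem exists_fixed_blocks (hrp : r ≠ p) {n : ℕ} (hi : 2 ≤ orderOf (Fintype.card F : ZMod r))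
    {j : ℕ} (hj : 1 ≤ j) (hjn : j * orderOf (Fintype.card F : ZMod r) ≤ n) :
    ∃ x : Matrix.SpecialLinearGroup (Fin n) F,
      ((x ^ r : Matrix.SpecialLinearGroup (Fin n) F) : Matrix (Fin n) (Fin n) F) =
        (1 : F) • (1 : Matrix (Fin n) (Fin n) F) ∧
      (∀ z : F, (x : Matrix (Fin n) (Fin n) F) ≠ z • (1 : Matrix (Fin n) (Fin n) F)) ∧
      finrank F ↥(fixedSpace (Matrix.toLin' (x : Matrix (Fin n) (Fin n) F))) =
        n - j * orderOf (Fintype.card F : ZMod r) := by
  classical
  set i := orderOf (Fintype.card F : ZMod r) with hidef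
  haveI : NeZero i := ⟨by omega⟩
  let K := FiniteField.Extension F p i
  have hK : finrank F K = i := FiniteField.finrank_extension F p i
  haveI := Fintype.ofFinite K
  have hrdvd : r ∣ Nat.card Kˣ := by
    rw [Nat.card_units, FiniteField.natCard_extension, Nat.card_eq_fintype_card (α := F),
      ← ZMod.natCast_eq_zero_iff, Nat.cast_sub (Nat.one_le_pow _ _ Fintype.card_pos), Nat.cast_pow,
      Nat.cast_one, hidef, pow_orderOf_eq_one, sub_self]
  obtain ⟨ζ, hζ⟩ := exists_prime_orderOf_dvd_card' r hrdvd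
  have hζr : (ζ : K) ^ r = 1 := by
    rw [← Units.val_pow_eq_pow_val, ← hζ, pow_orderOf_eq_one, Units.val_one]
  have hζ1 : (ζ : K) ≠ 1 := fun h => (Fact.out : r.Prime).ne_one
    (hζ ▸ orderOf_eq_one_iff.2 (Units.ext h))
  let B : Module.End F ((Fin j → K) × (Fin (n - j * i) → F)) :=
    (LinearMap.mulLeft F (fun _ => (ζ : K)) : Module.End F (Fin j → K)).prodMap LinearMap.id
  have hBapp : ∀ w, B w = ((fun _ => (ζ : K)) * w.1, w.2) := fun w => rfl
  have hBr : B ^ r = (1 : F) • (1 : Module.End F _) := by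
    have : ∀ (l : ℕ) (w : (Fin j → K) × (Fin (n - j * i) → F)),
        (B ^ l) w = ((fun _ => (ζ : K) ^ l) * w.1, w.2) := by
      intro l
      induction l with
      | zero =>
        intro w
        refine Prod.ext (funext fun k => ?_) rfl
        simp
      | succ l ih =>
        intro w
        rw [pow_succ', Module.End.mul_apply, ih, hBapp]
        refine Prod.ext (funext fun k => ?_) rfl
        simp [pow_succ', mul_assoc]
    refine LinearMap.ext fun w => ?_
    rw [this, hζr, one_smul, Module.End.one_apply]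
    exact Prod.ext (funext fun k => by simp) rfl
  have hdet : LinearMap.det B = 1 := by
    refine eq_one_of_pow_eq_one (r := r) (by omega) ?_
    rw [← map_pow, hBr, one_smul, map_one]
  have hdim : finrank F ((Fin j → K) × (Fin (n - j * i) → F)) = n := by
    rw [finrank_prod, finrank_pi_fintype, finrank_pi, Finset.sum_congr rfl fun _ _ => hK,
      Finset.sum_const, Finset.card_univ, Fintype.card_fin, Fintype.card_fin, smul_eq_mul,
      Nat.add_sub_cancel' hjn]
  obtain ⟨x, e, hx⟩ := exists_SL_of_end hdim B hdet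
  refine ⟨x, pow_eq_scalar B hBr x e hx, fun z hz => ?_, ?_⟩
  · have hpos : 0 < j := hj
    have h1 := hx (1, 0)
    rw [hz, map_smul, Matrix.toLin'_one, LinearMap.smul_apply, LinearMap.id_apply, ← map_smul] at h1
    have h2 : z • (1 : K) = ζ := by
      have := congrFun (congrArg Prod.fst (e.injective h1)) ⟨0, hpos⟩
      simpa [hBapp] using this
    have hz1 : z ^ r = 1 := by
      refine (algebraMap F K).injective ?_
      rw [map_pow, map_one, Algebra.algebraMap_eq_smul_one, h2, hζr]
    rw [eq_one_of_pow_eq_one (r := r) (by omega) hz1, one_smul] at h2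
    exact hζ1 h2.symm
  · set A : Module.End F (Fin n → F) := Matrix.toLin' (x : Matrix (Fin n) (Fin n) F)
    let g : (Fin (n - j * i) → F) →ₗ[F] fixedSpace A :=
      LinearMap.codRestrict _ ((e : _ →ₗ[F] (Fin n → F)) ∘ₗ LinearMap.inr F _ _) fun w => by
        rw [mem_fixedSpace]
        show A (e (0, w)) = e (0, w)
        rw [hx, hBapp]
        simp
    have hg : Function.Bijective g := by
      refine ⟨fun a b h => ?_, fun v => ?_⟩
      · exact congrArg Prod.snd (e.injective (congrArg Subtype.val h : e (0, a) = e (0, b)))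
      · obtain ⟨w, hw⟩ := e.surjective v.1
        have h1 := mem_fixedSpace.1 v.2
        rw [← hw, hx] at h1
        have h2 := congrArg Prod.fst (e.injective h1)
        have h3 : w.1 = 0 := funext fun k => by
          have := congrFun h2 k
          simp only [hBapp, Pi.mul_apply] at this
          by_contra hne
          exact hζ1 ((mul_eq_right₀ hne).1 this)
        exact ⟨w.2, Subtype.ext (show e (0, w.2) = v.1 by rw [← hw, ← h3])⟩
    rw [← (LinearEquiv.ofBijective g hg).finrank_eq, finrank_pi, Fintype.card_fin]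

/-- The first kind of witness: a semisimple element with the smallest possible fixed space. -/
theorem exists_small_fixed (hrp : r ≠ p) {n : ℕ} (hi : 2 ≤ orderOf (Fintype.card F : ZMod r))
    (hin : orderOf (Fintype.card F : ZMod r) ≤ n) :
    ∃ x : Matrix.SpecialLinearGroup (Fin n) F,
      ((x ^ r : Matrix.SpecialLinearGroup (Fin n) F) : Matrix (Fin n) (Fin n) F) =
        (1 : F) • (1 : Matrix (Fin n) (Fin n) F) ∧
      (∀ z : F, (x : Matrix (Fin n) (Fin n) F) ≠ z • (1 : Matrix (Fin n) (Fin n) F)) ∧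
      finrank F ↥(fixedSpace (Matrix.toLin' (x : Matrix (Fin n) (Fin n) F))) =
        n % orderOf (Fintype.card F : ZMod r) := by
  obtain ⟨x, h1, h2, h3⟩ := exists_fixed_blocks (F := F) hrp hi (j := n / orderOf (Fintype.card F : ZMod r))
    (Nat.div_pos hin (by omega)) (Nat.div_mul_le_self _ _)
  refine ⟨x, h1, h2, h3.trans ?_⟩
  have := Nat.div_add_mod n (orderOf (Fintype.card F : ZMod r))
  rw [mul_comm] at this
  omega

/-- The second kind of witness: the power is a scalar that is no `r`-th power. -/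
theorem exists_nonpower_element {n : ℕ} (hrp : r ≠ p) (hrn : r ∣ n) {c : F} (hc : ∀ b : F, b ^ r ≠ c)
    (hdet : ((-1) ^ (r - 1) * c) ^ (n / r) = 1) :
    ∃ x : Matrix.SpecialLinearGroup (Fin n) F,
      ((x ^ r : Matrix.SpecialLinearGroup (Fin n) F) : Matrix (Fin n) (Fin n) F) =
        c • (1 : Matrix (Fin n) (Fin n) F) := by
  classical
  haveI := Fact.mk (X_pow_sub_C_irreducible_of_prime (Fact.out : r.Prime) hc)
  let f : Polynomial F := Polynomial.X ^ r - Polynomial.C c
  have hf0 : f ≠ 0 := Polynomial.X_pow_sub_C_ne_zero (Fact.out : r.Prime).pos c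
  let K := AdjoinRoot f
  haveI : FiniteDimensional F K := (AdjoinRoot.powerBasis hf0).finite
  have hK : finrank F K = r := by
    rw [(AdjoinRoot.powerBasis hf0).finrank, AdjoinRoot.powerBasis_dim, Polynomial.natDegree_X_pow_sub_C]
  have hroot : (AdjoinRoot.root f : K) ^ r = algebraMap F K c := by
    have h := AdjoinRoot.eval₂_root f
    rw [Polynomial.eval₂_sub, Polynomial.eval₂_pow, Polynomial.eval₂_X, Polynomial.eval₂_C, sub_eq_zero] at h
    exact h
  let B : Module.End F (Fin (n / r) → K) := LinearMap.mulLeft F (fun _ => AdjoinRoot.root f)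
  have hBr : B ^ r = c • (1 : Module.End F _) := by
    have hl : ∀ (l : ℕ) (w : Fin (n / r) → K) (k : Fin (n / r)),
        (B ^ l) w k = (AdjoinRoot.root f : K) ^ l * w k := by
      intro l
      induction l with
      | zero => intro w k; simp
      | succ l ih =>
        intro w k
        rw [pow_succ', Module.End.mul_apply, LinearMap.mulLeft_apply, Pi.mul_apply, ih, pow_succ', mul_assoc]
    refine LinearMap.ext fun w => funext fun k => ?_
    rw [hl, hroot, LinearMap.smul_apply, Module.End.one_apply, Pi.smul_apply, Algebra.smul_def]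
  have hdim : finrank F (Fin (n / r) → K) = n := by
    rw [finrank_pi_fintype, Finset.sum_congr rfl fun _ _ => hK, Finset.sum_const, Finset.card_univ,
      Fintype.card_fin, smul_eq_mul, Nat.div_mul_cancel hrn]
  have hd : LinearMap.det B = 1 := by
    rw [det_of_nonpower (natCast_prime_ne_zero hrp) hBr hc, hdim, hdet]
  obtain ⟨x, e, hx⟩ := exists_SL_of_end hdim B hd
  exact ⟨x, pow_eq_scalar B hBr x e hx⟩

end

end Cfsg.Agent.Elusive
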