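import Cfsg.Agent.Lib.Elusive.Linear

/-!
Arithmetic conditions for the scalar of an element of order `r` in `PSL n q`.
-/

set_option autoImplicit false
set_option linter.style.haveILetI false

namespace Cfsg.Agent.Elusive

variable {F : Type*} [Field F] [Fintype F] {r : ℕ} [Fact r.Prime]

/-- A non-`r`-th power has multiplicative order with full `r`-part. -/
theorem padicValNat_le_of_nonpower {d : F} (hd : ∀ b : F, b ^ r ≠ d) {e : ℕ} (he : e ≠ 0)
    (h : d ^ e = 1) : padicValNat r (Fintype.card F - 1) ≤ padicValNat r e := by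
  classical
  have hrp := (Fact.out : r.Prime)
  have hd0 : d ≠ 0 := fun h0 => hd 0 (by rw [h0, zero_pow hrp.ne_zero])
  obtain ⟨g, hg⟩ := IsCyclic.exists_ofOrder_eq_natCard (α := Fˣ)
  rw [Nat.card_units, Nat.card_eq_fintype_card] at hg
  obtain ⟨t, ht⟩ : ∃ t : ℕ, g ^ t = Units.mk0 d hd0 :=
    mem_powers_iff_mem_zpowers.2 (by
      rw [(Subgroup.eq_top_of_card_eq (Subgroup.zpowers g) (by
        rw [Nat.card_zpowers, hg, Nat.card_units, Nat.card_eq_fintype_card]))]
      trivial)
  have hrt : ¬ r ∣ t := by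
    rintro ⟨u, rfl⟩
    exact hd ((g ^ u : Fˣ) : F) (by
      rw [← Units.val_pow_eq_pow_val, ← pow_mul, mul_comm, ht, Units.val_mk0])
  have hdvd : Fintype.card F - 1 ∣ t * e := by
    rw [← hg]
    refine orderOf_dvd_of_pow_eq_one ?_
    rw [pow_mul, ht]
    exact Units.ext (by rw [Units.val_pow_eq_pow_val, Units.val_mk0, h, Units.val_one])
  set a := padicValNat r (Fintype.card F - 1)
  have h1 : r ^ a ∣ t * e := pow_padicValNat_dvd.trans hdvd
  have h2 : r ^ a ∣ e := ((hrp.coprime_iff_not_dvd.2 hrt).pow_left a).dvd_of_dvd_mul_left h1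
  exact (padicValNat_dvd_iff_le he).1 h2

/-- An element of order the full `r`-part of `q - 1` is no `r`-th power. -/
theorem exists_nonpower (hr : r ∣ Fintype.card F - 1) :
    ∃ c : F, (∀ b : F, b ^ r ≠ c) ∧ c ^ r ^ padicValNat r (Fintype.card F - 1) = 1 := by
  classical
  have hrp := (Fact.out : r.Prime)
  obtain ⟨g, hg⟩ := IsCyclic.exists_ofOrder_eq_natCard (α := Fˣ)
  rw [Nat.card_units, Nat.card_eq_fintype_card] at hg
  set N := Fintype.card F - 1
  set a := padicValNat r N
  have hN : N ≠ 0 := by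
    have := Fintype.one_lt_card (α := F)
    omega
  obtain ⟨t, ht⟩ := (pow_padicValNat_dvd : r ^ a ∣ N)
  have hrt : ¬ r ∣ t := fun ⟨u, hu⟩ =>
    pow_succ_padicValNat_not_dvd (p := r) hN ⟨u, ht.trans (by rw [hu, pow_succ, mul_assoc])⟩
  refine ⟨((g ^ t : Fˣ) : F), fun b hb => hrt ?_, ?_⟩
  · have hb0 : b ≠ 0 := fun h => (g ^ t).ne_zero (by rw [← hb, h, zero_pow hrp.ne_zero])
    have h1 : (g ^ t) ^ (N / r) = 1 := by
      rw [show g ^ t = (Units.mk0 b hb0) ^ r from Units.ext (by
          rw [Units.val_pow_eq_pow_val (Units.mk0 b hb0), Units.val_mk0, hb]), ← pow_mul,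
        Nat.mul_div_cancel' hr]
      exact Units.ext (by
        rw [Units.val_pow_eq_pow_val, Units.val_mk0, FiniteField.pow_card_sub_one_eq_one b hb0,
          Units.val_one])
    rw [← pow_mul] at h1
    obtain ⟨k, hk⟩ := hg ▸ orderOf_dvd_of_pow_eq_one h1
    obtain ⟨l, hl⟩ := hr
    rw [hl, Nat.mul_div_cancel_left _ hrp.pos] at hk
    have hl0 : 0 < l := Nat.pos_of_ne_zero fun h => hN (by rw [hl, h, mul_zero])
    exact ⟨k, Nat.eq_of_mul_eq_mul_right hl0 (by rw [hk]; ring)⟩
  · rw [← Units.val_pow_eq_pow_val, ← pow_mul, mul_comm, ← ht, ← hg, pow_orderOf_eq_one, Units.val_one]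

/-- With the congruence condition at `2`, `(-1)^(r-1) c` is a non-power with `c`. -/
theorem signed_nonpower {c : F} (hc : ∀ b : F, b ^ r ≠ c)
    (h4 : r = 2 → Fintype.card F % 4 = 1) : ∀ b : F, b ^ r ≠ (-1) ^ (r - 1) * c := by
  rcases (Fact.out : r.Prime).eq_two_or_odd with rfl | hodd
  · obtain ⟨s, hs⟩ := (FiniteField.isSquare_neg_one_iff (F := F)).2 (by rw [h4 rfl]; norm_num)
    intro b hb
    refine hc (b * s) ?_
    rw [mul_pow, hb, show s ^ 2 = -1 by rw [pow_two, hs]]
    ring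
  · intro b
    rw [(Nat.even_sub' (Fact.out : r.Prime).one_le |>.2 (iff_of_true (Nat.odd_iff.2 hodd) odd_one)).neg_one_pow,
      one_mul]
    exact hc b

/-- When the arithmetic condition fails, a suitable scalar exists. -/
theorem exists_scalar_witness {n : ℕ} (hn : n ≠ 0) (hr : r ∣ Fintype.card F - 1)
    (h : padicValNat r (Fintype.card F - 1) < padicValNat r n ∨
      (r = 2 ∧ Even n ∧ Fintype.card F % 4 ≠ 1)) :
    r ∣ n ∧ ∃ c : F, (∀ b : F, b ^ r ≠ c) ∧ ((-1) ^ (r - 1) * c) ^ (n / r) = 1 := by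
  classical
  have hrp := (Fact.out : r.Prime)
  by_cases h3 : r = 2 ∧ Even n ∧ Fintype.card F % 4 ≠ 1
  · obtain ⟨rfl, heven, h4⟩ := h3
    refine ⟨even_iff_two_dvd.1 heven, -1, fun b hb => ?_, by norm_num⟩
    have hodd : Fintype.card F % 2 = 1 := by
      have := Fintype.one_lt_card (α := F)
      omega
    have := (FiniteField.isSquare_neg_one_iff (F := F)).1 ⟨b, by rw [← hb, pow_two]⟩
    omega
  · have hlt : padicValNat r (Fintype.card F - 1) < padicValNat r n := h.resolve_right h3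
    obtain ⟨c, hc, hca⟩ := exists_nonpower hr
    set a := padicValNat r (Fintype.card F - 1)
    have hrn : r ^ (a + 1) ∣ n := (pow_dvd_pow r hlt).trans pow_padicValNat_dvd
    obtain ⟨k, hk⟩ := hrn
    have hdvd : r ∣ n := ⟨r ^ a * k, by rw [hk, pow_succ]; ring⟩
    have he : n / r = r ^ a * k := by
      rw [hk, pow_succ, mul_comm (r ^ a) r, mul_assoc, Nat.mul_div_cancel_left _ hrp.pos]
    refine ⟨hdvd, c, hc, ?_⟩
    rw [mul_pow, he, pow_mul c, hca, one_pow, mul_one, ← pow_mul]
    refine Even.neg_one_pow ?_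
    rcases hrp.eq_two_or_odd with rfl | hodd
    · have ha : a ≠ 0 := fun ha0 => by
        have := pow_succ_padicValNat_not_dvd (p := 2) (n := Fintype.card F - 1)
          (by have := Fintype.one_lt_card (α := F); omega)
        rw [show padicValNat 2 (Fintype.card F - 1) = 0 from ha0, pow_one] at this
        exact this hr
      exact ((Nat.even_pow.2 ⟨even_two, ha⟩).mul_right k).mul_left _
    · exact (Nat.even_sub' hrp.one_le |>.2 (iff_of_true (Nat.odd_iff.2 hodd) odd_one)).mul_right _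

/-- Under the arithmetic condition the scalar of an element of `SL` is an `r`-th power. -/
theorem no_nonpower_scalar {n : ℕ} (hn : n ≠ 0) {c : F} (hrn : r ∣ n) (hc : ∀ b : F, b ^ r ≠ c)
    (hdet : ((-1) ^ (r - 1) * c) ^ (n / r) = 1)
    (hle : padicValNat r n ≤ padicValNat r (Fintype.card F - 1))
    (h4 : r = 2 → Even n → Fintype.card F % 4 = 1) : False := by
  have hd := signed_nonpower hc fun h => h4 h (even_iff_two_dvd.2 (h ▸ hrn))
  have he : n / r ≠ 0 :=
    (Nat.div_pos (Nat.le_of_dvd (Nat.pos_of_ne_zero hn) hrn) (Fact.out : r.Prime).pos).ne'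
  have h1 := padicValNat_le_of_nonpower hd he hdet
  rw [padicValNat.div hrn] at h1
  have h2 : 1 ≤ padicValNat r n := one_le_padicValNat_of_dvd hn hrn
  omega

end Cfsg.Agent.Elusive
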