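import Cfsg.Agent.Lib.Elusive.Semisimple

/-!
Fixed space bounds for maps of prime order permuting the summands of a decomposition.
-/

set_option autoImplicit false
set_option linter.style.haveILetI false

namespace Cfsg.Agent.Elusive

open Module

variable {F V ι : Type*} [Field F] [AddCommGroup V] [Module F V] [FiniteDimensional F V]

/-- The fixed parts of independent subspaces add up inside a subspace. -/
theorem sum_finrank_inf_le [Fintype ι] {D : ι → Submodule F V} (hD : iSupIndep D) (K : Submodule F V) :
    ∑ j, finrank F ↥(D j ⊓ K) ≤ finrank F K := by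
  classical
  let Φ : (∀ j, ↥(D j ⊓ K)) →ₗ[F] K := ∑ j, (Submodule.inclusion inf_le_right) ∘ₗ LinearMap.proj j
  have hΦ : ∀ c, (Φ c : V) = ∑ j, (c j : V) := fun c => by simp [Φ]
  have hinj : Function.Injective Φ := by
    rw [injective_iff_map_eq_zero]
    intro c hc
    have h0 : ∑ j, (c j : V) = 0 := by rw [← hΦ, hc, Submodule.coe_zero]
    funext j
    refine Subtype.ext ?_
    have h1 : (c j : V) ∈ ⨆ (k) (_ : k ≠ j), D k := by
      rw [← Finset.add_sum_erase _ _ (Finset.mem_univ j), add_eq_zero_iff_eq_neg] at h0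
      rw [h0]
      exact neg_mem (Submodule.sum_mem _ fun k hk =>
        Submodule.mem_iSup_of_mem k (Submodule.mem_iSup_of_mem (Finset.ne_of_mem_erase hk) (c k).2.1))
    exact Submodule.disjoint_def.1 (hD j) _ (c j).2.1 h1
  have h1 := LinearMap.finrank_le_finrank_of_injective hinj
  rwa [Module.finrank_pi_fintype] at h1

/-- A moved summand bounds the fixed space and its complement from below. -/
theorem moved_block_bound {D : ι → Submodule F V} (hD : iSupIndep D) {a : ℕ} (ha : 0 < a)
    (hfin : ∀ j, finrank F (D j) = a) (B : Module.End F V) {r : ℕ} [Fact r.Prime] (hB : B ^ r = 1)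
    (σ : Equiv.Perm ι) (hσ : ∀ j, (D j).map B = D (σ j)) {j : ι} (hj : σ j ≠ j) :
    a ≤ finrank F ↥(fixedSpace B) ∧ a * (r - 1) + finrank F ↥(fixedSpace B) ≤ finrank F V := by
  classical
  have hrpr := (Fact.out : r.Prime)
  have hDinj : Function.Injective D := by
    intro i k hik
    by_contra hne
    have hd := hD.pairwiseDisjoint hne
    rw [Function.onFun, hik, disjoint_self] at hd
    have := hfin k
    rw [hd, finrank_bot] at this
    omega
  have hpowmem : ∀ (l : ℕ), ∀ v ∈ D j, (B ^ l) v ∈ D ((σ ^ l) j) := by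
    intro l
    induction l with
    | zero => intro v hv; exact hv
    | succ l ih =>
      intro v hv
      rw [pow_succ' B, pow_succ' σ, Module.End.mul_apply, Equiv.Perm.mul_apply, ← hσ]
      exact ⟨_, ih v hv, rfl⟩
  have hσr : (σ ^ r) j = j := hDinj (by
    have h2 : ∀ (l : ℕ), (D j).map (B ^ l) = D ((σ ^ l) j) := by
      intro l
      induction l with
      | zero => exact Submodule.map_id _
      | succ l ih =>
        rw [pow_succ' B, pow_succ' σ, Equiv.Perm.mul_apply, ← hσ, ← ih, ← Submodule.map_comp]
        rfl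
    rw [← h2, hB]
    exact Submodule.map_id _)
  have hper : Function.minimalPeriod σ j = r := by
    refine Function.minimalPeriod_eq_prime ?_ hj
    show σ^[r] j = j
    rw [← Equiv.Perm.coe_pow, hσr]
  have hne : ∀ l, 0 < l → l < r → (σ ^ l) j ≠ j := fun l hl1 hl2 e => by
    have hp' : Function.IsPeriodicPt σ l j := by
      show σ^[l] j = j
      rw [← Equiv.Perm.coe_pow]; exact e
    have := hp'.minimalPeriod_le hl1
    omega
  constructor
  · let S : Module.End F V := ∑ l ∈ Finset.range r, B ^ l
    have hSfix : ∀ v, S v ∈ fixedSpace B := fun v => by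
      rw [mem_fixedSpace, LinearMap.sum_apply, map_sum]
      have h1 := Finset.sum_range_succ' (fun l => (B ^ l) v) r
      rw [Finset.sum_range_succ, hB, pow_zero] at h1
      rw [add_right_cancel h1]
      exact Finset.sum_congr rfl fun l _ => by rw [pow_succ', Module.End.mul_apply]
    let L : D j →ₗ[F] fixedSpace B := (S ∘ₗ (D j).subtype).codRestrict _ fun v => hSfix _
    have hL : Function.Injective L := by
      rw [injective_iff_map_eq_zero]
      intro v hv
      have h0 : S v = 0 := congrArg Subtype.val hv
      rw [LinearMap.sum_apply, ← Finset.add_sum_erase _ _ (Finset.mem_range.2 hrpr.pos), pow_zero,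
        Module.End.one_apply, add_eq_zero_iff_eq_neg] at h0
      refine Subtype.ext (Submodule.disjoint_def.1 (hD j) _ v.2 ?_)
      rw [h0]
      refine neg_mem (Submodule.sum_mem _ fun l hl => ?_)
      obtain ⟨hl1, hl2⟩ := Finset.mem_erase.1 hl
      exact Submodule.mem_iSup_of_mem ((σ ^ l) j) (Submodule.mem_iSup_of_mem
        (hne l (Nat.pos_of_ne_zero hl1) (Finset.mem_range.1 hl2)) (hpowmem l v v.2))
    rw [← hfin j]
    exact LinearMap.finrank_le_finrank_of_injective hL
  · let Ψ : (Fin (r - 1) → D j) →ₗ[F] LinearMap.range (B - 1) :=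
      (∑ i : Fin (r - 1), ((B ^ ((i : ℕ) + 1) - 1) ∘ₗ (D j).subtype) ∘ₗ LinearMap.proj i).codRestrict _
        fun v => by
          rw [LinearMap.sum_apply]
          refine Submodule.sum_mem _ fun i _ => ?_
          refine ⟨(∑ l ∈ Finset.range ((i : ℕ) + 1), B ^ l) (v i : V), ?_⟩
          rw [← Module.End.mul_apply, mul_geom_sum]
          rfl
    have hΨ : Function.Injective Ψ := by
      rw [injective_iff_map_eq_zero]
      intro v hv
      have h0 := congrArg Subtype.val hv
      simp only [Ψ, LinearMap.codRestrict_apply, LinearMap.sum_apply, LinearMap.comp_apply,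
        LinearMap.proj_apply, Submodule.subtype_apply, LinearMap.sub_apply, Module.End.one_apply,
        Submodule.coe_zero, Finset.sum_sub_distrib] at h0
      funext i
      refine Subtype.ext ?_
      set J := (σ ^ ((i : ℕ) + 1)) j
      have hBi : (B ^ ((i : ℕ) + 1)) (v i : V) ∈ D J := hpowmem _ _ (v i).2
      have h3 : (B ^ ((i : ℕ) + 1)) (v i : V) ∈ ⨆ (k) (_ : k ≠ J), D k := by
        rw [sub_eq_zero, ← Finset.add_sum_erase _ _ (Finset.mem_univ i), ← eq_sub_iff_add_eq] at h0
        rw [h0]
        refine sub_mem (Submodule.sum_mem _ fun k _ => ?_) (Submodule.sum_mem _ fun k hk => ?_)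
        · refine Submodule.mem_iSup_of_mem j (Submodule.mem_iSup_of_mem ?_ (v k).2)
          exact (hne _ (Nat.succ_pos _) (by have := i.2; omega)).symm
        · refine Submodule.mem_iSup_of_mem ((σ ^ ((k : ℕ) + 1)) j) (Submodule.mem_iSup_of_mem ?_ (hpowmem _ _ (v k).2))
          intro e
          have hki : (k : ℕ) ≠ i := fun e' => Finset.ne_of_mem_erase hk (Fin.ext e')
          rcases Nat.lt_or_gt_of_ne hki with hlt | hlt
          · refine hne ((i : ℕ) - k) (by omega) (by have := i.2; omega) ((σ ^ ((k : ℕ) + 1)).injective ?_)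
            rw [← Equiv.Perm.mul_apply, ← pow_add, show (k : ℕ) + 1 + ((i : ℕ) - k) = (i : ℕ) + 1 by omega]
            exact e.symm
          · refine hne ((k : ℕ) - i) (by omega) (by have := k.2; omega) ((σ ^ ((i : ℕ) + 1)).injective ?_)
            rw [← Equiv.Perm.mul_apply, ← pow_add, show (i : ℕ) + 1 + ((k : ℕ) - i) = (k : ℕ) + 1 by omega]
            exact e
      have h4 := Submodule.disjoint_def.1 (hD J) _ hBi h3
      have h5 := congrArg (B ^ (r - ((i : ℕ) + 1))) h4
      rwa [← Module.End.mul_apply, ← pow_add, Nat.sub_add_cancel (by have := i.2; omega), hB, map_zero] at h5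
    have h1 := LinearMap.finrank_le_finrank_of_injective hΨ
    rw [Module.finrank_pi_fintype, Finset.sum_congr rfl (fun i _ => hfin j), Finset.sum_const,
      Finset.card_univ, Fintype.card_fin, smul_eq_mul] at h1
    have h2 := LinearMap.finrank_range_add_finrank_ker (B - 1)
    have h3 : finrank F ↥(fixedSpace B) = finrank F ↥(LinearMap.ker (B - 1)) := rfl
    rw [h3, mul_comm]
    omega

end Cfsg.Agent.Elusive
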