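import Cfsg.Agent.Lib.Elusive.SubspaceCriterion

/-!
The number of ordered decompositions `F^n = U ⊕ W`.
-/

set_option autoImplicit false
set_option linter.style.haveILetI false

namespace Cfsg.Agent.Elusive

open Module

variable {F : Type*} [Field F] [Fintype F] {p : ℕ} [Fact p.Prime] [CharP F p] {n m : ℕ}

/-- Complements of a subspace form an affine space. -/
theorem card_complements {V : Type*} [AddCommGroup V] [Module F V] [FiniteDimensional F V]
    (U : Submodule F V) :
    ∃ k : ℕ, Nat.card {W : Submodule F V // IsCompl U W} = p ^ k := by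
  classical
  haveI : Finite V := Module.finite_of_finite F
  obtain ⟨C, hC⟩ := Submodule.exists_isCompl U
  let f₀ := U.projectionOnto C hC
  have hf₀ : ∀ x : U, f₀ x = x := Submodule.projectionOnto_apply_left hC
  let K : Submodule F (V →ₗ[F] U) := LinearMap.ker (LinearMap.lcomp F U U.subtype)
  have e : {f : V →ₗ[F] U // ∀ x : U, f x = x} ≃ K :=
    { toFun := fun f => ⟨f.1 - f₀, LinearMap.mem_ker.2 (LinearMap.ext fun x => by
        show f.1 x - f₀ x = 0
        rw [f.2, hf₀, sub_self])⟩
      invFun := fun g => ⟨g.1 + f₀, fun x => by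
        have h : g.1 (x : V) = 0 := LinearMap.congr_fun (LinearMap.mem_ker.1 g.2) x
        rw [LinearMap.add_apply, h, hf₀, zero_add]⟩
      left_inv := fun f => Subtype.ext (sub_add_cancel f.1 f₀)
      right_inv := fun g => Subtype.ext (add_sub_cancel_right g.1 f₀) }
  obtain ⟨f, -, hf⟩ := FiniteField.card F p
  refine ⟨(f : ℕ) * finrank F K, ?_⟩
  rw [Nat.card_congr (U.isComplEquivProj.trans e), Module.natCard_eq_pow_finrank (K := F),
    Nat.card_eq_fintype_card, hf, pow_mul]

/-- A prime other than the characteristic dividing the number of decompositions divides the number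
of `m`-spaces. -/
theorem dvd_card_subspaces_of_decompositions {r : ℕ} [Fact r.Prime] (hrp : r ≠ p)
    (hd : r ∣ Nat.card {P : Submodule F (Fin n → F) × Submodule F (Fin n → F) //
      IsCompl P.1 P.2 ∧ finrank F ↥P.1 = m}) :
    r ∣ Nat.card {U : Submodule F (Fin n → F) // finrank F U = m} := by
  classical
  let e : {P : Submodule F (Fin n → F) × Submodule F (Fin n → F) //
        IsCompl P.1 P.2 ∧ finrank F ↥P.1 = m} ≃
      ((U : {U : Submodule F (Fin n → F) // finrank F U = m}) ×
        {W : Submodule F (Fin n → F) // IsCompl U.1 W}) :=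
    { toFun := fun P => ⟨⟨P.1.1, P.2.2⟩, ⟨P.1.2, P.2.1⟩⟩
      invFun := fun x => ⟨(x.1.1, x.2.1), x.2.2, x.1.2⟩
      left_inv := fun _ => rfl
      right_inv := fun _ => rfl }
  haveI := Fintype.ofFinite {U : Submodule F (Fin n → F) // finrank F U = m}
  rw [Nat.card_congr e, Nat.card_sigma] at hd
  rcases isEmpty_or_nonempty {U : Submodule F (Fin n → F) // finrank F U = m} with he | ⟨⟨U₀⟩⟩
  · simp
  obtain ⟨k, hk⟩ := card_complements (F := F) (p := p) U₀.1
  have hconst : ∀ U : {U : Submodule F (Fin n → F) // finrank F U = m},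
      Nat.card {W : Submodule F (Fin n → F) // IsCompl U.1 W} = p ^ k := by
    intro U
    rw [← hk]
    obtain ⟨C, hC⟩ := Submodule.exists_isCompl U.1
    obtain ⟨C₀, hC₀⟩ := Submodule.exists_isCompl U₀.1
    have h1 := Submodule.finrank_add_eq_of_isCompl hC
    have h2 := Submodule.finrank_add_eq_of_isCompl hC₀
    have h3 := U.2
    have h4 := U₀.2
    let eU := LinearEquiv.ofFinrankEq (R := F) U.1 U₀.1 (h3.trans h4.symm)
    let eC := LinearEquiv.ofFinrankEq (R := F) C C₀ (by omega)
    let g : (Fin n → F) ≃ₗ[F] (Fin n → F) :=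
      (Submodule.prodEquivOfIsCompl U.1 C hC).symm.trans
        ((eU.prodCongr eC).trans (Submodule.prodEquivOfIsCompl U₀.1 C₀ hC₀))
    have hg : U.1.map g.toLinearMap = U₀.1 := by
      refine Submodule.eq_of_le_of_finrank_eq ?_ (by rw [g.finrank_map_eq, h3, h4])
      rintro _ ⟨v, hv, rfl⟩
      show g v ∈ U₀.1
      simp [g, Submodule.prodEquivOfIsCompl_symm_apply_left _ _ hC ⟨v, hv⟩]
    refine Nat.card_congr ((Submodule.orderIsoMapComap g).toEquiv.subtypeEquiv fun W => ?_)
    show IsCompl U.1 W ↔ IsCompl U₀.1 (W.map g.toLinearMap)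
    rw [← hg]
    exact (Submodule.orderIsoMapComap g).isCompl_iff
  rw [Finset.sum_congr rfl fun U _ => hconst U, Finset.sum_const, smul_eq_mul, Finset.card_univ,
    ← Nat.card_eq_fintype_card] at hd
  exact ((Fact.out : r.Prime).dvd_mul.1 hd).resolve_right fun h =>
    hrp ((Nat.prime_dvd_prime_iff_eq Fact.out Fact.out).1 ((Fact.out : r.Prime).dvd_of_dvd_pow h))

end Cfsg.Agent.Elusive
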