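import Mathlib

/-!
Irreducibility of the multiplication by a root of unity of order `r` on the field of `q ^ ord_r q` elements.
-/

set_option autoImplicit false
set_option linter.style.haveILetI false

namespace Cfsg.Agent.Elusive

open Module IntermediateField

variable {F : Type*} [Field F] [Fintype F] {r : ℕ} [Fact r.Prime] {K : Type*} [Field K] [Algebra F K]

/-- The root of unity generates the field. -/
theorem adjoin_root_eq_top [FiniteDimensional F K] {ζ : K} (hζ : ζ ^ r = 1) (hζ1 : ζ ≠ 1)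
    (hK : finrank F K = orderOf (Fintype.card F : ZMod r)) :
    Algebra.adjoin F {ζ} = ⊤ := by
  have hrp := (Fact.out : r.Prime)
  haveI : Finite K := Module.finite_of_finite F
  haveI : Fintype F⟮ζ⟯ := Fintype.ofFinite _
  have hmem : ζ ∈ F⟮ζ⟯ := mem_adjoin_simple_self F ζ
  have hζ0 : ζ ≠ 0 := fun h => by rw [h, zero_pow hrp.ne_zero] at hζ; exact zero_ne_one hζ
  have hord : orderOf ζ = r := orderOf_eq_prime hζ hζ1
  have h1 : ζ ^ (Fintype.card F⟮ζ⟯ - 1) = 1 :=
    congrArg Subtype.val (FiniteField.pow_card_sub_one_eq_one (⟨ζ, hmem⟩ : F⟮ζ⟯)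
      fun h => hζ0 (congrArg Subtype.val h))
  have hcard : Fintype.card F⟮ζ⟯ = Fintype.card F ^ finrank F F⟮ζ⟯ := Module.card_eq_pow_finrank
  rw [hcard] at h1
  have h2 : r ∣ Fintype.card F ^ finrank F F⟮ζ⟯ - 1 := hord ▸ orderOf_dvd_of_pow_eq_one h1
  have h3 : (Fintype.card F : ZMod r) ^ finrank F F⟮ζ⟯ = 1 := by
    rw [← sub_eq_zero, ← Nat.cast_pow, ← Nat.cast_one (R := ZMod r),
      ← Nat.cast_sub (Nat.one_le_pow _ _ Fintype.card_pos), ZMod.natCast_eq_zero_iff]
    exact_mod_cast h2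
  have h4 : F⟮ζ⟯ = ⊤ := by
    refine IntermediateField.eq_of_le_of_finrank_le le_top ?_
    rw [IntermediateField.finrank_top', hK]
    exact Nat.le_of_dvd Module.finrank_pos (orderOf_dvd_of_pow_eq_one h3)
  rw [← adjoin_simple_toSubalgebra_of_isAlgebraic (Algebra.IsAlgebraic.isAlgebraic ζ), h4,
    IntermediateField.top_toSubalgebra]

/-- Subspaces invariant under the root of unity are trivial. -/
theorem eq_bot_or_eq_top_of_mul [FiniteDimensional F K] {ζ : K} (hζ : ζ ^ r = 1) (hζ1 : ζ ≠ 1)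
    (hK : finrank F K = orderOf (Fintype.card F : ZMod r)) {U : Submodule F K}
    (hU : ∀ u ∈ U, ζ * u ∈ U) : U = ⊥ ∨ U = ⊤ := by
  let L : Subalgebra F K :=
    { carrier := {a | ∀ u ∈ U, a * u ∈ U}
      mul_mem' := fun {a b} ha hb u hu => by rw [mul_assoc]; exact ha _ (hb u hu)
      one_mem' := fun u hu => by rwa [one_mul]
      add_mem' := fun {a b} ha hb u hu => by rw [add_mul]; exact U.add_mem (ha u hu) (hb u hu)
      zero_mem' := fun u hu => by rw [zero_mul]; exact U.zero_mem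
      algebraMap_mem' := fun c u hu => by rw [← Algebra.smul_def]; exact U.smul_mem c hu }
  have hL : Algebra.adjoin F {ζ} ≤ L := Algebra.adjoin_le (Set.singleton_subset_iff.2 hU)
  rw [adjoin_root_eq_top hζ hζ1 hK] at hL
  by_cases h : U = ⊥
  · exact Or.inl h
  obtain ⟨a, ha, ha0⟩ := Submodule.exists_mem_ne_zero_of_ne_bot h
  refine Or.inr (eq_top_iff.2 fun b _ => ?_)
  have := (hL (Algebra.mem_top : b * a⁻¹ ∈ ⊤) : ∀ u ∈ U, b * a⁻¹ * u ∈ U) a ha
  rwa [mul_assoc, inv_mul_cancel₀ ha0, mul_one] at this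

end Cfsg.Agent.Elusive
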