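import Cfsg.Agent.Lib.Elusive.Linear
import Cfsg.Prelude.Def_GeometricClasses

/-!
Equidimensional decompositions stabilised by a linear map of prime order up to scalars.
-/

set_option autoImplicit false
set_option linter.style.haveILetI false

namespace Cfsg.Agent.Elusive

open Module

/-- A basis cut into blocks which the map permutes gives a stabilised decomposition. -/
theorem exists_decomposition_of_basis {F : Type*} [Field F] {n a t : ℕ} {ι : Type*} [Fintype ι]
    (b : Basis ι F (Fin n → F)) (A : Module.End F (Fin n → F)) (hA : Function.Injective A)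
    (β : ι → Fin t) (ht : 2 ≤ t) (ha : 0 < a) (hβ : ∀ j, Nat.card {i // β i = j} = a)
    (σ : Equiv.Perm (Fin t))
    (h : ∀ i, A (b i) ∈ Submodule.span F (b '' {k | β k = σ (β i)})) :
    ∃ D : Fin t → Submodule F (Fin n → F), Cfsg.Geo.IsMDecomposition a D ∧ ∀ j, (D j).map A = D (σ j) := by
  classical
  let D : Fin t → Submodule F (Fin n → F) := fun j => Submodule.span F (b '' {k | β k = j})
  have hsupp : ∀ j, ∀ v ∈ D j, ∀ i, β i ≠ j → b.repr v i = 0 := by
    intro j v hv i hi
    have : D j ≤ LinearMap.ker (b.coord i) := by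
      rw [Submodule.span_le]
      rintro _ ⟨k, hk, rfl⟩
      have hki : k ≠ i := fun e => hi (e ▸ hk)
      simp [Basis.coord_apply, hki]
    exact this hv
  have hfin : ∀ j, finrank F (D j) = a := by
    intro j
    have hli : LinearIndependent F fun k : {i // β i = j} => b k := b.linearIndependent.comp _ Subtype.val_injective
    have h1 := finrank_span_eq_card hli
    rw [← Nat.card_eq_fintype_card, hβ j] at h1
    rw [← h1]
    show finrank F (Submodule.span F _) = _
    congr 2 <;> rw [Set.image_eq_range] <;> rfl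
  refine ⟨D, ⟨ht, ha, hfin, fun j => ?_, ?_⟩, fun j => ?_⟩
  · rw [Submodule.disjoint_def]
    intro v hv hv'
    refine b.repr.injective (Finsupp.ext fun i => ?_)
    rw [map_zero, Finsupp.zero_apply]
    by_cases hi : β i = j
    · have : (⨆ (k) (_ : k ≠ j), D k) ≤ LinearMap.ker (b.coord i) :=
        iSup₂_le fun k hk w hw => hsupp k w hw i (hi ▸ Ne.symm hk)
      exact this hv'
    · exact hsupp j v hv i hi
  · rw [eq_top_iff, ← b.span_eq, Submodule.span_le]
    rintro _ ⟨i, rfl⟩
    exact Submodule.mem_iSup_of_mem (β i) (Submodule.subset_span ⟨i, rfl, rfl⟩)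
  · refine Submodule.eq_of_le_of_finrank_eq ?_ ?_
    · rw [Submodule.map_span_le]
      rintro _ ⟨i, hi, rfl⟩
      have := h i
      rw [show β i = j from hi] at this
      exact this
    · rw [← (Submodule.equivMapOfInjective A hA (D j)).finrank_eq, hfin, hfin]

/-- Invariant blocks, chosen one at a time. -/
theorem exists_invariant_blocks {F V : Type*} [Field F] [AddCommGroup V] [Module F V] [FiniteDimensional F V]
    (A : Module.End F V) {r : ℕ} (hr : (r : F) ≠ 0) {z : F} (hz : z ≠ 0)
    (hA : A ^ r = z • (1 : Module.End F V)) {a : ℕ} :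
    ∀ (t : ℕ),
      (∀ (t' : ℕ) (X : Submodule F V), t' < t → X.map A ≤ X → finrank F X = a * (t' + 1) →
        ∃ U : Submodule F V, U ≤ X ∧ U.map A ≤ U ∧ finrank F U = a) →
      ∀ (X : Submodule F V), X.map A ≤ X → finrank F X = a * t →
      ∃ w : Fin t → Fin a → V, Submodule.span F (Set.range fun p : Fin t × Fin a => w p.1 p.2) = X ∧
        ∀ k i, A (w k i) ∈ Submodule.span F (Set.range (w k)) := by
  intro t
  induction t with
  | zero =>
    intro _ X _ hX
    refine ⟨fun k => k.elim0, ?_, fun k => k.elim0⟩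
    rw [mul_zero, Submodule.finrank_eq_zero] at hX
    rw [hX, Set.range_eq_empty, Submodule.span_empty]
  | succ t ih =>
    intro hstep X hXi hX
    obtain ⟨U, hUX, hUi, hUd⟩ := hstep t X (Nat.lt_succ_self t) hXi hX
    obtain ⟨W, -, hWi, hsup, -, hd⟩ := exists_invariant_compl_in A hr hz hA hUi hXi hUX
    obtain ⟨w, hw1, hw2⟩ := ih (fun t' X' ht' => hstep t' X' (by omega)) W hWi
      (by rw [hUd, hX, Nat.mul_succ] at hd; omega)
    let b := finBasisOfFinrankEq F U hUd
    let u : Fin a → V := fun i => (b i : V)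
    have hu : Submodule.span F (Set.range u) = U := by
      rw [show Set.range u = U.subtype '' Set.range b by rw [← Set.range_comp]; rfl, Submodule.span_image,
        b.span_eq, Submodule.map_top, Submodule.range_subtype]
    refine ⟨Fin.cons u w, ?_, ?_⟩
    · rw [← hsup, ← hu, ← hw1, ← Submodule.span_union]
      congr 1
      ext v
      simp [Fin.exists_fin_succ]
    · intro k i
      induction k using Fin.cases with
      | zero =>
        simp only [Fin.cons_zero, hu]
        exact hUi ⟨u i, (b i).2, rfl⟩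
      | succ k =>
        simp only [Fin.cons_succ]
        exact hw2 k i

/-- Cycles of length `r`, when the scalar is no `r`-th power. -/
theorem exists_cycles {F V : Type*} [Field F] [AddCommGroup V] [Module F V] [FiniteDimensional F V]
    (A : Module.End F V) {r : ℕ} [Fact r.Prime] (hr : (r : F) ≠ 0) {z : F}
    (hA : A ^ r = z • (1 : Module.End F V)) (hz : ∀ b : F, b ^ r ≠ z) :
    ∀ (N : ℕ) (X : Submodule F V), finrank F X = N → X.map A ≤ X →
      ∃ (J : ℕ) (w : Fin J → Fin r → V), Submodule.span F (Set.range fun p : Fin J × Fin r => w p.1 p.2) = X ∧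
        J * r = N ∧ ∀ j i, ∃ μ : F, A (w j i) = μ • w j (finRotate r i) := by
  intro N
  induction N using Nat.strong_induction_on with
  | _ N ih =>
  intro X hN hXi
  by_cases hne : X = ⊥
  · refine ⟨0, fun j => j.elim0, ?_, ?_, fun j => j.elim0⟩
    · rw [hne, Set.range_eq_empty, Submodule.span_empty]
    · rw [← hN, hne, finrank_bot, zero_mul]
  obtain ⟨v, hvX, hv⟩ := Submodule.exists_mem_ne_zero_of_ne_bot hne
  have hrp := (Fact.out : r.Prime)
  have hz0 : z ≠ 0 := fun h => hz 0 (by rw [h, zero_pow hrp.ne_zero])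
  haveI : NeZero r := ⟨hrp.ne_zero⟩
  let w₀ : Fin r → V := fun i => (A ^ (i : ℕ)) v
  set S := Submodule.span F (Set.range w₀)
  have hstep : ∀ i, ∃ μ : F, A (w₀ i) = μ • w₀ (finRotate r i) := by
    intro i
    have h1 : A (w₀ i) = (A ^ ((i : ℕ) + 1)) v := by rw [pow_succ', Module.End.mul_apply]
    rw [finRotate_apply]
    rcases Nat.lt_or_ge ((i : ℕ) + 1) r with hlt | hge
    · refine ⟨1, ?_⟩
      have h2 : ((i + 1 : Fin r) : ℕ) = (i : ℕ) + 1 := by
        rw [Fin.val_add, Fin.val_one', Nat.add_mod_mod, Nat.mod_eq_of_lt hlt]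
      simp only [w₀] at h1 ⊢
      rw [one_smul, h2, h1]
    · refine ⟨z, ?_⟩
      have h3 : (i : ℕ) + 1 = r := by omega
      have h4 : ((i + 1 : Fin r) : ℕ) = 0 := by
        rw [Fin.val_add, Fin.val_one', Nat.add_mod_mod, h3, Nat.mod_self]
      simp only [w₀] at h1 ⊢
      rw [h4, h1, h3, hA]
      simp
  have hSi : S.map A ≤ S := by
    rw [Submodule.map_span_le]
    rintro _ ⟨i, rfl⟩
    obtain ⟨μ, hμ⟩ := hstep i
    rw [hμ]
    exact S.smul_mem μ (Submodule.subset_span ⟨_, rfl⟩)
  have hSX : S ≤ X := by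
    rw [Submodule.span_le]
    rintro _ ⟨i, rfl⟩
    show (A ^ (i : ℕ)) v ∈ X
    induction (i : ℕ) with
    | zero => exact hvX
    | succ l ih => rw [pow_succ', Module.End.mul_apply]; exact hXi ⟨_, ih, rfl⟩
  have hSd : finrank F S = r := by
    have h1 : finrank F S ≤ r := (finrank_range_le_card w₀).trans (Fintype.card_fin r).le
    have h2 := prime_dvd_finrank hA hz hSi
    have h3 : 0 < finrank F S := Nat.pos_of_ne_zero fun e => hv (by
      have : v ∈ S := Submodule.subset_span ⟨0, by simp [w₀]⟩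
      rwa [Submodule.finrank_eq_zero.1 e, Submodule.mem_bot] at this)
    exact le_antisymm h1 (Nat.le_of_dvd h3 h2)
  obtain ⟨W, -, hWi, hsup, -, hd⟩ := exists_invariant_compl_in A hr hz0 hA hSi hXi hSX
  obtain ⟨J, w, hw1, hJ, hw2⟩ := ih (finrank F W) (by have := hrp.pos; omega) W rfl hWi
  refine ⟨J + 1, Fin.cons w₀ w, ?_, by rw [Nat.succ_mul]; omega, ?_⟩
  · rw [← hsup, ← hw1, ← Submodule.span_union]
    congr 1
    ext x
    simp [Fin.exists_fin_succ]
  · intro j i
    induction j using Fin.cases with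
    | zero => simpa using hstep i
    | succ j => simpa using hw2 j i

/-- Lines permuted in cycles, pairing each block with a fixed vector. -/
theorem exists_permuted_lines {F V : Type*} [Field F] [Fintype F] [AddCommGroup V] [Module F V]
    [FiniteDimensional F V] {r : ℕ} [Fact r.Prime] (hr : (r : F) ≠ 0)
    (hrq : (Fintype.card F : ZMod r) ≠ 0) (B : Module.End F V) (hB : B ^ r = 1)
    (he : orderOf (Fintype.card F : ZMod r) = r - 1) :
    ∀ (N : ℕ) (X : Submodule F V), finrank F X = N → X.map B ≤ X →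
      N ≤ finrank F ↥(X ⊓ fixedSpace B) * r →
      ∃ (ι : Type) (_ : Fintype ι) (w : ι → V) (π : Equiv.Perm ι),
        Submodule.span F (Set.range w) = X ∧ Fintype.card ι = N ∧ ∀ i, B (w i) = w (π i) := by
  classical
  have hrp := (Fact.out : r.Prime)
  intro N
  induction N using Nat.strong_induction_on with
  | _ N ih =>
  intro X hN hXi hcap
  have hA : B ^ r = (1 : F) • (1 : Module.End F V) := by rw [one_smul, hB]
  obtain ⟨M, hMX, hMi, hsupM, hinfM, hdimM⟩ :=
    exists_invariant_compl_in B hr one_ne_zero hA (invariant_inf hXi (fixedSpace_invariant B)) hXi inf_le_left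
  by_cases hM : M = ⊥
  · -- all fixed
    have hfix : X ≤ fixedSpace B := by
      rw [← hsupM, hM, sup_bot_eq]
      exact inf_le_right
    let b := finBasisOfFinrankEq F X hN
    refine ⟨Fin N, inferInstance, fun i => (b i : V), 1, ?_, Fintype.card_fin N,
      fun i => mem_fixedSpace.1 (hfix (b i).2)⟩
    rw [show Set.range (fun i => (b i : V)) = X.subtype '' Set.range b by rw [← Set.range_comp]; rfl,
      Submodule.span_image, b.span_eq, Submodule.map_top, Submodule.range_subtype]
  have hfree : ∀ v ∈ M, B v = v → v = 0 := fun v hv h => by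
    have : v ∈ X ⊓ fixedSpace B ⊓ M := ⟨⟨hMX hv, mem_fixedSpace.2 h⟩, hv⟩
    rwa [hinfM, Submodule.mem_bot] at this
  obtain ⟨S, hSM, hSi, hSd⟩ := exists_invariant_orderOf hB hrq hMi hM hfree
  rw [he] at hSd
  have hSfree : ∀ v ∈ S, B v = v → v = 0 := fun v hv => hfree v (hSM hv)
  obtain ⟨v, hvS, hv⟩ := Submodule.exists_mem_ne_zero_of_ne_bot (p := S) fun h => by
    rw [h, finrank_bot] at hSd
    have := hrp.two_le
    omega
  have hfpos : X ⊓ fixedSpace B ≠ ⊥ := fun h => by
    rw [h, finrank_bot, zero_mul] at hcap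
    refine hM (Submodule.finrank_eq_zero.1 ?_)
    omega
  obtain ⟨u, huX, hu⟩ := Submodule.exists_mem_ne_zero_of_ne_bot hfpos
  have hBu : B u = u := mem_fixedSpace.1 huX.2
  haveI : NeZero r := ⟨hrp.ne_zero⟩
  let w₀ : Fin r → V := fun i => u + (B ^ (i : ℕ)) v
  have hpowS : ∀ l : ℕ, (B ^ l) v ∈ S := by
    intro l
    induction l with
    | zero => exact hvS
    | succ l ih => rw [pow_succ', Module.End.mul_apply]; exact hSi ⟨_, ih, rfl⟩
  have hstep : ∀ i, B (w₀ i) = w₀ (finRotate r i) := by
    intro i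
    rw [finRotate_apply]
    show B (u + (B ^ (i : ℕ)) v) = u + (B ^ ((i + 1 : Fin r) : ℕ)) v
    rw [map_add, hBu, ← Module.End.mul_apply, ← pow_succ', Fin.val_add, Fin.val_one', Nat.add_mod_mod,
      pow_eq_pow_mod ((i : ℕ) + 1) hB]
  set W := Submodule.span F (Set.range w₀)
  have hWi : W.map B ≤ W := by
    rw [Submodule.map_span_le]
    rintro _ ⟨i, rfl⟩
    rw [hstep]
    exact Submodule.subset_span ⟨_, rfl⟩
  have hsum : (∑ i : Fin r, (B ^ (i : ℕ)) v) = 0 := by
    refine hSfree _ (S.sum_mem fun i _ => hpowS i) ?_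
    rw [map_sum, ← Equiv.sum_comp (finRotate r) (fun i : Fin r => (B ^ (i : ℕ)) v)]
    refine Finset.sum_congr rfl fun i _ => ?_
    rw [finRotate_apply, Fin.val_add, Fin.val_one', Nat.add_mod_mod, ← pow_eq_pow_mod ((i : ℕ) + 1) hB,
      pow_succ', Module.End.mul_apply]
  have huW : u ∈ W := by
    have h1 : ∑ i, w₀ i ∈ W := W.sum_mem fun i _ => Submodule.subset_span ⟨i, rfl⟩
    simp only [w₀, Finset.sum_add_distrib, hsum, add_zero, Finset.sum_const, Finset.card_univ,
      Fintype.card_fin, ← Nat.cast_smul_eq_nsmul F] at h1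
    exact (W.smul_mem_iff hr).1 h1
  have hvW : v ∈ W := by
    have h1 : w₀ 0 - u ∈ W := sub_mem (Submodule.subset_span ⟨0, rfl⟩) huW
    simpa [w₀] using h1
  have hSW : S ≤ W := by
    have hpos : 0 < finrank F ↥(S ⊓ W) := Nat.pos_of_ne_zero fun h => hv (by
      have : v ∈ S ⊓ W := ⟨hvS, hvW⟩
      rwa [Submodule.finrank_eq_zero.1 h, Submodule.mem_bot] at this)
    have hdvd := orderOf_dvd_finrank hB (invariant_inf hSi hWi) fun x hx => hSfree x hx.1
    rw [he] at hdvd
    exact inf_eq_left.1 (Submodule.eq_of_le_of_finrank_le inf_le_left (hSd.le.trans (Nat.le_of_dvd hpos hdvd)))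
  have hdis : S ⊓ (F ∙ u) = ⊥ := by
    rw [Submodule.eq_bot_iff]
    rintro x ⟨hx, hxu⟩
    obtain ⟨k, rfl⟩ := Submodule.mem_span_singleton.1 hxu
    exact hSfree _ hx (by rw [map_smul, hBu])
  have huf : F ∙ u ≤ fixedSpace B := (Submodule.span_singleton_le_iff_mem _ _).2 huX.2
  have hSud : finrank F ↥(S ⊔ (F ∙ u)) = r := by
    have := Submodule.finrank_sup_add_finrank_inf_eq S (F ∙ u)
    rw [hdis, finrank_bot, finrank_span_singleton hu, hSd] at this
    have := hrp.two_le
    omega
  have hWeq : S ⊔ (F ∙ u) = W := by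
    refine Submodule.eq_of_le_of_finrank_le
      (sup_le hSW ((Submodule.span_singleton_le_iff_mem _ _).2 huW)) ?_
    rw [hSud]
    exact (finrank_range_le_card w₀).trans (Fintype.card_fin r).le
  have hWX : W ≤ X := hWeq ▸ sup_le (hSM.trans hMX) ((Submodule.span_singleton_le_iff_mem _ _).2 huX.1)
  have hWfix : finrank F ↥(W ⊓ fixedSpace B) = 1 := by
    have hui : (F ∙ u).map B ≤ F ∙ u := by
      rw [Submodule.map_span_le]
      rintro x rfl
      rw [hBu]
      exact Submodule.mem_span_singleton_self _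
    have := finrank_inf_fixedSpace_add hSi hui hWeq hdis
    rw [show S ⊓ fixedSpace B = ⊥ from (Submodule.eq_bot_iff _).2 fun x hx =>
      hSfree x hx.1 (mem_fixedSpace.1 hx.2), finrank_bot, inf_eq_left.2 huf, finrank_span_singleton hu] at this
    omega
  obtain ⟨C, hCX, hCi, hsupC, hinfC, hdimC⟩ := exists_invariant_compl_in B hr one_ne_zero hA hWi hXi hWX
  have hfixadd := finrank_inf_fixedSpace_add hWi hCi hsupC hinfC
  rw [hWfix] at hfixadd
  rw [← hWeq, hSud, hN] at hdimC
  have hcap' : finrank F C ≤ finrank F ↥(C ⊓ fixedSpace B) * r := by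
    rw [← hfixadd, add_mul, one_mul] at hcap
    omega
  obtain ⟨ι, _, w, π, hw1, hcard, hw2⟩ := ih _ (by have := hrp.pos; omega) C rfl hCi hcap'
  refine ⟨Fin r ⊕ ι, inferInstance, Sum.elim w₀ w, Equiv.sumCongr (finRotate r) π, ?_, ?_, ?_⟩
  · rw [Set.Sum.elim_range, Submodule.span_union, hw1, hsupC]
  · rw [Fintype.card_sum, Fintype.card_fin, hcard, hdimC]
  · rintro (i | i)
    · exact hstep i
    · exact hw2 i

end Cfsg.Agent.Elusive
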