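import Cfsg.Agent.Lib.Elusive.SubspaceCriterion

/-!
Flags `U ≤ W` of dimensions `m`, `n - m`: counting and invariant flags.
-/

set_option autoImplicit false
set_option linter.style.haveILetI false

namespace Cfsg.Agent.Elusive

open Module

variable {F : Type*} [Field F] [Fintype F]

/-- Subspaces of complementary dimensions are equinumerous. -/
theorem card_subspaces_compl {V : Type*} [AddCommGroup V] [Module F V] [FiniteDimensional F V] {k m : ℕ}
    (h : k + m = finrank F V) :
    Nat.card {W : Submodule F V // finrank F W = k} =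
      Nat.card {W : Submodule F (Dual F V) // finrank F W = m} := by
  refine Nat.card_congr ((((Subspace.orderIsoFiniteDimensional (K := F) (V := V)).toEquiv.trans
    OrderDual.ofDual)).subtypeEquiv fun W => ?_)
  show finrank F W = k ↔ finrank F W.dualAnnihilator = m
  have := Subspace.finrank_add_finrank_dualAnnihilator_eq W
  omega

variable {n m : ℕ}

/-- A flag is an `m`-space together with an `(n - 2m)`-space in the quotient. -/
theorem card_flags (hmn : 2 * m < n) :
    Nat.card {P : Submodule F (Fin n → F) × Submodule F (Fin n → F) //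
        P.1 ≤ P.2 ∧ finrank F ↥P.1 = m ∧ finrank F ↥P.2 = n - m} =
      Nat.card ((U : {U : Submodule F (Fin n → F) // finrank F U = m}) ×
        {W : Submodule F ((Fin n → F) ⧸ U.1) // finrank F W = n - 2 * m}) := by
  have hleU : ∀ (U : Submodule F (Fin n → F)) (W : Submodule F ((Fin n → F) ⧸ U)), U ≤ W.comap U.mkQ :=
    fun U W v hv => by
      show U.mkQ v ∈ W
      rw [Submodule.mkQ_apply, (Submodule.Quotient.mk_eq_zero U).2 hv]
      exact W.zero_mem
  have hdim : ∀ (U : Submodule F (Fin n → F)) (W : Submodule F ((Fin n → F) ⧸ U)),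
      finrank F (W.comap U.mkQ) = finrank F W + finrank F U := by
    intro U W
    have h := LinearMap.finrank_range_add_finrank_ker (U.mkQ.domRestrict (W.comap U.mkQ))
    rw [LinearMap.range_domRestrict, Submodule.map_comap_eq_of_surjective U.mkQ_surjective,
      LinearMap.ker_domRestrict, Submodule.ker_mkQ] at h
    rw [← h, (Submodule.comapSubtypeEquivOfLe (hleU U W)).finrank_eq]
  refine (Nat.card_congr (Equiv.ofBijective
    (fun x : (U : {U : Submodule F (Fin n → F) // finrank F U = m}) ×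
        {W : Submodule F ((Fin n → F) ⧸ U.1) // finrank F W = n - 2 * m} =>
      (⟨(x.1.1, x.2.1.comap x.1.1.mkQ),
        hleU _ _, x.1.2,
        by rw [hdim, x.2.2, x.1.2]; omega⟩ :
      {P : Submodule F (Fin n → F) × Submodule F (Fin n → F) //
        P.1 ≤ P.2 ∧ finrank F ↥P.1 = m ∧ finrank F ↥P.2 = n - m})) ⟨?_, ?_⟩)).symm
  · rintro ⟨⟨U, hU⟩, W, hW⟩ ⟨⟨U', hU'⟩, W', hW'⟩ h
    simp only [Subtype.mk.injEq, Prod.mk.injEq] at h
    obtain ⟨rfl, h⟩ := h
    obtain rfl := Submodule.comap_injective_of_surjective U.mkQ_surjective h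
    rfl
  · rintro ⟨⟨U, W⟩, hle, hU, hW⟩
    dsimp only at hle hU hW
    have hcm : (W.map U.mkQ).comap U.mkQ = W := by
      rw [Submodule.comap_map_eq, Submodule.ker_mkQ, sup_eq_left.2 hle]
    have h1 := hdim U (W.map U.mkQ)
    rw [hcm, hW, hU] at h1
    have hd' : finrank F (W.map U.mkQ) = n - 2 * m := by omega
    exact ⟨⟨⟨U, hU⟩, ⟨W.map U.mkQ, hd'⟩⟩, Subtype.ext (Prod.ext rfl hcm)⟩

variable {p : ℕ} [Fact p.Prime] [CharP F p] {r : ℕ} [Fact r.Prime]

omit [Fact p.Prime] [CharP F p] in
theorem exists_summand (hmn : 2 * m < n)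
    (hd : r ∣ Nat.card {P : Submodule F (Fin n → F) × Submodule F (Fin n → F) //
        P.1 ≤ P.2 ∧ finrank F ↥P.1 = m ∧ finrank F ↥P.2 = n - m}) :
    r ∣ Nat.card {U : Submodule F (Fin n → F) // finrank F U = m} ∨
    ∃ U : Submodule F (Fin n → F), finrank F U = m ∧
      r ∣ Nat.card {W : Submodule F (Dual F ((Fin n → F) ⧸ U)) // finrank F W = m} := by
  classical
  rw [card_flags hmn] at hd
  haveI := Fintype.ofFinite {U : Submodule F (Fin n → F) // finrank F U = m}
  rw [Nat.card_sigma] at hd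
  by_cases hex : ∃ U : {U : Submodule F (Fin n → F) // finrank F U = m},
      r ∣ Nat.card {W : Submodule F ((Fin n → F) ⧸ U.1) // finrank F W = n - 2 * m}
  · obtain ⟨U, hU⟩ := hex
    refine Or.inr ⟨U.1, U.2, ?_⟩
    rwa [card_subspaces_compl (m := m) (by
      have := U.1.finrank_quotient_add_finrank
      rw [finrank_pi, Fintype.card_fin, U.2] at this
      omega)] at hU
  · -- all summands have the same cardinality
    refine Or.inl ?_
    rcases isEmpty_or_nonempty {U : Submodule F (Fin n → F) // finrank F U = m} with he | ⟨⟨U₀⟩⟩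
    · simp
    · have hconst : ∀ U : {U : Submodule F (Fin n → F) // finrank F U = m},
          Nat.card {W : Submodule F ((Fin n → F) ⧸ U.1) // finrank F W = n - 2 * m} =
            Nat.card {W : Submodule F ((Fin n → F) ⧸ U₀.1) // finrank F W = n - 2 * m} := fun U => by
        let e := LinearEquiv.ofFinrankEq (R := F) ((Fin n → F) ⧸ U.1) ((Fin n → F) ⧸ U₀.1) (by
          have h1 := Submodule.finrank_quotient_add_finrank (R := F) U.1
          have h2 := Submodule.finrank_quotient_add_finrank (R := F) U₀.1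
          have h3 := U.2
          have h4 := U₀.2
          omega)
        exact Nat.card_congr ((Submodule.orderIsoMapComap e).toEquiv.subtypeEquiv fun W => by
          show _ ↔ finrank F (W.map e.toLinearMap) = _
          rw [e.finrank_map_eq])
      rw [Finset.sum_congr rfl fun U _ => hconst U, Finset.sum_const, smul_eq_mul, Finset.card_univ,
        ← Nat.card_eq_fintype_card] at hd
      exact ((Fact.out : r.Prime).dvd_mul.1 hd).resolve_right fun h => hex ⟨U₀, h⟩

theorem ne_char_of_dvd_card_flags (hmn : 2 * m < n)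
    (hd : r ∣ Nat.card {P : Submodule F (Fin n → F) × Submodule F (Fin n → F) //
        P.1 ≤ P.2 ∧ finrank F ↥P.1 = m ∧ finrank F ↥P.2 = n - m}) : r ≠ p := by
  rintro rfl
  rcases exists_summand hmn hd with h | ⟨U, hU, h⟩
  · exact not_dvd_card_subspaces_char (by rw [finrank_pi, Fintype.card_fin]; omega) h
  · have hq := U.finrank_quotient_add_finrank
    rw [finrank_pi, Fintype.card_fin] at hq
    exact not_dvd_card_subspaces_char (by rw [Subspace.dual_finrank_eq]; omega) h

theorem mod_lt_of_dvd_card_flags (hrp : r ≠ p) (hm : 1 ≤ m) (hmn : 2 * m < n)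
    (hd : r ∣ Nat.card {P : Submodule F (Fin n → F) × Submodule F (Fin n → F) //
        P.1 ≤ P.2 ∧ finrank F ↥P.1 = m ∧ finrank F ↥P.2 = n - m}) :
    n % orderOf (Fintype.card F : ZMod r) < 2 * m ∧ orderOf (Fintype.card F : ZMod r) ≤ n := by
  have hipos : 0 < orderOf (Fintype.card F : ZMod r) := orderOf_card_pos hrp
  have hdim : finrank F (Fin n → F) = n := by rw [finrank_pi, Fintype.card_fin]
  rcases exists_summand hmn hd with h | ⟨U, hU, h⟩
  · obtain ⟨h1, h2⟩ := mod_lt_of_dvd_card_subspaces (by omega) h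
    rw [hdim] at h1 h2
    exact ⟨by omega, h2⟩
  · have hq := U.finrank_quotient_add_finrank
    rw [hdim, hU] at hq
    obtain ⟨h1, h2⟩ := mod_lt_of_dvd_card_subspaces (by rw [Subspace.dual_finrank_eq]; omega) h
    rw [Subspace.dual_finrank_eq, show finrank F ((Fin n → F) ⧸ U) = n - m by omega] at h1 h2
    refine ⟨?_, by omega⟩
    by_contra hge
    have hlt := Nat.mod_lt n hipos
    have : (n - m) % orderOf (Fintype.card F : ZMod r) = n % orderOf (Fintype.card F : ZMod r) - m := by
      conv_lhs => rw [← Nat.div_add_mod n (orderOf (Fintype.card F : ZMod r)), Nat.add_sub_assoc (by omega),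
        Nat.mul_add_mod]
      exact Nat.mod_eq_of_lt (by omega)
    omega

/-- Sufficiency: an invariant flag. -/
theorem exists_fixed_flag (hn : 0 < n) (hrp : r ≠ p) (hmn : 2 * m < n)
    (hcond : (orderOf (Fintype.card F : ZMod r) = 1 ∧ (r ∣ m ∨
        (padicValNat r n ≤ padicValNat r (Fintype.card F - 1) ∧ (r = 2 → Even n → Fintype.card F % 4 = 1)))) ∨
      (2 ≤ orderOf (Fintype.card F : ZMod r) ∧
        2 * (m % orderOf (Fintype.card F : ZMod r)) ≤ n % orderOf (Fintype.card F : ZMod r)))
    (x : Matrix.SpecialLinearGroup (Fin n) F)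
    (hx : ∃ c : F, ((x ^ r : Matrix.SpecialLinearGroup (Fin n) F) : Matrix (Fin n) (Fin n) F) =
      c • (1 : Matrix (Fin n) (Fin n) F)) :
    ∃ U W : Submodule F (Fin n → F), U ≤ W ∧ finrank F U = m ∧ finrank F W = n - m ∧
      U.map (Matrix.toLin' (x : Matrix (Fin n) (Fin n) F)) ≤ U ∧
      W.map (Matrix.toLin' (x : Matrix (Fin n) (Fin n) F)) ≤ W := by
  have hrF := natCast_prime_ne_zero (F := F) (p := p) hrp
  have hdim : finrank F (Fin n → F) = n := by rw [finrank_pi, Fintype.card_fin]
  set i := orderOf (Fintype.card F : ZMod r)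
  have build : ∀ (A : Module.End F (Fin n → F)) (c : F), c ≠ 0 → A ^ r = c • (1 : Module.End F _) →
      ∀ U : Submodule F (Fin n → F), U.map A ≤ U → finrank F U = m →
      (∀ C : Submodule F (Fin n → F), C.map A ≤ C → U ⊔ C = ⊤ → U ⊓ C = ⊥ →
        ∃ U', U' ≤ C ∧ U'.map A ≤ U' ∧ finrank F U' = m) →
      ∃ W : Submodule F (Fin n → F), U ≤ W ∧ finrank F W = n - m ∧ W.map A ≤ W := by
    intro A c hc hA U hUi hUd hnext
    obtain ⟨C, -, hCi, hsup, hinf, hd⟩ := exists_invariant_compl_in A hrF hc hA hUi (X := ⊤) le_top le_top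
    obtain ⟨U', hU'C, hU'i, hU'd⟩ := hnext C hCi hsup hinf
    obtain ⟨C', hC'C, hC'i, -, -, hd'⟩ := exists_invariant_compl_in A hrF hc hA hU'i hCi hU'C
    refine ⟨U ⊔ C', le_sup_left, ?_, invariant_sup hUi hC'i⟩
    have := Submodule.finrank_sup_add_finrank_inf_eq U C'
    rw [le_bot_iff.1 ((inf_le_inf_left U hC'C).trans hinf.le), finrank_bot] at this
    rw [finrank_top, hdim] at hd
    omega
  rcases scalar_cases hn hrp x hx with ⟨l, B, hl, hB, hxB⟩ | ⟨c, hc, hA, hi, hrn, hdet⟩
  · have hB1 : B ^ r = (1 : F) • (1 : Module.End F _) := by rw [one_smul, hB]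
    have hmod := finrank_mod_orderOf hB hrF (X := ⊤) le_top
    rw [finrank_top, hdim, top_inf_eq] at hmod
    have hkn : n % i ≤ finrank F (fixedSpace B) := hmod ▸ Nat.mod_le _ _
    have h2 : 2 * (m % i) ≤ n % i := by
      rcases hcond with ⟨h1, -⟩ | ⟨-, h2⟩
      · rw [h1, Nat.mod_one]; omega
      · exact h2
    obtain ⟨U, -, hUi, hUd, hUk⟩ := exists_invariant_dim hB hrF (card_cast_ne_zero hrp) (X := ⊤) le_top
      (m := m) (by rw [finrank_top, hdim]; omega)
      (by rw [top_inf_eq]; exact le_trans (by omega : m % i ≤ n % i) hkn)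
    obtain ⟨W, hUW, hWd, hWi⟩ := build B 1 one_ne_zero hB1 U hUi hUd fun C hCi hsup hinf => by
      have hs := finrank_inf_fixedSpace_add hUi hCi hsup hinf
      rw [top_inf_eq] at hs hUk
      rw [finrank_top, hdim] at hUk
      have hd := Submodule.finrank_sup_add_finrank_inf_eq U C
      rw [hsup, hinf, finrank_top, hdim, finrank_bot] at hd
      have hk' : m % i ≤ finrank F ↥(C ⊓ fixedSpace B) := by
        have hmm : m % i ≤ m := Nat.mod_le _ _
        rcases le_total (m + finrank F (fixedSpace B) - n) (m % i) with h | h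
        · rw [max_eq_left h] at hUk; omega
        · rw [max_eq_right h] at hUk
          have := Submodule.finrank_le (fixedSpace B)
          omega
      obtain ⟨U', h1, h2, h3, -⟩ := exists_invariant_dim hB hrF (card_cast_ne_zero hrp) hCi (m := m)
        (by omega) hk'
      exact ⟨U', h1, h2, h3⟩
    rw [hxB]
    exact ⟨U, W, hUW, hUd, hWd, map_smul_le B hUi, map_smul_le B hWi⟩
  · rcases hcond with ⟨-, hrm | ⟨hle, h4⟩⟩ | ⟨h2, -⟩
    · have hc0 : c ≠ 0 := fun h => hc 0 (by rw [h, zero_pow (Fact.out : r.Prime).ne_zero])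
      obtain ⟨U, -, hUi, hUd⟩ := exists_invariant_dim_nonpower hrF hA hc (X := ⊤) le_top hrm
        (by rw [finrank_top, hdim]; omega)
      obtain ⟨W, hUW, hWd, hWi⟩ := build _ c hc0 hA U hUi hUd fun C hCi hsup hinf => by
        have hd := Submodule.finrank_sup_add_finrank_inf_eq U C
        rw [hsup, hinf, finrank_top, hdim, finrank_bot] at hd
        exact exists_invariant_dim_nonpower hrF hA hc hCi hrm (by omega)
      exact ⟨U, W, hUW, hUd, hWd, hUi, hWi⟩
    · exact (no_nonpower_scalar hn.ne' hrn hc hdet hle h4).elim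
    · exact absurd h2 (by simp only [i, hi]; omega)

/-- Necessity for flags. -/
theorem cond_of_fixed_flag (hn : 0 < n) (hrp : r ≠ p) (hmn : 2 * m < n)
    (hmod : n % orderOf (Fintype.card F : ZMod r) < 2 * m) (hin : orderOf (Fintype.card F : ZMod r) ≤ n)
    (h : ∀ x : Matrix.SpecialLinearGroup (Fin n) F,
      (∃ c : F, ((x ^ r : Matrix.SpecialLinearGroup (Fin n) F) : Matrix (Fin n) (Fin n) F) =
        c • (1 : Matrix (Fin n) (Fin n) F)) →
      (∀ c : F, (x : Matrix (Fin n) (Fin n) F) ≠ c • (1 : Matrix (Fin n) (Fin n) F)) →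
      ∃ U W : Submodule F (Fin n → F), U ≤ W ∧ finrank F U = m ∧ finrank F W = n - m ∧
        U.map (Matrix.toLin' (x : Matrix (Fin n) (Fin n) F)) ≤ U ∧
        W.map (Matrix.toLin' (x : Matrix (Fin n) (Fin n) F)) ≤ W) :
    (orderOf (Fintype.card F : ZMod r) = 1 ∧ (r ∣ m ∨
        (padicValNat r n ≤ padicValNat r (Fintype.card F - 1) ∧ (r = 2 → Even n → Fintype.card F % 4 = 1)))) ∨
      (2 ≤ orderOf (Fintype.card F : ZMod r) ∧ orderOf (Fintype.card F : ZMod r) ≤ m ∧
        2 * (m % orderOf (Fintype.card F : ZMod r)) ≤ n % orderOf (Fintype.card F : ZMod r)) := by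
  set i := orderOf (Fintype.card F : ZMod r)
  have hipos : 0 < i := orderOf_card_pos hrp
  by_cases hi : i = 1
  · refine Or.inl ⟨hi, cond_one_of_fixed hn hrp hi fun x hx hns => ?_⟩
    obtain ⟨U, W, -, hUd, -, hUi, -⟩ := h x hx hns
    exact ⟨U, hUd, hUi⟩
  · have hi2 : 2 ≤ i := by omega
    obtain ⟨x, hx, hns, hfix⟩ := exists_small_fixed (F := F) (r := r) hrp hi2 hin
    obtain ⟨U, W, hUW, hUd, hWd, hUi, hWi⟩ := h x ⟨1, hx⟩ hns
    set A : Module.End F (Fin n → F) := Matrix.toLin' (x : Matrix (Fin n) (Fin n) F)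
    have hB : A ^ r = 1 := by rw [toLin'_pow_eq x hx, one_smul]
    have hUm := finrank_mod_orderOf hB (natCast_prime_ne_zero hrp) hUi
    have hWm := finrank_mod_orderOf hB (natCast_prime_ne_zero hrp) hWi
    have hlt : n % i < i := Nat.mod_lt _ hipos
    set a := finrank F ↥(U ⊓ fixedSpace A)
    set w := finrank F ↥(W ⊓ fixedSpace A)
    have haw : a ≤ w := Submodule.finrank_mono (inf_le_inf_right _ hUW)
    have hwk : w ≤ n % i := hfix ▸ Submodule.finrank_mono inf_le_right
    have hai : a % i = a := Nat.mod_eq_of_lt (by omega)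
    have hwi : w % i = w := Nat.mod_eq_of_lt (by omega)
    change finrank F U % i = a % i at hUm
    change finrank F W % i = w % i at hWm
    rw [hUd, hai] at hUm
    rw [hWd, hwi] at hWm
    have hsum : (a + w) % i = n % i := by
      rw [← hUm, ← hWm, ← Nat.add_mod, Nat.add_sub_cancel' (by omega)]
    have h2 : 2 * (m % i) ≤ n % i := by
      rw [hUm]
      rcases Nat.lt_or_ge (a + w) i with h' | h'
      · rw [Nat.mod_eq_of_lt h'] at hsum; omega
      · rw [Nat.mod_eq_sub_mod h', Nat.mod_eq_of_lt (by omega)] at hsum; omega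
    refine Or.inr ⟨hi2, ?_, h2⟩
    by_contra him
    rw [Nat.mod_eq_of_lt (not_le.1 him)] at h2
    omega

end Cfsg.Agent.Elusive
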