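import Cfsg.Agent.Lib.Forms.Models

/-!
An isometry of a nondegenerate alternating form whose square is a scalar permutes an orthogonal
decomposition into planes, and fixes or interchanges a pair of complementary Lagrangian subspaces.
-/

set_option autoImplicit false

namespace Cfsg.Agent.Elusive

open Module

variable {F V : Type*} [Field F] [AddCommGroup V] [Module F V] {B : LinearMap.BilinForm F V}

/-- The form is nondegenerate on the subspace. -/
def Nd (B : LinearMap.BilinForm F V) (X : Submodule F V) : Prop :=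
  ∀ u ∈ X, (∀ v ∈ X, B u v = 0) → u = 0

/-- The two subspaces are orthogonal. -/
def Orth (B : LinearMap.BilinForm F V) (X Y : Submodule F V) : Prop :=
  ∀ u ∈ X, ∀ v ∈ Y, B u v = 0

theorem Orth.symm (hB : LinearMap.IsAlt B) {X Y : Submodule F V} (h : Orth B X Y) : Orth B Y X :=
  fun u hu v hv => by rw [← hB.neg v u, h v hv u hu, neg_zero]

theorem Orth.sup {X Y Z : Submodule F V} (h1 : Orth B X Z) (h2 : Orth B Y Z) : Orth B (X ⊔ Y) Z := by
  intro u hu v hv
  obtain ⟨x, hx, y, hy, rfl⟩ := Submodule.mem_sup.1 hu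
  rw [map_add, LinearMap.add_apply, h1 x hx v hv, h2 y hy v hv, add_zero]

theorem nd_sup (hB : LinearMap.IsAlt B) {X Y : Submodule F V} (hX : Nd B X) (hY : Nd B Y)
    (h : Orth B X Y) : Nd B (X ⊔ Y) := by
  intro u hu hall
  obtain ⟨x, hx, y, hy, rfl⟩ := Submodule.mem_sup.1 hu
  have hx0 : x = 0 := hX x hx fun v hv => by
    have := hall v (Submodule.mem_sup_left hv)
    rwa [map_add, LinearMap.add_apply, (h.symm hB) y hy v hv, add_zero] at this
  have hy0 : y = 0 := hY y hy fun v hv => by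
    have := hall v (Submodule.mem_sup_right hv)
    rwa [hx0, zero_add] at this
  rw [hx0, hy0, add_zero]

/-- A hyperbolic plane is nondegenerate and two-dimensional. -/
theorem nd_span_pair (hB : LinearMap.IsAlt B) {v w : V} (h : B v w ≠ 0) :
    Nd B (Submodule.span F {v, w}) ∧ finrank F (Submodule.span F {v, w}) = 2 := by
  have key : ∀ a b : F, B (a • v + b • w) w = a * B v w ∧ B v (a • v + b • w) = b * B v w := fun a b => by
    simp [hB.self_eq_zero]
  refine ⟨fun u hu hall => ?_, ?_⟩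
  · obtain ⟨a, b, rfl⟩ := Submodule.mem_span_pair.1 hu
    have h1 := hall w (Submodule.mem_span_pair.2 ⟨0, 1, by simp⟩)
    have h2 := hall v (Submodule.mem_span_pair.2 ⟨1, 0, by simp⟩)
    rw [(key a b).1] at h1
    rw [← hB.neg, (key a b).2, neg_eq_zero] at h2
    rw [(mul_eq_zero.1 h1).resolve_right h, (mul_eq_zero.1 h2).resolve_right h, zero_smul, zero_smul,
      add_zero]
  · have hli : LinearIndependent F ![v, w] := by
      refine LinearIndependent.pair_iff.2 fun a b hab => ?_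
      obtain ⟨h1, h2⟩ := key a b
      rw [hab, map_zero, LinearMap.zero_apply] at h1
      rw [hab, map_zero] at h2
      exact ⟨(mul_eq_zero.1 h1.symm).resolve_right h, (mul_eq_zero.1 h2.symm).resolve_right h⟩
    have := finrank_span_eq_card hli
    rwa [Fintype.card_fin, Matrix.range_cons, Matrix.range_cons, Matrix.range_empty, Set.union_empty,
      Set.singleton_union] at this

variable {A : Module.End F V} {z : F}

/-- The possible first steps of a decomposition. -/
theorem plane_cases (hB : LinearMap.IsAlt B) (hiso : ∀ u v, B (A u) (A v) = B u v)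
    (hA : ∀ v, A (A v) = z • v) {X : Submodule F V} (hX : Nd B X) (hXA : X.map A ≤ X) (hne : X ≠ ⊥) :
    (∃ v ∈ X, ∃ w ∈ X, ∃ c : F, B v w = 1 ∧ A v = c • v ∧ A w = c • w) ∨
    (∃ v ∈ X, B v (A v) ≠ 0) ∨
    (∃ v ∈ X, ∃ w ∈ X, B v w = 1 ∧ B v (A v) = 0 ∧ B w (A w) = 0 ∧ B v (A w) = 0 ∧ B (A v) w = 0) := by
  have hex : ∀ v ∈ X, v ≠ 0 → ∃ w ∈ X, B v w = 1 := by
    intro v hv h0
    obtain ⟨w, hw, hvw⟩ : ∃ w ∈ X, B v w ≠ 0 := by
      by_contra h
      push Not at h
      exact h0 (hX v hv h)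
    exact ⟨(B v w)⁻¹ • w, X.smul_mem _ hw, by rw [map_smul, smul_eq_mul, inv_mul_cancel₀ hvw]⟩
  by_cases hb : ∃ v ∈ X, B v (A v) ≠ 0
  · exact Or.inr (Or.inl hb)
  push Not at hb
  by_cases hc : ∃ v ∈ X, ∀ k : F, A v ≠ k • v
  · obtain ⟨v, hv, hk⟩ := hc
    have hv0 : v ≠ 0 := fun h => hk 0 (by rw [h, map_zero, smul_zero])
    obtain ⟨w₁, hw₁, h1⟩ := hex v hv hv0
    obtain ⟨u, hu, hu0, hu1⟩ : ∃ u ∈ X, B v u = 0 ∧ B (A v) u ≠ 0 := by
      by_contra h
      push Not at h
      refine hk (B (A v) w₁) (sub_eq_zero.1 (hX _ (sub_mem (hXA ⟨v, hv, rfl⟩) (X.smul_mem _ hv)) fun x hx => ?_))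
      have := h (x - B v x • w₁) (sub_mem hx (X.smul_mem _ hw₁))
        (by rw [map_sub, map_smul, smul_eq_mul, h1, mul_one, sub_self])
      rw [map_sub, map_smul, smul_eq_mul] at this
      rw [map_sub, map_smul, LinearMap.sub_apply, LinearMap.smul_apply, smul_eq_mul]
      linear_combination this
    set w := w₁ - (B (A v) w₁ / B (A v) u) • u with hw
    have hwX : w ∈ X := sub_mem hw₁ (X.smul_mem _ hu)
    have h2 : B (A v) w = 0 := by
      rw [hw, map_sub, map_smul, smul_eq_mul, div_mul_cancel₀ _ hu1, sub_self]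
    refine Or.inr (Or.inr ⟨v, hv, w, hwX, ?_, hb v hv, hb w hwX, ?_, h2⟩)
    · rw [hw, map_sub, map_smul, smul_eq_mul, hu0, mul_zero, sub_zero, h1]
    · rw [← hiso, hA, map_smul, smul_eq_mul, h2, mul_zero]
  · push Not at hc
    obtain ⟨v, hv, hv0⟩ := Submodule.exists_mem_ne_zero_of_ne_bot hne
    obtain ⟨w, hw, h1⟩ := hex v hv hv0
    obtain ⟨c, hcv⟩ := hc v hv
    obtain ⟨c', hcw⟩ := hc w hw
    obtain ⟨e, he⟩ := hc (v + w) (add_mem hv hw)
    rw [map_add, hcv, hcw] at he
    have e1 := congrArg (fun x => B x w) he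
    have e2 := congrArg (fun x => B v x) he
    simp [hB.self_eq_zero, h1] at e1 e2
    exact Or.inl ⟨v, hv, w, hw, c, h1, hcv, by rw [hcw, e2, ← e1]⟩

theorem map_invariant_eq (hA : ∀ v, A (A v) = z • v) (hz : z ≠ 0) {P : Submodule F V}
    (hP : P.map A ≤ P) : P.map A = P := by
  refine le_antisymm hP fun v hv => ⟨z⁻¹ • A v, P.smul_mem _ (hP ⟨v, hv, rfl⟩), ?_⟩
  rw [map_smul, hA, smul_smul, inv_mul_cancel₀ hz, one_smul]

/-- The orthogonal complement inside an invariant nondegenerate subspace. -/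
theorem exists_orth_compl [FiniteDimensional F V] (hB : LinearMap.IsAlt B)
    (hiso : ∀ u v, B (A u) (A v) = B u v) (hA : ∀ v, A (A v) = z • v) (hz : z ≠ 0)
    {X P : Submodule F V} (hX : Nd B X) (hXA : X.map A ≤ X) (hP : Nd B P) (hPA : P.map A ≤ P)
    (hPX : P ≤ X) :
    ∃ X' : Submodule F V, X' ≤ X ∧ X'.map A ≤ X' ∧ Nd B X' ∧ Orth B P X' ∧ P ⊔ X' = X ∧
      finrank F P + finrank F X' = finrank F X := by
  have hc : IsCompl P (FormModel.perp B P) :=
    FormModel.isCompl_perp (fun x y h => by rw [← hB.neg x y, h, neg_zero]) hP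
  set X' := FormModel.perp B P ⊓ X with hX'
  have hsup : P ⊔ X' = X := by rw [hX', ← sup_inf_assoc_of_le _ hPX, hc.sup_eq_top, top_inf_eq]
  have hinf : P ⊓ X' = ⊥ := le_bot_iff.1 ((inf_le_inf_left _ inf_le_left).trans hc.inf_eq_bot.le)
  have ho : Orth B P X' := fun u hu v hv => hv.1 u hu
  refine ⟨X', inf_le_right, ?_, ?_, ho, hsup, ?_⟩
  · rintro _ ⟨u, hu, rfl⟩
    refine ⟨fun p hp => ?_, hXA ⟨u, hu.2, rfl⟩⟩
    rw [← map_invariant_eq hA hz hPA] at hp
    obtain ⟨p', hp', rfl⟩ := hp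
    rw [hiso]
    exact ho p' hp' u hu
  · intro u hu hall
    refine hX u hu.2 fun v hv => ?_
    rw [← hsup] at hv
    obtain ⟨p, hp, x, hx, rfl⟩ := Submodule.mem_sup.1 hv
    rw [map_add, ho.symm hB u hu p hp, hall x hx, add_zero]
  · have := Submodule.finrank_sup_add_finrank_inf_eq P X'
    rw [hsup, hinf, finrank_bot] at this
    omega

theorem isometry_injective (hA : ∀ v, A (A v) = z • v) (hz : z ≠ 0) : Function.Injective A := fun v w h => by
  have := congrArg A h
  rw [hA, hA] at this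
  exact smul_right_injective V hz this

/-- The image of a subspace under the isometry. -/
theorem nd_map (hiso : ∀ u v, B (A u) (A v) = B u v) {P : Submodule F V} (hP : Nd B P) :
    Nd B (P.map A) := by
  rintro _ ⟨u, hu, rfl⟩ hall
  rw [hP u hu fun v hv => by rw [← hiso]; exact hall _ ⟨v, hv, rfl⟩, map_zero]

/-- An orthogonal decomposition into planes permuted by the isometry. -/
theorem exists_plane_decomposition [FiniteDimensional F V] (hB : LinearMap.IsAlt B)
    (hiso : ∀ u v, B (A u) (A v) = B u v) (hA : ∀ v, A (A v) = z • v) (hz : z ≠ 0) :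
    ∀ (N : ℕ) (X : Submodule F V), finrank F X = N → Nd B X → X.map A ≤ X →
      ∃ 𝓟 : Finset (Submodule F V), (∀ P ∈ 𝓟, Nd B P ∧ finrank F P = 2 ∧ P.map A ∈ 𝓟) ∧
        (∀ P ∈ 𝓟, ∀ Q ∈ 𝓟, P ≠ Q → Orth B P Q) ∧ 𝓟.sup id = X := by
  classical
  intro N
  induction N using Nat.strong_induction_on with
  | _ N ih =>
  intro X hN hX hXA
  by_cases hne : X = ⊥
  · exact ⟨∅, by simp, by simp, by rw [Finset.sup_empty, hne]⟩
  -- one or two planes to split off
  obtain ⟨𝓢, hS1, hS2, hS3, hS4, hS5⟩ : ∃ 𝓢 : Finset (Submodule F V),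
      (∀ P ∈ 𝓢, Nd B P ∧ finrank F P = 2 ∧ P.map A ∈ 𝓢) ∧
      (∀ P ∈ 𝓢, ∀ Q ∈ 𝓢, P ≠ Q → Orth B P Q) ∧ Nd B (𝓢.sup id) ∧ 𝓢.sup id ≤ X ∧ 𝓢.Nonempty := by
    have one : ∀ v w : V, v ∈ X → w ∈ X → B v w ≠ 0 →
        A v ∈ Submodule.span F {v, w} → A w ∈ Submodule.span F {v, w} →
        ∃ 𝓢 : Finset (Submodule F V),
      (∀ P ∈ 𝓢, Nd B P ∧ finrank F P = 2 ∧ P.map A ∈ 𝓢) ∧
      (∀ P ∈ 𝓢, ∀ Q ∈ 𝓢, P ≠ Q → Orth B P Q) ∧ Nd B (𝓢.sup id) ∧ 𝓢.sup id ≤ X ∧ 𝓢.Nonempty := by
      intro v w hv hw h hAv hAw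
      set P := Submodule.span F {v, w}
      obtain ⟨hnd, hrk⟩ := nd_span_pair hB h
      have hPA : P.map A = P := map_invariant_eq hA hz (by
        rw [Submodule.map_span_le]
        rintro x (rfl | rfl)
        exacts [hAv, hAw])
      refine ⟨{P}, ?_, ?_, by simpa using hnd, ?_, Finset.singleton_nonempty _⟩
      · intro Q hQ
        obtain rfl := Finset.mem_singleton.1 hQ
        exact ⟨hnd, hrk, by rw [hPA]; exact Finset.mem_singleton_self _⟩
      · intro Q hQ R hR hne'
        exact absurd ((Finset.mem_singleton.1 hQ).trans (Finset.mem_singleton.1 hR).symm) hne'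
      · rw [Finset.sup_singleton, id]
        exact Submodule.span_le.2 (by rintro x (rfl | rfl) <;> assumption)
    rcases plane_cases hB hiso hA hX hXA hne with ⟨v, hv, w, hw, c, h1, hcv, hcw⟩ | ⟨v, hv, h⟩ |
        ⟨v, hv, w, hw, h1, h2, h3, h4, h5⟩
    · exact one v w hv hw (by rw [h1]; exact one_ne_zero)
        (Submodule.mem_span_pair.2 ⟨c, 0, by simp [hcv]⟩) (Submodule.mem_span_pair.2 ⟨0, c, by simp [hcw]⟩)
    · exact one v (A v) hv (hXA ⟨v, hv, rfl⟩) h (Submodule.mem_span_pair.2 ⟨0, 1, by simp⟩)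
        (Submodule.mem_span_pair.2 ⟨z, 0, by simp [hA]⟩)
    · set P := Submodule.span F {v, w} with hP
      obtain ⟨hnd, hrk⟩ := nd_span_pair (B := B) hB (v := v) (w := w) (by rw [h1]; exact one_ne_zero)
      have hPX : P ≤ X := Submodule.span_le.2 (by rintro x (rfl | rfl) <;> assumption)
      have ho : Orth B P (P.map A) := by
        rintro u hu _ ⟨x, hx, rfl⟩
        obtain ⟨a, b, rfl⟩ := Submodule.mem_span_pair.1 hu
        obtain ⟨a', b', rfl⟩ := Submodule.mem_span_pair.1 hx
        have h6 : B w (A v) = 0 := by rw [← hB.neg, h5, neg_zero]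
        simp [h2, h3, h4, h6]
      have hPP : (P.map A).map A = P := by
        rw [← Submodule.map_comp, show A ∘ₗ A = z • (LinearMap.id : V →ₗ[F] V) from LinearMap.ext hA,
          Submodule.map_smul _ _ _ hz, Submodule.map_id]
      refine ⟨{P, P.map A}, ?_, ?_, ?_, ?_, Finset.insert_nonempty _ _⟩
      · simp only [Finset.mem_insert, Finset.mem_singleton]
        rintro Q (rfl | rfl)
        · exact ⟨hnd, hrk, Or.inr rfl⟩
        · refine ⟨nd_map hiso hnd, ?_, Or.inl hPP⟩
          rw [← (Submodule.equivMapOfInjective A (isometry_injective hA hz) P).finrank_eq, hrk]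
      · simp only [Finset.mem_insert, Finset.mem_singleton]
        rintro Q (rfl | rfl) R (rfl | rfl) hne'
        exacts [absurd rfl hne', ho, ho.symm hB, absurd rfl hne']
      · rw [Finset.sup_insert, Finset.sup_singleton, id, id]
        exact nd_sup hB hnd (nd_map hiso hnd) ho
      · rw [Finset.sup_insert, Finset.sup_singleton, id, id]
        exact sup_le hPX ((Submodule.map_mono hPX).trans hXA)
  set S := 𝓢.sup id
  have hSA : S.map A ≤ S := by
    rw [Submodule.map_le_iff_le_comap]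
    refine Finset.sup_le fun P hP => ?_
    rw [id, ← Submodule.map_le_iff_le_comap]
    exact Finset.le_sup (f := id) (hS1 P hP).2.2
  obtain ⟨X', hX'X, hX'A, hX'nd, ho, hsup, hdim⟩ := exists_orth_compl hB hiso hA hz hX hXA hS3 hSA hS4
  have hlt : finrank F X' < N := by
    obtain ⟨P, hP⟩ := hS5
    have := Submodule.finrank_mono (Finset.le_sup (f := id) hP)
    rw [id, (hS1 P hP).2.1] at this
    change 2 ≤ finrank F S at this
    omega
  obtain ⟨𝓣, hT1, hT2, hT3⟩ := ih _ hlt X' rfl hX'nd hX'A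
  have hcross : ∀ P ∈ 𝓢, ∀ Q ∈ 𝓣, Orth B P Q := fun P hP Q hQ u hu v hv =>
    ho u (Finset.le_sup (f := id) hP hu) v (hT3 ▸ Finset.le_sup (f := id) hQ hv)
  refine ⟨𝓢 ∪ 𝓣, ?_, ?_, by rw [Finset.sup_union, hT3, hsup]⟩
  · intro P hP
    rcases Finset.mem_union.1 hP with h | h
    · exact ⟨(hS1 P h).1, (hS1 P h).2.1, Finset.mem_union_left _ (hS1 P h).2.2⟩
    · exact ⟨(hT1 P h).1, (hT1 P h).2.1, Finset.mem_union_right _ (hT1 P h).2.2⟩
  · intro P hP Q hQ hne'
    rcases Finset.mem_union.1 hP with h | h <;> rcases Finset.mem_union.1 hQ with h' | h'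
    exacts [hS2 P h Q h' hne', hcross P h Q h', (hcross Q h' P h).symm hB, hT2 P h Q h' hne']

/-- Orthogonal families of nondegenerate subspaces: the dimension of their sum. -/
theorem nd_finset_sup [FiniteDimensional F V] (hB : LinearMap.IsAlt B) {ι : Type*} (P : ι → Submodule F V)
    (s : Finset ι) (hnd : ∀ i ∈ s, Nd B (P i)) (ho : ∀ i ∈ s, ∀ j ∈ s, i ≠ j → Orth B (P i) (P j)) :
    Nd B (s.sup P) ∧ finrank F (s.sup P : Submodule F V) = ∑ i ∈ s, finrank F (P i) := by
  classical
  induction s using Finset.induction_on with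
  | empty => exact ⟨fun u hu _ => by simpa using hu, by simp⟩
  | insert i s hi ih =>
    obtain ⟨h1, h2⟩ := ih (fun j hj => hnd j (Finset.mem_insert_of_mem hj))
      fun j hj k hk => ho j (Finset.mem_insert_of_mem hj) k (Finset.mem_insert_of_mem hk)
    have horth : Orth B (s.sup P) (P i) := by
      intro u hu
      have : s.sup P ≤ { carrier := {u | ∀ v ∈ P i, B u v = 0}
                         add_mem' := fun ha hb v hv => by rw [map_add, LinearMap.add_apply, ha v hv, hb v hv, add_zero]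
                         zero_mem' := fun v _ => by simp
                         smul_mem' := fun c a ha v hv => by simp [ha v hv] } :=
        Finset.sup_le fun j hj x hx v hv => ho j (Finset.mem_insert_of_mem hj) i (Finset.mem_insert_self i s)
          (fun e => hi (e ▸ hj)) x hx v hv
      exact this hu
    rw [Finset.sup_insert, Finset.sum_insert hi, ← h2]
    refine ⟨nd_sup hB (hnd i (Finset.mem_insert_self i s)) h1 (horth.symm hB), ?_⟩
    have hinf : P i ⊓ s.sup P = ⊥ := by
      rw [Submodule.eq_bot_iff]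
      rintro x ⟨hx1, hx2⟩
      exact hnd i (Finset.mem_insert_self i s) x hx1 fun v hv => horth x hx2 v hv
    have := Submodule.finrank_sup_add_finrank_inf_eq (P i) (s.sup P)
    rw [hinf, finrank_bot] at this
    exact this

/-- A pair of complementary totally isotropic subspaces fixed or interchanged by the isometry. -/
theorem exists_lagrangian_pair [FiniteDimensional F V] (h2 : (2 : F) ≠ 0) (hB : LinearMap.IsAlt B)
    (hiso : ∀ u v, B (A u) (A v) = B u v) (hA : ∀ v, A (A v) = z • v) (hz : z ≠ 0) :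
    ∀ (N : ℕ) (X : Submodule F V), finrank F X = N → Nd B X → X.map A ≤ X →
      ∃ U W : Submodule F V, U ⊔ W = X ∧ Orth B U U ∧ Orth B W W ∧
        ((z = 1 ∧ U.map A ≤ U ∧ W.map A ≤ W) ∨ (z ≠ 1 ∧ U.map A ≤ W ∧ W.map A ≤ U)) := by
  classical
  intro N
  induction N using Nat.strong_induction_on with
  | _ N ih =>
  intro X hN hX hXA
  by_cases hne : X = ⊥
  · refine ⟨⊥, ⊥, by simp [hne], fun u hu v _ => ?_, fun u hu v _ => ?_, ?_⟩
    · rw [(Submodule.mem_bot F).1 hu]; simp
    · rw [(Submodule.mem_bot F).1 hu]; simp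
    · by_cases hz1 : z = 1 <;> simp [hz1]
  have hiso1 : ∀ v, Orth B (F ∙ v) (F ∙ v) := fun v u hu x hx => by
    obtain ⟨a, rfl⟩ := Submodule.mem_span_singleton.1 hu
    obtain ⟨b, rfl⟩ := Submodule.mem_span_singleton.1 hx
    simp [hB.self_eq_zero]
  have hiso2 : ∀ v w, B v w = 0 → Orth B (Submodule.span F {v, w}) (Submodule.span F {v, w}) :=
    fun v w h u hu x hx => by
      obtain ⟨a, b, rfl⟩ := Submodule.mem_span_pair.1 hu
      obtain ⟨a', b', rfl⟩ := Submodule.mem_span_pair.1 hx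
      have h' : B w v = 0 := by rw [← hB.neg, h, neg_zero]
      simp [hB.self_eq_zero, h, h']
  obtain ⟨U₀, W₀, hle, hnd, hU, hW, hcase, hnebot⟩ : ∃ U₀ W₀ : Submodule F V, U₀ ⊔ W₀ ≤ X ∧
      Nd B (U₀ ⊔ W₀) ∧ Orth B U₀ U₀ ∧ Orth B W₀ W₀ ∧
      ((z = 1 ∧ U₀.map A ≤ U₀ ∧ W₀.map A ≤ W₀) ∨ (z ≠ 1 ∧ U₀.map A ≤ W₀ ∧ W₀.map A ≤ U₀)) ∧
      U₀ ⊔ W₀ ≠ ⊥ := by
    have hpair : ∀ v w : V, B v w ≠ 0 → Nd B ((F ∙ v) ⊔ (F ∙ w)) ∧ (F ∙ v) ⊔ (F ∙ w) ≠ ⊥ := fun v w h => by
      refine ⟨?_, fun e => ?_⟩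
      · rw [← Submodule.span_insert]
        exact (nd_span_pair hB h).1
      · have : v ∈ (F ∙ v) ⊔ (F ∙ w) := Submodule.mem_sup_left (Submodule.mem_span_singleton_self v)
        rw [e, Submodule.mem_bot] at this
        exact h (by rw [this]; simp)
    rcases plane_cases hB hiso hA hX hXA hne with ⟨v, hv, w, hw, c, h1, hcv, hcw⟩ | ⟨v, hv, h⟩ |
        ⟨v, hv, w, hw, h1, h2', h3, h4, h5⟩
    · have hc : c * c = 1 := by
        have := hiso v w
        simpa [hcv, hcw, h1] using this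
      have hv0 : v ≠ 0 := fun e => by simp [e] at h1
      have hz1 : z = 1 := by
        have := hA v
        rw [hcv, map_smul, hcv, smul_smul, hc] at this
        exact (smul_left_injective F hv0 this).symm
      obtain ⟨q1, q2⟩ := hpair v w (by rw [h1]; exact one_ne_zero)
      refine ⟨F ∙ v, F ∙ w, sup_le ?_ ?_, q1, hiso1 v, hiso1 w, Or.inl ⟨hz1, ?_, ?_⟩, q2⟩
      · rwa [Submodule.span_singleton_le_iff_mem]
      · rwa [Submodule.span_singleton_le_iff_mem]
      · rw [Submodule.map_span_le]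
        rintro x rfl
        rw [hcv]
        exact Submodule.smul_mem _ _ (Submodule.mem_span_singleton_self x)
      · rw [Submodule.map_span_le]
        rintro x rfl
        rw [hcw]
        exact Submodule.smul_mem _ _ (Submodule.mem_span_singleton_self x)
    · obtain ⟨q1, q2⟩ := hpair v (A v) h
      have hz1 : z ≠ 1 := fun e => h (by
        have h6 := hiso v (A v)
        rw [hA, e, one_smul, ← hB.neg] at h6
        exact (mul_eq_zero.1 (show (2 : F) * B v (A v) = 0 by linear_combination -h6)).resolve_left h2)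
      refine ⟨F ∙ v, F ∙ A v, sup_le ?_ ?_, q1, hiso1 v, hiso1 _, Or.inr ⟨hz1, ?_, ?_⟩, q2⟩
      · rwa [Submodule.span_singleton_le_iff_mem]
      · rw [Submodule.span_singleton_le_iff_mem]; exact hXA ⟨v, hv, rfl⟩
      · rw [Submodule.map_span_le]
        rintro x rfl
        exact Submodule.mem_span_singleton_self _
      · rw [Submodule.map_span_le]
        rintro x rfl
        rw [hA]
        exact Submodule.smul_mem _ _ (Submodule.mem_span_singleton_self v)
    · set P := Submodule.span F {v, w} with hP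
      obtain ⟨hnd, -⟩ := nd_span_pair (B := B) hB (v := v) (w := w) (by rw [h1]; exact one_ne_zero)
      have ho : Orth B P (P.map A) := by
        rintro u hu _ ⟨x, hx, rfl⟩
        obtain ⟨a, b, rfl⟩ := Submodule.mem_span_pair.1 hu
        obtain ⟨a', b', rfl⟩ := Submodule.mem_span_pair.1 hx
        have h6 : B w (A v) = 0 := by rw [← hB.neg, h5, neg_zero]
        simp [h2', h3, h4, h6]
      have hnd2 : Nd B (P ⊔ P.map A) := nd_sup hB hnd (nd_map hiso hnd) ho
      have hPX : P ≤ X := Submodule.span_le.2 (by rintro x (rfl | rfl) <;> assumption)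
      have hne2 : P ⊔ P.map A ≠ ⊥ := fun e => by
        have : v ∈ P ⊔ P.map A := Submodule.mem_sup_left (Submodule.subset_span (by simp))
        rw [e, Submodule.mem_bot] at this
        simp [this] at h1
      have hspan : P.map A = Submodule.span F {A v, A w} := by
        rw [hP, Submodule.map_span, Set.image_pair]
      by_cases hz1 : z = 1
      · have hre : Submodule.span F {v, A v} ⊔ Submodule.span F {w, A w} = P ⊔ P.map A := by
          rw [hspan, hP, ← Submodule.span_union, ← Submodule.span_union]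
          congr 1
          ext x
          simp only [Set.mem_union, Set.mem_insert_iff, Set.mem_singleton_iff]
          tauto
        refine ⟨_, _, ?_, hre ▸ hnd2, hiso2 _ _ h2', hiso2 _ _ h3, Or.inl ⟨hz1, ?_, ?_⟩, hre ▸ hne2⟩
        · rw [hre]; exact sup_le hPX ((Submodule.map_mono hPX).trans hXA)
        · rw [Submodule.map_span_le]
          rintro x (rfl | rfl)
          · exact Submodule.subset_span (Or.inr rfl)
          · rw [hA]; exact Submodule.smul_mem _ _ (Submodule.subset_span (Or.inl rfl))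
        · rw [Submodule.map_span_le]
          rintro x (rfl | rfl)
          · exact Submodule.subset_span (Or.inr rfl)
          · rw [hA]; exact Submodule.smul_mem _ _ (Submodule.subset_span (Or.inl rfl))
      · have hre : Submodule.span F {v, A w} ⊔ Submodule.span F {w, A v} = P ⊔ P.map A := by
          rw [hspan, hP, ← Submodule.span_union, ← Submodule.span_union]
          congr 1
          ext x
          simp only [Set.mem_union, Set.mem_insert_iff, Set.mem_singleton_iff]
          tauto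
        refine ⟨_, _, ?_, hre ▸ hnd2, hiso2 _ _ h4,
          hiso2 w (A v) (by rw [← hB.neg, h5, neg_zero]), Or.inr ⟨hz1, ?_, ?_⟩, hre ▸ hne2⟩
        · rw [hre]; exact sup_le hPX ((Submodule.map_mono hPX).trans hXA)
        · rw [Submodule.map_span_le]
          rintro x (rfl | rfl)
          · exact Submodule.subset_span (Or.inr rfl)
          · rw [hA]; exact Submodule.smul_mem _ _ (Submodule.subset_span (Or.inl rfl))
        · rw [Submodule.map_span_le]
          rintro x (rfl | rfl)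
          · exact Submodule.subset_span (Or.inr rfl)
          · rw [hA]; exact Submodule.smul_mem _ _ (Submodule.subset_span (Or.inl rfl))
  have hPA : (U₀ ⊔ W₀).map A ≤ U₀ ⊔ W₀ := by
    rw [Submodule.map_sup]
    rcases hcase with ⟨-, h3, h4⟩ | ⟨-, h3, h4⟩
    · exact sup_le_sup h3 h4
    · exact sup_le (h3.trans le_sup_right) (h4.trans le_sup_left)
  obtain ⟨X', -, hX'A, hX'nd, ho, hsup, hdim⟩ := exists_orth_compl hB hiso hA hz hX hXA hnd hPA hle
  have hpos : 0 < finrank F (U₀ ⊔ W₀ : Submodule F V) :=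
    Nat.pos_of_ne_zero fun h => hnebot (Submodule.finrank_eq_zero.1 h)
  obtain ⟨U₁, W₁, h1, h3, h4, hcase'⟩ := ih _ (by omega) X' rfl hX'nd hX'A
  have hU01 : Orth B U₀ U₁ := fun u hu v hv =>
    ho u (Submodule.mem_sup_left hu) v (h1 ▸ Submodule.mem_sup_left hv)
  have hW01 : Orth B W₀ W₁ := fun u hu v hv =>
    ho u (Submodule.mem_sup_right hu) v (h1 ▸ Submodule.mem_sup_right hv)
  refine ⟨U₀ ⊔ U₁, W₀ ⊔ W₁, by rw [sup_sup_sup_comm, h1, hsup],
    (hU.sup (hU01.symm hB)).symm hB |>.sup ((hU01.sup h3).symm hB),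
    (hW.sup (hW01.symm hB)).symm hB |>.sup ((hW01.sup h4).symm hB), ?_⟩
  rcases hcase with ⟨e, p1, p2⟩ | ⟨e, p1, p2⟩ <;> rcases hcase' with ⟨e', q1, q2⟩ | ⟨e', q1, q2⟩
  · exact Or.inl ⟨e, by rw [Submodule.map_sup]; exact sup_le_sup p1 q1, by rw [Submodule.map_sup]; exact sup_le_sup p2 q2⟩
  · exact absurd e e'
  · exact absurd e' e
  · exact Or.inr ⟨e, by rw [Submodule.map_sup]; exact sup_le_sup p1 q1, by rw [Submodule.map_sup]; exact sup_le_sup p2 q2⟩

end Cfsg.Agent.Elusive
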