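import Cfsg.Agent.Lib.Elusive.Semisimple
import Cfsg.Agent.Lib.Elusive.SymplecticPlanes

/-!
Isometries of prime order of reflexive forms: invariant nondegenerate subspaces.
-/

set_option autoImplicit false
set_option linter.style.haveILetI false

namespace Cfsg.Agent.Elusive.FormIso

open Module Polynomial

variable {F V : Type*} [Field F] [AddCommGroup V] [Module F V] {σ : F →+* F} {B : V →ₛₗ[σ] V →ₗ[F] F}

/-- The form is nondegenerate on the subspace. -/
def NdOn (B : V →ₛₗ[σ] V →ₗ[F] F) (X : Submodule F V) : Prop :=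
  ∀ u ∈ X, (∀ v ∈ X, B u v = 0) → u = 0

/-- The two subspaces are orthogonal. -/
def OrthTo (B : V →ₛₗ[σ] V →ₗ[F] F) (X Y : Submodule F V) : Prop :=
  ∀ u ∈ X, ∀ v ∈ Y, B u v = 0

theorem OrthTo.symm (hrefl : ∀ x y, B x y = 0 → B y x = 0) {X Y : Submodule F V} (h : OrthTo B X Y) :
    OrthTo B Y X :=
  fun u hu v hv => hrefl v u (h v hv u hu)

theorem OrthTo.sup {X Y Z : Submodule F V} (h1 : OrthTo B X Z) (h2 : OrthTo B Y Z) : OrthTo B (X ⊔ Y) Z := by
  intro u hu v hv
  obtain ⟨x, hx, y, hy, rfl⟩ := Submodule.mem_sup.1 hu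
  rw [map_add, LinearMap.add_apply, h1 x hx v hv, h2 y hy v hv, add_zero]

theorem ndOn_bot : NdOn B ⊥ := fun _ hu _ => (Submodule.mem_bot F).1 hu

theorem ndOn_sup (hrefl : ∀ x y, B x y = 0 → B y x = 0) {X Y : Submodule F V} (hX : NdOn B X) (hY : NdOn B Y)
    (h : OrthTo B X Y) : NdOn B (X ⊔ Y) := by
  intro u hu hall
  obtain ⟨x, hx, y, hy, rfl⟩ := Submodule.mem_sup.1 hu
  have hx0 : x = 0 := hX x hx fun v hv => by
    have := hall v (Submodule.mem_sup_left hv)
    rwa [map_add, LinearMap.add_apply, (h.symm hrefl) y hy v hv, add_zero] at this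
  have hy0 : y = 0 := hY y hy fun v hv => by
    have := hall v (Submodule.mem_sup_right hv)
    rwa [hx0, zero_add] at this
  rw [hx0, hy0, add_zero]

theorem inf_eq_bot {X Y : Submodule F V} (hX : NdOn B X) (h : OrthTo B Y X) : X ⊓ Y = ⊥ := by
  rw [Submodule.eq_bot_iff]
  rintro u ⟨hu, hu'⟩
  exact hX u hu fun v hv => h u hu' v hv

section Isometry

variable {T : Module.End F V} {r : ℕ}

theorem pow_isometry (hiso : ∀ u v, B (T u) (T v) = B u v) (l : ℕ) (u v : V) :
    B ((T ^ l) u) ((T ^ l) v) = B u v := by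
  induction l generalizing u v with
  | zero => rfl
  | succ l ih => rw [pow_succ', Module.End.mul_apply, Module.End.mul_apply, hiso, ih]

theorem injective_of_pow (hr : r ≠ 0) (hT : T ^ r = 1) : Function.Injective T := by
  intro v w h
  have := congrArg (T ^ (r - 1)) h
  rwa [← Module.End.mul_apply, ← Module.End.mul_apply, ← pow_succ, Nat.sub_add_cancel (Nat.pos_of_ne_zero hr), hT]
    at this

theorem pow_mem {X : Submodule F V} (hX : X.map T ≤ X) {v : V} (hv : v ∈ X) (l : ℕ) : (T ^ l) v ∈ X := by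
  induction l with
  | zero => exact hv
  | succ l ih => rw [pow_succ', Module.End.mul_apply]; exact hX ⟨_, ih, rfl⟩

theorem map_eq [FiniteDimensional F V] (hr : r ≠ 0) (hT : T ^ r = 1) {X : Submodule F V} (hX : X.map T ≤ X) :
    X.map T = X :=
  Submodule.eq_of_le_of_finrank_eq hX
    (Submodule.equivMapOfInjective T (injective_of_pow hr hT) X).finrank_eq.symm

/-- The orthogonal complement inside an invariant nondegenerate subspace. -/
theorem exists_compl [FiniteDimensional F V] (hrefl : ∀ x y, B x y = 0 → B y x = 0)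
    (hiso : ∀ u v, B (T u) (T v) = B u v) (hr : r ≠ 0) (hT : T ^ r = 1)
    {X P : Submodule F V} (hX : NdOn B X) (hXT : X.map T ≤ X) (hP : NdOn B P) (hPT : P.map T ≤ P) (hPX : P ≤ X) :
    ∃ X' : Submodule F V, X' ≤ X ∧ X'.map T ≤ X' ∧ NdOn B X' ∧ OrthTo B P X' ∧ P ⊔ X' = X ∧ P ⊓ X' = ⊥ ∧
      finrank F P + finrank F X' = finrank F X := by
  have hc : IsCompl P (FormModel.perp B P) := FormModel.isCompl_perp hrefl hP
  set X' := FormModel.perp B P ⊓ X with hX'
  have hsup : P ⊔ X' = X := by rw [hX', ← sup_inf_assoc_of_le _ hPX, hc.sup_eq_top, top_inf_eq]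
  have hinf : P ⊓ X' = ⊥ := le_bot_iff.1 ((inf_le_inf_left _ inf_le_left).trans hc.inf_eq_bot.le)
  have ho : OrthTo B P X' := fun u hu v hv => hv.1 u hu
  refine ⟨X', inf_le_right, ?_, ?_, ho, hsup, hinf, ?_⟩
  · rintro _ ⟨u, hu, rfl⟩
    refine ⟨fun w hw => ?_, hXT ⟨u, hu.2, rfl⟩⟩
    rw [← map_eq hr hT hPT] at hw
    obtain ⟨w', hw', rfl⟩ := hw
    rw [hiso]
    exact ho w' hw' u hu
  · intro u hu hall
    refine hX u hu.2 fun v hv => ?_
    rw [← hsup] at hv
    obtain ⟨w, hw, x, hx, rfl⟩ := Submodule.mem_sup.1 hv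
    rw [map_add, ho.symm hrefl u hu w hw, hall x hx, add_zero]
  · have := Submodule.finrank_sup_add_finrank_inf_eq P X'
    rw [hsup, hinf, finrank_bot] at this
    omega

/-- Repeatedly splitting off nondegenerate invariant pieces of dimension `c`. -/
theorem exists_multiple [FiniteDimensional F V] (hrefl : ∀ x y, B x y = 0 → B y x = 0)
    (hiso : ∀ u v, B (T u) (T v) = B u v) (hr : r ≠ 0) (hT : T ^ r = 1) {c : ℕ} (hc : 0 < c)
    {X : Submodule F V} (hX : NdOn B X) (hXT : X.map T ≤ X)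
    (hblock : ∀ W : Submodule F V, W ≤ X → W.map T ≤ W → NdOn B W → W ≠ ⊥ →
      ∃ S : Submodule F V, S ≤ W ∧ S.map T ≤ S ∧ NdOn B S ∧ finrank F S = c) :
    ∀ j : ℕ, j * c ≤ finrank F X →
      ∃ U : Submodule F V, U ≤ X ∧ U.map T ≤ U ∧ NdOn B U ∧ finrank F U = j * c := by
  intro j
  induction j with
  | zero => exact fun _ => ⟨⊥, bot_le, by simp, ndOn_bot, by simp⟩
  | succ j ih =>
    intro hj
    rw [Nat.succ_mul] at hj
    obtain ⟨U, hUX, hUT, hU, hUd⟩ := ih (by omega)
    obtain ⟨W, hWX, hWT, hW, ho, -, hinf, hd⟩ := exists_compl hrefl hiso hr hT hX hXT hU hUT hUX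
    obtain ⟨S, hSW, hST, hS, hSd⟩ := hblock W hWX hWT hW fun h => by rw [h, finrank_bot] at hd; omega
    have hoS : OrthTo B U S := fun u hu v hv => ho u hu v (hSW hv)
    refine ⟨U ⊔ S, sup_le hUX (hSW.trans hWX), invariant_sup hUT hST, ndOn_sup hrefl hU hS hoS, ?_⟩
    have := Submodule.finrank_sup_add_finrank_inf_eq U S
    rw [inf_eq_bot hU (hoS.symm hrefl), finrank_bot] at this
    rw [Nat.succ_mul]
    omega

/-- If all pieces have dimension `c`, so does the whole up to a multiple. -/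
theorem dvd_finrank [FiniteDimensional F V] (hrefl : ∀ x y, B x y = 0 → B y x = 0)
    (hiso : ∀ u v, B (T u) (T v) = B u v) (hr : r ≠ 0) (hT : T ^ r = 1) {c : ℕ} (hc : 0 < c)
    {X : Submodule F V} (hX : NdOn B X) (hXT : X.map T ≤ X)
    (hblock : ∀ W : Submodule F V, W ≤ X → W.map T ≤ W → NdOn B W → W ≠ ⊥ →
      ∃ S : Submodule F V, S ≤ W ∧ S.map T ≤ S ∧ NdOn B S ∧ finrank F S = c) :
    c ∣ finrank F X := by
  obtain ⟨U, hUX, hUT, hU, hUd⟩ := exists_multiple hrefl hiso hr hT hc hX hXT hblock _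
    (Nat.div_mul_le_self (finrank F X) c)
  obtain ⟨W, hWX, hWT, hW, -, -, -, hd⟩ := exists_compl hrefl hiso hr hT hX hXT hU hUT hUX
  refine ⟨finrank F X / c, ?_⟩
  by_cases hne : W = ⊥
  · rw [hne, finrank_bot] at hd
    rw [mul_comm]
    omega
  · obtain ⟨S, hSW, -, -, hSd⟩ := hblock W hWX hWT hW hne
    have h1 := Submodule.finrank_mono hSW
    have h2 := Nat.lt_div_mul_add hc (a := finrank F X)
    omega

/-- The fixed vectors and the fixed-point-free part are orthogonal. -/
theorem exists_split [FiniteDimensional F V] (hrefl : ∀ x y, B x y = 0 → B y x = 0)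
    (hiso : ∀ u v, B (T u) (T v) = B u v) (hrF : (r : F) ≠ 0) (hT : T ^ r = 1)
    {X : Submodule F V} (hX : NdOn B X) (hXT : X.map T ≤ X) :
    ∃ M : Submodule F V, M ≤ X ∧ M.map T ≤ M ∧ (∀ v ∈ M, T v = v → v = 0) ∧
      (X ⊓ fixedSpace T) ⊔ M = X ∧ OrthTo B (X ⊓ fixedSpace T) M ∧ NdOn B M ∧ NdOn B (X ⊓ fixedSpace T) ∧
      finrank F ↥(X ⊓ fixedSpace T) + finrank F M = finrank F X := by
  have hT' : T ^ r = (1 : F) • (1 : Module.End F V) := by rw [one_smul, hT]
  obtain ⟨M, hMX, hMi, hsup, hinf, hdim⟩ := exists_invariant_compl_in T hrF one_ne_zero hT'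
    (invariant_inf hXT (fixedSpace_invariant T)) hXT inf_le_left
  have hfree : ∀ v ∈ M, T v = v → v = 0 := fun v hv h => by
    have : v ∈ X ⊓ fixedSpace T ⊓ M := ⟨⟨hMX hv, mem_fixedSpace.2 h⟩, hv⟩
    rwa [hinf, Submodule.mem_bot] at this
  let D : M →ₗ[F] M := (T - 1).restrict fun v hv => M.sub_mem (hMi ⟨v, hv, rfl⟩) hv
  have hD : Function.Surjective D := by
    refine LinearMap.injective_iff_surjective.1 ((injective_iff_map_eq_zero D).2 fun v hv => Subtype.ext ?_)
    refine hfree v v.2 ?_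
    have := congrArg Subtype.val hv
    simpa [D, sub_eq_zero] using this
  have ho : OrthTo B (X ⊓ fixedSpace T) M := by
    intro u hu v hv
    obtain ⟨w, hw⟩ := hD ⟨v, hv⟩
    have h1 : T (w : V) - w = v := congrArg Subtype.val hw
    rw [← h1, map_sub]
    conv_lhs => arg 1; rw [← mem_fixedSpace.1 hu.2]
    rw [hiso, sub_self]
  refine ⟨M, hMX, hMi, hfree, hsup, ho, ?_, ?_, hdim⟩
  · intro u hu hall
    refine hX u (hMX hu) fun v hv => ?_
    rw [← hsup] at hv
    obtain ⟨a, ha, b, hb, rfl⟩ := Submodule.mem_sup.1 hv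
    rw [map_add, ho.symm hrefl u hu a ha, hall b hb, add_zero]
  · intro u hu hall
    refine hX u hu.1 fun v hv => ?_
    rw [← hsup] at hv
    obtain ⟨a, ha, b, hb, rfl⟩ := Submodule.mem_sup.1 hv
    rw [map_add, hall a ha, ho u hu b hb, add_zero]

/-- The dimension of the fixed part modulo `c`. -/
theorem finrank_mod [FiniteDimensional F V] (hrefl : ∀ x y, B x y = 0 → B y x = 0)
    (hiso : ∀ u v, B (T u) (T v) = B u v) (hrF : (r : F) ≠ 0) (hT : T ^ r = 1) {c : ℕ} (hc : 0 < c)
    (hblock : ∀ W : Submodule F V, W.map T ≤ W → (∀ v ∈ W, T v = v → v = 0) → NdOn B W → W ≠ ⊥ →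
      ∃ S : Submodule F V, S ≤ W ∧ S.map T ≤ S ∧ NdOn B S ∧ finrank F S = c)
    {X : Submodule F V} (hX : NdOn B X) (hXT : X.map T ≤ X) :
    finrank F X % c = finrank F ↥(X ⊓ fixedSpace T) % c := by
  have hr : r ≠ 0 := fun h => hrF (by rw [h, Nat.cast_zero])
  obtain ⟨M, -, hMi, hfree, -, -, hM, -, hdim⟩ := exists_split hrefl hiso hrF hT hX hXT
  obtain ⟨J, hJ⟩ := dvd_finrank hrefl hiso hr hT hc hM hMi fun W hW hWT hWn hne =>
    hblock W hWT (fun v hv => hfree v (hW hv)) hWn hne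
  rw [← hdim, hJ, Nat.add_mul_mod_self_left]

/-- Nondegenerate invariant subspaces of prescribed dimension. -/
theorem exists_invariant [FiniteDimensional F V] (hrefl : ∀ x y, B x y = 0 → B y x = 0)
    (hiso : ∀ u v, B (T u) (T v) = B u v) (hrF : (r : F) ≠ 0) (hT : T ^ r = 1) {c d₀ : ℕ} (hc : 0 < c)
    (hd₀ : 0 < d₀) (hdc : d₀ ∣ c)
    (hblock : ∀ W : Submodule F V, W.map T ≤ W → (∀ v ∈ W, T v = v → v = 0) → NdOn B W → W ≠ ⊥ →
      ∃ S : Submodule F V, S ≤ W ∧ S.map T ≤ S ∧ NdOn B S ∧ finrank F S = c)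
    (hfix : ∀ W : Submodule F V, W ≤ fixedSpace T → NdOn B W → W ≠ ⊥ →
      ∃ S : Submodule F V, S ≤ W ∧ NdOn B S ∧ finrank F S = d₀)
    {X : Submodule F V} (hX : NdOn B X) (hXT : X.map T ≤ X) {m : ℕ} (hm : m ≤ finrank F X) (hdm : d₀ ∣ m)
    (hmod : m % c ≤ finrank F ↥(X ⊓ fixedSpace T)) :
    ∃ U : Submodule F V, U ≤ X ∧ U.map T ≤ U ∧ NdOn B U ∧ finrank F U = m := by
  have hr : r ≠ 0 := fun h => hrF (by rw [h, Nat.cast_zero])
  obtain ⟨M, hMX, hMi, hfree, hsup, ho, hM, hK, hdim⟩ := exists_split hrefl hiso hrF hT hX hXT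
  have hblockM : ∀ W : Submodule F V, W ≤ M → W.map T ≤ W → NdOn B W → W ≠ ⊥ →
      ∃ S : Submodule F V, S ≤ W ∧ S.map T ≤ S ∧ NdOn B S ∧ finrank F S = c :=
    fun W hW hWT hWn hne => hblock W hWT (fun v hv => hfree v (hW hv)) hWn hne
  obtain ⟨J, hJ⟩ := dvd_finrank hrefl hiso hr hT hc hM hMi hblockM
  set j := min (m / c) J with hj
  obtain ⟨U₁, hU₁M, hU₁T, hU₁, hU₁d⟩ := exists_multiple hrefl hiso hr hT hc hM hMi hblockM j
    (by rw [hJ, mul_comm c J]; exact Nat.mul_le_mul_right c (min_le_right _ _))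
  have hjm : j * c ≤ m := le_trans (Nat.mul_le_mul_right c (min_le_left _ _)) (Nat.div_mul_le_self m c)
  obtain ⟨s, hs⟩ : d₀ ∣ m - j * c := Nat.dvd_sub hdm (hdc.mul_left j)
  have hsf : s * d₀ ≤ finrank F ↥(X ⊓ fixedSpace T) := by
    rw [mul_comm, ← hs]
    rcases le_total (m / c) J with h | h
    · rw [hj, min_eq_left h]
      have h3 := Nat.div_add_mod m c
      rw [mul_comm] at h3
      omega
    · rw [hj, min_eq_right h]
      rw [mul_comm c J] at hJ
      omega
  have hfixinv : ∀ W : Submodule F V, W ≤ fixedSpace T → W.map T ≤ W := fun W hW => by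
    rintro _ ⟨v, hv, rfl⟩
    rwa [mem_fixedSpace.1 (hW hv)]
  obtain ⟨U₂, hU₂K, hU₂T, hU₂, hU₂d⟩ := exists_multiple hrefl hiso hr hT hd₀ hK
    (hfixinv _ inf_le_right) (fun W hW _ hWn hne => by
      obtain ⟨S, hSW, hS, hSd⟩ := hfix W (hW.trans inf_le_right) hWn hne
      exact ⟨S, hSW, hfixinv S (hSW.trans (hW.trans inf_le_right)), hS, hSd⟩) s hsf
  have ho' : OrthTo B U₂ U₁ := fun u hu v hv => ho u (hU₂K hu) v (hU₁M hv)
  refine ⟨U₂ ⊔ U₁, sup_le (hU₂K.trans inf_le_left) (hU₁M.trans hMX), invariant_sup hU₂T hU₁T,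
    ndOn_sup hrefl hU₂ hU₁ ho', ?_⟩
  have := Submodule.finrank_sup_add_finrank_inf_eq U₂ U₁
  rw [inf_eq_bot hU₂ (ho'.symm hrefl), finrank_bot, hU₂d, hU₁d, mul_comm s] at this
  omega

section Finite

variable [Fintype F] [Fact r.Prime]

/-- An invariant subspace without fixed vectors of the least dimension is nondegenerate or totally isotropic. -/
theorem ndOn_or_orthTo [FiniteDimensional F V] (hrefl : ∀ x y, B x y = 0 → B y x = 0)
    (hiso : ∀ u v, B (T u) (T v) = B u v) (hT : T ^ r = 1) {S : Submodule F V} (hST : S.map T ≤ S)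
    (hfree : ∀ v ∈ S, T v = v → v = 0) (hd : finrank F S = orderOf (Fintype.card F : ZMod r)) :
    NdOn B S ∨ OrthTo B S S := by
  have hr : r ≠ 0 := (Fact.out : r.Prime).ne_zero
  set R := S ⊓ FormModel.perp B S
  have hRT : R.map T ≤ R := by
    rintro _ ⟨u, hu, rfl⟩
    refine ⟨hST ⟨u, hu.1, rfl⟩, fun w hw => ?_⟩
    rw [← map_eq hr hT hST] at hw
    obtain ⟨w', hw', rfl⟩ := hw
    rw [hiso]
    exact hu.2 w' hw'
  by_cases hR : R = ⊥
  · refine Or.inl fun u hu hall => ?_
    have : u ∈ R := ⟨hu, fun w hw => hrefl _ _ (hall w hw)⟩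
    rwa [hR, Submodule.mem_bot] at this
  · have hdvd := orderOf_dvd_finrank hT hRT fun v hv => hfree v hv.1
    have hpos : 0 < finrank F R := Nat.pos_of_ne_zero fun h => hR (Submodule.finrank_eq_zero.1 h)
    have hRS : R = S := Submodule.eq_of_le_of_finrank_le inf_le_left (hd.le.trans (Nat.le_of_dvd hpos hdvd))
    refine Or.inr fun u hu v hv => ?_
    rw [← hRS] at hv
    exact hv.2 u hu

/-- When no piece of the least dimension is nondegenerate, two dual pieces make a nondegenerate one. -/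
theorem exists_pair [FiniteDimensional F V] (hrefl : ∀ x y, B x y = 0 → B y x = 0)
    (hiso : ∀ u v, B (T u) (T v) = B u v) (hrF : (r : F) ≠ 0) (hrq : (Fintype.card F : ZMod r) ≠ 0)
    (hT : T ^ r = 1) {M : Submodule F V} (hM : NdOn B M) (hMT : M.map T ≤ M)
    (hfree : ∀ v ∈ M, T v = v → v = 0) (hne : M ≠ ⊥)
    (hno : ∀ S : Submodule F V, S.map T ≤ S → (∀ v ∈ S, T v = v → v = 0) →
      finrank F S = orderOf (Fintype.card F : ZMod r) → ¬ NdOn B S) :
    ∃ P : Submodule F V, P ≤ M ∧ P.map T ≤ P ∧ NdOn B P ∧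
      finrank F P = 2 * orderOf (Fintype.card F : ZMod r) := by
  classical
  have hr : r ≠ 0 := (Fact.out : r.Prime).ne_zero
  set e := orderOf (Fintype.card F : ZMod r)
  have hT' : T ^ r = (1 : F) • (1 : Module.End F V) := by rw [one_smul, hT]
  obtain ⟨S, hSM, hST, hSd⟩ := exists_invariant_orderOf hT hrq hMT hne hfree
  have hSiso : OrthTo B S S := (ndOn_or_orthTo hrefl hiso hT hST (fun v hv => hfree v (hSM hv)) hSd).resolve_left
    (hno S hST (fun v hv => hfree v (hSM hv)) hSd)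
  set Sp := M ⊓ FormModel.perp B S
  have hSpT : Sp.map T ≤ Sp := by
    rintro _ ⟨u, hu, rfl⟩
    refine ⟨hMT ⟨u, hu.1, rfl⟩, fun w hw => ?_⟩
    rw [← map_eq hr hT hST] at hw
    obtain ⟨w', hw', rfl⟩ := hw
    rw [hiso]
    exact hu.2 w' hw'
  obtain ⟨S', hS'M, hS'T, hsup, hinf, hdim⟩ :=
    exists_invariant_compl_in T hrF one_ne_zero hT' hSpT hMT inf_le_left
  have hS'ne : S' ≠ ⊥ := fun h => by
    rw [h, sup_bot_eq] at hsup
    have hSne : S ≠ ⊥ := fun hb => by
      have hpos : 0 < e := orderOf_pos_iff.2 (isUnit_iff_ne_zero.2 hrq).isOfFinOrder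
      rw [hb, finrank_bot] at hSd
      omega
    obtain ⟨s, hs, hs0⟩ := Submodule.exists_mem_ne_zero_of_ne_bot hSne
    refine hs0 (hM s (hSM hs) fun v hv => ?_)
    rw [← hsup] at hv
    exact hv.2 s hs
  have hS'd : finrank F S' = e := by
    let b := finBasisOfFinrankEq F S hSd
    let L : S' →ₗ[F] (Fin e → F) := LinearMap.pi fun i => (B (b i : V)) ∘ₗ S'.subtype
    have hL : Function.Injective L := by
      rw [injective_iff_map_eq_zero]
      intro x hx
      refine Subtype.ext ?_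
      have hmem : (x : V) ∈ Sp ⊓ S' := by
        refine ⟨⟨hS'M x.2, fun w hw => ?_⟩, x.2⟩
        have h1 : (⟨w, hw⟩ : S) = ∑ i, b.repr ⟨w, hw⟩ i • b i := (b.sum_repr _).symm
        have h2 := congrArg (fun y : S => B (y : V) x) h1
        simp only [Submodule.coe_sum, Submodule.coe_smul, map_sum, map_smulₛₗ, LinearMap.sum_apply,
          LinearMap.smul_apply, smul_eq_mul] at h2
        rw [h2]
        exact Finset.sum_eq_zero fun i _ => by rw [show B (b i : V) x = 0 from congrFun hx i, mul_zero]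
      rwa [hinf, Submodule.mem_bot] at hmem
    have h1 := LinearMap.finrank_le_finrank_of_injective hL
    rw [Module.finrank_pi, Fintype.card_fin] at h1
    have h2 := orderOf_dvd_finrank hT hS'T fun v hv => hfree v (hS'M hv)
    have h3 : 0 < finrank F S' := Nat.pos_of_ne_zero fun h => hS'ne (Submodule.finrank_eq_zero.1 h)
    exact le_antisymm h1 (Nat.le_of_dvd h3 h2)
  have hS'iso : OrthTo B S' S' :=
    (ndOn_or_orthTo hrefl hiso hT hS'T (fun v hv => hfree v (hS'M hv)) hS'd).resolve_left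
      (hno S' hS'T (fun v hv => hfree v (hS'M hv)) hS'd)
  have hSS' : S ⊓ S' = ⊥ := le_bot_iff.1 ((inf_le_inf_right S' (show S ≤ Sp from
    fun v hv => ⟨hSM hv, fun w hw => hSiso w hw v hv⟩)).trans hinf.le)
  refine ⟨S ⊔ S', sup_le hSM hS'M, invariant_sup hST hS'T, ?_, ?_⟩
  · intro u hu hall
    obtain ⟨s, hs, s', hs', rfl⟩ := Submodule.mem_sup.1 hu
    have hs'0 : s' = 0 := by
      have hmem : s' ∈ Sp ⊓ S' := by
        refine ⟨⟨hS'M hs', fun w hw => hrefl _ _ ?_⟩, hs'⟩
        have := hall w (Submodule.mem_sup_left hw)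
        rwa [map_add, LinearMap.add_apply, hSiso s hs w hw, zero_add] at this
      rwa [hinf, Submodule.mem_bot] at hmem
    subst hs'0
    rw [add_zero] at hall ⊢
    refine hM s (hSM hs) fun v hv => ?_
    rw [← hsup] at hv
    obtain ⟨a, ha, b, hb, rfl⟩ := Submodule.mem_sup.1 hv
    rw [map_add, ha.2 s hs, hall b (Submodule.mem_sup_right hb), add_zero]
  · have := Submodule.finrank_sup_add_finrank_inf_eq S S'
    rw [hSS', finrank_bot, hSd, hS'd] at this
    omega

omit [Fintype F] in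
theorem adjoint_aeval (hiso : ∀ u v, B (T u) (T v) = B u v) (hT : T ^ r = 1) (hσσ : ∀ a, σ (σ a) = a)
    (f : F[X]) (u w : V) :
    B (aeval (T ^ (r - 1)) (f.map σ) u) w = B u (aeval T f w) := by
  induction f using Polynomial.induction_on' generalizing u w with
  | add f g hf hg => simp only [Polynomial.map_add, map_add, LinearMap.add_apply, hf, hg]
  | monomial l a =>
    rw [Polynomial.map_monomial, aeval_monomial, aeval_monomial, Algebra.algebraMap_eq_smul_one,
      Algebra.algebraMap_eq_smul_one, smul_mul_assoc, one_mul, smul_mul_assoc, one_mul,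
      LinearMap.smul_apply, LinearMap.smul_apply, map_smulₛₗ, hσσ, LinearMap.smul_apply, map_smul,
      smul_eq_mul, smul_eq_mul]
    congr 1
    conv_rhs => rw [← pow_isometry hiso ((r - 1) * l)]
    rw [← pow_mul, ← Module.End.mul_apply, ← pow_add,
      show (r - 1) * l + l = r * l by
        conv_rhs => rw [← Nat.sub_add_cancel (Fact.out : r.Prime).one_le]
        ring,
      pow_mul T r l, hT, one_pow, Module.End.one_apply]

omit [Fintype F] [Fact r.Prime] in
theorem aeval_restrict_apply {S : Submodule F V} (hS : ∀ v ∈ S, T v ∈ S) (f : F[X]) (v : S) :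
    aeval T f (v : V) = ((aeval (T.restrict hS) f) v : V) := by
  induction f using Polynomial.induction_on generalizing v with
  | C a => simp
  | add f g hf hg => simp [hf, hg]
  | monomial l a ih =>
    rw [pow_succ, ← mul_assoc, map_mul (aeval T), map_mul (aeval (T.restrict hS)), aeval_X, aeval_X,
      Module.End.mul_apply, Module.End.mul_apply, ← ih]
    rfl

/-- In the self-dual case some piece of the least dimension is nondegenerate. -/
theorem exists_selfdual [FiniteDimensional F V] (hrefl : ∀ x y, B x y = 0 → B y x = 0)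
    (hiso : ∀ u v, B (T u) (T v) = B u v) (hr2 : r ≠ 2) (hrF : (r : F) ≠ 0)
    (hrq : (Fintype.card F : ZMod r) ≠ 0) (hT : T ^ r = 1) (hσσ : ∀ a, σ (σ a) = a)
    (hskew : (∃ a, σ a ≠ a) ∨ ∀ u v, B v u = - B u v)
    {p : ℕ} [Fact p.Prime] [CharP F p] {m : ℕ} (hN1 : ∀ a, σ a = a ^ p ^ m) (hN2 : r ∣ p ^ m + 1)
    {M : Submodule F V} (hM : NdOn B M) (hMT : M.map T ≤ M)
    (hfree : ∀ v ∈ M, T v = v → v = 0) (hne : M ≠ ⊥) :
    ∃ S : Submodule F V, S ≤ M ∧ S.map T ≤ S ∧ NdOn B S ∧
      finrank F S = orderOf (Fintype.card F : ZMod r) := by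
  classical
  have hrp := (Fact.out : r.Prime)
  set e := orderOf (Fintype.card F : ZMod r)
  obtain ⟨S, hSM, hST, hSd⟩ := exists_invariant_orderOf hT hrq hMT hne hfree
  by_contra hno
  push Not at hno
  have hSm : ∀ v ∈ S, T v ∈ S := fun v hv => hST ⟨v, hv, rfl⟩
  set f := (T.restrict hSm).charpoly
  have hfd : f.natDegree = e := by rw [LinearMap.charpoly_natDegree, hSd]
  set K := M ⊓ LinearMap.ker (aeval T f) with hK
  have hcomm : ∀ g : F[X], ∀ v, T (aeval T g v) = aeval T g (T v) := fun g v => by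
    have h1 := congrArg (aeval T) (mul_comm X g)
    rw [map_mul, map_mul, aeval_X] at h1
    exact LinearMap.congr_fun h1 v
  have hKT : K.map T ≤ K := by
    rintro _ ⟨v, ⟨hv1, hv2⟩, rfl⟩
    refine ⟨hMT ⟨v, hv1, rfl⟩, ?_⟩
    show aeval T f (T v) = 0
    rw [← hcomm, LinearMap.mem_ker.1 hv2, map_zero]
  -- every cyclic subspace inside `K` is totally isotropic
  have hiso0 : ∀ v ∈ K, ∀ j : ℕ, B ((T ^ j) v) v = 0 := by
    intro v hv j
    by_cases hv0 : v = 0
    · simp [hv0]
    set U := Submodule.span F (Set.range fun l : Fin e => (T ^ (l : ℕ)) v)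
    have hUM : U ≤ M := by
      rw [Submodule.span_le]
      rintro _ ⟨l, rfl⟩
      exact pow_mem hMT hv.1 l
    have hmem : ∀ l, l ≤ e → (T ^ l) v ∈ U := by
      intro l hl
      rcases hl.eq_or_lt with rfl | hlt
      · have h0 : aeval T f v = 0 := hv.2
        rw [aeval_eq_sum_range, LinearMap.sum_apply, hfd, Finset.sum_range_succ] at h0
        simp only [LinearMap.smul_apply] at h0
        rw [show f.coeff e = 1 by rw [← hfd]; exact (LinearMap.charpoly_monic _).coeff_natDegree, one_smul,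
          add_eq_zero_iff_eq_neg'] at h0
        rw [h0]
        exact neg_mem (Submodule.sum_mem _ fun i hi =>
          Submodule.smul_mem _ _ (Submodule.subset_span ⟨⟨i, Finset.mem_range.1 hi⟩, rfl⟩))
      · exact Submodule.subset_span ⟨⟨l, hlt⟩, rfl⟩
    have hUT : U.map T ≤ U := by
      rw [Submodule.map_span_le]
      rintro _ ⟨l, rfl⟩
      rw [← Module.End.mul_apply, ← pow_succ']
      exact hmem _ l.2
    have hvU : v ∈ U := by simpa using hmem 0 (Nat.zero_le e)
    have hUd : finrank F U = e := by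
      refine le_antisymm ((finrank_range_le_card _).trans (Fintype.card_fin e).le) (Nat.le_of_dvd ?_
        (orderOf_dvd_finrank hT hUT fun w hw => hfree w (hUM hw)))
      exact Nat.pos_of_ne_zero fun h => hv0 (by rwa [Submodule.finrank_eq_zero.1 h, Submodule.mem_bot] at hvU)
    exact ((ndOn_or_orthTo hrefl hiso hT hUT (fun w hw => hfree w (hUM hw)) hUd).resolve_left
      fun h => hno U hUM hUT h hUd) _ (pow_mem hUT hvU j) v hvU
  have hpol : ∀ u ∈ K, ∀ v ∈ K, ∀ j : ℕ, B ((T ^ j) u) v + B ((T ^ j) v) u = 0 := by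
    intro u hu v hv j
    have := hiso0 (u + v) (K.add_mem hu hv) j
    simp only [map_add, LinearMap.add_apply, hiso0 u hu j, hiso0 v hv j] at this
    linear_combination this
  -- `K` is nondegenerate
  have hKnd : NdOn B K := by
    intro u hu hall
    obtain ⟨C, hCM, hCT, hsup, hinf, -⟩ := exists_invariant_compl_in T hrF one_ne_zero
      (by rw [one_smul, hT]) hKT hMT inf_le_left
    refine hM u hu.1 fun v hv => ?_
    rw [← hsup] at hv
    obtain ⟨a, ha, b, hb, rfl⟩ := Submodule.mem_sup.1 hv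
    have hCf : ∀ g : F[X], ∀ x ∈ C, aeval T g x ∈ C := by
      intro g x hx
      rw [aeval_eq_sum_range, LinearMap.sum_apply]
      exact C.sum_mem fun i _ => C.smul_mem _ (pow_mem hCT hx i)
    let G : C →ₗ[F] C := (aeval T f).restrict (hCf f)
    have hG : Function.Surjective G := by
      refine LinearMap.injective_iff_surjective.1 ((injective_iff_map_eq_zero G).2 fun x hx => Subtype.ext ?_)
      have : (x : V) ∈ K ⊓ C := ⟨⟨hCM x.2, congrArg Subtype.val hx⟩, x.2⟩
      rwa [hinf, Submodule.mem_bot] at this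
    obtain ⟨y, hy⟩ := hG ⟨b, hb⟩
    have hb' : b = aeval T f (y : V) := (congrArg Subtype.val hy).symm
    rw [map_add, hall a ha, zero_add, hb', ← adjoint_aeval hiso hT hσσ]
    have hTN : T ^ (r - 1) = T ^ p ^ m := by
      rw [pow_eq_pow_mod (p ^ m) hT]
      congr 1
      obtain ⟨k, hk⟩ := hN2
      have hk0 : k ≠ 0 := fun h => by rw [h, mul_zero] at hk; omega
      obtain ⟨k, rfl⟩ := Nat.exists_eq_succ_of_ne_zero hk0
      rw [Nat.mul_succ] at hk
      rw [show p ^ m = r - 1 + r * k by have := hrp.pos; omega, Nat.add_mul_mod_self_left,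
        Nat.mod_eq_of_lt (by have := hrp.pos; omega)]
    have h1 : aeval (T ^ (r - 1)) (f.map σ) = (aeval T f) ^ p ^ m := by
      rw [hTN, ← expand_aeval, ← map_pow, ← map_iterateFrobenius_expand p f m, map_expand,
        show iterateFrobenius F p m = σ from RingHom.ext fun a => by rw [hN1, iterateFrobenius_def]]
    have hu' : ((aeval T f) ^ p ^ m) u = 0 := by
      rw [← Nat.sub_add_cancel (Nat.one_le_pow m p (Fact.out : p.Prime).pos), pow_succ, Module.End.mul_apply,
        LinearMap.mem_ker.1 hu.2, map_zero]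
    rw [h1, hu']
    simp
  obtain ⟨u, huS, hu0⟩ := Submodule.exists_mem_ne_zero_of_ne_bot (p := S) fun h => by
    have hpos : 0 < e := orderOf_pos_iff.2 (isUnit_iff_ne_zero.2 hrq).isOfFinOrder
    rw [h, finrank_bot] at hSd
    omega
  have huK : u ∈ K := ⟨hSM huS, by
    show aeval T f u = 0
    rw [show u = ((⟨u, huS⟩ : S) : V) from rfl, aeval_restrict_apply hSm, LinearMap.aeval_self_charpoly]
    rfl⟩
  rcases hskew with ⟨a, ha⟩ | hskew
  · refine hu0 (hKnd u huK fun v hv => ?_)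
    have h1 : B u v + B v u = 0 := hpol u huK v hv 0
    have h2 : B u (a • v) + B (a • v) u = 0 := hpol u huK (a • v) (K.smul_mem a hv) 0
    rw [map_smul, map_smulₛₗ, LinearMap.smul_apply, smul_eq_mul, smul_eq_mul] at h2
    have h3 : (a - σ a) * B u v = 0 := by linear_combination h2 - σ a * h1
    exact (mul_eq_zero.1 h3).resolve_left (sub_ne_zero.2 (Ne.symm ha))
  · have hkey : (T ^ (r - 1)) u = T u := by
      refine sub_eq_zero.1 (hKnd _ (K.sub_mem (pow_mem hKT huK _) (hKT ⟨u, huK, rfl⟩)) fun v hv => ?_)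
      have h1 : B (T u) v + B (T v) u = 0 := by simpa using hpol u huK v hv 1
      have h2 : B ((T ^ (r - 1)) u) v = B u (T v) := by
        conv_rhs => rw [← pow_isometry hiso (r - 1)]
        rw [← Module.End.mul_apply (T ^ (r - 1)) T, ← pow_succ, Nat.sub_add_cancel hrp.one_le, hT,
          Module.End.one_apply]
      rw [map_sub, LinearMap.sub_apply, h2, hskew (T v) u]
      linear_combination -h1
    have h2u : (T ^ 2) u = u := by
      conv_rhs => rw [show u = (T ^ r) u by rw [hT]; rfl]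
      rw [show r = 1 + (r - 1) by have := hrp.pos; omega, pow_add, Module.End.mul_apply, hkey, pow_one, pow_two,
        Module.End.mul_apply]
    have hodd := hrp.odd_of_ne_two hr2
    obtain ⟨k, hk⟩ := hodd
    have hev : ∀ l : ℕ, (T ^ (2 * l)) u = u := by
      intro l
      induction l with
      | zero => rfl
      | succ l ih => rw [Nat.mul_succ, pow_add, Module.End.mul_apply, h2u, ih]
    refine hu0 (hfree u huK.1 ?_)
    have hTu := LinearMap.congr_fun hT u
    rwa [hk, pow_succ', Module.End.mul_apply, hev, Module.End.one_apply] at hTu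

end Finite

end Isometry

section Alternating

variable {A : LinearMap.BilinForm F V} {T : Module.End F V} {r : ℕ}

theorem refl_of_alt (hA : LinearMap.IsAlt A) (x y : V) (h : A x y = 0) : A y x = 0 := by
  rw [← hA.neg x y, h, neg_zero]

theorem even_finrank [FiniteDimensional F V] (hA : LinearMap.IsAlt A) {X : Submodule F V} (hX : NdOn A X) :
    Even (finrank F X) := by
  classical
  obtain ⟨𝓟, h1, h2, h3⟩ := Elusive.exists_plane_decomposition (A := 1) hA (fun u v => rfl)
    (z := 1) (fun v => (one_smul F v).symm) one_ne_zero _ X rfl hX (Submodule.map_id X).le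
  have := (Elusive.nd_finset_sup hA id 𝓟 (fun P hP => (h1 P hP).1) h2).2
  rw [h3, Finset.sum_congr rfl fun P hP => show finrank F (id P : Submodule F V) = 2 from (h1 P hP).2.1,
    Finset.sum_const, smul_eq_mul] at this
  exact this ▸ (even_two.mul_left _)

theorem exists_plane (hA : LinearMap.IsAlt A) {X : Submodule F V} (hX : NdOn A X) (hne : X ≠ ⊥) :
    ∃ S : Submodule F V, S ≤ X ∧ NdOn A S ∧ finrank F S = 2 := by
  obtain ⟨v, hv, hv0⟩ := Submodule.exists_mem_ne_zero_of_ne_bot hne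
  obtain ⟨w, hw, hvw⟩ : ∃ w ∈ X, A v w ≠ 0 := by
    by_contra h
    push Not at h
    exact hv0 (hX v hv h)
  refine ⟨Submodule.span F {v, w}, Submodule.span_le.2 ?_, (nd_span_pair hA hvw).1, (nd_span_pair hA hvw).2⟩
  rintro x (rfl | rfl) <;> assumption

/-- The dimension of the pieces for an alternating form. -/
theorem alt_block [Fintype F] [Fact r.Prime] {p : ℕ} [Fact p.Prime] [CharP F p] [FiniteDimensional F V]
    (hA : LinearMap.IsAlt A) (hiso : ∀ u v, A (T u) (T v) = A u v) (hr2 : r ≠ 2) (hrF : (r : F) ≠ 0)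
    (hrq : (Fintype.card F : ZMod r) ≠ 0) (hT : T ^ r = 1) {c : ℕ}
    (hc : c = if Even (orderOf (Fintype.card F : ZMod r)) then orderOf (Fintype.card F : ZMod r)
      else 2 * orderOf (Fintype.card F : ZMod r))
    (W : Submodule F V) (hWT : W.map T ≤ W) (hfree : ∀ v ∈ W, T v = v → v = 0) (hW : NdOn A W) (hne : W ≠ ⊥) :
    ∃ S : Submodule F V, S ≤ W ∧ S.map T ≤ S ∧ NdOn A S ∧ finrank F S = c := by
  set e := orderOf (Fintype.card F : ZMod r)
  by_cases hev : Even e
  · rw [if_pos hev] at hc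
    obtain ⟨h, hh⟩ := hev.two_dvd
    obtain ⟨f, -, hf⟩ := FiniteField.card F p
    have hepos : 0 < e := orderOf_pos_iff.2 (isUnit_iff_ne_zero.2 hrq).isOfFinOrder
    have h1 : (Fintype.card F : ZMod r) ^ h = -1 := by
      have h2 : (Fintype.card F : ZMod r) ^ h * (Fintype.card F : ZMod r) ^ h = 1 := by
        rw [← pow_add, ← two_mul, ← hh]
        exact pow_orderOf_eq_one _
      refine (mul_self_eq_one_iff.1 h2).resolve_left fun h' => ?_
      have := Nat.le_of_dvd (by omega) (orderOf_dvd_of_pow_eq_one h')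
      omega
    rw [hc]
    refine exists_selfdual (refl_of_alt hA) hiso hr2 hrF hrq hT (fun a => rfl)
      (Or.inr fun u v => (hA.neg u v).symm) (p := p) (m := f * h) (fun a => ?_) ?_ hW hWT hfree hne
    · rw [pow_mul, ← hf, RingHom.id_apply, FiniteField.pow_card_pow]
    · rw [pow_mul, ← hf, ← ZMod.natCast_eq_zero_iff]
      push_cast
      rw [h1]
      ring
  · rw [if_neg hev] at hc
    rw [hc]
    exact exists_pair (refl_of_alt hA) hiso hrF hrq hT hW hWT hfree hne
      fun S _ _ hSd hS => hev (by have := even_finrank hA hS; rwa [hSd] at this)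

end Alternating

end Cfsg.Agent.Elusive.FormIso
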