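import Mathlib

/-!
Involutions up to scalars in general linear groups permute a basis up to scalars; a permutation of
order at most two preserves some equal-size partition.
-/

set_option autoImplicit false

namespace Cfsg.Agent.Elusive

open Module

/-- An invariant set of size `a * t` of an involutive map can be cut into `t` parts of size `a`
which the map permutes. -/
theorem exists_blocks {ι : Type*} [DecidableEq ι] {π : ι → ι} (hπ : Function.Involutive π) {a : ℕ}
    (ha : 1 ≤ a) :
    ∀ (t : ℕ) (S : Finset ι), (∀ i ∈ S, π i ∈ S) → S.card = a * t →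
      ∃ 𝓑 : Finset (Finset ι), (∀ B ∈ 𝓑, B.card = a) ∧ (∀ B ∈ 𝓑, B.image π ∈ 𝓑) ∧
        (∀ B ∈ 𝓑, B ⊆ S) ∧ (∀ B ∈ 𝓑, ∀ B' ∈ 𝓑, B ≠ B' → Disjoint B B') ∧ ∀ i ∈ S, ∃ B ∈ 𝓑, i ∈ B := by
  classical
  intro t
  induction t using Nat.strong_induction_on with
  | _ t ih =>
  intro S hS hcard
  rcases Nat.eq_zero_or_pos t with rfl | ht
  · refine ⟨∅, by simp, by simp, by simp, by simp, fun i hi => ?_⟩
    rw [mul_zero, Finset.card_eq_zero] at hcard
    simp [hcard] at hi
  -- representatives of the transpositions
  obtain ⟨R, hRS, hRd, hRmax⟩ : ∃ R ⊆ S, (∀ i ∈ R, π i ∉ R) ∧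
      ∀ R' ⊆ S, (∀ i ∈ R', π i ∉ R') → R'.card ≤ R.card := by
    obtain ⟨R, hR, hmax⟩ := Finset.exists_max_image
      (S.powerset.filter fun R => ∀ i ∈ R, π i ∉ R) Finset.card ⟨∅, by simp⟩
    simp only [Finset.mem_filter, Finset.mem_powerset] at hR hmax
    exact ⟨R, hR.1, hR.2, fun R' h1 h2 => hmax R' ⟨h1, h2⟩⟩
  have hfix : ∀ i ∈ S, i ∉ R → π i ∉ R → π i = i := by
    intro i hi h1 h2
    by_contra hne
    have := hRmax (insert i R) (Finset.insert_subset hi hRS) fun j hj => by
      rcases Finset.mem_insert.1 hj with rfl | hj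
      · exact fun h => (Finset.mem_insert.1 h).elim hne h2
      · refine fun h => (Finset.mem_insert.1 h).elim (fun e => h1 ?_) (hRd j hj)
        exact absurd (by rwa [← e, hπ]) h2
    rw [Finset.card_insert_of_notMem h1] at this
    omega
  have himg : ∀ B : Finset ι, (B.image π).card = B.card := fun B =>
    Finset.card_image_of_injective B hπ.injective
  have hπmem : ∀ (B : Finset ι) (i : ι), i ∈ B.image π ↔ π i ∈ B := fun B i => by
    rw [Finset.mem_image]
    exact ⟨fun ⟨j, hj, e⟩ => by rwa [← e, hπ], fun h => ⟨π i, h, hπ i⟩⟩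
  have hRR : Disjoint R (R.image π) :=
    Finset.disjoint_left.2 fun i hi h => hRd i hi ((hπmem R i).1 h)
  have hRle : 2 * R.card ≤ a * t := by
    have := Finset.card_le_card (Finset.union_subset hRS (Finset.image_subset_iff.2 fun i hi => hS i (hRS hi)))
    rw [Finset.card_union_of_disjoint hRR, himg] at this
    omega
  -- peel off a π-stable set made of one or two blocks
  obtain ⟨k, 𝓒, hk, hk1, hC1, hC2, hC3, hC4⟩ : ∃ (k : ℕ) (𝓒 : Finset (Finset ι)), k ≤ t ∧ 1 ≤ k ∧
      (∀ B ∈ 𝓒, B.card = a ∧ B ⊆ S) ∧ (∀ B ∈ 𝓒, B.image π ∈ 𝓒) ∧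
      (∀ B ∈ 𝓒, ∀ B' ∈ 𝓒, B ≠ B' → Disjoint B B') ∧ (𝓒.biUnion id).card = a * k := by
    by_cases hsa : a ≤ R.card
    · obtain ⟨B, hBR, hBc⟩ := Finset.exists_subset_card_eq hsa
      have hd : Disjoint B (B.image π) := hRR.mono hBR (Finset.image_subset_image hBR)
      have hne : B ≠ B.image π := fun e => by
        rw [← e, Finset.disjoint_self_iff_empty] at hd
        simp [hd] at hBc
        omega
      have hii : (B.image π).image π = B := by ext i; rw [hπmem, hπmem, hπ]
      have h2t : 2 ≤ t := by
        by_contra h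
        obtain rfl : t = 1 := by omega
        omega
      refine ⟨2, {B, B.image π}, h2t, by norm_num, ?_, ?_, ?_, ?_⟩
      · simp only [Finset.mem_insert, Finset.mem_singleton]
        rintro C (rfl | rfl)
        · exact ⟨hBc, hBR.trans hRS⟩
        · exact ⟨(himg B).trans hBc, Finset.image_subset_iff.2 fun i hi => hS i (hRS (hBR hi))⟩
      · simp only [Finset.mem_insert, Finset.mem_singleton]
        rintro C (rfl | rfl)
        · exact Or.inr rfl
        · exact Or.inl hii
      · simp only [Finset.mem_insert, Finset.mem_singleton]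
        rintro C (rfl | rfl) C' (rfl | rfl) h
        · exact absurd rfl h
        · exact hd
        · exact hd.symm
        · exact absurd rfl h
      · rw [Finset.biUnion_insert, Finset.singleton_biUnion, id, id,
          Finset.card_union_of_disjoint hd, himg, hBc]
        omega
    · push Not at hsa
      obtain ⟨R', hR'R, hR'c⟩ := Finset.exists_subset_card_eq (min_le_left R.card (a / 2))
      let Fx := S.filter fun i => π i = i
      have hFx : S = R ∪ R.image π ∪ Fx := by
        ext i
        simp only [Finset.mem_union, hπmem, Fx, Finset.mem_filter]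
        refine ⟨fun hi => ?_, ?_⟩
        · by_cases h1 : i ∈ R
          · exact Or.inl (Or.inl h1)
          by_cases h2 : π i ∈ R
          · exact Or.inl (Or.inr h2)
          exact Or.inr ⟨hi, hfix i hi h1 h2⟩
        · rintro ((h | h) | h)
          · exact hRS h
          · rw [← hπ i]; exact hS _ (hRS h)
          · exact h.1
      have hRF : Disjoint (R ∪ R.image π) Fx := by
        refine Finset.disjoint_left.2 fun i hi h => ?_
        simp only [Fx, Finset.mem_filter] at h
        rcases Finset.mem_union.1 hi with h' | h'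
        · exact hRd i h' (by rwa [h.2])
        · rw [hπmem, h.2] at h'
          exact hRd i h' (by rwa [h.2])
      have hFc : a * t = 2 * R.card + Fx.card := by
        have := congrArg Finset.card hFx
        rw [Finset.card_union_of_disjoint hRF, Finset.card_union_of_disjoint hRR, himg, hcard] at this
        omega
      have hneed : a - 2 * R'.card ≤ Fx.card := by
        rcases Nat.lt_or_ge t 2 with h | h
        · obtain rfl : t = 1 := by omega
          omega
        · have h2 : a * 2 ≤ a * t := Nat.mul_le_mul_left a h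
          omega
      obtain ⟨F', hF'F, hF'c⟩ := Finset.exists_subset_card_eq hneed
      have hR'd : Disjoint R' (R'.image π) := hRR.mono hR'R (Finset.image_subset_image hR'R)
      have hR'F : Disjoint (R' ∪ R'.image π) F' :=
        hRF.mono (Finset.union_subset_union hR'R (Finset.image_subset_image hR'R)) hF'F
      set B := R' ∪ R'.image π ∪ F' with hB
      have hBπ : B.image π = B := by
        have hF' : F'.image π = F' := by
          ext i
          rw [hπmem]
          constructor
          · intro h
            have := (Finset.mem_filter.1 (hF'F h)).2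
            rw [hπ] at this
            rwa [← this] at h
          · intro h
            rwa [(Finset.mem_filter.1 (hF'F h)).2]
        have hRi : (R'.image π).image π = R' := by ext i; rw [hπmem, hπmem, hπ]
        rw [hB, Finset.image_union, Finset.image_union, hRi, hF', Finset.union_comm (R'.image π) R']
      have hBc : B.card = a := by
        rw [hB, Finset.card_union_of_disjoint hR'F, Finset.card_union_of_disjoint hR'd, himg, hF'c]
        omega
      refine ⟨1, {B}, ht, le_rfl, ?_, ?_, ?_, ?_⟩
      · intro C hC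
        rw [Finset.mem_singleton.1 hC]
        refine ⟨hBc, ?_⟩
        rw [hB, hFx]
        exact Finset.union_subset_union
          (Finset.union_subset_union hR'R (Finset.image_subset_image hR'R)) hF'F
      · intro C hC
        rw [Finset.mem_singleton.1 hC, hBπ, Finset.mem_singleton]
      · intro C hC C' hC' h
        rw [Finset.mem_singleton.1 hC, Finset.mem_singleton.1 hC'] at h
        exact absurd rfl h
      · rw [Finset.singleton_biUnion, id, hBc, mul_one]
  set U := 𝓒.biUnion id with hU
  have hUS : U ⊆ S := Finset.biUnion_subset.2 fun B hB => (hC1 B hB).2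
  have hS' : ∀ i ∈ S \ U, π i ∈ S \ U := by
    intro i hi
    obtain ⟨h1, h2⟩ := Finset.mem_sdiff.1 hi
    refine Finset.mem_sdiff.2 ⟨hS i h1, fun h => h2 ?_⟩
    obtain ⟨B, hB, hiB⟩ := Finset.mem_biUnion.1 h
    exact Finset.mem_biUnion.2 ⟨B.image π, hC2 B hB, (hπmem B i).2 hiB⟩
  have hc' : (S \ U).card = a * (t - k) := by
    rw [Finset.card_sdiff_of_subset hUS, hcard, hC4, Nat.mul_sub]
  obtain ⟨𝓑, h1, h2, h3, h4, h5⟩ := ih (t - k) (by omega) (S \ U) hS' hc'
  have hsep : ∀ B ∈ 𝓑, ∀ C ∈ 𝓒, Disjoint B C := fun B hB C hC =>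
    (Finset.sdiff_disjoint (s := U) (t := S)).mono (h3 B hB)
      (show C ⊆ U from Finset.subset_biUnion_of_mem id hC)
  refine ⟨𝓒 ∪ 𝓑, ?_, ?_, ?_, ?_, ?_⟩
  · intro B hB
    rcases Finset.mem_union.1 hB with h | h
    exacts [(hC1 B h).1, h1 B h]
  · intro B hB
    rcases Finset.mem_union.1 hB with h | h
    exacts [Finset.mem_union_left _ (hC2 B h), Finset.mem_union_right _ (h2 B h)]
  · intro B hB
    rcases Finset.mem_union.1 hB with h | h
    exacts [(hC1 B h).2, (h3 B h).trans Finset.sdiff_subset]
  · intro B hB B' hB' hne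
    rcases Finset.mem_union.1 hB with h | h <;> rcases Finset.mem_union.1 hB' with h' | h'
    exacts [hC3 B h B' h' hne, (hsep B' h' B h).symm, hsep B h B' h', h4 B h B' h' hne]
  · intro i hi
    by_cases hiU : i ∈ U
    · obtain ⟨B, hB, hiB⟩ := Finset.mem_biUnion.1 hiU
      exact ⟨B, Finset.mem_union_left _ hB, hiB⟩
    · obtain ⟨B, hB, hiB⟩ := h5 i (Finset.mem_sdiff.2 ⟨hi, hiU⟩)
      exact ⟨B, Finset.mem_union_right _ hB, hiB⟩

variable {F V : Type*} [Field F] [AddCommGroup V] [Module F V] [FiniteDimensional F V]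

/-- An element squaring to a nonzero scalar permutes a basis up to scalars. -/
theorem exists_monomial_basis (A : V →ₗ[F] V) {z : F} (hz : z ≠ 0) (hA : ∀ v, A (A v) = z • v) :
    ∃ (ι : Type) (_ : Fintype ι) (b : Basis ι F V) (π : ι → ι) (μ : ι → F),
      Function.Involutive π ∧ ∀ i, A (b i) = μ i • b (π i) := by
  classical
  by_cases hz2 : ∃ l : F, z = l ^ 2
  · obtain ⟨l, rfl⟩ := hz2
    have hl : l ≠ 0 := fun h => hz (by rw [h, zero_pow two_ne_zero])
    set N : V →ₗ[F] V := A - l • LinearMap.id with hN
    have hAN : ∀ v, A v = l • v + N v := fun v => by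
      simp [hN]
    by_cases h2 : (2 : F) = 0
    · haveI : CharP F 2 := CharTwo.of_one_ne_zero_of_two_eq_zero one_ne_zero h2
      have hNN : ∀ v, N (N v) = 0 := fun v => by
        simp only [hN, LinearMap.sub_apply, LinearMap.smul_apply, LinearMap.id_apply, map_sub, map_smul, hA,
          smul_sub, smul_smul]
        linear_combination (norm := module) h2 • ((l * l) • v - l • A v)
      obtain ⟨U, hU⟩ := Submodule.exists_isCompl (LinearMap.ker N)
      have hNU : U.map N ≤ LinearMap.ker N := by
        rintro _ ⟨v, _, rfl⟩; exact hNN v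
      obtain ⟨C, hC1, hC2, hC3⟩ : ∃ C : Submodule F V, C ≤ LinearMap.ker N ∧
          U.map N ⊓ C = ⊥ ∧ U.map N ⊔ C = LinearMap.ker N := by
        obtain ⟨C, hC⟩ := Submodule.exists_isCompl (U.map N)
        refine ⟨C ⊓ LinearMap.ker N, inf_le_right, ?_, ?_⟩
        · exact le_bot_iff.1 ((inf_le_inf_left _ inf_le_left).trans hC.inf_eq_bot.le)
        · rw [← sup_inf_assoc_of_le C hNU, hC.sup_eq_top, top_inf_eq]
      let Φ : (U × U) × C →ₗ[F] V :=
        (U.subtype.coprod (A ∘ₗ U.subtype)).coprod C.subtype
      have hΦ : ∀ u u' c, Φ ((u, u'), c) = ((u : V) + l • (u' : V)) + (N u' + (c : V)) := fun u u' c => by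
        show (u : V) + A u' + c = _
        rw [hAN]; abel
      have hinj : Function.Injective Φ := by
        rw [injective_iff_map_eq_zero]
        rintro ⟨⟨u, u'⟩, c⟩ h
        rw [hΦ] at h
        have hk : N u' + (c : V) ∈ LinearMap.ker N :=
          add_mem (hNU ⟨u', u'.2, rfl⟩) (hC1 c.2)
        have hu : (u : V) + l • (u' : V) ∈ U := add_mem u.2 (U.smul_mem _ u'.2)
        have h0 : (u : V) + l • (u' : V) = 0 :=
          Submodule.disjoint_def.1 hU.disjoint _
            (by rw [eq_neg_of_add_eq_zero_left h]; exact neg_mem hk) hu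
        rw [h0, zero_add] at h
        have h1 : N u' = 0 := by
          have : N u' ∈ U.map N ⊓ C :=
            ⟨⟨u', u'.2, rfl⟩, by rw [eq_neg_of_add_eq_zero_left h]; exact neg_mem c.2⟩
          rwa [hC2, Submodule.mem_bot] at this
        have hu' : (u' : V) = 0 := Submodule.disjoint_def.1 hU.disjoint _ h1 u'.2
        rw [h1, zero_add] at h
        rw [hu', smul_zero, add_zero] at h0
        exact Prod.ext (Prod.ext (Subtype.ext h0) (Subtype.ext hu')) (Subtype.ext h)
      have hsurj : Function.Surjective Φ := by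
        intro v
        obtain ⟨k, hk, u₀, hu₀, rfl⟩ := Submodule.mem_sup.1
          (show v ∈ LinearMap.ker N ⊔ U by rw [hU.sup_eq_top]; trivial)
        rw [← hC3] at hk
        obtain ⟨_, ⟨u', hu', rfl⟩, c, hc, rfl⟩ := Submodule.mem_sup.1 hk
        refine ⟨((⟨u₀ - l • u', sub_mem hu₀ (U.smul_mem _ hu')⟩, ⟨u', hu'⟩), ⟨c, hc⟩), ?_⟩
        rw [hΦ]
        show u₀ - l • u' + l • u' + (N u' + c) = _
        abel
      let b₀ := finBasis F U
      let b₁ := finBasis F C
      let b := ((b₀.prod b₀).prod b₁).map (LinearEquiv.ofBijective Φ ⟨hinj, hsurj⟩)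
      refine ⟨(Fin (finrank F U) ⊕ Fin (finrank F U)) ⊕ Fin (finrank F C), inferInstance, b,
        Sum.map Sum.swap id, Sum.elim (Sum.elim (fun _ => 1) (fun _ => l ^ 2)) (fun _ => l), ?_, ?_⟩
      · rintro ((i | i) | i) <;> rfl
      · have hbv : ∀ k, b k = Φ ((b₀.prod b₀).prod b₁ k) := fun _ => rfl
        rintro ((i | i) | i)
        · simp [hbv, Φ, Basis.prod_apply]
        · simp [hbv, Φ, Basis.prod_apply, hA]
        · simp only [hbv, Φ, Basis.prod_apply, Sum.map_inr, Sum.elim_inr, id]
          simp [hAN, show N (b₁ i : V) = 0 from hC1 (b₁ i).2]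
    · set K₁ := LinearMap.ker N
      set K₂ := LinearMap.ker (A + l • LinearMap.id)
      have hK : IsCompl K₁ K₂ := by
        refine IsCompl.of_eq ?_ ?_
        · rw [Submodule.eq_bot_iff]
          rintro v ⟨h1, h3⟩
          simp only [K₁, K₂, hN, SetLike.mem_coe, LinearMap.mem_ker, LinearMap.sub_apply, LinearMap.add_apply,
            LinearMap.smul_apply, LinearMap.id_apply] at h1 h3
          have : (2 * l) • v = 0 := by linear_combination (norm := module) h3 - h1
          exact (smul_eq_zero.1 this).resolve_left (mul_ne_zero h2 hl)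
        · rw [eq_top_iff]
          intro v _
          have h2l : (2 * l) ≠ 0 := mul_ne_zero h2 hl
          refine Submodule.mem_sup.2 ⟨(2 * l)⁻¹ • (l • v + A v), ?_, (2 * l)⁻¹ • (l • v - A v), ?_, ?_⟩
          · simp only [K₁, hN, LinearMap.mem_ker, LinearMap.sub_apply, LinearMap.smul_apply,
              LinearMap.id_apply, map_smul, map_add, hA]
            module
          · simp only [K₂, LinearMap.mem_ker, LinearMap.add_apply, LinearMap.smul_apply,
              LinearMap.id_apply, map_smul, map_sub, hA]
            module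
          · rw [← smul_add, show l • v + A v + (l • v - A v) = (2 * l) • v by module, smul_smul,
              inv_mul_cancel₀ h2l, one_smul]
      let b := ((finBasis F K₁).prod (finBasis F K₂)).map (Submodule.prodEquivOfIsCompl K₁ K₂ hK)
      refine ⟨_, inferInstance, b, id, Sum.elim (fun _ => l) (fun _ => -l), fun _ => rfl, ?_⟩
      rintro (i | i)
      · have h := (finBasis F K₁ i).2
        simp only [K₁, hN, LinearMap.mem_ker, LinearMap.sub_apply, LinearMap.smul_apply,
          LinearMap.id_apply, sub_eq_zero] at h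
        simpa [b, Basis.prod_apply] using h
      · have h := (finBasis F K₂ i).2
        simp only [K₂, LinearMap.mem_ker, LinearMap.add_apply, LinearMap.smul_apply,
          LinearMap.id_apply, ← eq_neg_iff_add_eq_zero] at h
        simpa [b, Basis.prod_apply, neg_smul] using h
  · -- `z` is a nonsquare
    obtain ⟨U, hUd, hUmax⟩ : ∃ U : Submodule F V, Disjoint U (U.map A) ∧
        ∀ U' : Submodule F V, Disjoint U' (U'.map A) → finrank F U' ≤ finrank F U := by
      let P : ℕ → Prop := fun d => ∃ U : Submodule F V, Disjoint U (U.map A) ∧ finrank F U = d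
      have hP0 : P 0 := ⟨⊥, disjoint_bot_left, finrank_bot F V⟩
      have hb : ∀ d, P d → d ≤ finrank F V := fun d ⟨U, _, hU⟩ => hU ▸ Submodule.finrank_le U
      have hspec := Nat.findGreatest_spec (P := P) (Nat.zero_le (finrank F V)) hP0
      obtain ⟨U, hU1, hU2⟩ := hspec
      exact ⟨U, hU1, fun U' h => hU2 ▸ Nat.le_findGreatest (hb _ ⟨U', h, rfl⟩) ⟨U', h, rfl⟩⟩
    set W := U ⊔ U.map A with hW
    have hWA : ∀ w ∈ W, A w ∈ W := by
      intro w hw
      obtain ⟨u, hu, _, ⟨u', hu', rfl⟩, rfl⟩ := Submodule.mem_sup.1 hw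
      rw [map_add, hA]
      exact add_mem (Submodule.mem_sup_right ⟨u, hu, rfl⟩) (Submodule.mem_sup_left (U.smul_mem _ hu'))
    have hAinj : Function.Injective A := fun v w h => by
      have := congrArg A h
      rw [hA, hA] at this
      exact smul_right_injective V hz this
    have htop : W = ⊤ := by
      by_contra hne
      obtain ⟨v, -, hv⟩ := SetLike.exists_of_lt (lt_top_iff_ne_top.2 hne)
      have hkey : ∀ c d : F, c • v - d • A v ∈ W → c = 0 ∧ d = 0 := by
        intro c d h
        by_cases hd : d = 0
        · rw [hd, zero_smul, sub_zero] at h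
          exact ⟨by_contra fun hc => hv ((W.smul_mem_iff hc).1 h), hd⟩
        · exfalso
          have h1 : A v - (c / d) • v ∈ W := by
            have := W.smul_mem (-d⁻¹) h
            convert this using 1
            rw [smul_sub, smul_smul, smul_smul, neg_mul, neg_mul, inv_mul_cancel₀ hd, neg_smul, neg_smul,
              one_smul, div_eq_inv_mul]
            abel
          have h3 : (z - (c / d) ^ 2) • v ∈ W := by
            have := add_mem (hWA _ h1) (W.smul_mem (c / d) h1)
            convert this using 1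
            rw [map_sub, map_smul, hA]
            module
          have hne2 : z - (c / d) ^ 2 ≠ 0 := fun e => hz2 ⟨c / d, sub_eq_zero.1 e⟩
          exact hv ((W.smul_mem_iff hne2).1 h3)
      have hdis : Disjoint (U ⊔ F ∙ v) ((U ⊔ F ∙ v).map A) := by
        rw [Submodule.disjoint_def]
        intro y hy hy'
        obtain ⟨u, hu, w, hw, rfl⟩ := Submodule.mem_sup.1 hy
        obtain ⟨c, rfl⟩ := Submodule.mem_span_singleton.1 hw
        obtain ⟨y', hy'', he⟩ := hy'
        obtain ⟨u', hu', w', hw', rfl⟩ := Submodule.mem_sup.1 hy''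
        obtain ⟨d, rfl⟩ := Submodule.mem_span_singleton.1 hw'
        rw [map_add, map_smul] at he
        obtain ⟨hc, hd⟩ := hkey c d (by
          rw [show c • v - d • A v = A u' - u by linear_combination (norm := module) -he]
          exact sub_mem (Submodule.mem_sup_right ⟨u', hu', rfl⟩) (Submodule.mem_sup_left hu))
        rw [hc, hd, zero_smul, zero_smul, add_zero, add_zero] at he
        rw [hc, zero_smul, add_zero]
        exact Submodule.disjoint_def.1 hUd u hu ⟨u', hu', he⟩
      have hle := hUmax _ hdis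
      have hlt : U < U ⊔ F ∙ v := left_lt_sup.2 fun h =>
        hv (Submodule.mem_sup_left (h (Submodule.mem_span_singleton_self v)))
      have := Submodule.finrank_lt_finrank_of_lt hlt
      omega
    let Φ : U × U →ₗ[F] V := U.subtype.coprod (A ∘ₗ U.subtype)
    have hinj : Function.Injective Φ := by
      rw [injective_iff_map_eq_zero]
      rintro ⟨u, u'⟩ h
      change (u : V) + A u' = 0 at h
      have h1 : (u : V) = 0 := Submodule.disjoint_def.1 hUd _ u.2
        (by rw [eq_neg_of_add_eq_zero_left h]; exact neg_mem ⟨u', u'.2, rfl⟩)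
      rw [h1, zero_add] at h
      exact Prod.ext (Subtype.ext h1) (Subtype.ext (hAinj (h.trans (map_zero A).symm)))
    have hsurj : Function.Surjective Φ := by
      intro v
      obtain ⟨u, hu, _, ⟨u', hu', rfl⟩, rfl⟩ := Submodule.mem_sup.1 (htop ▸ Submodule.mem_top : v ∈ W)
      exact ⟨(⟨u, hu⟩, ⟨u', hu'⟩), rfl⟩
    let b := ((finBasis F U).prod (finBasis F U)).map (LinearEquiv.ofBijective Φ ⟨hinj, hsurj⟩)
    refine ⟨_, inferInstance, b, Sum.swap, Sum.elim (fun _ => 1) (fun _ => z), Sum.swap_swap, ?_⟩
    have hbv : ∀ k, b k = Φ ((finBasis F U).prod (finBasis F U) k) := fun _ => rfl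
    rintro (i | i)
    · simp [hbv, Φ, Basis.prod_apply]
    · simp [hbv, Φ, Basis.prod_apply, hA]

end Cfsg.Agent.Elusive
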