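import Mathlib

/-!
Invariant subspaces of linear maps some prime power of which is a nonzero scalar.
-/

set_option autoImplicit false
set_option linter.style.haveILetI false

namespace Cfsg.Agent.Elusive

open Module Polynomial

variable {F V : Type*} [Field F] [AddCommGroup V] [Module F V] [FiniteDimensional F V]

/-- Maschke's averaging for a cyclic group of order invertible in the field, up to scalars. -/
theorem exists_invariant_compl (A : Module.End F V) {r : ℕ} (hr : (r : F) ≠ 0) {c : F} (hc : c ≠ 0)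
    (hA : A ^ r = c • (1 : Module.End F V)) {U : Submodule F V} (hU : U.map A ≤ U) :
    ∃ C : Submodule F V, IsCompl U C ∧ C.map A ≤ C := by
  classical
  obtain ⟨C₀, hC₀⟩ := Submodule.exists_isCompl U
  set P₀ : Module.End F V := U.subtype ∘ₗ U.projectionOnto C₀ hC₀ with hP₀
  have hP₀U : ∀ u ∈ U, P₀ u = u := fun u hu => by
    rw [hP₀, LinearMap.comp_apply, show u = ((⟨u, hu⟩ : U) : V) from rfl,
      Submodule.projectionOnto_apply_left]
    rfl
  have hP₀mem : ∀ v, P₀ v ∈ U := fun v => (U.projectionOnto C₀ hC₀ v).2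
  have hpowU : ∀ (l : ℕ), ∀ u ∈ U, (A ^ l) u ∈ U := by
    intro l
    induction l with
    | zero => intro u hu; exact hu
    | succ l ih =>
      intro u hu
      rw [pow_succ', Module.End.mul_apply]
      exact hU ⟨_, ih u hu, rfl⟩
  set g : ℕ → Module.End F V := fun l => A ^ l * P₀ * A ^ (r + 1 - l) with hg
  set S : Module.End F V := ∑ l ∈ Finset.range r, A ^ l * P₀ * A ^ (r - l) with hS
  have hAS : A * S = S * A := by
    have h1 : A * S = ∑ l ∈ Finset.range r, g (l + 1) := by
      rw [hS, Finset.mul_sum]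
      refine Finset.sum_congr rfl fun l hl => ?_
      rw [hg]
      simp only [Nat.add_sub_add_right, pow_succ', mul_assoc]
    have h2 : S * A = ∑ l ∈ Finset.range r, g l := by
      rw [hS, Finset.sum_mul]
      refine Finset.sum_congr rfl fun l hl => ?_
      have : l < r := Finset.mem_range.1 hl
      rw [hg]
      simp only [show r + 1 - l = r - l + 1 by omega, pow_succ, mul_assoc]
    have h3 := (Finset.sum_range_succ' g r).symm.trans (Finset.sum_range_succ g r)
    have h4 : g 0 = g r := by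
      simp only [hg, pow_zero, one_mul, Nat.sub_zero, pow_succ, hA, show r + 1 - r = 1 by omega,
        Algebra.smul_mul_assoc, one_mul, Algebra.mul_smul_comm, pow_one]
    rw [h1, h2]
    rw [h4] at h3
    exact add_right_cancel h3
  set d : F := ((r : F) * c)⁻¹
  let P : Module.End F V := d • S
  have hSmem : ∀ v, S v ∈ U := fun v => by
    rw [hS, LinearMap.sum_apply]
    exact U.sum_mem fun l _ => hpowU l _ (hP₀mem _)
  have hPU : ∀ u ∈ U, P u = u := fun u hu => by
    show d • S u = u
    rw [hS, LinearMap.sum_apply, Finset.sum_congr rfl fun l hl => show _ = c • u by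
      rw [Module.End.mul_apply, Module.End.mul_apply, hP₀U _ (hpowU _ u hu), ← Module.End.mul_apply,
        ← pow_add, Nat.add_sub_cancel' (Finset.mem_range.1 hl).le, hA]
      rfl,
      Finset.sum_const, Finset.card_range, ← Nat.cast_smul_eq_nsmul F, smul_smul, smul_smul,
      mul_assoc, inv_mul_cancel₀ (mul_ne_zero hr hc), one_smul]
  let P' : V →ₗ[F] U := P.codRestrict U fun v => U.smul_mem d (hSmem v)
  refine ⟨LinearMap.ker P', LinearMap.isCompl_of_proj fun x => Subtype.ext (hPU x x.2), ?_⟩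
  rintro _ ⟨v, hv, rfl⟩
  have hv' : d • S v = 0 := congrArg Subtype.val (LinearMap.mem_ker.1 hv)
  refine LinearMap.mem_ker.2 (Subtype.ext ?_)
  show d • S (A v) = 0
  rw [← Module.End.mul_apply, ← hAS, Module.End.mul_apply, ← map_smul, hv', map_zero]

/-- The intersection of invariant subspaces is invariant. -/
theorem invariant_inf {A : Module.End F V} {U W : Submodule F V} (hU : U.map A ≤ U) (hW : W.map A ≤ W) :
    (U ⊓ W).map A ≤ U ⊓ W :=
  le_inf ((Submodule.map_mono inf_le_left).trans hU) ((Submodule.map_mono inf_le_right).trans hW)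

/-- The join of invariant subspaces is invariant. -/
theorem invariant_sup {A : Module.End F V} {U W : Submodule F V} (hU : U.map A ≤ U) (hW : W.map A ≤ W) :
    (U ⊔ W).map A ≤ U ⊔ W := by
  rw [Submodule.map_sup]
  exact sup_le_sup hU hW

/-- An invariant complement inside an invariant subspace. -/
theorem exists_invariant_compl_in (A : Module.End F V) {r : ℕ} (hr : (r : F) ≠ 0) {c : F} (hc : c ≠ 0)
    (hA : A ^ r = c • (1 : Module.End F V)) {U X : Submodule F V} (hU : U.map A ≤ U) (hX : X.map A ≤ X)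
    (hUX : U ≤ X) :
    ∃ W : Submodule F V, W ≤ X ∧ W.map A ≤ W ∧ U ⊔ W = X ∧ U ⊓ W = ⊥ ∧
      finrank F U + finrank F W = finrank F X := by
  obtain ⟨C, hC, hCi⟩ := exists_invariant_compl A hr hc hA hU
  have h1 : U ⊔ C ⊓ X = X := by rw [← sup_inf_assoc_of_le C hUX, hC.sup_eq_top, top_inf_eq]
  have h2 : U ⊓ (C ⊓ X) = ⊥ := by rw [← inf_assoc, hC.inf_eq_bot, bot_inf_eq]
  refine ⟨C ⊓ X, inf_le_right, invariant_inf hCi hX, h1, h2, ?_⟩
  have := Submodule.finrank_sup_add_finrank_inf_eq U (C ⊓ X)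
  rw [h1, h2, finrank_bot] at this
  omega

/-- Adding small invariant subspaces one at a time. -/
theorem exists_invariant_multiple (A : Module.End F V) {r : ℕ} (hr : (r : F) ≠ 0) {c : F} (hc : c ≠ 0)
    (hA : A ^ r = c • (1 : Module.End F V)) {i : ℕ} {X : Submodule F V} (hX : X.map A ≤ X) (hi : 0 < i)
    (hmin : ∀ W : Submodule F V, W ≤ X → W.map A ≤ W → W ≠ ⊥ →
      ∃ S : Submodule F V, S ≤ W ∧ S.map A ≤ S ∧ finrank F S = i) :
    ∀ j : ℕ, j * i ≤ finrank F X → ∃ U : Submodule F V, U ≤ X ∧ U.map A ≤ U ∧ finrank F U = j * i := by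
  intro j
  induction j with
  | zero => exact fun _ => ⟨⊥, bot_le, by simp, by simp⟩
  | succ j ih =>
    intro hj
    rw [Nat.succ_mul] at hj
    obtain ⟨U, hUX, hUi, hUd⟩ := ih (by omega)
    obtain ⟨W, hWX, hWi, -, hUW, hd⟩ := exists_invariant_compl_in A hr hc hA hUi hX hUX
    have hW : W ≠ ⊥ := fun h => by rw [h, finrank_bot] at hd; omega
    obtain ⟨S, hSW, hSi, hSd⟩ := hmin W hWX hWi hW
    refine ⟨U ⊔ S, sup_le hUX (hSW.trans hWX), invariant_sup hUi hSi, ?_⟩
    have := Submodule.finrank_sup_add_finrank_inf_eq U S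
    rw [le_bot_iff.1 ((inf_le_inf_left U hSW).trans hUW.le), finrank_bot] at this
    rw [Nat.succ_mul]
    omega

/-- The space of fixed vectors. -/
def fixedSpace (B : Module.End F V) : Submodule F V := LinearMap.ker (B - 1)

theorem mem_fixedSpace {B : Module.End F V} {v : V} : v ∈ fixedSpace B ↔ B v = v := by
  rw [fixedSpace, LinearMap.mem_ker, LinearMap.sub_apply, sub_eq_zero, Module.End.one_apply]

theorem fixedSpace_invariant (B : Module.End F V) : (fixedSpace B).map B ≤ fixedSpace B := by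
  rintro _ ⟨v, hv, rfl⟩
  rw [mem_fixedSpace, mem_fixedSpace.1 hv]
  exact mem_fixedSpace.1 hv

theorem finrank_inf_fixedSpace_add {B : Module.End F V} {X U W : Submodule F V} (hU : U.map B ≤ U)
    (hW : W.map B ≤ W) (hX : U ⊔ W = X) (hUW : U ⊓ W = ⊥) :
    finrank F ↥(U ⊓ fixedSpace B) + finrank F ↥(W ⊓ fixedSpace B) = finrank F ↥(X ⊓ fixedSpace B) := by
  have h1 : U ⊓ fixedSpace B ⊔ W ⊓ fixedSpace B = X ⊓ fixedSpace B := by
    refine le_antisymm (sup_le (inf_le_inf_right _ (hX ▸ le_sup_left))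
      (inf_le_inf_right _ (hX ▸ le_sup_right))) ?_
    rintro v ⟨hv, hvf⟩
    rw [SetLike.mem_coe, ← hX] at hv
    obtain ⟨u, hu, w, hw, rfl⟩ := Submodule.mem_sup.1 hv
    have h := mem_fixedSpace.1 hvf
    rw [map_add] at h
    have h2 : B u - u = -(B w - w) := by linear_combination (norm := module) h
    have h3 : B u - u ∈ U ⊓ W :=
      ⟨U.sub_mem (hU ⟨u, hu, rfl⟩) hu, by rw [h2]; exact W.neg_mem (W.sub_mem (hW ⟨w, hw, rfl⟩) hw)⟩
    rw [hUW, Submodule.mem_bot] at h3
    have h4 : B w - w = 0 := by rw [← neg_eq_zero, ← h2, h3]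
    exact Submodule.add_mem_sup ⟨hu, mem_fixedSpace.2 (sub_eq_zero.1 h3)⟩
      ⟨hw, mem_fixedSpace.2 (sub_eq_zero.1 h4)⟩
  have h2 : U ⊓ fixedSpace B ⊓ (W ⊓ fixedSpace B) = ⊥ :=
    le_bot_iff.1 ((inf_le_inf inf_le_left inf_le_left).trans hUW.le)
  have := Submodule.finrank_sup_add_finrank_inf_eq (U ⊓ fixedSpace B) (W ⊓ fixedSpace B)
  rw [h1, h2, finrank_bot] at this
  omega

section Finite

variable [Fintype F] {r : ℕ} [Fact r.Prime]

/-- The dimension of a fixed-point-free invariant subspace. -/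
theorem orderOf_dvd_finrank {B : Module.End F V} (hB : B ^ r = 1) {U : Submodule F V} (hU : U.map B ≤ U)
    (hfree : ∀ v ∈ U, B v = v → v = 0) : orderOf (Fintype.card F : ZMod r) ∣ finrank F U := by
  classical
  haveI : Finite V := Module.finite_of_finite F
  haveI := Fintype.ofFinite U
  have hmem : ∀ u : U, B u ∈ U := fun u => hU ⟨u, u.2, rfl⟩
  let f : U → U := fun u => ⟨B u, hmem u⟩
  have hit : ∀ (l : ℕ) (u : U), ((f^[l] u : U) : V) = (B ^ l) u := by
    intro l
    induction l with
    | zero => intro u; rfl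
    | succ l ih =>
      intro u
      rw [Function.iterate_succ_apply', pow_succ', Module.End.mul_apply, ← ih]
  have hfr : f^[r] = id := funext fun u => Subtype.ext (by rw [hit, hB]; rfl)
  let f' : Function.End U := f
  have hit' : ∀ l : ℕ, f' ^ l = f^[l] := by
    intro l
    induction l with
    | zero => rfl
    | succ l ih => rw [pow_succ', ih, Function.iterate_succ']; rfl
  have hpow : f' ^ r ^ 1 = 1 := by rw [pow_one, hit', hfr]; rfl
  have hmod := Equiv.Perm.card_fixedPoints_modEq (p := r) (n := 1) (f := f') hpow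
  have hfix : Fintype.card (Function.fixedPoints f') = 1 := by
    rw [Fintype.card_eq_one_iff]
    refine ⟨⟨0, Subtype.ext ?_⟩, fun u => Subtype.ext (Subtype.ext ?_)⟩
    · show B ((0 : U) : V) = _
      simp
    · exact hfree _ u.1.2 (congrArg Subtype.val u.2)
  refine orderOf_dvd_of_pow_eq_one ?_
  have h1 := (ZMod.natCast_eq_natCast_iff _ _ r).2 hmod
  rw [hfix, Module.card_eq_pow_finrank (K := F) (V := U)] at h1
  simpa using h1

omit [Fintype F] [Fact r.Prime] in
/-- A domain in which every element satisfies `y ^ N = y` has at most `N` elements. -/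
theorem card_le_of_forall_pow_eq {R : Type*} [CommRing R] [IsDomain R] {N : ℕ} (hN : 1 < N)
    (h : ∀ y : R, y ^ N = y) : Finite R ∧ Nat.card R ≤ N := by
  classical
  let Q : R[X] := X ^ N - X
  have hQd : Q.natDegree = N := by
    rw [natDegree_sub_eq_left_of_natDegree_lt (by rw [natDegree_X, natDegree_X_pow]; exact hN), natDegree_X_pow]
  have hQ0 : Q ≠ 0 := fun e => by rw [e, natDegree_zero] at hQd; omega
  letI : Fintype R := ⟨Q.roots.toFinset, fun y => by
    rw [Multiset.mem_toFinset, mem_roots hQ0]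
    simp [Q, h y]⟩
  refine ⟨inferInstance, ?_⟩
  rw [Nat.card_eq_fintype_card]
  exact ((Multiset.toFinset_card_le _).trans (card_roots' Q)).trans hQd.le

/-- A linear map of order dividing `r` without proper invariant subspaces lives in dimension at
most `ord_r q`. -/
theorem finrank_le_of_simple {B : Module.End F V} (hB : B ^ r = 1)
    (hrq : (Fintype.card F : ZMod r) ≠ 0)
    (hsimple : ∀ T : Submodule F V, T.map B ≤ T → T ≠ ⊥ → T = ⊤) :
    finrank F V ≤ orderOf (Fintype.card F : ZMod r) := by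
  classical
  rcases subsingleton_or_nontrivial V with h0 | h0
  · rw [Module.finrank_zero_of_subsingleton]; exact Nat.zero_le _
  obtain ⟨v₀, hv₀⟩ := exists_ne (0 : V)
  have hcomm : ∀ f : F[X], aeval B f * B = B * aeval B f := by
    intro f
    conv_lhs => arg 2; rw [← aeval_X (R := F) B]
    conv_rhs => arg 1; rw [← aeval_X (R := F) B]
    rw [← map_mul, ← map_mul, mul_comm]
  have hzero : ∀ (f : F[X]) (v : V), v ≠ 0 → aeval B f v = 0 → aeval B f = 0 := by
    intro f v hv hfv
    have hinv : (LinearMap.ker (aeval B f)).map B ≤ LinearMap.ker (aeval B f) := by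
      rintro _ ⟨w, hw, rfl⟩
      rw [LinearMap.mem_ker, ← Module.End.mul_apply, hcomm, Module.End.mul_apply,
        LinearMap.mem_ker.1 hw, map_zero]
    have hne : LinearMap.ker (aeval B f) ≠ ⊥ := fun h => hv (by
      have : v ∈ LinearMap.ker (aeval B f) := LinearMap.mem_ker.2 hfv
      rwa [h, Submodule.mem_bot] at this)
    exact LinearMap.ker_eq_top.1 (hsimple _ hinv hne)
  let I : Ideal F[X] := RingHom.ker (aeval B : F[X] →ₐ[F] Module.End F V)
  have hmem : ∀ f, f ∈ I ↔ aeval B f = 0 := fun f => RingHom.mem_ker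
  haveI : I.IsPrime := by
    refine ⟨fun h => hv₀ ?_, fun {f g} h => ?_⟩
    · have h1 : (1 : F[X]) ∈ I := h ▸ Submodule.mem_top
      rw [hmem, map_one] at h1
      exact LinearMap.congr_fun h1 v₀
    · rw [hmem, map_mul] at h
      rw [hmem, hmem]
      by_cases hg : aeval B g = 0
      · exact Or.inr hg
      · obtain ⟨v, hv⟩ : ∃ v, aeval B g v ≠ 0 := by
          by_contra h'
          push Not at h'
          exact hg (LinearMap.ext h')
        exact Or.inl (hzero f _ hv (LinearMap.congr_fun h v))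
  set q := Fintype.card F
  set i := orderOf (q : ZMod r) with hi
  have hfrob : ∀ (l : ℕ) (f : F[X]), aeval B (f ^ q ^ l) = aeval (B ^ q ^ l) f := by
    intro l
    induction l with
    | zero => intro f; simp
    | succ l ih =>
      intro f
      rw [pow_succ', pow_mul, ← FiniteField.expand_card, ih, expand_aeval, ← pow_mul, mul_comm]
  have hBq : B ^ q ^ i = B := by
    have h1 : ((q ^ i : ℕ) : ZMod r) = ((1 : ℕ) : ZMod r) := by
      rw [Nat.cast_pow, Nat.cast_one, hi, pow_orderOf_eq_one]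
    have h2 : q ^ i % r = 1 := by
      rw [(ZMod.natCast_eq_natCast_iff _ _ r).1 h1, Nat.one_mod_eq_one]
      exact (Fact.out : r.Prime).ne_one
    rw [← Nat.div_add_mod (q ^ i) r, h2, pow_succ, pow_mul, hB, one_pow, one_mul]
  have hall : ∀ y : F[X] ⧸ I, y ^ q ^ i = y := by
    intro y
    obtain ⟨f, rfl⟩ := Ideal.Quotient.mk_surjective y
    rw [← map_pow, Ideal.Quotient.eq, hmem, map_sub, hfrob, hBq, sub_self]
  have hipos : 0 < i := by
    rw [hi, orderOf_pos_iff]
    exact (isUnit_iff_ne_zero.2 hrq).isOfFinOrder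
  have hqi : 1 < q ^ i := Nat.one_lt_pow hipos.ne' Fintype.one_lt_card
  obtain ⟨hfin, hcard⟩ := card_le_of_forall_pow_eq (R := F[X] ⧸ I) hqi hall
  let L : F[X] →ₗ[F] V := (LinearMap.applyₗ v₀).comp (aeval B).toLinearMap
  have hL : LinearMap.range L = ⊤ := by
    refine hsimple _ ?_ fun h => hv₀ ?_
    · rintro _ ⟨_, ⟨f, rfl⟩, rfl⟩
      refine ⟨X * f, ?_⟩
      show aeval B (X * f) v₀ = B (aeval B f v₀)
      rw [map_mul, aeval_X]
      rfl
    · have h1 : L 1 ∈ LinearMap.range L := ⟨1, rfl⟩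
      rw [h, Submodule.mem_bot] at h1
      simpa [L] using h1
  haveI : Finite V := Module.finite_of_finite F
  haveI := Fintype.ofFinite V
  choose sec hsec using fun v => LinearMap.range_eq_top.1 hL v
  have h3 : Nat.card V ≤ Nat.card (F[X] ⧸ I) := by
    refine Nat.card_le_card_of_injective (fun v => Ideal.Quotient.mk I (sec v)) fun v w h => ?_
    have h4 := (hmem _).1 (Ideal.Quotient.eq.1 h)
    rw [map_sub, sub_eq_zero] at h4
    rw [← hsec v, ← hsec w]
    exact LinearMap.congr_fun h4 v₀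
  rw [Nat.card_eq_fintype_card (α := V), Module.card_eq_pow_finrank (K := F) (V := V)] at h3
  exact (Nat.pow_le_pow_iff_right Fintype.one_lt_card).1 (h3.trans hcard)

/-- Fixed-point-free invariant subspaces contain invariant subspaces of dimension `ord_r q`. -/
theorem exists_invariant_orderOf {B : Module.End F V} (hB : B ^ r = 1) (hrF : (Fintype.card F : ZMod r) ≠ 0)
    {U : Submodule F V} (hU : U.map B ≤ U) (hne : U ≠ ⊥) (hfree : ∀ v ∈ U, B v = v → v = 0) :
    ∃ S : Submodule F V, S ≤ U ∧ S.map B ≤ S ∧ finrank F S = orderOf (Fintype.card F : ZMod r) := by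
  classical
  obtain ⟨S, ⟨hSU, hSi, hSne⟩, hSmin⟩ : ∃ S : Submodule F V, (S ≤ U ∧ S.map B ≤ S ∧ S ≠ ⊥) ∧
      ∀ T : Submodule F V, T ≤ U ∧ T.map B ≤ T ∧ T ≠ ⊥ → finrank F S ≤ finrank F T := by
    let P : ℕ → Prop := fun d => ∃ T : Submodule F V, (T ≤ U ∧ T.map B ≤ T ∧ T ≠ ⊥) ∧ finrank F T = d
    have hP : ∃ d, P d := ⟨_, U, ⟨le_rfl, hU, hne⟩, rfl⟩
    obtain ⟨S, hS, hSd⟩ := Nat.find_spec hP
    exact ⟨S, hS, fun T hT => hSd ▸ Nat.find_min' hP ⟨T, hT, rfl⟩⟩
  refine ⟨S, hSU, hSi, le_antisymm ?_ (Nat.le_of_dvd ?_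
    (orderOf_dvd_finrank hB hSi fun v hv => hfree v (hSU hv)))⟩
  swap
  · exact Nat.pos_of_ne_zero fun h => hSne (Submodule.finrank_eq_zero.1 h)
  let B' : Module.End F S := B.restrict fun v hv => hSi ⟨v, hv, rfl⟩
  have hB' : B' ^ r = 1 := by
    refine LinearMap.ext fun v => Subtype.ext ?_
    rw [Module.End.pow_restrict r]
    show (B ^ r) v = v
    rw [hB]; rfl
  refine finrank_le_of_simple hB' hrF fun T hT hTne => ?_
  have hle : T.map S.subtype ≤ S := fun _ ⟨w, _, e⟩ => e ▸ w.2
  have hTi : (T.map S.subtype).map B ≤ T.map S.subtype := by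
    rintro _ ⟨_, ⟨w, hw, rfl⟩, rfl⟩
    exact ⟨B' w, hT ⟨w, hw, rfl⟩, rfl⟩
  have hd := hSmin _ ⟨hle.trans hSU, hTi, fun h =>
    hTne (Submodule.map_injective_of_injective S.subtype_injective (h.trans (Submodule.map_bot _).symm))⟩
  rw [Submodule.finrank_map_subtype_eq] at hd
  exact Submodule.eq_top_of_finrank_eq (le_antisymm (Submodule.finrank_le T) hd)

/-- Invariant subspaces of a given dimension, for a map of prime order. -/
theorem exists_invariant_dim {B : Module.End F V} (hB : B ^ r = 1) (hrF : (r : F) ≠ 0)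
    (hrq : (Fintype.card F : ZMod r) ≠ 0) {X : Submodule F V} (hX : X.map B ≤ X) {m : ℕ}
    (hm : m ≤ finrank F X)
    (hmod : m % orderOf (Fintype.card F : ZMod r) ≤ finrank F ↥(X ⊓ fixedSpace B)) :
    ∃ U : Submodule F V, U ≤ X ∧ U.map B ≤ U ∧ finrank F U = m ∧ finrank F ↥(U ⊓ fixedSpace B) =
      max (m % orderOf (Fintype.card F : ZMod r)) (m + finrank F ↥(X ⊓ fixedSpace B) - finrank F X) := by
  classical
  set i := orderOf (Fintype.card F : ZMod r) with hi
  have hipos : 0 < i := by
    rw [hi, orderOf_pos_iff]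
    exact (isUnit_iff_ne_zero.2 hrq).isOfFinOrder
  have hA : B ^ r = (1 : F) • (1 : Module.End F V) := by rw [one_smul, hB]
  have hKi := invariant_inf hX (fixedSpace_invariant B)
  obtain ⟨M, hMX, hMi, hsup, hinf, hdim⟩ :=
    exists_invariant_compl_in B hrF one_ne_zero hA hKi hX inf_le_left
  have hfree : ∀ v ∈ M, B v = v → v = 0 := fun v hv h => by
    have : v ∈ X ⊓ fixedSpace B ⊓ M := ⟨⟨hMX hv, mem_fixedSpace.2 h⟩, hv⟩
    rwa [hinf, Submodule.mem_bot] at this
  obtain ⟨J, hJ⟩ := orderOf_dvd_finrank hB hMi hfree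
  set k := finrank F ↥(X ⊓ fixedSpace B)
  set j := min (m / i) J with hj
  have hji : j * i ≤ finrank F M := by
    rw [hJ, mul_comm i J]; exact Nat.mul_le_mul_right i (min_le_right _ _)
  obtain ⟨U₁, hU₁M, hU₁i, hU₁d⟩ := exists_invariant_multiple B hrF one_ne_zero hA hMi hipos
    (fun W hW hWi hne => exists_invariant_orderOf hB hrq hWi hne fun v hv => hfree v (hW hv)) j hji
  have hjm : j * i ≤ m := le_trans (Nat.mul_le_mul_right i (min_le_left _ _)) (Nat.div_mul_le_self m i)
  have hval : m - j * i = max (m % i) (m + k - finrank F X) := by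
    have h2 : m + k - finrank F X = m - J * i := by rw [← hdim, hJ, mul_comm i J]; omega
    have h3 : m - m / i * i = m % i := by
      have := Nat.div_add_mod m i
      rw [mul_comm] at this
      omega
    rw [h2, hj]
    rcases le_total (m / i) J with h | h
    · have := Nat.mul_le_mul_right i h
      rw [min_eq_left h, h3, max_eq_left (by omega)]
    · have := Nat.mul_le_mul_right i h
      rw [min_eq_right h, max_eq_right (by omega)]
  have hs : m - j * i ≤ k := by
    rw [hval]
    exact max_le hmod (by omega)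
  obtain ⟨b, hb⟩ := exists_linearIndependent_of_le_finrank (R := F) (M := ↥(X ⊓ fixedSpace B)) hs
  set K' : Submodule F V := (Submodule.span F (Set.range b)).map (X ⊓ fixedSpace B).subtype
  have hK'le : K' ≤ X ⊓ fixedSpace B := fun _ ⟨w, _, e⟩ => e ▸ w.2
  have hK'd : finrank F K' = m - j * i := by
    rw [Submodule.finrank_map_subtype_eq, finrank_span_eq_card hb, Fintype.card_fin]
  have hK'i : K'.map B ≤ K' := by
    rintro _ ⟨v, hv, rfl⟩
    rwa [mem_fixedSpace.1 (hK'le hv).2]
  have hdis : U₁ ⊓ K' = ⊥ := le_bot_iff.1 (by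
    rw [inf_comm]; exact (inf_le_inf hK'le hU₁M).trans hinf.le)
  have hd := Submodule.finrank_sup_add_finrank_inf_eq U₁ K'
  rw [hdis, finrank_bot, hU₁d, hK'd] at hd
  refine ⟨U₁ ⊔ K', sup_le (hU₁M.trans hMX) (hK'le.trans inf_le_left), invariant_sup hU₁i hK'i,
    by omega, ?_⟩
  have hsplit := finrank_inf_fixedSpace_add hU₁i hK'i rfl hdis
  rw [show U₁ ⊓ fixedSpace B = ⊥ from le_bot_iff.1 fun v hv =>
      (Submodule.mem_bot F).2 (hfree v (hU₁M hv.1) (mem_fixedSpace.1 hv.2)),
    show K' ⊓ fixedSpace B = K' from inf_eq_left.2 (hK'le.trans inf_le_right), finrank_bot, zero_add,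
    hK'd, hval] at hsplit
  exact hsplit.symm

/-- The fixed part of an invariant subspace has the right dimension modulo `ord_r q`. -/
theorem finrank_mod_orderOf {B : Module.End F V} (hB : B ^ r = 1) (hrF : (r : F) ≠ 0)
    {X : Submodule F V} (hX : X.map B ≤ X) :
    finrank F X % orderOf (Fintype.card F : ZMod r) =
      finrank F ↥(X ⊓ fixedSpace B) % orderOf (Fintype.card F : ZMod r) := by
  have hA : B ^ r = (1 : F) • (1 : Module.End F V) := by rw [one_smul, hB]
  obtain ⟨M, hMX, hMi, -, hinf, hdim⟩ := exists_invariant_compl_in B hrF one_ne_zero hA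
    (invariant_inf hX (fixedSpace_invariant B)) hX inf_le_left
  obtain ⟨J, hJ⟩ := orderOf_dvd_finrank hB hMi fun v hv h => by
    have : v ∈ X ⊓ fixedSpace B ⊓ M := ⟨⟨hMX hv, mem_fixedSpace.2 h⟩, hv⟩
    rwa [hinf, Submodule.mem_bot] at this
  rw [← hdim, hJ, Nat.add_mul_mod_self_left]

end Finite

/-- The determinant of a monomial map. -/
theorem det_monomial {ι : Type*} [Fintype ι] [DecidableEq ι] (b : Basis ι F V) (A : Module.End F V)
    (σ : Equiv.Perm ι) (μ : ι → F) (h : ∀ k, A (b k) = μ k • b (σ k)) :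
    LinearMap.det A = (Equiv.Perm.sign σ : F) * ∏ k, μ k := by
  rw [← LinearMap.det_toMatrix b]
  have hM : LinearMap.toMatrix b b A = (Matrix.diagonal μ).submatrix σ.symm id := by
    ext k l
    rw [LinearMap.toMatrix_apply, h, map_smul, Finsupp.smul_apply, b.repr_self, Finsupp.single_apply,
      Matrix.submatrix_apply, id, Matrix.diagonal_apply, smul_eq_mul]
    by_cases e : σ l = k
    · subst e; simp
    · rw [if_neg e, if_neg fun e' => e (by rw [← e']; simp), mul_zero]
  rw [hM, Matrix.det_permute, Matrix.det_diagonal, Equiv.Perm.sign_symm]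

section NonPower

variable {A : Module.End F V} {r : ℕ} [Fact r.Prime] {c : F}

/-- If the scalar is no `r`-th power, invariant subspaces have dimension divisible by `r`. -/
theorem prime_dvd_finrank (hA : A ^ r = c • (1 : Module.End F V)) (hc : ∀ b : F, b ^ r ≠ c)
    {U : Submodule F V} (hU : U.map A ≤ U) : r ∣ finrank F U := by
  by_contra hnd
  let A' : Module.End F U := A.restrict fun v hv => hU ⟨v, hv, rfl⟩
  have hA' : A' ^ r = c • (1 : Module.End F U) := by
    refine LinearMap.ext fun v => Subtype.ext ?_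
    rw [Module.End.pow_restrict r]
    show (A ^ r) v = _
    rw [hA]; rfl
  have hdet : LinearMap.det A' ^ r = c ^ finrank F U := by
    rw [← map_pow, hA', LinearMap.det_smul, map_one, mul_one]
  have hcop : Nat.Coprime r (finrank F U) := ((Fact.out : r.Prime).coprime_iff_not_dvd).2 hnd
  have hc0 : c ≠ 0 := fun h => hc 0 (by rw [h, zero_pow (Fact.out : r.Prime).ne_zero])
  have hd0 : LinearMap.det A' ≠ 0 := fun h => pow_ne_zero _ hc0
    (by rw [← hdet, h, zero_pow (Fact.out : r.Prime).ne_zero])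
  set u := r.gcdA (finrank F U)
  set v := r.gcdB (finrank F U)
  have huv : (r : ℤ) * u + (finrank F U : ℤ) * v = 1 := by
    rw [← Nat.gcd_eq_gcd_ab, hcop, Nat.cast_one]
  refine hc (c ^ u * LinearMap.det A' ^ v) ?_
  rw [mul_pow, ← zpow_natCast (LinearMap.det A' ^ v), ← zpow_mul, mul_comm v, zpow_mul, zpow_natCast,
    hdet, ← zpow_natCast c, ← zpow_mul, ← zpow_natCast (c ^ u), ← zpow_mul, mul_comm u,
    ← zpow_add₀ hc0, huv, zpow_one]

/-- If the scalar is no `r`-th power, nonzero invariant subspaces contain invariant subspaces of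
dimension `r`, on which the determinant is `(-1)^(r-1) c`. -/
theorem exists_invariant_prime (hA : A ^ r = c • (1 : Module.End F V)) (hc : ∀ b : F, b ^ r ≠ c)
    {W : Submodule F V} (hW : W.map A ≤ W) (hne : W ≠ ⊥) :
    ∃ S : Submodule F V, S ≤ W ∧ finrank F S = r ∧ ∃ hS : ∀ v ∈ S, A v ∈ S,
      LinearMap.det (A.restrict hS) = (-1) ^ (r - 1) * c := by
  classical
  obtain ⟨v, hvW, hv⟩ := Submodule.exists_mem_ne_zero_of_ne_bot hne
  have hr := (Fact.out : r.Prime).pos
  let w : Fin r → V := fun l => (A ^ (l : ℕ)) v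
  let S : Submodule F V := Submodule.span F (Set.range w)
  haveI : NeZero r := ⟨hr.ne'⟩
  have hstep : ∀ l : Fin r, A (w l) = (if l + 1 = 0 then c else 1) • w (l + 1) := by
    intro l
    have h1 : A (w l) = (A ^ ((l : ℕ) + 1)) v := by rw [pow_succ', Module.End.mul_apply]
    rcases Nat.lt_or_ge ((l : ℕ) + 1) r with hlt | hge
    · have h2 : ((l + 1 : Fin r) : ℕ) = (l : ℕ) + 1 := by
        rw [Fin.val_add, Fin.val_one', Nat.add_mod_mod, Nat.mod_eq_of_lt hlt]
      rw [if_neg fun e => by rw [e] at h2; simp at h2, one_smul, h1]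
      simp only [w, h2]
    · have h3 : (l : ℕ) + 1 = r := by omega
      have h4 : (l + 1 : Fin r) = 0 := Fin.ext (by
        rw [Fin.val_add, Fin.val_one', Nat.add_mod_mod, h3, Nat.mod_self, Fin.val_zero])
      rw [if_pos h4, h4, h1, h3, hA]
      simp [w]
  have hSi : ∀ u ∈ S, A u ∈ S := by
    intro u hu
    have : S.map A ≤ S := by
      rw [Submodule.map_span, Submodule.span_le]
      rintro _ ⟨_, ⟨l, rfl⟩, rfl⟩
      rw [hstep]
      exact S.smul_mem _ (Submodule.subset_span ⟨_, rfl⟩)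
    exact this ⟨u, hu, rfl⟩
  have hvS : v ∈ S := Submodule.subset_span ⟨0, by simp [w]⟩
  have hle : finrank F S ≤ r := (finrank_range_le_card w).trans (Fintype.card_fin r).le
  have hdvd := prime_dvd_finrank hA hc (U := S) (fun _ ⟨u, hu, e⟩ => e ▸ hSi u hu)
  have hpos : 0 < finrank F S := Nat.pos_of_ne_zero fun h => hv (by
    rw [Submodule.finrank_eq_zero.1 h, Submodule.mem_bot] at hvS
    exact hvS)
  have hd : finrank F S = r := le_antisymm hle (Nat.le_of_dvd hpos hdvd)
  refine ⟨S, ?_, hd, hSi, ?_⟩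
  · rw [Submodule.span_le]
    rintro _ ⟨l, rfl⟩
    show (A ^ (l : ℕ)) v ∈ W
    induction (l : ℕ) with
    | zero => exact hvW
    | succ l ih => rw [pow_succ', Module.End.mul_apply]; exact hW ⟨_, ih, rfl⟩
  have hli : LinearIndependent F w := by
    rw [linearIndependent_iff_card_eq_finrank_span, Fintype.card_fin]
    exact hd.symm
  let b := Basis.span hli
  have hb : ∀ l, (A.restrict hSi) (b l) = (if l + 1 = 0 then c else 1) • b (finRotate r l) := by
    intro l
    refine Subtype.ext ?_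
    show A (b l : V) = _
    rw [Submodule.coe_smul, Basis.span_apply, Basis.span_apply, hstep, finRotate_apply]
  rw [det_monomial b (A.restrict hSi) (finRotate r) _ hb, sign_finRotate,
    Finset.prod_eq_single (-1 : Fin r)
      (fun l _ hl => if_neg fun e => hl (eq_neg_of_add_eq_zero_left e)) (by simp), if_pos (by simp)]
  norm_num

/-- Invariant subspaces of every dimension divisible by `r`. -/
theorem exists_invariant_dim_nonpower (hr : (r : F) ≠ 0) (hA : A ^ r = c • (1 : Module.End F V))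
    (hc : ∀ b : F, b ^ r ≠ c) {X : Submodule F V} (hX : X.map A ≤ X) {m : ℕ} (hm : r ∣ m)
    (hmX : m ≤ finrank F X) :
    ∃ U : Submodule F V, U ≤ X ∧ U.map A ≤ U ∧ finrank F U = m := by
  obtain ⟨j, rfl⟩ := hm
  have hc0 : c ≠ 0 := fun h => hc 0 (by rw [h, zero_pow (Fact.out : r.Prime).ne_zero])
  rw [mul_comm] at hmX ⊢
  refine exists_invariant_multiple A hr hc0 hA hX (Fact.out : r.Prime).pos (fun W _ hW hne => ?_) j hmX
  obtain ⟨S, hSW, hSd, hSi, -⟩ := exists_invariant_prime hA hc hW hne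
  exact ⟨S, hSW, fun _ ⟨u, hu, e⟩ => e ▸ hSi u hu, hSd⟩

/-- The determinant when the scalar is no `r`-th power. -/
theorem det_of_nonpower (hr : (r : F) ≠ 0) (hA : A ^ r = c • (1 : Module.End F V))
    (hc : ∀ b : F, b ^ r ≠ c) : LinearMap.det A = ((-1) ^ (r - 1) * c) ^ (finrank F V / r) := by
  have hc0 : c ≠ 0 := fun h => hc 0 (by rw [h, zero_pow (Fact.out : r.Prime).ne_zero])
  have hrp := (Fact.out : r.Prime).pos
  suffices H : ∀ (j : ℕ) (W : Submodule F V) (hW : ∀ v ∈ W, A v ∈ W), finrank F W = r * j →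
      LinearMap.det (A.restrict hW) = ((-1) ^ (r - 1) * c) ^ j by
    obtain ⟨j, hj⟩ := prime_dvd_finrank hA hc (U := ⊤) le_top
    have h := H j ⊤ (fun _ _ => trivial) hj
    rw [finrank_top] at hj
    rw [hj, Nat.mul_div_cancel_left j hrp, ← h, ← LinearMap.det_conj _ Submodule.topEquiv]
    congr 1
  intro j
  induction j with
  | zero =>
    intro W hW hd
    rw [mul_zero] at hd
    rw [pow_zero, LinearMap.det_eq_one_of_finrank_eq_zero hd]
  | succ j ih =>
    intro W hW hd
    have hne : W ≠ ⊥ := fun h => by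
      rw [h, finrank_bot, Nat.mul_succ] at hd; omega
    have hWi : W.map A ≤ W := fun _ ⟨u, hu, e⟩ => e ▸ hW u hu
    obtain ⟨S, hSW, hSd, hS, hdet⟩ := exists_invariant_prime hA hc hWi hne
    have hSi : S.map A ≤ S := fun _ ⟨u, hu, e⟩ => e ▸ hS u hu
    obtain ⟨C, hCW, hCi, hsup, hinf, hdim⟩ := exists_invariant_compl_in A hr hc0 hA hSi hWi hSW
    have hC : ∀ v ∈ C, A v ∈ C := fun v hv => hCi ⟨v, hv, rfl⟩
    have hdC : finrank F C = r * j := by rw [Nat.mul_succ] at hd; omega
    let Φ : (S × C) →ₗ[F] W :=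
      (Submodule.inclusion hSW).coprod (Submodule.inclusion hCW)
    have hbij : Function.Bijective Φ := by
      constructor
      · rw [injective_iff_map_eq_zero]
        rintro ⟨s, u⟩ h
        have h1 : (s : V) + u = 0 := congrArg Subtype.val h
        have h2 : (s : V) ∈ S ⊓ C := ⟨s.2, by rw [eq_neg_of_add_eq_zero_left h1]; exact neg_mem u.2⟩
        rw [hinf, Submodule.mem_bot] at h2
        rw [h2, zero_add] at h1
        exact Prod.ext (Subtype.ext h2) (Subtype.ext h1)
      · rintro ⟨w, hw⟩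
        rw [← hsup] at hw
        obtain ⟨s, hs, u, hu, rfl⟩ := Submodule.mem_sup.1 hw
        exact ⟨(⟨s, hs⟩, ⟨u, hu⟩), rfl⟩
    let Ψ := LinearEquiv.ofBijective Φ hbij
    have hconj : A.restrict hW =
        (Ψ : (S × C) →ₗ[F] W) ∘ₗ ((A.restrict hS).prodMap (A.restrict hC)) ∘ₗ (Ψ.symm : W →ₗ[F] (S × C)) := by
      refine LinearMap.ext fun w => ?_
      obtain ⟨x, rfl⟩ := Ψ.surjective w
      simp only [LinearMap.comp_apply, LinearEquiv.coe_coe, LinearEquiv.symm_apply_apply]
      refine Subtype.ext ?_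
      show A ((x.1 : V) + x.2) = A x.1 + A x.2
      rw [map_add]
    rw [hconj, LinearMap.det_conj, LinearMap.det_prodMap, hdet, ih C hC hdC, pow_succ']

end NonPower

end Cfsg.Agent.Elusive
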