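import Cfsg.Agent.Lib.Elusive.InvolutionBasis
import Cfsg.Agent.Lib.Elusive.Semisimple
import Cfsg.Agent.Lib.Elusive.Arith

/-!
Involutions of `PSL n q`: eigenspaces, determinants and reflection-type witnesses.
-/

set_option autoImplicit false
set_option linter.style.haveILetI false

namespace Cfsg.Agent.Elusive

open Module

section

variable {F V : Type*} [Field F] [AddCommGroup V] [Module F V] [FiniteDimensional F V]

omit [FiniteDimensional F V] in
/-- A split involution, in odd characteristic, is diagonalisable. -/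
theorem isCompl_eigen (h2 : (2 : F) ≠ 0) (A : Module.End F V) {l : F} (hl : l ≠ 0)
    (hA : ∀ v, A (A v) = (l ^ 2) • v) :
    IsCompl (LinearMap.ker (A - l • LinearMap.id)) (LinearMap.ker (A + l • LinearMap.id)) := by
  refine IsCompl.of_eq ?_ ?_
  · rw [Submodule.eq_bot_iff]
    rintro v ⟨h1, h3⟩
    simp only [SetLike.mem_coe, LinearMap.mem_ker, LinearMap.sub_apply, LinearMap.add_apply,
      LinearMap.smul_apply, LinearMap.id_apply] at h1 h3
    have : (2 * l) • v = 0 := by linear_combination (norm := module) h3 - h1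
    exact (smul_eq_zero.1 this).resolve_left (mul_ne_zero h2 hl)
  · rw [eq_top_iff]
    intro v _
    have h2l : (2 * l) ≠ 0 := mul_ne_zero h2 hl
    refine Submodule.mem_sup.2 ⟨(2 * l)⁻¹ • (l • v + A v), ?_, (2 * l)⁻¹ • (l • v - A v), ?_, ?_⟩
    · simp only [LinearMap.mem_ker, LinearMap.sub_apply, LinearMap.smul_apply,
        LinearMap.id_apply, map_smul, map_add, hA]
      module
    · simp only [LinearMap.mem_ker, LinearMap.add_apply, LinearMap.smul_apply,
        LinearMap.id_apply, map_smul, map_sub, hA]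
      module
    · rw [← smul_add, show l • v + A v + (l • v - A v) = (2 * l) • v by module, smul_smul,
        inv_mul_cancel₀ h2l, one_smul]

/-- The determinant of a split involution. -/
theorem det_split (h2 : (2 : F) ≠ 0) (A : Module.End F V) {l : F} (hl : l ≠ 0)
    (hA : ∀ v, A (A v) = (l ^ 2) • v) :
    LinearMap.det A =
      (-1) ^ finrank F (LinearMap.ker (A + l • LinearMap.id)) * l ^ finrank F V := by
  classical
  set K₁ := LinearMap.ker (A - l • LinearMap.id)
  set K₂ := LinearMap.ker (A + l • LinearMap.id)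
  have hK : IsCompl K₁ K₂ := isCompl_eigen h2 A hl hA
  let b := ((finBasis F K₁).prod (finBasis F K₂)).map (Submodule.prodEquivOfIsCompl K₁ K₂ hK)
  have hb : ∀ k, A (b k) = Sum.elim (fun _ => l) (fun _ => -l) k •
      b ((1 : Equiv.Perm (Fin (finrank F K₁) ⊕ Fin (finrank F K₂))) k) := by
    rintro (i | i)
    · have h := (finBasis F K₁ i).2
      simp only [K₁, LinearMap.mem_ker, LinearMap.sub_apply, LinearMap.smul_apply,
        LinearMap.id_apply, sub_eq_zero] at h
      simpa [b, Basis.prod_apply] using h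
    · have h := (finBasis F K₂ i).2
      simp only [K₂, LinearMap.mem_ker, LinearMap.add_apply, LinearMap.smul_apply,
        LinearMap.id_apply, ← eq_neg_iff_add_eq_zero] at h
      simpa [b, Basis.prod_apply, neg_smul] using h
  rw [det_monomial b A 1 _ hb, Equiv.Perm.sign_one, ← Submodule.finrank_add_eq_of_isCompl hK]
  simp [Fintype.prod_sum_type, neg_pow l, pow_add]
  ring

end

variable {F : Type*} [Field F] [Fintype F]

/-- `-1` is an `n`-th power only if the `2`-part of `n` is small. -/
theorem lt_of_pow_eq_neg_one (h2 : (2 : F) ≠ 0) {n : ℕ} (hn : n ≠ 0) {l : F} (h : l ^ n = -1) :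
    padicValNat 2 n < padicValNat 2 (Fintype.card F - 1) := by
  classical
  set v := padicValNat 2 n
  obtain ⟨o, ho⟩ := (pow_padicValNat_dvd : 2 ^ v ∣ n)
  have hl : l ≠ 0 := fun e => by rw [e, zero_pow hn] at h; exact one_ne_zero (neg_eq_zero.1 h.symm)
  let u := (Units.mk0 l hl) ^ o
  have hu1 : u ^ 2 ^ v = -1 := Units.ext (by
    rw [← pow_mul, mul_comm, ← ho, Units.val_pow_eq_pow_val, Units.val_mk0, Units.val_neg, Units.val_one, h])
  haveI : Fact (Nat.Prime 2) := ⟨Nat.prime_two⟩
  have hord : orderOf u = 2 ^ (v + 1) := by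
    refine orderOf_eq_prime_pow ?_ ?_
    · rw [hu1]
      intro e
      apply h2
      have := congrArg Units.val e
      rw [Units.val_neg, Units.val_one] at this
      linear_combination -this
    · rw [pow_succ, pow_mul, hu1, neg_one_sq]
  have hdvd : orderOf u ∣ Fintype.card F - 1 := by
    rw [← Nat.card_eq_fintype_card, ← Nat.card_units]
    exact orderOf_dvd_natCard u
  rw [hord] at hdvd
  have hq : Fintype.card F - 1 ≠ 0 := by
    have := Fintype.one_lt_card (α := F); omega
  exact (padicValNat_dvd_iff_le hq).1 hdvd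

/-- Conversely such a root exists. -/
theorem exists_pow_eq_neg_one {n : ℕ} (hn : n ≠ 0)
    (hlt : padicValNat 2 n < padicValNat 2 (Fintype.card F - 1)) :
    (2 : F) ≠ 0 ∧ ∃ l : F, l ≠ 0 ∧ l ^ n = -1 := by
  haveI : Fact (Nat.Prime 2) := ⟨Nat.prime_two⟩
  set a := padicValNat 2 (Fintype.card F - 1)
  have hdvd : 2 ∣ Fintype.card F - 1 := dvd_of_one_le_padicValNat (by omega)
  obtain ⟨c, hc, hca⟩ := exists_nonpower hdvd
  set v := padicValNat 2 n
  obtain ⟨o, ho⟩ := (pow_padicValNat_dvd : 2 ^ v ∣ n)
  have ho2 : ¬ 2 ∣ o := fun ⟨w, hw⟩ => pow_succ_padicValNat_not_dvd (p := 2) hn ⟨w, ho.trans (by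
    rw [hw, pow_succ, mul_assoc])⟩
  have hs : c ^ 2 ^ (a - 1) = -1 := by
    have h1 : c ^ 2 ^ (a - 1) * c ^ 2 ^ (a - 1) = 1 := by
      rw [← pow_add, ← two_mul, ← pow_succ', Nat.sub_add_cancel (by omega), hca]
    refine (mul_self_eq_one_iff.1 h1).resolve_left fun e => ?_
    have := padicValNat_le_of_nonpower hc (by positivity) e
    rw [padicValNat.prime_pow] at this
    omega
  have h2 : (2 : F) ≠ 0 := fun h => by
    haveI : CharP F 2 := CharTwo.of_one_ne_zero_of_two_eq_zero one_ne_zero h
    obtain ⟨b, hb⟩ := surjective_frobenius F 2 c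
    exact hc b hb
  refine ⟨h2, c ^ 2 ^ (a - 1 - v), pow_ne_zero _ fun e => hc 0 (by rw [e]; simp), ?_⟩
  rw [← pow_mul, ho, ← mul_assoc, ← pow_add, show a - 1 - v + v = a - 1 by omega, pow_mul, hs,
    Odd.neg_one_pow (Nat.odd_iff.2 (by omega))]

/-- A reflection-type involution exists when `-1` is an `n`-th power. -/
theorem exists_reflection_type {n : ℕ} (hn : 2 ≤ n)
    (hlt : padicValNat 2 n < padicValNat 2 (Fintype.card F - 1)) :
    ∃ (x : Matrix.SpecialLinearGroup (Fin n) F) (μ : F),
      (∃ z : F, ((x ^ 2 : Matrix.SpecialLinearGroup (Fin n) F) : Matrix (Fin n) (Fin n) F) = z • 1) ∧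
      (∀ z : F, (x : Matrix (Fin n) (Fin n) F) ≠ z • 1) ∧ μ ≠ 0 ∧ (2 : F) ≠ 0 ∧
      (∀ v, Matrix.toLin' (x : Matrix (Fin n) (Fin n) F) (Matrix.toLin' (x : Matrix (Fin n) (Fin n) F) v) =
        μ ^ 2 • v) ∧
      finrank F (LinearMap.ker (Matrix.toLin' (x : Matrix (Fin n) (Fin n) F) + μ • LinearMap.id)) = 1 := by
  classical
  obtain ⟨h2, l, hl, hln⟩ := exists_pow_eq_neg_one (n := n) (by omega) hlt
  let i0 : Fin n := ⟨0, by omega⟩
  let i1 : Fin n := ⟨1, by omega⟩
  have h01 : i1 ≠ i0 := by simp [i0, i1]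
  let w : Fin n → F := fun j => if j = i0 then -l else l
  have hdet : (Matrix.diagonal w).det = 1 := by
    rw [Matrix.det_diagonal, ← Finset.mul_prod_erase _ w (Finset.mem_univ i0),
      Finset.prod_congr rfl (fun j hj => show w j = l from if_neg (Finset.ne_of_mem_erase hj)),
      Finset.prod_const, Finset.card_erase_of_mem (Finset.mem_univ i0), Finset.card_univ, Fintype.card_fin]
    simp only [w, if_true, neg_mul, ← pow_succ', Nat.sub_add_cancel (show 1 ≤ n by omega), hln, neg_neg]
  refine ⟨⟨Matrix.diagonal w, hdet⟩, l, ⟨l ^ 2, ?_⟩, fun z hz => ?_, hl, h2, fun v => ?_, ?_⟩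
  · change Matrix.diagonal w ^ 2 = _
    rw [Matrix.diagonal_pow, ← Matrix.diagonal_one, ← Matrix.diagonal_smul]
    congr 1
    funext j
    simp only [w, Pi.pow_apply, Pi.smul_apply, smul_eq_mul, mul_one]
    split_ifs <;> ring
  · have ha := congrFun (congrFun hz i0) i0
    have hb := congrFun (congrFun hz i1) i1
    simp [w, h01] at ha hb
    refine mul_ne_zero h2 hl ?_
    linear_combination hb - ha
  · funext j
    rw [Matrix.toLin'_apply, Matrix.toLin'_apply, Matrix.mulVec_diagonal, Matrix.mulVec_diagonal]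
    simp only [w, Pi.smul_apply, smul_eq_mul]
    split_ifs <;> ring
  · set K := LinearMap.ker (Matrix.toLin' (Matrix.diagonal w) + l • LinearMap.id)
    have hK : K = F ∙ (Pi.single i0 1 : Fin n → F) := by
      refine le_antisymm (fun v hv => ?_) ?_
      · rw [LinearMap.mem_ker, LinearMap.add_apply, LinearMap.smul_apply, LinearMap.id_apply,
          Matrix.toLin'_apply] at hv
        refine Submodule.mem_span_singleton.2 ⟨v i0, funext fun j => ?_⟩
        have hj := congrFun hv j
        rw [Pi.add_apply, Matrix.mulVec_diagonal, Pi.smul_apply, Pi.zero_apply, smul_eq_mul] at hj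
        by_cases e : j = i0
        · subst e; simp
        · simp only [w, if_neg e] at hj
          have : (2 * l) * v j = 0 := by linear_combination hj
          simp [e, (mul_eq_zero.1 this).resolve_left (mul_ne_zero h2 hl)]
      · rw [Submodule.span_singleton_le_iff_mem, LinearMap.mem_ker, LinearMap.add_apply,
          LinearMap.smul_apply, LinearMap.id_apply, Matrix.toLin'_apply, Matrix.diagonal_mulVec_single]
        simp [w, ← Pi.single_smul', ← Pi.single_add]
    show finrank F K = 1
    rw [hK, finrank_span_singleton]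
    simp

end Cfsg.Agent.Elusive
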