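import Cfsg.Agent.Lib.Elusive.Unipotent

/-!
Unipotent elements of `SL n q` with prescribed Jordan blocks.
-/

set_option autoImplicit false
set_option linter.style.haveILetI false

namespace Cfsg.Agent.Elusive

open Module
open scoped Matrix

variable {F : Type*} [Field F] [Fintype F] {p : ℕ} [Fact p.Prime] [CharP F p] {n : ℕ}

/-- An element of order `p` of `PSL n q` with given block sizes, at most `p` and not all one. -/
theorem exists_jordan_element (μ : Multiset ℕ) (hμ : ∀ a ∈ μ, 0 < a ∧ a ≤ p) (hsum : μ.sum = n)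
    (h1 : ∃ a ∈ μ, a ≠ 1) :
    ∃ (t : ℕ) (d : Fin t → ℕ) (x : Matrix.SpecialLinearGroup (Fin n) F)
      (e : (JordanType.Idx d → F) ≃ₗ[F] (Fin n → F)),
      (Finset.univ : Finset (Fin t)).val.map d = μ ∧
      ((x ^ p : Matrix.SpecialLinearGroup (Fin n) F) : Matrix (Fin n) (Fin n) F) =
        (1 : F) • (1 : Matrix (Fin n) (Fin n) F) ∧
      (∀ z : F, (x : Matrix (Fin n) (Fin n) F) ≠ z • (1 : Matrix (Fin n) (Fin n) F)) ∧
      (∀ c, (Matrix.toLin' (x : Matrix (Fin n) (Fin n) F) - 1 : Module.End F (Fin n → F)) (e c) =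
        e (JordanType.shift F d *ᵥ c)) ∧
      (Matrix.toLin' (x : Matrix (Fin n) (Fin n) F) - 1 : Module.End F (Fin n → F)) ^ p = 0 := by
  classical
  have hp := (Fact.out : p.Prime)
  obtain ⟨a₀, ha₀, ha₀1⟩ := h1
  set t := μ.toList.length
  let d : Fin t → ℕ := fun k => μ.toList.get k
  have hμd : (Finset.univ : Finset (Fin t)).val.map d = μ := by
    rw [Fin.univ_val_map]
    show ((List.ofFn μ.toList.get : List ℕ) : Multiset ℕ) = μ
    rw [List.ofFn_get, Multiset.coe_toList]
  have hdle : ∀ k, d k ≤ p := fun k =>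
    (hμ _ (by rw [← hμd]; exact Multiset.mem_map.2 ⟨k, Finset.mem_univ k, rfl⟩)).2
  have hcard : Fintype.card (JordanType.Idx d) = n := by
    rw [Fintype.card_sigma, ← hsum, ← hμd]
    simp only [Fintype.card_fin]
    rfl
  let N : Module.End F (JordanType.Idx d → F) := (JordanType.shift F d).mulVecLin
  have hN : N ^ p = 0 := by
    rw [show N = Matrix.toLinAlgEquiv' (JordanType.shift F d) from rfl, ← map_pow,
      show JordanType.shift F d ^ p = 0 from ?_, map_zero]
    ext a b
    rw [JordanType.shift_pow_apply, Matrix.zero_apply, if_neg]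
    rintro ⟨e1, e2⟩
    have := a.2.2
    have := hdle a.1
    omega
  obtain ⟨a1, b1, hab⟩ : ∃ a b : JordanType.Idx d, JordanType.shift F d a b = 1 := by
    obtain ⟨k, -, hk⟩ := Multiset.mem_map.1 (hμd ▸ ha₀)
    have h2 : 2 ≤ d k := by
      have := hμ a₀ ha₀
      omega
    refine ⟨⟨k, ⟨1, h2⟩⟩, ⟨k, ⟨0, by omega⟩⟩, ?_⟩
    rw [JordanType.shift_apply, if_pos ⟨rfl, rfl⟩]
  haveI : Nonempty (JordanType.Idx d) := ⟨a1⟩
  haveI : CharP (Module.End F (JordanType.Idx d → F)) p :=
    charP_of_injective_algebraMap (FaithfulSMul.algebraMap_injective F (Module.End F (JordanType.Idx d → F))) p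
  have hB : (1 + N) ^ p = (1 : F) • (1 : Module.End F (JordanType.Idx d → F)) := by
    rw [add_pow_char_of_commute p (Commute.one_left _), hN, one_pow, add_zero, one_smul]
  have hdet : LinearMap.det (1 + N) = 1 := by
    refine frobenius_inj F p ?_
    rw [frobenius_def, frobenius_def, ← map_pow, hB, one_smul, map_one, one_pow]
  obtain ⟨x, e, hx⟩ := exists_SL_of_end (by rw [finrank_pi, hcard]) (1 + N) hdet
  have hMe : ∀ c, (Matrix.toLin' (x : Matrix (Fin n) (Fin n) F) - 1 : Module.End F (Fin n → F)) (e c) =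
      e (JordanType.shift F d *ᵥ c) := fun c => by
    simp only [LinearMap.sub_apply, Module.End.one_apply, hx, LinearMap.add_apply, map_add]
    simp [N]
  refine ⟨t, d, x, e, hμd, pow_eq_scalar (1 + N) hB x e hx, fun z hz => ?_, hMe, ?_⟩
  · have h3 := hx (Pi.single b1 1)
    rw [hz, map_smul, Matrix.toLin'_one, LinearMap.smul_apply, LinearMap.id_apply, ← map_smul] at h3
    have h4 := congrFun (e.injective h3) a1
    have hne : a1 ≠ b1 := by
      intro h
      rw [JordanType.shift_apply, h] at hab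
      simp at hab
    simp [N, hne, hab] at h4
  · have hl : ∀ (l : ℕ) (c : JordanType.Idx d → F),
        ((Matrix.toLin' (x : Matrix (Fin n) (Fin n) F) - 1 : Module.End F (Fin n → F)) ^ l) (e c) =
          e ((N ^ l) c) := by
      intro l
      induction l with
      | zero => intro c; rfl
      | succ l ih =>
        intro c
        rw [pow_succ', pow_succ', Module.End.mul_apply, Module.End.mul_apply, ih, hMe]
        rfl
    refine LinearMap.ext fun v => ?_
    obtain ⟨c, rfl⟩ := e.surjective v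
    rw [hl, hN]; simp

omit [Fintype F] in
/-- In characteristic `p`, `(A - 1)^(p-1) = 1 + A + ⋯ + A^(p-1)`. -/
theorem sub_one_pow_eq_sum {V : Type*} [AddCommGroup V] [Module F V] (A : Module.End F V) :
    (A - 1) ^ (p - 1) = ∑ l ∈ Finset.range p, A ^ l := by
  have hp := (Fact.out : p.Prime)
  have h : ((Polynomial.X : Polynomial F) - 1) ^ (p - 1) = ∑ l ∈ Finset.range p, Polynomial.X ^ l := by
    refine mul_right_cancel₀ (b := (Polynomial.X : Polynomial F) - 1) ?_ ?_
    · rw [← Polynomial.C_1]; exact Polynomial.X_sub_C_ne_zero 1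
    · rw [← pow_succ, Nat.sub_add_cancel hp.one_le, sub_pow_char, geom_sum_mul, one_pow]
  have := congrArg (Polynomial.aeval A) h
  simpa using this

end Cfsg.Agent.Elusive
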