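import Cfsg.Agent.Lib.Forms.SpOrder
import Cfsg.Agent.Lib.Forms.Sp
import Cfsg.Prelude.Def_ClassicalGeometry

/-!
Counting ordered pairs of complementary Lagrangian subspaces.
-/

set_option autoImplicit false
set_option linter.style.haveILetI false

namespace Cfsg.Agent.Elusive

open Module FormsLib

variable {F : Type*} [Field F] [Fintype F] {d : ℕ}

omit [Fintype F] in
theorem isotropic_span {ι : Type*} (e : ι → Fin d ⊕ Fin d → F) (h : ∀ i k, spB d F (e i) (e k) = 0) :
    ∀ u ∈ Submodule.span F (Set.range e), ∀ v ∈ Submodule.span F (Set.range e), spB d F u v = 0 := by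
  intro u hu v hv
  have h1 : Submodule.span F (Set.range e) ≤ LinearMap.ker ((spB d F).flip v) := by
    rw [Submodule.span_le]
    rintro _ ⟨i, rfl⟩
    have h2 : Submodule.span F (Set.range e) ≤ LinearMap.ker (spB d F (e i)) := by
      rw [Submodule.span_le]
      rintro _ ⟨k, rfl⟩
      exact h i k
    exact h2 hv
  exact h1 hu

/-- Frames are complementary Lagrangian pairs with a basis of the first member. -/
theorem card_frame_eq_pairs :
    Nat.card (Frame d d F) = Nat.card {P : Submodule F (Fin d ⊕ Fin d → F) × Submodule F (Fin d ⊕ Fin d → F) //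
        IsCompl P.1 P.2 ∧ (∀ u ∈ P.1, ∀ v ∈ P.1, Cfsg.sympForm d F u v = 0) ∧
          (∀ u ∈ P.2, ∀ v ∈ P.2, Cfsg.sympForm d F u v = 0)} *
      ∏ i : Fin d, (Fintype.card F ^ d - Fintype.card F ^ (i : ℕ)) := by
  classical
  set Pairs := {P : Submodule F (Fin d ⊕ Fin d → F) × Submodule F (Fin d ⊕ Fin d → F) //
        IsCompl P.1 P.2 ∧ (∀ u ∈ P.1, ∀ v ∈ P.1, Cfsg.sympForm d F u v = 0) ∧
          (∀ u ∈ P.2, ∀ v ∈ P.2, Cfsg.sympForm d F u v = 0)}
  have hsymp : ∀ u v, Cfsg.sympForm d F u v = spB d F u v := fun u v => (spB_apply u v).symm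
  have hswap : ∀ u v : Fin d ⊕ Fin d → F, spB d F u v = 0 → spB d F v u = 0 := fun u v h => by
    rw [← spB_alt.neg u v, h, neg_zero]
  -- the two members pair perfectly
  have hkey : ∀ P : Pairs, ∀ u ∈ P.1.1, (∀ w ∈ P.1.2, spB d F u w = 0) → u = 0 := by
    intro P u hu h
    refine spB_nondeg.1 u fun v => ?_
    obtain ⟨a, ha, b, hb, rfl⟩ := Submodule.mem_sup.1 (P.2.1.sup_eq_top ▸ Submodule.mem_top : v ∈ P.1.1 ⊔ P.1.2)
    rw [map_add, ← hsymp u a, P.2.2.1 u hu a ha, h b hb, add_zero]
  have hkey' : ∀ P : Pairs, ∀ w ∈ P.1.2, (∀ u ∈ P.1.1, spB d F u w = 0) → w = 0 := by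
    intro P w hw h
    refine spB_nondeg.2 w fun v => ?_
    obtain ⟨a, ha, b, hb, rfl⟩ := Submodule.mem_sup.1 (P.2.1.sup_eq_top ▸ Submodule.mem_top : v ∈ P.1.1 ⊔ P.1.2)
    rw [map_add, LinearMap.add_apply, h a ha, ← hsymp b w, P.2.2.2 b hb w hw, add_zero]
  have hdim : ∀ P : Pairs, finrank F P.1.1 = d ∧ finrank F P.1.2 = d := by
    intro P
    have h12 : finrank F P.1.1 ≤ finrank F P.1.2 := by
      have hinj : Function.Injective ((spB d F).compl₁₂ P.1.1.subtype P.1.2.subtype) := by
        rw [injective_iff_map_eq_zero]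
        intro u hu
        exact Subtype.ext (hkey P u u.2 fun w hw => LinearMap.congr_fun hu ⟨w, hw⟩)
      have := LinearMap.finrank_le_finrank_of_injective hinj
      rwa [Module.finrank_linearMap, Module.finrank_self, mul_one] at this
    have h21 : finrank F P.1.2 ≤ finrank F P.1.1 := by
      have hinj : Function.Injective ((spB d F).flip.compl₁₂ P.1.2.subtype P.1.1.subtype) := by
        rw [injective_iff_map_eq_zero]
        intro w hw
        exact Subtype.ext (hkey' P w w.2 fun u hu => LinearMap.congr_fun hw ⟨u, hu⟩)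
      have := LinearMap.finrank_le_finrank_of_injective hinj
      rwa [Module.finrank_linearMap, Module.finrank_self, mul_one] at this
    have := Submodule.finrank_add_eq_of_isCompl P.2.1
    rw [Module.finrank_pi, Fintype.card_sum, Fintype.card_fin] at this
    omega
  have hcompl : ∀ p : Frame d d F,
      IsCompl (Submodule.span F (Set.range p.1.1)) (Submodule.span F (Set.range p.1.2)) := by
    intro p
    have hli := frame_linearIndependent p
    obtain ⟨-, -, hdis⟩ := linearIndependent_sum.1 hli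
    simp only [Sum.elim_comp_inl, Sum.elim_comp_inr] at hdis
    refine ⟨hdis, codisjoint_iff.2 ?_⟩
    rw [← Submodule.span_union, ← Set.Sum.elim_range]
    exact hli.span_eq_top_of_card_eq_finrank' (by rw [Module.finrank_pi])
  let g : Frame d d F → (P : Pairs) × {s : Fin d → P.1.1 // LinearIndependent F s} := fun p =>
    ⟨⟨(Submodule.span F (Set.range p.1.1), Submodule.span F (Set.range p.1.2)), hcompl p,
        fun u hu v hv => (hsymp u v).trans (isotropic_span _ p.2.ee u hu v hv),
        fun u hu v hv => (hsymp u v).trans (isotropic_span _ p.2.ff u hu v hv)⟩,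
      ⟨fun i => ⟨p.1.1 i, Submodule.subset_span ⟨i, rfl⟩⟩,
        LinearIndependent.of_comp (Submodule.subtype _) (linearIndependent_sum.1 (frame_linearIndependent p)).1⟩⟩
  have hsig : ∀ x y : (P : Pairs) × {s : Fin d → P.1.1 // LinearIndependent F s}, x.1 = y.1 →
      (∀ i, ((x.2.1 i : x.1.1.1) : Fin d ⊕ Fin d → F) = (y.2.1 i : y.1.1.1)) → x = y := by
    rintro ⟨P, s⟩ ⟨Q, u⟩ (rfl : P = Q) h
    exact Sigma.ext rfl (heq_of_eq (Subtype.ext (funext fun i => Subtype.ext (h i))))
  have hg : Function.Bijective g := by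
    constructor
    · intro p p' h
      have hW : Submodule.span F (Set.range p.1.2) = Submodule.span F (Set.range p'.1.2) :=
        congrArg (fun x : (P : Pairs) × {s : Fin d → P.1.1 // LinearIndependent F s} => x.1.1.2) h
      have he : p.1.1 = p'.1.1 :=
        congrArg (fun x : (P : Pairs) × {s : Fin d → P.1.1 // LinearIndependent F s} =>
          fun i => ((x.2.1 i : x.1.1.1) : Fin d ⊕ Fin d → F)) h
      refine Subtype.ext (Prod.ext he (funext fun k => sub_eq_zero.1 ?_))
      refine hkey' (g p).1 _ (sub_mem (Submodule.subset_span ⟨k, rfl⟩) ?_) fun u hu => ?_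
      · show p'.1.2 k ∈ Submodule.span F (Set.range p.1.2)
        rw [hW]
        exact Submodule.subset_span ⟨k, rfl⟩
      · have h1 : Submodule.span F (Set.range p.1.1) ≤ LinearMap.ker ((spB d F).flip (p.1.2 k - p'.1.2 k)) := by
          rw [Submodule.span_le]
          rintro _ ⟨i, rfl⟩
          show spB d F (p.1.1 i) (p.1.2 k - p'.1.2 k) = 0
          rw [map_sub, p.2.ef, he, p'.2.ef, sub_self]
        exact h1 hu
    · rintro ⟨P, s, hs⟩
      obtain ⟨hd1, hd2⟩ := hdim P
      have htop : Submodule.span F (Set.range s) = ⊤ :=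
        hs.span_eq_top_of_card_eq_finrank' (by rw [Fintype.card_fin, hd1])
      have hspan : ∀ u ∈ P.1.1, u ∈ Submodule.span F (Set.range fun i => (s i : Fin d ⊕ Fin d → F)) := by
        intro u hu
        have := Submodule.apply_mem_span_image_of_mem_span P.1.1.subtype
          (show (⟨u, hu⟩ : P.1.1) ∈ Submodule.span F (Set.range s) by rw [htop]; trivial)
        rwa [← Set.range_comp] at this
      let L : P.1.2 →ₗ[F] (Fin d → F) := LinearMap.pi fun i => (spB d F (s i)) ∘ₗ P.1.2.subtype
      have hL : Function.Surjective L := by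
        refine (LinearMap.injective_iff_surjective_of_finrank_eq_finrank
          (by rw [hd2, Module.finrank_pi, Fintype.card_fin])).1 ((injective_iff_map_eq_zero L).2 fun w hw => ?_)
        refine Subtype.ext (hkey' P w w.2 fun u hu => ?_)
        have h1 : Submodule.span F (Set.range fun i => (s i : Fin d ⊕ Fin d → F)) ≤
            LinearMap.ker ((spB d F).flip (w : Fin d ⊕ Fin d → F)) := by
          rw [Submodule.span_le]
          rintro _ ⟨i, rfl⟩
          exact congrFun hw i
        exact h1 (hspan u hu)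
      choose f hf using fun k : Fin d => hL (Pi.single k 1)
      let p : Frame d d F := ⟨(fun i => (s i : Fin d ⊕ Fin d → F), fun k => (f k : Fin d ⊕ Fin d → F)),
        ⟨fun i k => by
          have := congrFun (hf k) i
          simpa [L, Pi.single_apply] using this,
        fun i k => (hsymp _ _).symm.trans (P.2.2.1 _ (s i).2 _ (s k).2),
        fun i k => (hsymp _ _).symm.trans (P.2.2.2 _ (f i).2 _ (f k).2)⟩⟩
      have h1 : Submodule.span F (Set.range p.1.1) = P.1.1 :=
        le_antisymm (Submodule.span_le.2 (by rintro _ ⟨i, rfl⟩; exact (s i).2)) hspan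
      have h2 : Submodule.span F (Set.range p.1.2) = P.1.2 := by
        refine Submodule.eq_of_le_of_finrank_eq (Submodule.span_le.2 (by rintro _ ⟨i, rfl⟩; exact (f i).2)) ?_
        have hli : LinearIndependent F p.1.2 := (linearIndependent_sum.1 (frame_linearIndependent p)).2.1
        rw [finrank_span_eq_card hli, Fintype.card_fin, hd2]
      exact ⟨p, hsig (g p) ⟨P, s, hs⟩ (Subtype.ext (Prod.ext h1 h2)) fun i => rfl⟩
  haveI := Fintype.ofFinite Pairs
  rw [Nat.card_congr (Equiv.ofBijective g hg), Nat.card_sigma,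
    Finset.sum_congr rfl fun (P : Pairs) _ => (card_linearIndependent (K := F) (V := P.1.1) (hdim P).1.ge).trans
      (by rw [(hdim P).1]),
    Finset.sum_const, smul_eq_mul, Finset.card_univ, ← Nat.card_eq_fintype_card]

/-- The number of pairs, up to a power of `q`. -/
theorem card_pairs_mul :
    Nat.card {P : Submodule F (Fin d ⊕ Fin d → F) × Submodule F (Fin d ⊕ Fin d → F) //
        IsCompl P.1 P.2 ∧ (∀ u ∈ P.1, ∀ v ∈ P.1, Cfsg.sympForm d F u v = 0) ∧
          (∀ u ∈ P.2, ∀ v ∈ P.2, Cfsg.sympForm d F u v = 0)} *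
        Fintype.card F ^ (∑ i ∈ Finset.range d, i) =
      Fintype.card F ^ (d ^ 2) * ∏ i ∈ Finset.range d, (Fintype.card F ^ (i + 1) + 1) := by
  have h := card_frame_eq_pairs (F := F) (d := d)
  rw [← card_spIso_eq_frame, ← Nat.card_congr (spEquiv d F).toEquiv, card_symplecticGroup] at h
  set q := Fintype.card F
  have hq : 1 < q := Fintype.one_lt_card
  have h1 : ∏ i : Fin d, (q ^ d - q ^ (i : ℕ)) =
      q ^ (∑ i ∈ Finset.range d, i) * ∏ i ∈ Finset.range d, (q ^ (i + 1) - 1) := by
    rw [Fin.prod_univ_eq_prod_range (fun i => q ^ d - q ^ i), ← Finset.prod_range_reflect (fun i => q ^ (i + 1) - 1),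
      ← Finset.prod_pow_eq_pow_sum, ← Finset.prod_mul_distrib]
    refine Finset.prod_congr rfl fun i hi => ?_
    have := Finset.mem_range.1 hi
    rw [Nat.mul_sub, mul_one, ← pow_add]
    congr 2
    omega
  have h2 : ∏ i ∈ Finset.range d, (q ^ (2 * (i + 1)) - 1) =
      (∏ i ∈ Finset.range d, (q ^ (i + 1) + 1)) * ∏ i ∈ Finset.range d, (q ^ (i + 1) - 1) := by
    rw [← Finset.prod_mul_distrib]
    refine Finset.prod_congr rfl fun i _ => ?_
    rw [← Nat.sq_sub_sq, one_pow, ← pow_mul, mul_comm 2]
  rw [h1, h2] at h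
  refine Nat.eq_of_mul_eq_mul_right
    (show 0 < ∏ i ∈ Finset.range d, (q ^ (i + 1) - 1) from Finset.prod_pos fun i _ =>
      Nat.sub_pos_of_lt (Nat.one_lt_pow (by omega) hq)) ?_
  rw [mul_assoc, mul_assoc, h]

end Cfsg.Agent.Elusive
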