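import Cfsg.Agent.Lib.Elusive.SymplecticIsotropic
import Cfsg.Agent.Lib.OrthClasses.Types
import Cfsg.Agent.Lib.Spinor.SemisimpleCent

/-!
The number of totally singular subspaces of an odd-dimensional orthogonal space.
-/

set_option autoImplicit false
set_option linter.style.haveILetI false

namespace Cfsg.Agent.Elusive.OrthCount

open Module FormIso

variable {F V : Type*} [Field F] [Fintype F] [AddCommGroup V] [Module F V] [FiniteDimensional F V]

/-- Singular vectors of an odd-dimensional non-degenerate space. -/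
theorem card_singular (h2 : (2 : F) ≠ 0) {k : ℕ} (hV : finrank F V = 2 * k + 1) (Q : QuadraticForm F V)
    (hQ : (QuadraticMap.polarBilin Q).Nondegenerate) :
    Nat.card {v : V // Q v = 0} = Fintype.card F ^ (2 * k) := by
  classical
  obtain ⟨c, L, hc, hL⟩ := OrthClasses.exists_similar_odd h2 hV Q hQ
  rw [Nat.card_congr (Equiv.subtypeEquiv L.toEquiv (q := fun w => Cfsg.quadFormOdd k F w = 0) fun v => by
    show _ ↔ Cfsg.quadFormOdd k F (L v) = 0
    rw [hL, mul_eq_zero, or_iff_right hc])]
  have h := FormCount.card_odd (F := F) k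
  rw [pow_succ'] at h
  exact_mod_cast mul_left_cancel₀ (by exact_mod_cast Fintype.card_ne_zero) h

/-- Isotropic independent tuples. -/
theorem card_tuples (h2 : (2 : F) ≠ 0) (Q : QuadraticForm F V) (hQ : (QuadraticMap.polarBilin Q).Nondegenerate)
    {d : ℕ} (hdim : finrank F V = 2 * d + 1) : ∀ m, m ≤ d →
      Nat.card {e : Fin m → V // LinearIndependent F e ∧ ∀ i j, QuadraticMap.polar Q (e i) (e j) = 0} =
        ∏ j : Fin m, Fintype.card F ^ (j : ℕ) * (Fintype.card F ^ (2 * (d - j)) - 1) := by
  classical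
  haveI : Finite V := Module.finite_of_finite F
  set q := Fintype.card F
  set B := QuadraticMap.polarBilin Q
  have hrefl : LinearMap.BilinForm.IsRefl B := Spinor.polarBilin_isRefl
  intro m
  induction m with
  | zero =>
    intro _
    rw [Fin.prod_univ_zero, Nat.card_eq_one_iff_unique]
    exact ⟨⟨fun a b => Subtype.ext (funext fun i => i.elim0)⟩,
      ⟨⟨fun i => i.elim0, linearIndependent_empty_type, fun i => i.elim0⟩⟩⟩
  | succ m ih =>
    intro hm
    let P : (Fin m → V) → Submodule F V := fun e =>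
      LinearMap.BilinForm.orthogonal B (Submodule.span F (Set.range e))
    have hP : ∀ e v, v ∈ P e ↔ ∀ i, QuadraticMap.polar Q (e i) v = 0 := by
      intro e v
      refine ⟨fun h i => h _ (Submodule.subset_span ⟨i, rfl⟩), fun h y hy => ?_⟩
      have : Submodule.span F (Set.range e) ≤ LinearMap.ker (B.flip v) :=
        Submodule.span_le.2 (by rintro _ ⟨i, rfl⟩; exact h i)
      exact this hy
    have hself : ∀ v, QuadraticMap.polar Q v v = 0 ↔ Q v = 0 := fun v => by
      rw [FormsLib.polar_self', mul_eq_zero, or_iff_right h2]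
    let f : {e : Fin (m + 1) → V // LinearIndependent F e ∧ ∀ i j, QuadraticMap.polar Q (e i) (e j) = 0} ≃
        (e : {e : Fin m → V // LinearIndependent F e ∧ ∀ i j, QuadraticMap.polar Q (e i) (e j) = 0}) ×
          ↥({v : V | v ∈ P e.1 ∧ Q v = 0} \ (Submodule.span F (Set.range e.1) : Set V)) :=
      { toFun := fun e => ⟨⟨Fin.tail e.1, (linearIndependent_finSucc.1 e.2.1).1, fun i j => e.2.2 _ _⟩, e.1 0,
          ⟨(hP _ _).2 (fun i => e.2.2 _ _), (hself _).1 (e.2.2 0 0)⟩, (linearIndependent_finSucc.1 e.2.1).2⟩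
        invFun := fun x => ⟨Fin.cons x.2.1 x.1.1, linearIndependent_finCons.2 ⟨x.1.2.1, x.2.2.2⟩, fun i j => by
          induction i using Fin.cases with
          | zero =>
            induction j using Fin.cases with
            | zero => simpa using (hself _).2 x.2.2.1.2
            | succ j =>
              rw [QuadraticMap.polar_comm]
              simpa using (hP _ _).1 x.2.2.1.1 j
          | succ i =>
            induction j using Fin.cases with
            | zero => simpa using (hP _ _).1 x.2.2.1.1 i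
            | succ j => simpa using x.1.2.2 i j⟩
        left_inv := fun e => Subtype.ext (Fin.cons_self_tail e.1)
        right_inv := fun x => by
          obtain ⟨⟨e, he⟩, ⟨v, hv⟩⟩ := x
          exact Sigma.subtype_ext (Subtype.ext (funext fun i => by simp [Fin.tail])) (by simp) }
    haveI := Fintype.ofFinite {e : Fin m → V // LinearIndependent F e ∧ ∀ i j, QuadraticMap.polar Q (e i) (e j) = 0}
    have hfib : ∀ e : {e : Fin m → V // LinearIndependent F e ∧ ∀ i j, QuadraticMap.polar Q (e i) (e j) = 0},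
        Nat.card ↥({v : V | v ∈ P e.1 ∧ Q v = 0} \ (Submodule.span F (Set.range e.1) : Set V)) =
          q ^ m * (q ^ (2 * (d - m)) - 1) := by
      intro e
      set S := Submodule.span F (Set.range e.1) with hS
      have hle : S ≤ P e.1 := Submodule.span_le.2 (by rintro _ ⟨i, rfl⟩; exact (hP _ _).2 fun j => e.2.2 j i)
      have hQS : ∀ s ∈ S, Q s = 0 := fun s hs => (hself s).1 (hle hs s hs)
      have hSd : finrank F S = m := by rw [hS, finrank_span_eq_card e.2.1, Fintype.card_fin]
      have hPd : finrank F (P e.1) = 2 * (d - m) + 1 + m := by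
        have := Spinor.finrank_split hQ (W := S)
        change _ + finrank F (P e.1) = _ at this
        omega
      have hPP : LinearMap.BilinForm.orthogonal B (P e.1) = S :=
        LinearMap.BilinForm.orthogonal_orthogonal hQ hrefl S
      obtain ⟨C, hC⟩ := Submodule.exists_isCompl S
      set P' := C ⊓ P e.1 with hP'
      have hsup : S ⊔ P' = P e.1 := by rw [hP', ← sup_inf_assoc_of_le _ hle, hC.sup_eq_top, top_inf_eq]
      have hinf : S ⊓ P' = ⊥ := le_bot_iff.1 ((inf_le_inf_left _ inf_le_left).trans hC.inf_eq_bot.le)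
      have hP'd : finrank F P' = 2 * (d - m) + 1 := by
        have := Submodule.finrank_sup_add_finrank_inf_eq S P'
        rw [hsup, hinf, finrank_bot, hSd, hPd] at this
        omega
      have hnd : P' ⊓ LinearMap.BilinForm.orthogonal B P' = ⊥ := by
        rw [Submodule.eq_bot_iff]
        rintro x ⟨hx, hx'⟩
        have hxS : x ∈ S := hPP ▸ fun y hy => by
          rw [← hsup] at hy
          obtain ⟨s, hs, w, hw, rfl⟩ := Submodule.mem_sup.1 hy
          show B (s + w) x = 0
          rw [map_add, LinearMap.add_apply, hx.2 s hs, hx' w hw, add_zero]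
        have : x ∈ S ⊓ P' := ⟨hxS, hx⟩
        rwa [hinf, Submodule.mem_bot] at this
      have hcard := card_singular h2 hP'd (Q.comp P'.subtype) (Spinor.nondeg_comp hnd)
      have hadd : ∀ s ∈ S, ∀ w ∈ P e.1, Q (s + w) = Q w := fun s hs w hw => by
        rw [FormsLib.quad_add, hQS s hs, show QuadraticMap.polar Q s w = 0 from hw s hs]
        ring
      let g : S × {w : P' // Q.comp P'.subtype w = 0} → ↥{v : V | v ∈ P e.1 ∧ Q v = 0} := fun x =>
        ⟨(x.1 : V) + (x.2.1 : V), (P e.1).add_mem (hle x.1.2) x.2.1.2.2,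
          (hadd _ x.1.2 _ x.2.1.2.2).trans x.2.2⟩
      have hg : Function.Bijective g := by
        refine ⟨?_, ?_⟩
        · rintro ⟨s, w⟩ ⟨s', w'⟩ h
          have h' : (s : V) + (w.1 : V) = (s' : V) + (w'.1 : V) := congrArg Subtype.val h
          have hd : (s : V) - s' = (w'.1 : V) - w.1 := by
            rw [sub_eq_sub_iff_add_eq_add, h', add_comm]
          have hm : (s : V) - s' ∈ S ⊓ P' := ⟨S.sub_mem s.2 s'.2, hd ▸ P'.sub_mem w'.1.2 w.1.2⟩
          rw [hinf, Submodule.mem_bot] at hm
          rw [hm] at hd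
          exact Prod.ext (Subtype.ext (sub_eq_zero.1 hm)) (Subtype.ext (Subtype.ext (sub_eq_zero.1 hd.symm).symm))
        · rintro ⟨v, hv, hv0⟩
          have hv' : v ∈ S ⊔ P' := hsup ▸ hv
          obtain ⟨s, hs, w, hw, rfl⟩ := Submodule.mem_sup.1 hv'
          exact ⟨⟨⟨s, hs⟩, ⟨w, hw⟩, show Q w = 0 from (hadd s hs w hw.2).symm.trans hv0⟩, rfl⟩
      have hsub : (S : Set V) ⊆ {v : V | v ∈ P e.1 ∧ Q v = 0} := fun v hv => ⟨hle hv, hQS v hv⟩
      rw [Nat.card_coe_set_eq, Set.ncard_sdiff hsub, ← Nat.card_coe_set_eq,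
        ← Nat.card_eq_of_bijective g hg, Nat.card_prod, hcard, ← Nat.card_coe_set_eq, Nat.mul_sub_one]
      show Nat.card S * _ - Nat.card S = _
      rw [Module.natCard_eq_pow_finrank (K := F), Nat.card_eq_fintype_card, hSd]
    rw [Nat.card_congr f, Nat.card_sigma, Finset.sum_congr rfl fun e _ => hfib e, Finset.sum_const, Finset.card_univ,
      ← Nat.card_eq_fintype_card, ih (by omega), smul_eq_mul, Fin.prod_univ_castSucc]
    rfl

omit [FiniteDimensional F V] in
/-- The number of totally singular subspaces of a given dimension. -/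
theorem card_mul {d m : ℕ} (h2 : (2 : F) ≠ 0) (hm : m ≤ d) :
    Nat.card {W : Submodule F (Unit ⊕ (Fin d ⊕ Fin d) → F) // finrank F ↥W = m ∧
        (∀ w ∈ W, Cfsg.quadFormOdd d F w = 0)} *
      ∏ j : Fin m, (Fintype.card F ^ (m - j) - 1) =
      ∏ j : Fin m, (Fintype.card F ^ (2 * (d - j)) - 1) := by
  classical
  set q := Fintype.card F
  set W₀ := Unit ⊕ (Fin d ⊕ Fin d) → F
  set Q := FormsLib.qOdd d F
  have hQc : ∀ v, Q v = Cfsg.quadFormOdd d F v := fun v => congrFun FormsLib.coe_qOdd v
  set Ω := {W : Submodule F W₀ // finrank F ↥W = m ∧ (∀ w ∈ W, Cfsg.quadFormOdd d F w = 0)}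
  have h := card_tuples h2 Q (FormsLib.qOdd_nondeg h2) (d := d) (by simp; omega) m hm
  have hpol : ∀ W : Submodule F W₀, (∀ w ∈ W, Cfsg.quadFormOdd d F w = 0) → ∀ u ∈ W, ∀ v ∈ W,
      QuadraticMap.polar Q u v = 0 := fun W hW u hu v hv => by
    simp [QuadraticMap.polar, hQc, hW _ hu, hW _ hv, hW _ (W.add_mem hu hv)]
  let f : ((W : Ω) × {s : Fin m → W.1 // LinearIndependent F s}) →
      {e : Fin m → W₀ // LinearIndependent F e ∧ ∀ i j, QuadraticMap.polar Q (e i) (e j) = 0} :=
    fun x => ⟨Subtype.val ∘ x.2.1, x.2.2.map' x.1.1.subtype x.1.1.ker_subtype, fun i j =>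
      hpol x.1.1 x.1.2.2 _ (x.2.1 i).2 _ (x.2.1 j).2⟩
  have hspan : ∀ x, Submodule.span F (Set.range (f x).1) = x.1.1 := by
    intro x
    refine Submodule.eq_of_le_of_finrank_eq (Submodule.span_le.2 ?_) ?_
    · rintro _ ⟨l, rfl⟩
      exact (x.2.1 l).2
    · rw [finrank_span_eq_card (f x).2.1, Fintype.card_fin, x.1.2.1]
  have hbij : Function.Bijective f := by
    refine ⟨fun x y hxy => ?_, fun e => ?_⟩
    · have hW : x.1 = y.1 := Subtype.ext (by rw [← hspan x, ← hspan y, hxy])
      obtain ⟨W, s⟩ := x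
      obtain ⟨W', s'⟩ := y
      subst hW
      refine Sigma.ext rfl (heq_of_eq (Subtype.ext (funext fun l => Subtype.ext ?_)))
      exact congrFun (congrArg Subtype.val hxy) l
    · let W : Submodule F W₀ := Submodule.span F (Set.range e.1)
      have hWd : finrank F W = m := by rw [finrank_span_eq_card e.2.1, Fintype.card_fin]
      have hWi : ∀ w ∈ W, Cfsg.quadFormOdd d F w = 0 := by
        intro u hu
        have h1 : ∀ l, QuadraticMap.polar Q u (e.1 l) = 0 := fun l => by
          have : W ≤ LinearMap.ker ((QuadraticMap.polarBilin Q).flip (e.1 l)) :=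
            Submodule.span_le.2 (by rintro _ ⟨i, rfl⟩; exact e.2.2 i l)
          exact this hu
        have : W ≤ LinearMap.ker (QuadraticMap.polarBilin Q u) :=
          Submodule.span_le.2 (by rintro _ ⟨l, rfl⟩; exact h1 l)
        have h3 : QuadraticMap.polar Q u u = 0 := this hu
        rw [FormsLib.polar_self', mul_eq_zero, or_iff_right h2] at h3
        rw [← hQc, h3]
      exact ⟨⟨⟨W, hWd, hWi⟩, ⟨fun l => ⟨e.1 l, Submodule.subset_span ⟨l, rfl⟩⟩,
        LinearIndependent.of_comp W.subtype e.2.1⟩⟩, rfl⟩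
  haveI : Finite (Submodule F W₀) := Finite.of_injective _ SetLike.coe_injective
  haveI := Fintype.ofFinite Ω
  rw [← Nat.card_congr (Equiv.ofBijective f hbij), Nat.card_sigma,
    Finset.sum_congr rfl fun W _ => (card_linearIndependent (K := F) (V := W.1) W.2.1.ge).trans (by rw [W.2.1]),
    Finset.sum_const, smul_eq_mul, Finset.card_univ, ← Nat.card_eq_fintype_card] at h
  have hfac : ∏ j : Fin m, (q ^ m - q ^ (j : ℕ)) = (∏ j : Fin m, q ^ (j : ℕ)) * ∏ j : Fin m, (q ^ (m - j) - 1) := by
    rw [← Finset.prod_mul_distrib]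
    refine Finset.prod_congr rfl fun j _ => ?_
    rw [Nat.mul_sub, mul_one, ← pow_add, Nat.add_sub_cancel' j.2.le]
  rw [hfac, Finset.prod_mul_distrib, mul_left_comm] at h
  exact Nat.eq_of_mul_eq_mul_left (Finset.prod_pos fun j _ => pow_pos Fintype.card_pos _) h

omit [FiniteDimensional F V] in
/-- The count agrees with the symplectic one. -/
theorem card_eq {d m : ℕ} (h2 : (2 : F) ≠ 0) (hm : m ≤ d) :
    Nat.card {W : Submodule F (Unit ⊕ (Fin d ⊕ Fin d) → F) // finrank F ↥W = m ∧
        (∀ w ∈ W, Cfsg.quadFormOdd d F w = 0)} =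
      Nat.card {W : Submodule F (Fin d ⊕ Fin d → F) // finrank F ↥W = m ∧
        (∀ u ∈ W, ∀ v ∈ W, Cfsg.sympForm d F u v = 0)} := by
  refine Nat.eq_of_mul_eq_mul_right (Finset.prod_pos (f := fun j : Fin m => Fintype.card F ^ (m - j) - 1)
    fun j _ => ?_) ((card_mul h2 hm).trans (SpIso.card_mul hm).symm)
  have := Nat.one_lt_pow (n := m - j) (by have := j.2; omega) (Fintype.one_lt_card (α := F))
  omega

end Cfsg.Agent.Elusive.OrthCount
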