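import Cfsg.Agent.Lib.Elusive.OrthogonalType

/-!
Invariant totally singular subspaces in even dimension: the criterion suffices.
-/

set_option autoImplicit false
set_option linter.style.haveILetI false

namespace Cfsg.Agent.Elusive.OrthEven

open Module FormIso OrthIso OrthType

/-- The arithmetical criterion; `σ = 0` for plus type and `σ = 1` for minus type. -/
def Cond (e t m d σ : ℕ) : Prop :=
  (Odd e ∧ (2 * (m % e + σ) ≤ (2 * d) % (2 * e) ∨ (σ = 1 ∧ (2 * d) % (2 * e) = 0))) ∨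
  (Even e ∧ t + 2 * (m / e) ≤ (2 * d) / e ∧
    ((2 * (m % e) ≤ e ∧ (2 * d) % e = 0 ∧ Odd ((2 * d) / e + σ) ∧ t + 2 * (m / e) < (2 * d) / e) ∨
     (2 * (m % e) ≤ (2 * d) % e ∧ Even ((2 * d) / e + σ)) ∨
     (2 * (m % e) < (2 * d) % e ∧ Odd ((2 * d) / e + σ))))

variable {F V : Type*} [Field F] [Fintype F] [AddCommGroup V] [Module F V] [FiniteDimensional F V]
  {Q : QuadraticForm F V} {T : Module.End F V} {r : ℕ} [Fact r.Prime]

omit [Fintype F] [FiniteDimensional F V] [Fact r.Prime] in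
theorem polar_iso (hQT : ∀ v, Q (T v) = Q v) (u v : V) :
    QuadraticMap.polarBilin Q (T u) (T v) = QuadraticMap.polarBilin Q u v := by
  show QuadraticMap.polar Q (T u) (T v) = QuadraticMap.polar Q u v
  simp only [QuadraticMap.polar, ← map_add, hQT]

omit [Fintype F] in
/-- Isotropic for the alternating form is totally singular, in any characteristic. -/
theorem quad_of_alt (hQT : ∀ v, Q (T v) = Q v) (hr2 : r ≠ 2) (hT : T ^ r = 1) {U : Submodule F V}
    (hUT : U.map T ≤ U) (hfree : ∀ v ∈ U, T v = v → v = 0)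
    (hU : OrthTo (altForm (QuadraticMap.polarBilin Q) T r) U U) : ∀ u ∈ U, Q u = 0 := by
  have hB := orthTo_of_alt hUT hfree ((Fact.out : r.Prime).odd_of_ne_two hr2) hT hU
  let D : U →ₗ[F] U := (T - 1).restrict fun v hv => U.sub_mem (hUT ⟨v, hv, rfl⟩) hv
  have hD : Function.Surjective D := by
    refine LinearMap.injective_iff_surjective.1 ((injective_iff_map_eq_zero D).2 fun v hv => Subtype.ext ?_)
    refine hfree v v.2 (sub_eq_zero.1 ?_)
    simpa [D] using congrArg Subtype.val hv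
  intro u hu
  obtain ⟨w, hw⟩ := hD ⟨u, hu⟩
  have h1 : T (w : V) - w = u := congrArg Subtype.val hw
  have h2 : QuadraticMap.polar Q (T (w : V)) w = 0 := hB _ (hUT ⟨w, w.2, rfl⟩) _ w.2
  have h3 : QuadraticMap.polar Q (w : V) w = 0 := hB _ w.2 _ w.2
  rw [FormsLib.polar_self'] at h3
  rw [← h1, sub_eq_add_neg, FormsLib.quad_add, QuadraticMap.map_neg, QuadraticMap.polar_neg_right, h2, hQT]
  linear_combination h3

/-- The type of a part without fixed vectors. -/
theorem half_free {p : ℕ} [Fact p.Prime] [CharP F p] (hQT : ∀ v, Q (T v) = Q v) (hr2 : r ≠ 2) (hrF : (r : F) ≠ 0)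
    (hrq : (Fintype.card F : ZMod r) ≠ 0) (hT : T ^ r = 1) {c : ℕ}
    (hc : c = if Even (orderOf (Fintype.card F : ZMod r)) then orderOf (Fintype.card F : ZMod r)
      else 2 * orderOf (Fintype.card F : ZMod r))
    {X : Submodule F V} (hX : NdOn (QuadraticMap.polarBilin Q) X) (hXT : X.map T ≤ X)
    (hfree : ∀ v ∈ X, T v = v → v = 0) {J : ℕ} (hJ : finrank F X = c * J) :
    Half Q X ↔ (Even (orderOf (Fintype.card F : ZMod r)) → Even J) := by
  have hr := (Fact.out : r.Prime)
  set e := orderOf (Fintype.card F : ZMod r) with he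
  have hepos : 0 < e := orderOf_pos_iff.2 (isUnit_iff_ne_zero.2 hrq).isOfFinOrder
  by_cases hev : Even e
  · rw [if_pos hev] at hc
    subst hc
    rw [imp_iff_right hev]
    obtain ⟨h, hh⟩ := hev.two_dvd
    rcases Nat.eq_zero_or_pos J with rfl | hJ0
    · rw [mul_zero, Submodule.finrank_eq_zero] at hJ
      subst hJ
      exact iff_of_true half_bot Even.zero
    have hqh : (Fintype.card F : ZMod r) ^ h = -1 := by
      have h2 : (Fintype.card F : ZMod r) ^ h * (Fintype.card F : ZMod r) ^ h = 1 := by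
        rw [← pow_add, ← two_mul, ← hh]
        exact pow_orderOf_eq_one _
      refine (mul_self_eq_one_iff.1 h2).resolve_left fun h' => ?_
      have := Nat.le_of_dvd (by omega) (orderOf_dvd_of_pow_eq_one h')
      omega
    have hhalf : finrank F X / 2 = h * J := by rw [hJ, hh, mul_assoc, Nat.mul_div_cancel_left _ two_pos]
    obtain ⟨a, b, hab⟩ := Spinor.exists_aniso F
    let g : X ≃ₗ[F] X := LinearEquiv.ofInjectiveEndo (T.restrict fun v hv => hXT ⟨v, hv, rfl⟩) fun u v huv =>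
      Subtype.ext (injective_of_pow hr.ne_zero hT (congrArg Subtype.val huv))
    have hg : ∀ v : X, (g v : V) = T v := fun v => rfl
    have hit : ∀ (j : ℕ) (v : X), (((⇑g)^[j] v : X) : V) = (T ^ j) (v : V) := by
      intro j
      induction j with
      | zero => intro v; rfl
      | succ j ih => intro v; rw [Function.iterate_succ_apply', hg, ih, pow_succ', Module.End.mul_apply]
    have key := OrthClasses.sign_of_fixedPointFree hab (Nat.mul_pos (by omega : 0 < h) hJ0)
      (by rw [hJ, hh, mul_assoc]) (Q.comp X.subtype) (Spinor.nondeg_comp (ndOn_inf_orth hX)) (r := r) g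
      (fun v => by show Q (g v : V) = Q (v : V); rw [hg, hQT])
      (fun v => Subtype.ext (by rw [hit, hT]; rfl))
      (fun v hv => Subtype.ext (hfree v v.2 ((hg v).symm.trans (congrArg Subtype.val hv))))
      hr2 hrq (fun h1 => by rw [h1, orderOf_one] at he; omega) (e := J) (by rw [pow_mul, hqh])
    rw [Half, hhalf]
    exact key
  · rw [if_neg hev] at hc
    subst hc
    refine iff_of_true ?_ fun h => absurd h hev
    obtain ⟨U, hUX, hUT, hU, hUd⟩ := SpFree.exists_free (p := p) (altForm_isAlt polar_symm (polar_iso hQT) hr.ne_zero hT)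
      (altForm_iso (polar_iso hQT)) hr2 hrF hrq hT J X (ndOn_alt hXT hfree (hr.odd_of_ne_two hr2) hT hX) hXT hfree
      (by rw [hJ, ← he, mul_assoc, mul_comm e J]) fun h => absurd h hev
    refine half_iff.2 ⟨U, hUX, quad_of_alt hQT hr2 hT hUT (fun v hv => hfree v (hUX hv)) hU, ?_⟩
    rw [hUd, hJ, mul_assoc, Nat.mul_div_cancel_left _ two_pos, mul_comm]

/-- The criterion suffices. -/
theorem exists_invariant {p : ℕ} [Fact p.Prime] [CharP F p] (hQT : ∀ v, Q (T v) = Q v) (hr2 : r ≠ 2) (hrF : (r : F) ≠ 0)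
    (hrq : (Fintype.card F : ZMod r) ≠ 0) (hT : T ^ r = 1) (htop : NdOn (QuadraticMap.polarBilin Q) ⊤)
    {d : ℕ} (hdim : finrank F V = 2 * d) {σ : ℕ} (hσ : σ = 0 ∧ Half Q ⊤ ∨ σ = 1 ∧ ¬ Half Q ⊤)
    {m t : ℕ} (hmd : m + 1 ≤ d) (ht : r - 1 = orderOf (Fintype.card F : ZMod r) * t)
    (hcond : Cond (orderOf (Fintype.card F : ZMod r)) t m d σ) :
    ∃ W : Submodule F V, finrank F W = m ∧ W.map T ≤ W ∧ ∀ w ∈ W, Q w = 0 := by
  classical
  have hr := (Fact.out : r.Prime)
  have hodd := hr.odd_of_ne_two hr2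
  set e := orderOf (Fintype.card F : ZMod r) with he
  have hepos : 0 < e := orderOf_pos_iff.2 (isUnit_iff_ne_zero.2 hrq).isOfFinOrder
  obtain ⟨c, hc⟩ : ∃ c, c = if Even e then e else 2 * e := ⟨_, rfl⟩
  have hiso := polar_iso hQT
  obtain ⟨M, -, hMT, hfree, hsup, ho, hM, hK, hfd⟩ :=
    exists_split (fun u v h => (polar_symm v u).trans h) hiso hrF hT htop le_top
  obtain ⟨J, hJ⟩ := dvd_free (p := p) polar_symm hiso hr2 hrF hrq hT (he ▸ hc) hM hMT hfree
  rw [hJ, finrank_top, hdim] at hfd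
  set K := ⊤ ⊓ fixedSpace T
  set f := finrank F K with hf
  have hce : Even c := by
    rw [hc]
    split_ifs with h
    exacts [h, even_two_mul e]
  have hfe : Even f := by
    have h1 : Even (f + c * J) := hfd ▸ even_two_mul d
    exact (Nat.even_add.1 h1).2 (hce.mul_right J)
  have hfree' := half_free (p := p) hQT hr2 hrF hrq hT (he ▸ hc) hM hMT hfree hJ
  rw [← he] at hfree'
  have htype := half_sup hK hM ho hfe (hJ ▸ hce.mul_right J)
  rw [hsup] at htype
  -- singular subspaces of the fixed part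
  have fixpart : ∀ k : ℕ, k = 0 ∨ 2 * k + 2 ≤ f ∨ (2 * k ≤ f ∧ Half Q K) →
      ∃ U : Submodule F V, U ≤ K ∧ (∀ u ∈ U, Q u = 0) ∧ finrank F U = k := by
    intro k hk
    by_cases hlt : 2 * k < f
    · exact exists_singular_subspace k K hK hlt
    rcases hk with rfl | hk | ⟨hk, hH⟩
    · exact ⟨⊥, bot_le, fun u hu => by simp [(Submodule.mem_bot F).1 hu], finrank_bot F V⟩
    · omega
    · obtain ⟨W, hWK, hW, hWd⟩ := half_iff.1 hH
      exact ⟨W, hWK, hW, by rw [hWd, ← hf]; omega⟩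
  -- assembling the two parts
  suffices h : ∃ a, a * e ≤ m ∧ 2 * (a * e) ≤ c * J ∧ (Even e → a = 0 ∨ 2 * (a * e) + (r - 1) ≤ c * J + e) ∧
      (m - a * e = 0 ∨ 2 * (m - a * e) + 2 ≤ f ∨ (2 * (m - a * e) ≤ f ∧ Half Q K)) by
    obtain ⟨a, ha, ha2, ha3, ha4⟩ := h
    obtain ⟨U₀, hU₀K, hU₀, hU₀d⟩ := fixpart _ ha4
    obtain ⟨U₁, hU₁M, hU₁T, hU₁, hU₁d⟩ := SpFree.exists_free (p := p) (altForm_isAlt polar_symm hiso hr.ne_zero hT)
      (altForm_iso hiso) hr2 hrF hrq hT a M (ndOn_alt hMT hfree hodd hT hM) hMT hfree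
      (by rw [hJ]; exact ha2) fun hev => by rw [hJ]; exact ha3 hev
    have hU₀T : U₀.map T ≤ U₀ := by
      rintro _ ⟨v, hv, rfl⟩
      rwa [mem_fixedSpace.1 (hU₀K hv).2]
    refine ⟨U₀ ⊔ U₁, ?_, invariant_sup hU₀T hU₁T, quad_sup hU₀
      (quad_of_alt hQT hr2 hT hU₁T (fun v hv => hfree v (hU₁M hv)) hU₁) fun u hu v hv => ho u (hU₀K hu) v (hU₁M hv)⟩
    have hinf : U₀ ⊓ U₁ = ⊥ := by
      rw [Submodule.eq_bot_iff]
      rintro x ⟨h0, h1⟩
      exact hfree x (hU₁M h1) (mem_fixedSpace.1 (hU₀K h0).2)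
    have := Submodule.finrank_sup_add_finrank_inf_eq U₀ U₁
    rw [hinf, finrank_bot, hU₁d, hU₀d, ← he] at this
    omega
  have hhalf0 : f = 0 → Half Q K := fun h0 => by
    rw [hf, Submodule.finrank_eq_zero] at h0
    rw [h0]
    exact half_bot
  have hm := Nat.div_add_mod m e
  have hml := Nat.mod_lt m hepos
  rw [mul_comm e] at hm
  obtain ⟨l, hl⟩ : ∃ l, m % e = l := ⟨_, rfl⟩
  obtain ⟨m', hm'⟩ : ∃ m', m / e = m' := ⟨_, rfl⟩
  rw [hl, hm'] at hm
  rw [hl] at hml
  rcases hcond with ⟨heo, hk⟩ | ⟨hee, hD, hk⟩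
  · -- odd order
    have hne := Nat.not_even_iff_odd.2 heo
    rw [if_neg hne] at hc
    subst hc
    have hKt : Half Q K ↔ σ = 0 := by
      have hMh := hfree'.2 fun h => absurd h hne
      rcases hσ with ⟨rfl, h⟩ | ⟨rfl, h⟩ <;> simp_all
    have hkf : (2 * d) % (2 * e) ≤ f := by
      rw [← hfd, Nat.add_mul_mod_self_left]
      exact Nat.mod_le _ _
    rw [hl] at hk
    have hmin : min m' J * e ≤ m' * e := Nat.mul_le_mul_right e (min_le_left _ _)
    have hminJ : min m' J * e ≤ J * e := Nat.mul_le_mul_right e (min_le_right _ _)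
    refine ⟨min m' J, by omega, by rw [mul_assoc, mul_comm e J]; omega, fun h => absurd h hne, ?_⟩
    rw [mul_assoc, mul_comm e J] at hfd
    rcases le_total m' J with hle | hle
    · rw [min_eq_left hle]
      rcases hσ with ⟨rfl, -⟩ | ⟨rfl, -⟩
      · refine Or.inr (Or.inr ⟨?_, hKt.2 rfl⟩)
        omega
      · have hf0 : 0 < f := Nat.pos_of_ne_zero fun h0 => absurd (hKt.1 (hhalf0 h0)) one_ne_zero
        rcases hk with hk | ⟨-, hk⟩
        · exact Or.inr (Or.inl (by omega))
        · refine Or.inr (Or.inl ?_)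
          obtain ⟨j, hj⟩ : 2 * e ∣ f := by
            refine (Nat.dvd_add_left (Dvd.intro J rfl)).1 (?_ : 2 * e ∣ f + 2 * e * J)
            rw [mul_assoc, mul_comm e J, hfd]
            exact Nat.dvd_of_mod_eq_zero hk
          have : 2 * e ≤ f := Nat.le_of_dvd hf0 ⟨j, hj⟩
          omega
    · rw [min_eq_right hle]
      have hd1 : m < d + 1 → 0 < e := fun _ => hepos
      rcases hσ with ⟨rfl, -⟩ | ⟨rfl, -⟩
      · refine Or.inr (Or.inr ⟨?_, hKt.2 rfl⟩)
        have h1 : J * e ≤ m' * e := Nat.mul_le_mul_right e hle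
        omega
      · exact Or.inr (Or.inl (by
          have h1 : J * e ≤ m' * e := Nat.mul_le_mul_right e hle
          omega))
  · -- even order
    rw [if_pos hee] at hc
    rw [hc] at hfd hce ⊢
    have hKt : Half Q K ↔ Even (J + σ) := by
      have hMh : Half Q M ↔ Even J := hfree'.trans ⟨fun h => h hee, fun h _ => h⟩
      rcases hσ with ⟨rfl, h⟩ | ⟨rfl, h⟩
      · rw [add_zero, ← hMh]
        exact (htype.1 h)
      · rw [Nat.even_add_one, ← hMh]
        tauto
    have hn := Nat.div_add_mod (2 * d) e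
    have hkl := Nat.mod_lt (2 * d) hepos
    obtain ⟨n', hn'⟩ : ∃ n', 2 * d / e = n' := ⟨_, rfl⟩
    obtain ⟨k, hk'⟩ : ∃ k, 2 * d % e = k := ⟨_, rfl⟩
    simp only [hn', hk', hl, hm'] at hn hkl hD hk ⊢
    have hke : Even k := by
      have h1 : Even (e * n' + k) := hn ▸ even_two_mul d
      exact (Nat.even_add.1 h1).1 (hce.mul_right n')
    have hJn : J ≤ n' := Nat.le_of_lt_succ (lt_of_mul_lt_mul_left (a := e) (by rw [Nat.mul_succ]; omega) (Nat.zero_le _))
    obtain ⟨a, haa⟩ : ∃ a, min m' ((J + 1 - t) / 2) = a := ⟨_, rfl⟩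
    have ha1 : a ≤ m' := haa ▸ min_le_left _ _
    have ha2 : 2 * a ≤ J + 1 - t := by rw [← haa]; omega
    have ht1 : 1 ≤ t := Nat.one_le_iff_ne_zero.2 fun h => by
      rw [h, mul_zero] at ht
      have := hr.two_le
      omega
    obtain ⟨δ, hδ⟩ : ∃ δ, n' = J + 2 * (m' - a) + δ := ⟨n' - J - 2 * (m' - a), by omega⟩
    obtain ⟨X, hX⟩ : ∃ X, (m' - a) * e = X := ⟨_, rfl⟩
    have hsplit : m' * e = a * e + X := by rw [← hX, ← add_mul, Nat.add_sub_cancel' ha1]
    have hfX : f = k + 2 * X + δ * e := by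
      have : e * n' = e * J + 2 * X + δ * e := by rw [hδ, ← hX]; ring
      omega
    refine ⟨a, by omega, ?_, fun _ => ?_, ?_⟩
    · have h1 : 2 * a * e ≤ J * e := Nat.mul_le_mul_right e (by omega)
      rw [mul_assoc, mul_comm J e] at h1
      exact h1
    · rcases Nat.eq_zero_or_pos a with h0 | h0
      · exact Or.inl h0
      · have h1 : (2 * a + t) * e ≤ (J + 1) * e := Nat.mul_le_mul_right e (by omega)
        rw [add_mul, mul_assoc, add_mul, one_mul, mul_comm J e, mul_comm t e, ← ht] at h1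
        exact Or.inr h1
    · obtain ⟨k₂, rfl⟩ := hke
      obtain ⟨c₂, hc₂⟩ := hee
      rcases δ with _ | _ | δ
      · rw [Nat.zero_mul] at hfX
        have hpar : Even (n' + σ) ↔ Even (J + σ) := by rw [hδ]; simp [Nat.even_add]
        rcases hk with ⟨-, hk0, hodd', hlt⟩ | ⟨hk1, hev⟩ | ⟨hk1, -⟩
        · exfalso
          by_cases ham : a = m'
          · subst ham
            have hf0 : f = 0 := by
              rw [Nat.sub_self, zero_mul] at hX
              omega
            exact (Nat.not_even_iff_odd.2 hodd') (hpar.2 (hKt.1 (hhalf0 hf0)))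
          · have : a = (J + 1 - t) / 2 := by rw [← haa] at ham ⊢; omega
            omega
        · exact Or.inr (Or.inr ⟨by omega, hKt.2 (hpar.1 hev)⟩)
        · exact Or.inr (Or.inl (by omega))
      · rw [Nat.zero_add, one_mul] at hfX
        rcases hk with ⟨hk1, -, hodd', -⟩ | ⟨hk1, -⟩ | ⟨hk1, -⟩
        · refine Or.inr (Or.inr ⟨by omega, hKt.2 ?_⟩)
          rw [hδ, Nat.odd_iff] at hodd'
          rw [Nat.even_iff]
          omega
        · exact Or.inr (Or.inl (by omega))
        · exact Or.inr (Or.inl (by omega))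
      · have : 2 * e ≤ (δ + 1 + 1) * e := Nat.mul_le_mul_right e (by omega)
        exact Or.inr (Or.inl (by omega))

end Cfsg.Agent.Elusive.OrthEven
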