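import Cfsg.Agent.Lib.Elusive.OrthogonalType

/-!
The number of totally singular subspaces of an even-dimensional orthogonal space.
-/

set_option autoImplicit false
set_option linter.style.haveILetI false

namespace Cfsg.Agent.Elusive.OrthEvenCount

open Module FormIso OrthIso OrthType

variable {F V : Type*} [Field F] [Fintype F] [AddCommGroup V] [Module F V] [FiniteDimensional F V]

/-- The non-zero singular vectors of a space of dimension `2k`; `σ = 0` for plus, `σ = 1` for minus type. -/
def N (q σ k : ℕ) : ℕ := if σ = 0 then (q ^ k - 1) * (q ^ (k - 1) + 1) else (q ^ k + 1) * (q ^ (k - 1) - 1)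

/-- Singular vectors of an even-dimensional non-degenerate space. -/
theorem card_singular (Q : QuadraticForm F V) {X : Submodule F V} (hX : NdOn (QuadraticMap.polarBilin Q) X)
    {k σ : ℕ} (hk : 1 ≤ k) (hXd : finrank F X = 2 * k) (hσ : σ = 0 ∧ Half Q X ∨ σ = 1 ∧ ¬ Half Q X) :
    Nat.card {v : X // Q (v : V) = 0} = N (Fintype.card F) σ k + 1 := by
  classical
  obtain ⟨a, b, hab⟩ := Spinor.exists_aniso F
  set q := Fintype.card F
  have hq : (q : ℤ) ≠ 0 := by exact_mod_cast Fintype.card_ne_zero
  have hqk : ∀ j, 1 ≤ q ^ j := fun j => Nat.one_le_pow _ _ Fintype.card_pos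
  obtain ⟨j, rfl⟩ : ∃ j, k = j + 1 := ⟨k - 1, by omega⟩
  have hhalf : finrank F X / 2 = j + 1 := by omega
  rcases Spinor.equiv_plus_or_minus (m := j + 1) (by omega) hXd (Q.comp X.subtype)
    (Spinor.nondeg_comp (ndOn_inf_orth hX)) a b hab with ⟨L, hL⟩ | ⟨L, hL⟩
  · have hH : Half Q X := by
      rw [Half, hhalf]
      exact OrthClasses.hasHalf_map L.symm (fun v => by
        have := hL (L.symm v)
        rw [L.apply_symm_apply] at this
        exact this.symm) (OrthClasses.plus_half _)
    obtain ⟨rfl, -⟩ := hσ.resolve_right fun h => h.2 hH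
    have e1 : Nat.card {v : X // Q (v : V) = 0} =
        Nat.card {v : OrthClasses.PI (j + 1) → F // Cfsg.quadFormPlus (j + 1) F v = 0} :=
      Nat.card_congr (L.toEquiv.subtypeEquiv fun v => by
        show Q (v : V) = 0 ↔ Cfsg.quadFormPlus (j + 1) F (L v) = 0
        rw [hL]
        rfl)
    have h := FormCount.card_plus (F := F) (j + 1) 0
    rw [if_pos rfl, ← e1] at h
    zify
    refine mul_left_cancel₀ hq (h.trans ?_)
    rw [N, if_pos rfl]
    push_cast [Nat.cast_sub (hqk _), Nat.add_sub_cancel]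
    ring
  · have hH : ¬ Half Q X := fun h => OrthClasses.minus_no_half (j + 1 - 1) a b hab (by
      rw [Half, hhalf] at h
      exact OrthClasses.hasHalf_map L hL h)
    obtain ⟨rfl, -⟩ := hσ.resolve_left fun h => hH h.2
    have e1 : Nat.card {v : X // Q (v : V) = 0} =
        Nat.card {v // Cfsg.quadFormMinus (j + 1 - 1) F a b v = 0} :=
      Nat.card_congr (L.toEquiv.subtypeEquiv fun v => by
        show Q (v : V) = 0 ↔ Cfsg.quadFormMinus (j + 1 - 1) F a b (L v) = 0
        rw [hL]
        rfl)
    have h := FormCount.card_minus (F := F) (j + 1 - 1) a b hab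
    rw [← e1] at h
    zify
    refine mul_left_cancel₀ hq (h.trans ?_)
    rw [N, if_neg one_ne_zero]
    push_cast [Nat.cast_sub (hqk _), Nat.add_sub_cancel]
    ring

/-- Independent tuples spanning totally singular subspaces. -/
theorem card_tuples (Q : QuadraticForm F V) (hQ : (QuadraticMap.polarBilin Q).Nondegenerate)
    {d σ : ℕ} (hdim : finrank F V = 2 * d)
    (hσ : σ = 0 ∧ Half Q ⊤ ∨ σ = 1 ∧ ¬ Half Q ⊤) : ∀ m, m ≤ d →
      Nat.card {e : Fin m → V // LinearIndependent F e ∧ ∀ x ∈ Submodule.span F (Set.range e), Q x = 0} =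
        ∏ j : Fin m, Fintype.card F ^ (j : ℕ) * N (Fintype.card F) σ (d - j) := by
  classical
  haveI : Finite V := Module.finite_of_finite F
  set q := Fintype.card F
  set B := QuadraticMap.polarBilin Q with hBdef
  have hrefl : LinearMap.BilinForm.IsRefl B := Spinor.polarBilin_isRefl
  intro m
  induction m with
  | zero =>
    intro _
    rw [Fin.prod_univ_zero, Nat.card_eq_one_iff_unique]
    exact ⟨⟨fun a b => Subtype.ext (funext fun i => i.elim0)⟩, ⟨⟨fun i => i.elim0, linearIndependent_empty_type,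
      fun x hx => by
        rw [Set.range_eq_empty, Submodule.span_empty, Submodule.mem_bot] at hx
        rw [hx, QuadraticMap.map_zero]⟩⟩⟩
  | succ m ih =>
    intro hm
    let P : (Fin m → V) → Submodule F V := fun e =>
      LinearMap.BilinForm.orthogonal B (Submodule.span F (Set.range e))
    have hcons : ∀ (v : V) (e : Fin m → V), (∀ x ∈ Submodule.span F (Set.range (Fin.cons v e : Fin (m + 1) → V)), Q x = 0) ↔
        (v ∈ P e ∧ Q v = 0) ∧ ∀ x ∈ Submodule.span F (Set.range e), Q x = 0 := by
      intro v e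
      rw [Fin.range_cons, Submodule.span_insert]
      constructor
      · intro h
        refine ⟨⟨fun y hy => ?_, h v (Submodule.mem_sup_left (Submodule.mem_span_singleton_self v))⟩,
          fun x hx => h x (Submodule.mem_sup_right hx)⟩
        exact orthTo_of_quad h y (Submodule.mem_sup_right hy) v
          (Submodule.mem_sup_left (Submodule.mem_span_singleton_self v))
      · rintro ⟨⟨hv, hv0⟩, h⟩
        refine quad_sup (fun u hu => ?_) h fun u hu y hy => ?_
        · obtain ⟨a, rfl⟩ := Submodule.mem_span_singleton.1 hu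
          rw [QuadraticMap.map_smul, hv0, smul_zero]
        · obtain ⟨a, rfl⟩ := Submodule.mem_span_singleton.1 hu
          rw [map_smul, LinearMap.smul_apply, show B v y = 0 from hrefl y v (hv y hy), smul_zero]
    let f : {e : Fin (m + 1) → V // LinearIndependent F e ∧ ∀ x ∈ Submodule.span F (Set.range e), Q x = 0} ≃
        (e : {e : Fin m → V // LinearIndependent F e ∧ ∀ x ∈ Submodule.span F (Set.range e), Q x = 0}) ×
          ↥({v : V | v ∈ P e.1 ∧ Q v = 0} \ (Submodule.span F (Set.range e.1) : Set V)) :=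
      { toFun := fun e => ⟨⟨Fin.tail e.1, (linearIndependent_finSucc.1 e.2.1).1,
            ((hcons (e.1 0) (Fin.tail e.1)).1 (by rw [Fin.cons_self_tail]; exact e.2.2)).2⟩, e.1 0,
          ((hcons (e.1 0) (Fin.tail e.1)).1 (by rw [Fin.cons_self_tail]; exact e.2.2)).1,
          (linearIndependent_finSucc.1 e.2.1).2⟩
        invFun := fun x => ⟨Fin.cons x.2.1 x.1.1, linearIndependent_finCons.2 ⟨x.1.2.1, x.2.2.2⟩,
          (hcons x.2.1 x.1.1).2 ⟨x.2.2.1, x.1.2.2⟩⟩
        left_inv := fun e => Subtype.ext (Fin.cons_self_tail e.1)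
        right_inv := fun x => by
          obtain ⟨⟨e, he⟩, ⟨v, hv⟩⟩ := x
          exact Sigma.subtype_ext (Subtype.ext (funext fun i => by simp [Fin.tail])) (by simp) }
    haveI := Fintype.ofFinite {e : Fin m → V // LinearIndependent F e ∧ ∀ x ∈ Submodule.span F (Set.range e), Q x = 0}
    have hfib : ∀ e : {e : Fin m → V // LinearIndependent F e ∧ ∀ x ∈ Submodule.span F (Set.range e), Q x = 0},
        Nat.card ↥({v : V | v ∈ P e.1 ∧ Q v = 0} \ (Submodule.span F (Set.range e.1) : Set V)) =
          q ^ m * N q σ (d - m) := by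
      intro e
      set S := Submodule.span F (Set.range e.1) with hS
      have hQS : ∀ s ∈ S, Q s = 0 := e.2.2
      have hle : S ≤ P e.1 := fun s hs y hy => orthTo_of_quad hQS y hy s hs
      have hSd : finrank F S = m := by rw [hS, finrank_span_eq_card e.2.1, Fintype.card_fin]
      have hPd : finrank F (P e.1) = 2 * (d - m) + m := by
        have := Spinor.finrank_split hQ (W := S)
        change _ + finrank F (P e.1) = _ at this
        omega
      have hPP : LinearMap.BilinForm.orthogonal B (P e.1) = S :=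
        LinearMap.BilinForm.orthogonal_orthogonal hQ hrefl S
      obtain ⟨C, hC⟩ := Submodule.exists_isCompl S
      set P' := C ⊓ P e.1 with hP'
      have hsup : S ⊔ P' = P e.1 := by rw [hP', ← sup_inf_assoc_of_le _ hle, hC.sup_eq_top, top_inf_eq]
      have hinf : S ⊓ P' = ⊥ := le_bot_iff.1 ((inf_le_inf_left _ inf_le_left).trans hC.inf_eq_bot.le)
      have hP'd : finrank F P' = 2 * (d - m) := by
        have := Submodule.finrank_sup_add_finrank_inf_eq S P'
        rw [hsup, hinf, finrank_bot, hSd, hPd] at this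
        omega
      have hnd : NdOn B P' := by
        intro x hx hall
        have hxS : x ∈ S := hPP ▸ fun y hy => by
          rw [← hsup] at hy
          obtain ⟨s, hs, w, hw, rfl⟩ := Submodule.mem_sup.1 hy
          show B (s + w) x = 0
          rw [map_add, LinearMap.add_apply, hx.2 s hs, hrefl x w (hall w hw), add_zero]
        have : x ∈ S ⊓ P' := ⟨hxS, hx⟩
        rwa [hinf, Submodule.mem_bot] at this
      -- the type of the complement
      have htype : Half Q P' ↔ Half Q ⊤ := by
        have hR : NdOn B (LinearMap.BilinForm.orthogonal B P') := by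
          intro x hx hall
          have h0 : x ∈ LinearMap.BilinForm.orthogonal B P' ⊓
              LinearMap.BilinForm.orthogonal B (LinearMap.BilinForm.orthogonal B P') :=
            ⟨hx, fun y hy => hrefl x y (hall y hy)⟩
          rwa [Spinor.orth_nondeg hQ (ndOn_inf_orth hnd), Submodule.mem_bot] at h0
        have ho : OrthTo B P' (LinearMap.BilinForm.orthogonal B P') := fun u hu v hv => hv u hu
        have hRd : finrank F (LinearMap.BilinForm.orthogonal B P') = 2 * m := by
          have := Spinor.finrank_split hQ (W := P')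
          change _ + finrank F (LinearMap.BilinForm.orthogonal B P') = _ at this
          omega
        have hRh : Half Q (LinearMap.BilinForm.orthogonal B P') :=
          half_iff.2 ⟨S, fun s hs y hy => hrefl s y (hy.2 s hs), hQS, by rw [hRd, hSd]; omega⟩
        have htopR : P' ⊔ LinearMap.BilinForm.orthogonal B P' = ⊤ := by
          refine Submodule.eq_top_of_finrank_eq ?_
          have := Submodule.finrank_sup_add_finrank_inf_eq P' (LinearMap.BilinForm.orthogonal B P')
          rw [ndOn_inf_orth hnd, finrank_bot, hP'd, hRd] at this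
          omega
        have h := half_sup hnd hR ho (hP'd ▸ even_two_mul _) (hRd ▸ even_two_mul _)
        rw [htopR, iff_true_right hRh] at h
        exact h.symm
      have hcard := card_singular Q hnd (σ := σ) (by omega : 1 ≤ d - m) hP'd (by rwa [htype])
      have hadd : ∀ s ∈ S, ∀ w ∈ P e.1, Q (s + w) = Q w := fun s hs w hw => by
        rw [FormsLib.quad_add, hQS s hs, show QuadraticMap.polar Q s w = 0 from hw s hs]
        ring
      let g : S × {w : P' // Q (w : V) = 0} → ↥{v : V | v ∈ P e.1 ∧ Q v = 0} := fun x =>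
        ⟨(x.1 : V) + (x.2.1 : V), (P e.1).add_mem (hle x.1.2) x.2.1.2.2,
          (hadd _ x.1.2 _ x.2.1.2.2).trans x.2.2⟩
      have hg : Function.Bijective g := by
        refine ⟨?_, ?_⟩
        · rintro ⟨s, w⟩ ⟨s', w'⟩ h
          have h' : (s : V) + (w.1 : V) = (s' : V) + (w'.1 : V) := congrArg Subtype.val h
          have hd : (s : V) - s' = (w'.1 : V) - w.1 := by
            rw [sub_eq_sub_iff_add_eq_add, h', add_comm]
          have hm : (s : V) - s' ∈ S ⊓ P' := ⟨S.sub_mem s.2 s'.2, hd ▸ P'.sub_mem w'.1.2 w.1.2⟩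
          rw [hinf, Submodule.mem_bot] at hm
          rw [hm] at hd
          exact Prod.ext (Subtype.ext (sub_eq_zero.1 hm)) (Subtype.ext (Subtype.ext (sub_eq_zero.1 hd.symm).symm))
        · rintro ⟨v, hv, hv0⟩
          have hv' : v ∈ S ⊔ P' := hsup ▸ hv
          obtain ⟨s, hs, w, hw, rfl⟩ := Submodule.mem_sup.1 hv'
          exact ⟨⟨⟨s, hs⟩, ⟨w, hw⟩, show Q w = 0 from (hadd s hs w hw.2).symm.trans hv0⟩, rfl⟩
      have hsub : (S : Set V) ⊆ {v : V | v ∈ P e.1 ∧ Q v = 0} := fun v hv => ⟨hle hv, hQS v hv⟩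
      rw [Nat.card_coe_set_eq, Set.ncard_sdiff hsub, ← Nat.card_coe_set_eq,
        ← Nat.card_eq_of_bijective g hg, Nat.card_prod, hcard, ← Nat.card_coe_set_eq]
      show Nat.card S * _ - Nat.card S = _
      rw [Module.natCard_eq_pow_finrank (K := F), Nat.card_eq_fintype_card, hSd, mul_add, mul_one, Nat.add_sub_cancel]
    rw [Nat.card_congr f, Nat.card_sigma, Finset.sum_congr rfl fun e _ => hfib e, Finset.sum_const, Finset.card_univ,
      ← Nat.card_eq_fintype_card, ih (by omega), smul_eq_mul, Fin.prod_univ_castSucc]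
    rfl

/-- The number of totally singular subspaces of a given dimension. -/
theorem card_mul (Q : QuadraticForm F V) (hQ : (QuadraticMap.polarBilin Q).Nondegenerate)
    {d σ m : ℕ} (hdim : finrank F V = 2 * d) (hσ : σ = 0 ∧ Half Q ⊤ ∨ σ = 1 ∧ ¬ Half Q ⊤) (hm : m ≤ d) :
    Nat.card {W : Submodule F V // finrank F ↥W = m ∧ ∀ w ∈ W, Q w = 0} *
      ∏ j : Fin m, (Fintype.card F ^ (m - j) - 1) =
      ∏ j : Fin m, N (Fintype.card F) σ (d - j) := by
  classical
  haveI : Finite V := Module.finite_of_finite F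
  set q := Fintype.card F
  set Ω := {W : Submodule F V // finrank F ↥W = m ∧ ∀ w ∈ W, Q w = 0}
  have h := card_tuples Q hQ hdim hσ m hm
  let f : ((W : Ω) × {s : Fin m → W.1 // LinearIndependent F s}) →
      {e : Fin m → V // LinearIndependent F e ∧ ∀ x ∈ Submodule.span F (Set.range e), Q x = 0} :=
    fun x => ⟨Subtype.val ∘ x.2.1, x.2.2.map' x.1.1.subtype x.1.1.ker_subtype, fun y hy =>
      x.1.2.2 y (Submodule.span_le.2 (by rintro _ ⟨l, rfl⟩; exact (x.2.1 l).2) hy)⟩
  have hspan : ∀ x, Submodule.span F (Set.range (f x).1) = x.1.1 := by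
    intro x
    refine Submodule.eq_of_le_of_finrank_eq (Submodule.span_le.2 ?_) ?_
    · rintro _ ⟨l, rfl⟩
      exact (x.2.1 l).2
    · rw [finrank_span_eq_card (f x).2.1, Fintype.card_fin, x.1.2.1]
  have hbij : Function.Bijective f := by
    refine ⟨fun x y hxy => ?_, fun e => ?_⟩
    · have hW : x.1 = y.1 := Subtype.ext (by rw [← hspan x, ← hspan y, hxy])
      obtain ⟨W, s⟩ := x
      obtain ⟨W', s'⟩ := y
      subst hW
      refine Sigma.ext rfl (heq_of_eq (Subtype.ext (funext fun l => Subtype.ext ?_)))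
      exact congrFun (congrArg Subtype.val hxy) l
    · let W : Submodule F V := Submodule.span F (Set.range e.1)
      have hWd : finrank F W = m := by rw [finrank_span_eq_card e.2.1, Fintype.card_fin]
      exact ⟨⟨⟨W, hWd, e.2.2⟩, ⟨fun l => ⟨e.1 l, Submodule.subset_span ⟨l, rfl⟩⟩,
        LinearIndependent.of_comp W.subtype e.2.1⟩⟩, rfl⟩
  haveI : Finite (Submodule F V) := Finite.of_injective _ SetLike.coe_injective
  haveI := Fintype.ofFinite Ω
  rw [← Nat.card_congr (Equiv.ofBijective f hbij), Nat.card_sigma,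
    Finset.sum_congr rfl fun W _ => (card_linearIndependent (K := F) (V := W.1) W.2.1.ge).trans (by rw [W.2.1]),
    Finset.sum_const, smul_eq_mul, Finset.card_univ, ← Nat.card_eq_fintype_card] at h
  have hfac : ∏ j : Fin m, (q ^ m - q ^ (j : ℕ)) = (∏ j : Fin m, q ^ (j : ℕ)) * ∏ j : Fin m, (q ^ (m - j) - 1) := by
    rw [← Finset.prod_mul_distrib]
    refine Finset.prod_congr rfl fun j _ => ?_
    rw [Nat.mul_sub, mul_one, ← pow_add, Nat.add_sub_cancel' j.2.le]
  rw [hfac, Finset.prod_mul_distrib, mul_left_comm] at h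
  exact Nat.eq_of_mul_eq_mul_left (Finset.prod_pos fun j _ => pow_pos Fintype.card_pos _) h

/-- A prime dividing the number divides one of the factors and is not the characteristic. -/
theorem exists_factor {p : ℕ} [Fact p.Prime] [CharP F p] (Q : QuadraticForm F V)
    (hQ : (QuadraticMap.polarBilin Q).Nondegenerate)
    {d σ m : ℕ} (hdim : finrank F V = 2 * d) (hσ : σ = 0 ∧ Half Q ⊤ ∨ σ = 1 ∧ ¬ Half Q ⊤) (hm : m + 1 ≤ d)
    {r : ℕ} (hr : r.Prime) (h : r ∣ Nat.card {W : Submodule F V // finrank F ↥W = m ∧ ∀ w ∈ W, Q w = 0}) :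
    r ≠ p ∧ ∃ j, j < m ∧ r ∣ N (Fintype.card F) σ (d - j) := by
  have h1 := h.mul_right (∏ j : Fin m, (Fintype.card F ^ (m - j) - 1))
  rw [card_mul Q hQ hdim hσ (by omega)] at h1
  obtain ⟨j, -, hj⟩ := (hr.prime.dvd_finsetProd_iff _).1 h1
  refine ⟨?_, j, j.2, hj⟩
  rintro rfl
  obtain ⟨f, -, hf⟩ := FiniteField.card F r
  have hd : ∀ k, 1 ≤ k → r ∣ Fintype.card F ^ k := fun k hk =>
    (hf ▸ dvd_pow_self r f.pos.ne' : r ∣ Fintype.card F).trans (dvd_pow_self _ (by omega))
  have hne : ∀ k, 1 ≤ k → ¬ r ∣ Fintype.card F ^ k - 1 := fun k hk h' => hr.not_dvd_one (by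
    have := Nat.dvd_sub (hd k hk) h'
    rwa [Nat.sub_sub_self (Nat.one_le_pow _ _ Fintype.card_pos)] at this)
  have hne' : ∀ k, 1 ≤ k → ¬ r ∣ Fintype.card F ^ k + 1 := fun k hk h' =>
    hr.not_dvd_one ((Nat.dvd_add_right (hd k hk)).1 h')
  have := j.2
  rw [N] at hj
  split_ifs at hj with hs
  · rcases hr.dvd_mul.1 hj with h' | h'
    exacts [hne _ (by omega) h', hne' _ (by omega) h']
  · rcases hr.dvd_mul.1 hj with h' | h'
    exacts [hne' _ (by omega) h', hne _ (by omega) h']

end Cfsg.Agent.Elusive.OrthEvenCount
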