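import Cfsg.Agent.Lib.Elusive.SymplecticDecompositions
import Cfsg.Agent.Lib.Elusive.Linear

/-!
Totally isotropic subspaces of a symplectic space.
-/

set_option autoImplicit false
set_option linter.style.haveILetI false

namespace Cfsg.Agent.Elusive.SpIso

open Module FormIso

variable {F V : Type*} [Field F] [AddCommGroup V] [Module F V] {B : LinearMap.BilinForm F V}

/-- The vectors orthogonal to an independent family. -/
theorem finrank_perp [FiniteDimensional F V] (hB : ∀ u, (∀ v, B u v = 0) → u = 0) {k : ℕ} {e : Fin k → V}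
    (he : LinearIndependent F e) :
    finrank F ↥(LinearMap.ker (LinearMap.pi fun i => B (e i))) + k = finrank F V := by
  classical
  set L : V →ₗ[F] (Fin k → F) := LinearMap.pi fun i => B (e i) with hL
  have hsurj : LinearMap.range L = ⊤ := by
    rw [Submodule.eq_top_iff']
    intro c
    by_contra hc
    obtain ⟨f, hfc, hf0⟩ := Submodule.exists_dual_map_eq_bot_of_notMem hc inferInstance
    have hsum : ∀ y : Fin k → F, f y = ∑ i, y i * f (Pi.single i 1) := fun y => by
      conv_lhs => rw [pi_eq_sum_univ' y, map_sum]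
      exact Finset.sum_congr rfl fun i _ => by rw [map_smul, smul_eq_mul]
    have hx : ∑ i, f (Pi.single i 1) • e i = 0 := hB _ fun v => by
      have : f (L v) ∈ Submodule.map f (LinearMap.range L) := Submodule.mem_map_of_mem (LinearMap.mem_range_self L v)
      rw [hf0, Submodule.mem_bot, hsum] at this
      rw [← this, map_sum, LinearMap.sum_apply]
      exact Finset.sum_congr rfl fun i _ => by simp [hL, mul_comm]
    have h0 := Fintype.linearIndependent_iff.1 he _ hx
    exact hfc (by rw [hsum]; simp [h0])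
  have := L.finrank_range_add_finrank_ker
  rw [hsurj, finrank_top, finrank_pi, Fintype.card_fin] at this
  omega

/-- A totally isotropic subspace of a nondegenerate one has at most half its dimension. -/
theorem two_mul_finrank_le [FiniteDimensional F V] {X W : Submodule F V} (hX : NdOn B X) (hWX : W ≤ X)
    (hW : OrthTo B W W) : 2 * finrank F W ≤ finrank F X := by
  let B' := B.compl₁₂ X.subtype X.subtype
  set W' := W.comap X.subtype
  have hd : finrank F W' = finrank F W := (Submodule.comapSubtypeEquivOfLe hWX).finrank_eq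
  let b := finBasisOfFinrankEq F W' hd
  have h := finrank_perp (B := B') (fun u hu => Subtype.ext (hX u u.2 fun v hv => hu ⟨v, hv⟩))
    (e := fun i => (b i : X)) (b.linearIndependent.map' W'.subtype W'.ker_subtype)
  have hle : W' ≤ LinearMap.ker (LinearMap.pi fun i => B' (b i : X)) := fun v hv =>
    LinearMap.mem_ker.2 (funext fun i => hW _ (b i).2 _ hv)
  have := Submodule.finrank_mono hle
  omega

/-- Totally isotropic subspaces of all dimensions up to one half. -/
theorem exists_isotropic [FiniteDimensional F V] (hA : LinearMap.IsAlt B) {X : Submodule F V} (hX : NdOn B X) {m : ℕ}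
    (hm : 2 * m ≤ finrank F X) : ∃ W : Submodule F V, W ≤ X ∧ OrthTo B W W ∧ finrank F W = m := by
  classical
  obtain ⟨k, hk⟩ := even_finrank hA hX
  obtain ⟨e, he⟩ := FormModel.exists_symp_coords (B := B.compl₁₂ X.subtype X.subtype) (fun u => hA (u : V))
    (fun u hu => Subtype.ext (hX u u.2 fun v hv => hu ⟨v, hv⟩)) (m := k) (hk.trans (two_mul k).symm)
  let w : Fin m → V := fun i => (e (Pi.single (Sum.inl (Fin.castLE (by omega) i)) 1) : X)
  refine ⟨Submodule.span F (Set.range w), Submodule.span_le.2 ?_, ?_, ?_⟩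
  · rintro _ ⟨i, rfl⟩
    exact (e _).2
  · have h0 : ∀ i l, B (w i) (w l) = 0 := fun i l => by
      refine (he _ _).trans ?_
      simp [FormsLib.spB_expand]
    intro u hu v hv
    have h1 : ∀ l, B u (w l) = 0 := fun l => by
      have : Submodule.span F (Set.range w) ≤ LinearMap.ker (B.flip (w l)) := by
        rw [Submodule.span_le]
        rintro _ ⟨i, rfl⟩
        exact h0 i l
      exact this hu
    have : Submodule.span F (Set.range w) ≤ LinearMap.ker (B u) := by
      rw [Submodule.span_le]
      rintro _ ⟨l, rfl⟩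
      exact h1 l
    exact this hv
  · have h1 : LinearIndependent F (fun i : Fin m =>
        (Pi.single (Sum.inl (Fin.castLE (show m ≤ k by omega) i)) 1 : Fin k ⊕ Fin k → F)) :=
      (Pi.linearIndependent_single_one (Fin k ⊕ Fin k) F).comp _ (Sum.inl_injective.comp (Fin.castLE_injective _))
    have hli : LinearIndependent F w :=
      (h1.map' (e : (Fin k ⊕ Fin k → F) →ₗ[F] X) e.ker).map' X.subtype X.ker_subtype
    rw [finrank_span_eq_card hli, Fintype.card_fin]

section Count

variable [Fintype F] [FiniteDimensional F V]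

/-- Independent families spanning totally isotropic subspaces. -/
theorem card_tuples (hA : LinearMap.IsAlt B) (hB : ∀ u, (∀ v, B u v = 0) → u = 0) {d : ℕ}
    (hd : finrank F V = 2 * d) : ∀ m, m ≤ d →
    Nat.card {e : Fin m → V // LinearIndependent F e ∧ ∀ i j, B (e i) (e j) = 0} =
      ∏ j : Fin m, Fintype.card F ^ (j : ℕ) * (Fintype.card F ^ (2 * (d - j)) - 1) := by
  classical
  haveI : Finite V := Module.finite_of_finite F
  set q := Fintype.card F
  intro m
  induction m with
  | zero =>
    intro _
    rw [Fin.prod_univ_zero, Nat.card_eq_one_iff_unique]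
    exact ⟨⟨fun a b => Subtype.ext (funext fun i => i.elim0)⟩,
      ⟨⟨fun i => i.elim0, linearIndependent_empty_type, fun i => i.elim0⟩⟩⟩
  | succ m ih =>
    intro hm
    let P : (Fin m → V) → Submodule F V := fun e => LinearMap.ker (LinearMap.pi fun i => B (e i))
    have hP : ∀ e v, v ∈ P e ↔ ∀ i, B (e i) v = 0 := fun e v => by simp [P, funext_iff]
    let f : {e : Fin (m + 1) → V // LinearIndependent F e ∧ ∀ i j, B (e i) (e j) = 0} ≃
        (e : {e : Fin m → V // LinearIndependent F e ∧ ∀ i j, B (e i) (e j) = 0}) ×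
          ↥((P e.1 : Set V) \ Submodule.span F (Set.range e.1)) :=
      { toFun := fun e => ⟨⟨Fin.tail e.1, (linearIndependent_finSucc.1 e.2.1).1, fun i j => e.2.2 _ _⟩, e.1 0,
          (hP _ _).2 (fun i => e.2.2 _ _), (linearIndependent_finSucc.1 e.2.1).2⟩
        invFun := fun x => ⟨Fin.cons x.2.1 x.1.1, linearIndependent_finCons.2 ⟨x.1.2.1, x.2.2.2⟩, fun i j => by
          induction i using Fin.cases with
          | zero =>
            induction j using Fin.cases with
            | zero => simpa using hA x.2.1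
            | succ j => simpa using refl_of_alt hA _ _ ((hP _ _).1 x.2.2.1 j)
          | succ i =>
            induction j using Fin.cases with
            | zero => simpa using (hP _ _).1 x.2.2.1 i
            | succ j => simpa using x.1.2.2 i j⟩
        left_inv := fun e => Subtype.ext (Fin.cons_self_tail e.1)
        right_inv := fun x => by
          obtain ⟨⟨e, he⟩, ⟨v, hv⟩⟩ := x
          exact Sigma.subtype_ext (Subtype.ext (funext fun i => by simp [Fin.tail])) (by simp) }
    haveI := Fintype.ofFinite {e : Fin m → V // LinearIndependent F e ∧ ∀ i j, B (e i) (e j) = 0}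
    have hfib : ∀ e : {e : Fin m → V // LinearIndependent F e ∧ ∀ i j, B (e i) (e j) = 0},
        Nat.card ↥((P e.1 : Set V) \ Submodule.span F (Set.range e.1)) = q ^ m * (q ^ (2 * (d - m)) - 1) := by
      intro e
      have hle : Submodule.span F (Set.range e.1) ≤ P e.1 := by
        rw [Submodule.span_le]
        rintro _ ⟨i, rfl⟩
        exact (hP _ _).2 fun j => e.2.2 j i
      have h1 : finrank F (P e.1) = 2 * (d - m) + m := by
        have := finrank_perp hB e.2.1
        change finrank F (P e.1) + m = _ at this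
        omega
      have h2 : finrank F (Submodule.span F (Set.range e.1)) = m := by
        rw [finrank_span_eq_card e.2.1, Fintype.card_fin]
      have hc : ∀ W : Submodule F V, Set.ncard (W : Set V) = q ^ finrank F W := fun W => by
        rw [← Nat.card_coe_set_eq]
        show Nat.card W = _
        rw [Module.natCard_eq_pow_finrank (K := F), Nat.card_eq_fintype_card]
      rw [Nat.card_coe_set_eq, Set.ncard_sdiff (fun v hv => hle hv), hc, hc, h1, h2, pow_add, Nat.mul_sub_one,
        mul_comm]
    rw [Nat.card_congr f, Nat.card_sigma, Finset.sum_congr rfl fun e _ => hfib e, Finset.sum_const, Finset.card_univ,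
      ← Nat.card_eq_fintype_card, ih (by omega), smul_eq_mul, Fin.prod_univ_castSucc]
    rfl

/-- The number of totally isotropic subspaces of a given dimension. -/
theorem card_mul {d m : ℕ} (hm : m ≤ d) :
    Nat.card {W : Submodule F (Fin d ⊕ Fin d → F) // finrank F ↥W = m ∧
        (∀ u ∈ W, ∀ v ∈ W, Cfsg.sympForm d F u v = 0)} *
      ∏ j : Fin m, (Fintype.card F ^ (m - j) - 1) =
      ∏ j : Fin m, (Fintype.card F ^ (2 * (d - j)) - 1) := by
  classical
  set q := Fintype.card F
  set V := Fin d ⊕ Fin d → F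
  set B := FormsLib.spB d F
  set Ω := {W : Submodule F V // finrank F ↥W = m ∧ (∀ u ∈ W, ∀ v ∈ W, Cfsg.sympForm d F u v = 0)}
  have h := card_tuples (B := B) FormsLib.spB_alt (fun u hu => FormsLib.spB_nondeg.1 u hu) (d := d)
    (by simp [two_mul]) m hm
  let f : ((W : Ω) × {s : Fin m → W.1 // LinearIndependent F s}) →
      {e : Fin m → V // LinearIndependent F e ∧ ∀ i j, B (e i) (e j) = 0} :=
    fun x => ⟨Subtype.val ∘ x.2.1, x.2.2.map' x.1.1.subtype x.1.1.ker_subtype, fun i j =>
      (SpDecomp.sympForm_eq _ _).symm.trans (x.1.2.2 _ (x.2.1 i).2 _ (x.2.1 j).2)⟩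
  have hspan : ∀ x, Submodule.span F (Set.range (f x).1) = x.1.1 := by
    intro x
    refine Submodule.eq_of_le_of_finrank_eq (Submodule.span_le.2 ?_) ?_
    · rintro _ ⟨l, rfl⟩
      exact (x.2.1 l).2
    · rw [finrank_span_eq_card (f x).2.1, Fintype.card_fin, x.1.2.1]
  have hbij : Function.Bijective f := by
    refine ⟨fun x y hxy => ?_, fun e => ?_⟩
    · have hW : x.1 = y.1 := Subtype.ext (by rw [← hspan x, ← hspan y, hxy])
      obtain ⟨W, s⟩ := x
      obtain ⟨W', s'⟩ := y
      subst hW
      refine Sigma.ext rfl (heq_of_eq (Subtype.ext (funext fun l => Subtype.ext ?_)))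
      exact congrFun (congrArg Subtype.val hxy) l
    · let W : Submodule F V := Submodule.span F (Set.range e.1)
      have hWd : finrank F W = m := by rw [finrank_span_eq_card e.2.1, Fintype.card_fin]
      have hWi : ∀ u ∈ W, ∀ v ∈ W, Cfsg.sympForm d F u v = 0 := by
        intro u hu v hv
        rw [SpDecomp.sympForm_eq]
        have h1 : ∀ l, B u (e.1 l) = 0 := fun l => by
          have : W ≤ LinearMap.ker (B.flip (e.1 l)) := Submodule.span_le.2 (by rintro _ ⟨i, rfl⟩; exact e.2.2 i l)
          exact this hu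
        have : W ≤ LinearMap.ker (B u) := Submodule.span_le.2 (by rintro _ ⟨l, rfl⟩; exact h1 l)
        exact this hv
      exact ⟨⟨⟨W, hWd, hWi⟩, ⟨fun l => ⟨e.1 l, Submodule.subset_span ⟨l, rfl⟩⟩,
        LinearIndependent.of_comp W.subtype e.2.1⟩⟩, rfl⟩
  haveI : Finite (Submodule F V) := Finite.of_injective _ SetLike.coe_injective
  haveI := Fintype.ofFinite Ω
  rw [← Nat.card_congr (Equiv.ofBijective f hbij), Nat.card_sigma,
    Finset.sum_congr rfl fun W _ => (card_linearIndependent (K := F) (V := W.1) W.2.1.ge).trans (by rw [W.2.1]),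
    Finset.sum_const, smul_eq_mul, Finset.card_univ, ← Nat.card_eq_fintype_card] at h
  have hfac : ∏ j : Fin m, (q ^ m - q ^ (j : ℕ)) = (∏ j : Fin m, q ^ (j : ℕ)) * ∏ j : Fin m, (q ^ (m - j) - 1) := by
    rw [← Finset.prod_mul_distrib]
    refine Finset.prod_congr rfl fun j _ => ?_
    rw [Nat.mul_sub, mul_one, ← pow_add, Nat.add_sub_cancel' j.2.le]
  rw [hfac, Finset.prod_mul_distrib, mul_left_comm] at h
  exact Nat.eq_of_mul_eq_mul_left (Finset.prod_pos fun j _ => pow_pos Fintype.card_pos _) h

variable {p : ℕ} [Fact p.Prime] [CharP F p]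

/-- The characteristic does not divide the number. -/
theorem not_dvd_card {d m : ℕ} (hm : m ≤ d) :
    ¬ p ∣ Nat.card {W : Submodule F (Fin d ⊕ Fin d → F) // finrank F ↥W = m ∧
      (∀ u ∈ W, ∀ v ∈ W, Cfsg.sympForm d F u v = 0)} := by
  intro h
  have hp := (Fact.out : p.Prime)
  have h1 := h.mul_right (∏ j : Fin m, (Fintype.card F ^ (m - j) - 1))
  rw [card_mul hm] at h1
  obtain ⟨j, -, hj⟩ := (hp.prime.dvd_finsetProd_iff _).1 h1
  obtain ⟨e, -, he⟩ := FiniteField.card F p
  have h2 : p ∣ Fintype.card F ^ (2 * (d - j)) :=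
    dvd_pow (he ▸ dvd_pow_self p e.pos.ne') (by have := j.2; omega)
  have h3 := Nat.dvd_sub h2 hj
  rw [Nat.sub_sub_self (Nat.one_le_pow _ _ Fintype.card_pos)] at h3
  exact hp.not_dvd_one h3

variable {r : ℕ} [Fact r.Prime]

/-- If `r` divides the number, some multiple of `c` exceeds `n - 2m`. -/
theorem mod_lt_of_dvd {c : ℕ}
    (hc : c = if Even (orderOf (Fintype.card F : ZMod r)) then orderOf (Fintype.card F : ZMod r)
      else 2 * orderOf (Fintype.card F : ZMod r)) {d m : ℕ} (hm : m ≤ d)
    (hΩ : r ∣ Nat.card {W : Submodule F (Fin d ⊕ Fin d → F) // finrank F ↥W = m ∧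
      (∀ u ∈ W, ∀ v ∈ W, Cfsg.sympForm d F u v = 0)}) :
    (2 * d) % c < 2 * m ∧ c ≤ 2 * d := by
  have h1 := hΩ.mul_right (∏ j : Fin m, (Fintype.card F ^ (m - j) - 1))
  rw [card_mul hm] at h1
  obtain ⟨j, -, hj⟩ := ((Fact.out : r.Prime).prime.dvd_finsetProd_iff _).1 h1
  have hjm := j.2
  have h3 : (Fintype.card F : ZMod r) ^ (2 * (d - j)) = 1 := by
    rw [← sub_eq_zero, ← Nat.cast_pow, ← Nat.cast_one (R := ZMod r),
      ← Nat.cast_sub (Nat.one_le_pow _ _ Fintype.card_pos), ZMod.natCast_eq_zero_iff]
    exact hj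
  have h4 := orderOf_dvd_of_pow_eq_one h3
  obtain ⟨l, hl⟩ : c ∣ 2 * (d - j) := by
    rw [hc]
    split_ifs with hev
    · exact h4
    · exact Nat.mul_dvd_mul_left 2
        (((Nat.prime_two.coprime_iff_not_dvd.2 fun h' => hev (even_iff_two_dvd.2 h')).symm).dvd_of_dvd_mul_left h4)
  refine ⟨?_, (Nat.le_of_dvd (by omega) ⟨l, hl⟩).trans (by omega)⟩
  rw [show 2 * d = 2 * (j : ℕ) + c * l by omega, Nat.add_mul_mod_self_left]
  exact (Nat.mod_le _ _).trans_lt (by omega)

end Count

end Cfsg.Agent.Elusive.SpIso
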