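import Cfsg.Agent.Lib.Elusive.SymplecticWitness
import Cfsg.Agent.Lib.Elusive.SymplecticIsotropic
import Cfsg.Agent.Lib.Elusive.CyclicModel

/-!
Symplectic elements of prime order with few totally isotropic invariant subspaces.
-/

set_option autoImplicit false
set_option linter.style.haveILetI false

namespace Cfsg.Agent.Elusive.SpClass

open Module Polynomial FormIso

variable {F : Type*} [Field F] [Fintype F] {p : ℕ} [Fact p.Prime] [CharP F p] {r : ℕ} [Fact r.Prime]

/-- An alternating form on the field of `q ^ 2h` elements preserved by a root of unity. -/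
theorem exists_field_form (hr2 : r ≠ 2) {K : Type*} [Field K] [Fintype K] [Algebra F K] {h : ℕ}
    (hKcard : Fintype.card K = Fintype.card F ^ (2 * h)) (hdvd : r ∣ Fintype.card F ^ h + 1) {ζ : K} (hζ : ζ ^ r = 1)
    (hζ1 : ζ ≠ 1) :
    ∃ B : LinearMap.BilinForm F K, LinearMap.IsAlt B ∧ (∀ u, (∀ v, B u v = 0) → u = 0) ∧
      ∀ u v, B (ζ * u) (ζ * v) = B u v := by
  classical
  have hrpr := (Fact.out : r.Prime)
  haveI : Module.Finite F K := Module.Finite.of_finite
  let φ : K →ₐ[F] K := FiniteField.frobeniusAlgHom F K ^ h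
  have hφ : ∀ a : K, φ a = a ^ Fintype.card F ^ h := by
    intro a
    show (FiniteField.frobeniusAlgHom F K ^ h) a = _
    clear hKcard hdvd φ
    induction h generalizing a with
    | zero => simp
    | succ k ih => rw [pow_succ, AlgHom.mul_apply, ih, FiniteField.coe_frobeniusAlgHom, ← pow_mul, pow_succ']
  let τ : K →+* K := φ.toRingHom
  have hττ : ∀ a, τ (τ a) = a := fun a => by
    show φ (φ a) = a
    rw [hφ, hφ, ← pow_mul, ← pow_add, ← two_mul, ← hKcard, FiniteField.pow_card]
  have htr : ∀ z, Algebra.trace F K (τ z) = (RingHom.id F) (Algebra.trace F K z) := fun z => by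
    let ψ : K ≃ₐ[F] K := AlgEquiv.ofBijective φ ⟨φ.toRingHom.injective, fun a => ⟨φ a, hττ a⟩⟩
    exact Algebra.trace_eq_of_algEquiv ψ z
  have hτc : ∀ a : F, τ (algebraMap F K a) = algebraMap F K ((RingHom.id F) a) := fun a => φ.commutes a
  have hτζ : τ ζ * ζ = 1 := by
    show φ ζ * ζ = 1
    obtain ⟨l, hl⟩ := hdvd
    rw [hφ, ← pow_succ, hl, pow_mul, hζ, one_pow]
  obtain ⟨l, hl⟩ := hrpr.odd_of_ne_two hr2
  have hne : τ ζ ≠ ζ := fun h0 => by
    rw [h0] at hτζ
    refine hζ1 ?_
    rw [hl, pow_succ, pow_mul, pow_two, hτζ, one_pow, one_mul] at hζ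
    exact hζ
  have hsum : ζ + τ ζ ≠ 0 := fun h0 => by
    have h1 : ζ ^ 2 = -1 := by
      rw [eq_neg_of_add_eq_zero_right h0] at hτζ
      linear_combination -hτζ
    have h4 : ζ ^ 4 = 1 := by rw [show 4 = 2 * 2 from rfl, pow_mul, h1, neg_one_sq]
    have h5 : ζ ^ Nat.gcd r 4 = 1 := pow_gcd_eq_one.2 ⟨hζ, h4⟩
    rw [show Nat.gcd r 4 = 1 from Nat.Coprime.pow_right 2 ((Nat.coprime_primes hrpr Nat.prime_two).2 hr2),
      pow_one] at h5
    exact hζ1 h5
  set w : K := ζ / (ζ + τ ζ) with hwdef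
  have hw : w + τ w = 1 := by
    rw [hwdef, map_div₀, map_add, hττ, add_comm (τ ζ) ζ, ← add_div, div_self hsum]
  set δ : K := ζ - τ ζ with hδdef
  have hδ0 : δ ≠ 0 := sub_ne_zero.2 (Ne.symm hne)
  have hδ : algebraMap F K (-1 : F) * τ δ = δ := by
    rw [map_neg, map_one, hδdef, map_sub, hττ]
    ring
  have hflip := FormTorus.fieldB_isFlip (RingHom.id F) (-1 : F) τ hτc htr hττ δ hδ hδ0
  refine ⟨FormTorus.fieldB (RingHom.id F) τ hτc δ, fun a => ?_, hflip.nondeg,
    fun u v => FormTorus.fieldB_mul (RingHom.id F) τ hτc δ ζ hτζ u v⟩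
  set y : K := δ * τ a * a with hy
  have hτy : τ y = -y := by
    rw [hy, hδdef, map_mul, map_mul, map_sub, hττ, hττ]
    ring
  have hysplit : y = y * w - τ (y * w) := by
    rw [map_mul, hτy]
    linear_combination (-y) * hw
  rw [FormTorus.fieldB_apply, ← hy, hysplit, map_sub, htr]
  exact sub_self _

/-- An element whose totally isotropic invariant subspaces are small. -/
theorem exists_class_element (hr2 : r ≠ 2) (hrp : r ≠ p) {d L s : ℕ}
    (hev : Even (orderOf (Fintype.card F : ZMod r))) (hL : 1 ≤ L)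
    (hs : (s + 1) * orderOf (Fintype.card F : ZMod r) ≤ r - 1)
    (hd : (L + s) * orderOf (Fintype.card F : ZMod r) ≤ 2 * d) :
    ∃ x : ↥(Matrix.symplecticGroup (Fin d) F),
      (x : Matrix (Fin d ⊕ Fin d) (Fin d ⊕ Fin d) F) ^ r = 1 ∧
      finrank F ↥(fixedSpace (Matrix.toLin' (x : Matrix (Fin d ⊕ Fin d) (Fin d ⊕ Fin d) F))) =
        2 * d - (L + s) * orderOf (Fintype.card F : ZMod r) ∧
      ∀ W : Submodule F (Fin d ⊕ Fin d → F), OrthTo (FormsLib.spB d F) W W →
        W.map (Matrix.toLin' (x : Matrix (Fin d ⊕ Fin d) (Fin d ⊕ Fin d) F)) ≤ W →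
        ∃ a, a * orderOf (Fintype.card F : ZMod r) ≤ finrank F W ∧ 2 * a ≤ L ∧
          2 * (finrank F W - a * orderOf (Fintype.card F : ZMod r)) ≤
            2 * d - (L + s) * orderOf (Fintype.card F : ZMod r) := by
  classical
  have hrpr := (Fact.out : r.Prime)
  have hepos := orderOf_card_pos (F := F) (p := p) hrp
  obtain ⟨e, he⟩ : ∃ e, orderOf (Fintype.card F : ZMod r) = e := ⟨_, rfl⟩
  simp only [he] at hev hs hd hepos ⊢
  obtain ⟨h, hh⟩ := hev.two_dvd
  have hqh : r ∣ Fintype.card F ^ h + 1 := by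
    rw [← ZMod.natCast_eq_zero_iff]
    push_cast
    have h2 : (Fintype.card F : ZMod r) ^ h * (Fintype.card F : ZMod r) ^ h = 1 := by
      rw [← pow_add, ← two_mul, ← hh, ← he]
      exact pow_orderOf_eq_one _
    rw [(mul_self_eq_one_iff.1 h2).resolve_left fun h' => by
      have := Nat.le_of_dvd (by omega) (orderOf_dvd_of_pow_eq_one h')
      omega]
    ring
  obtain ⟨K, _, _, _, hKdim, hKcard, ζ, hζ, hζ1⟩ := NonsingPoints.exists_root_of_unity (F := F) e hepos hrpr
    ((ZMod.natCast_eq_zero_iff _ _).1 (by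
      rw [Nat.cast_sub (Nat.one_le_pow _ _ Fintype.card_pos), Nat.cast_pow, Nat.cast_one, ← he, pow_orderOf_eq_one,
        sub_self]))
  haveI : Module.Finite F K := Module.Finite.of_finite
  -- roots with distinct minimal polynomials
  set R : Finset K := (Finset.Ico 1 r).image fun k => ζ ^ k
  have hR : ∀ η ∈ R, η ^ r = 1 ∧ η ≠ 1 := by
    intro η hη
    obtain ⟨k, hk, rfl⟩ := Finset.mem_image.1 hη
    obtain ⟨hk1, hk2⟩ := Finset.mem_Ico.1 hk
    refine ⟨by rw [← pow_mul, mul_comm, pow_mul, hζ, one_pow], fun h1 => ?_⟩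
    have := orderOf_dvd_of_pow_eq_one h1
    rw [orderOf_eq_prime hζ hζ1] at this
    have := Nat.le_of_dvd (by omega) this
    omega
  have hRcard : R.card = r - 1 := by
    rw [Finset.card_image_of_injOn, Nat.card_Ico]
    intro a ha b hb hab
    have ha' := (Finset.mem_Ico.1 ha).2
    have hb' := (Finset.mem_Ico.1 hb).2
    exact pow_injOn_Iio_orderOf (by rw [Set.mem_Iio, orderOf_eq_prime hζ hζ1]; exact ha')
      (by rw [Set.mem_Iio, orderOf_eq_prime hζ hζ1]; exact hb') hab
  have hfib : R.card ≤ e * (R.image (minpoly F)).card := by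
    refine Finset.card_le_mul_card_image R e fun f hf => ?_
    obtain ⟨η, -, rfl⟩ := Finset.mem_image.1 hf
    have hint : IsIntegral F η := Algebra.IsIntegral.isIntegral η
    refine le_trans (Finset.card_le_card (t := ((minpoly F η).map (algebraMap F K)).roots.toFinset) fun x hx => ?_) ?_
    · rw [Multiset.mem_toFinset, mem_roots (Polynomial.map_ne_zero (minpoly.ne_zero hint)), IsRoot.def, eval_map,
        ← aeval_def, ← (Finset.mem_filter.1 hx).2, minpoly.aeval]
    · exact (Multiset.toFinset_card_le _).trans ((card_roots' _).trans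
        ((natDegree_map _).le.trans ((minpoly.natDegree_le η).trans hKdim.le)))
  have hcard : s + 1 ≤ (R.image (minpoly F)).card := by
    refine Nat.le_of_mul_le_mul_left ?_ hepos
    rw [mul_comm]
    exact (hs.trans hRcard.ge).trans hfib
  let E : Fin (s + 1) ↪ {f // f ∈ R.image (minpoly F)} :=
    (Fin.castLEEmb hcard).trans ((R.image (minpoly F)).equivFin.symm.toEmbedding)
  have hEex : ∀ l, ∃ η ∈ R, minpoly F η = (E l).1 := fun l => Finset.mem_image.1 (E l).2
  choose z hz hzf using hEex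
  have hzinj : ∀ l l', minpoly F (z l) = minpoly F (z l') → l = l' := fun l l' hll =>
    E.injective (Subtype.ext (by rw [← hzf, ← hzf, hll]))
  -- the blocks
  let cls : Fin (L + s) → Fin (s + 1) := fun k =>
    if hk : (k : ℕ) < L then 0 else ⟨(k : ℕ) - L + 1, by have := k.2; omega⟩
  let η : Fin (L + s) → K := fun k => z (cls k)
  have hη : ∀ k, η k ^ r = 1 ∧ η k ≠ 1 := fun k => hR _ (hz _)
  choose Bk hBA hBN hBiso using fun k => exists_field_form (F := F) hr2 (h := h)
    (hKcard.trans (by rw [hh])) hqh (hη k).1 (hη k).2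
  obtain ⟨u, hu⟩ : ∃ u, d = (L + s) * h + u := ⟨d - (L + s) * h, by rw [hh, mul_left_comm] at hd; omega⟩
  let V := (Fin (L + s) → K) × (Fin u ⊕ Fin u → F)
  let B : LinearMap.BilinForm F ((Fin (L + s) → K) × (Fin u ⊕ Fin u → F)) :=
    ∑ k : Fin (L + s), (Bk k).compl₁₂ (LinearMap.proj k ∘ₗ LinearMap.fst F _ _)
        (LinearMap.proj k ∘ₗ LinearMap.fst F _ _) +
      (FormsLib.spB u F).compl₁₂ (LinearMap.snd F _ _) (LinearMap.snd F _ _)
  have hB : ∀ v w, B v w = ∑ k, Bk k (v.1 k) (w.1 k) + FormsLib.spB u F v.2 w.2 :=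
    fun v w => by simp [B]
  have hA : LinearMap.IsAlt B := fun v => by
    rw [hB, Finset.sum_eq_zero fun k _ => hBA k (v.1 k), FormsLib.spB_alt v.2, add_zero]
  have hN : ∀ v, (∀ w, B v w = 0) → v = 0 := fun v hv => by
    refine Prod.ext (funext fun k => hBN k _ fun y => ?_) (FormsLib.spB_nondeg.1 _ fun y => ?_)
    · have := hv (Pi.single k y, 0)
      rw [hB, Finset.sum_eq_single k (fun l _ hl => by simp [Pi.single_eq_of_ne hl]) (by simp)] at this
      simpa using this
    · simpa [hB] using hv (0, y)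
  let g : Module.End F ((Fin (L + s) → K) × (Fin u ⊕ Fin u → F)) :=
    (LinearMap.pi fun k => LinearMap.mulLeft F (η k) ∘ₗ LinearMap.proj k).prodMap LinearMap.id
  have hg : ∀ v, g v = ((fun k => η k * v.1 k), v.2) := fun v => rfl
  have hpoly : ∀ (P : F[X]) v, aeval g P v = ((fun k => aeval (η k) P * v.1 k), P.eval 1 • v.2) := by
    intro P
    induction P using Polynomial.induction_on with
    | C c =>
      intro v
      rw [aeval_C, Module.algebraMap_end_apply, eval_C]
      refine Prod.ext (funext fun k => ?_) rfl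
      show c • v.1 k = aeval (η k) (C c) * v.1 k
      rw [aeval_C, ← Algebra.smul_def]
    | add P Q hP hQ =>
      intro v
      rw [map_add, LinearMap.add_apply, hP, hQ]
      refine Prod.ext (funext fun k => ?_) ?_
      · simp [add_mul]
      · simp [add_smul]
    | monomial l c ih =>
      intro v
      rw [pow_succ, ← mul_assoc, map_mul, aeval_X, Module.End.mul_apply, ih, hg]
      refine Prod.ext (funext fun k => ?_) ?_
      · simp only [map_mul, aeval_X]
        ring
      · simp
  have hgr : g ^ r = 1 := LinearMap.ext fun v => by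
    rw [← aeval_X (R := F) g, ← map_pow, hpoly]
    refine Prod.ext (funext fun k => ?_) ?_
    · simp [(hη k).1]
    · simp
  obtain ⟨Φ, hΦ⟩ := FormModel.exists_symp_coords hA hN (m := d) (by
    rw [finrank_prod, finrank_pi_fintype, finrank_pi, Fintype.card_sum, Fintype.card_fin, hu, Finset.sum_const,
      Finset.card_univ, Fintype.card_fin, hKdim, smul_eq_mul, hh]
    ring)
  let G : Module.End F (Fin d ⊕ Fin d → F) :=
    (Φ.symm : _ →ₗ[F] (Fin d ⊕ Fin d → F)) ∘ₗ g ∘ₗ (Φ : (Fin d ⊕ Fin d → F) →ₗ[F] _)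
  have hG : ∀ v, G v = Φ.symm (g (Φ v)) := fun v => rfl
  have hGpow : ∀ (l : ℕ) v, (G ^ l) v = Φ.symm ((g ^ l) (Φ v)) := by
    intro l
    induction l with
    | zero => intro v; exact (Φ.symm_apply_apply v).symm
    | succ l ih =>
      intro v
      rw [pow_succ', pow_succ', Module.End.mul_apply, Module.End.mul_apply, ih, hG, Φ.apply_symm_apply]
  let x : ↥(Matrix.symplecticGroup (Fin d) F) := ⟨LinearMap.toMatrix' G,
    (FormsLib.mem_symplectic_iff _).2 fun a b => by
      rw [LinearMap.toMatrix'_mulVec, LinearMap.toMatrix'_mulVec, hG, hG, ← hΦ, Φ.apply_symm_apply,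
        Φ.apply_symm_apply, hB, hg, hg, ← hΦ, hB]
      simp only [hBiso]⟩
  have hxG : Matrix.toLin' (x : Matrix (Fin d ⊕ Fin d) (Fin d ⊕ Fin d) F) = G := Matrix.toLin'_toMatrix' G
  refine ⟨x, Matrix.toLin'.injective ?_, ?_, ?_⟩
  · rw [Matrix.toLin'_pow, hxG, Matrix.toLin'_one]
    exact LinearMap.ext fun v => by rw [hGpow, hgr]; exact Φ.symm_apply_apply v
  · rw [hxG]
    have hmap : (fixedSpace G).map (Φ : (Fin d ⊕ Fin d → F) →ₗ[F] _) =
        LinearMap.range (LinearMap.inr F (Fin (L + s) → K) (Fin u ⊕ Fin u → F)) := by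
      ext v
      constructor
      · rintro ⟨a, ha, rfl⟩
        have h1 := congrArg Φ (mem_fixedSpace.1 ha)
        rw [hG, Φ.apply_symm_apply, hg] at h1
        refine ⟨(Φ a).2, Prod.ext (funext fun k => ?_) rfl⟩
        have h2 : (η k - 1) * (Φ a).1 k = 0 := by
          rw [sub_mul, one_mul, sub_eq_zero]
          exact congrFun (congrArg Prod.fst h1) k
        exact ((mul_eq_zero.1 h2).resolve_left (sub_ne_zero.2 (hη k).2)).symm
      · rintro ⟨b, rfl⟩
        refine ⟨Φ.symm (LinearMap.inr F _ _ b), mem_fixedSpace.2 ?_, Φ.apply_symm_apply _⟩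
        rw [hG, Φ.apply_symm_apply, hg]
        congr 1
        simp
        rfl
    rw [← LinearEquiv.finrank_map_eq Φ (fixedSpace G), hmap, LinearMap.finrank_range_of_inj LinearMap.inr_injective, finrank_pi,
      Fintype.card_sum, Fintype.card_fin, hu, hh, mul_add, mul_left_comm 2 (L + s) h]
    omega
  intro W₀ hW₀ hW₀T
  rw [hxG] at hW₀T
  set W := W₀.map (Φ : (Fin d ⊕ Fin d → F) →ₗ[F] (Fin (L + s) → K) × (Fin u ⊕ Fin u → F)) with hWdef
  have hWd : finrank F W = finrank F W₀ := Φ.finrank_map_eq W₀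
  have hW : OrthTo B W W := by
    rintro _ ⟨a, ha, rfl⟩ _ ⟨b, hb, rfl⟩
    rw [LinearEquiv.coe_coe, hΦ]
    exact hW₀ a ha b hb
  have hWg : ∀ v ∈ W, g v ∈ W := by
    rintro _ ⟨a, ha, rfl⟩
    exact ⟨G a, hW₀T ⟨a, ha, rfl⟩, by rw [LinearEquiv.coe_coe, hG, Φ.apply_symm_apply]⟩
  have hWP : ∀ (P : F[X]), ∀ v ∈ W, aeval g P v ∈ W := by
    intro P v hv
    rw [aeval_eq_sum_range, LinearMap.sum_apply]
    refine Submodule.sum_mem _ fun l _ => Submodule.smul_mem _ _ ?_
    clear ‹l ∈ _›
    induction l with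
    | zero => exact hv
    | succ l ih => rw [pow_succ', Module.End.mul_apply]; exact hWg _ ih
  have hroot : ∀ (l l' : Fin (s + 1)), aeval (z l) (minpoly F (z l')) = 0 → l = l' := fun l l' h0 => by
    have hint : ∀ y : K, IsIntegral F y := fun y => Algebra.IsIntegral.isIntegral y
    exact hzinj _ _ (eq_of_monic_of_associated (minpoly.monic (hint _)) (minpoly.monic (hint _))
      ((minpoly.irreducible (hint _)).associated_of_dvd (minpoly.irreducible (hint _)) (minpoly.dvd F _ h0)))
  -- the singles are not met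
  have hsingle : ∀ v ∈ W, ∀ k : Fin (L + s), L ≤ (k : ℕ) → v.1 k = 0 := by
    intro v hv k hk
    by_contra hvk
    let P : F[X] := (X - 1) * ∏ l' ∈ Finset.univ.erase (cls k), minpoly F (z l')
    have hPk : aeval (η k) P ≠ 0 := by
      rw [map_mul, map_sub, aeval_X, map_one, map_prod]
      refine mul_ne_zero (sub_ne_zero.2 (hη k).2) (Finset.prod_ne_zero_iff.2 fun l' hl' h0 => ?_)
      exact Finset.ne_of_mem_erase hl' (hroot _ _ h0).symm
    have hPo : ∀ k', k' ≠ k → aeval (η k') P = 0 := by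
      intro k' hk'
      rw [map_mul, map_prod]
      refine mul_eq_zero_of_right _ (Finset.prod_eq_zero (i := cls k') (Finset.mem_erase.2 ⟨?_, Finset.mem_univ _⟩)
        (minpoly.aeval F (z (cls k'))))
      intro hc
      simp only [cls] at hc
      rw [dif_neg (by omega : ¬ (k : ℕ) < L)] at hc
      split_ifs at hc with h1
      · exact absurd (congrArg Fin.val hc) (by simp)
      · have := congrArg Fin.val hc
        simp only at this
        exact hk' (Fin.ext (by omega))
    have hy : aeval g P v = (Pi.single k (aeval (η k) P * v.1 k), 0) := by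
      rw [hpoly]
      refine Prod.ext (funext fun k' => ?_) (by simp [P])
      by_cases hk' : k' = k
      · subst hk'; simp
      · simp [hPo k' hk', hk']
    let U : Submodule F K := W.comap ((LinearMap.inl F _ _) ∘ₗ LinearMap.single F (fun _ : Fin (L + s) => K) k)
    have hU : ∀ c ∈ U, η k * c ∈ U := fun c hc => by
      show ((Pi.single k (η k * c) : Fin (L + s) → K), (0 : Fin u ⊕ Fin u → F)) ∈ W
      have := hWg _ hc
      rw [hg] at this
      convert this using 1
      refine Prod.ext (funext fun k' => ?_) rfl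
      by_cases hk' : k' = k
      · subst hk'; simp
      · simp [hk']
    rcases Elusive.eq_bot_or_eq_top_of_mul (hη k).1 (hη k).2 (hKdim.trans he.symm) hU with hbot | htop
    · have : aeval (η k) P * v.1 k ∈ U := by
        show ((Pi.single k (aeval (η k) P * v.1 k) : Fin (L + s) → K), (0 : Fin u ⊕ Fin u → F)) ∈ W
        rw [← hy]
        exact hWP P v hv
      rw [hbot, Submodule.mem_bot] at this
      exact mul_ne_zero hPk hvk this
    · refine one_ne_zero (α := K) (hBN k 1 fun b => ?_)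
      have h1 := hW _ (htop ▸ Submodule.mem_top : (1 : K) ∈ U) _ (htop ▸ Submodule.mem_top : b ∈ U)
      rw [hB, Finset.sum_eq_single k (fun l _ hl => by simp [Pi.single_eq_of_ne hl]) (by simp)] at h1
      simpa using h1
  -- the fixed part and the large class
  have hsnd : ∀ v ∈ W, ((0 : Fin (L + s) → K), v.2) ∈ W := by
    intro v hv
    have hint : IsIntegral F (z 0) := Algebra.IsIntegral.isIntegral _
    have h1 : (minpoly F (z 0)).eval 1 ≠ 0 := fun h0 => (hR _ (hz 0)).2 (by
      have h2 : aeval (1 : K) (minpoly F (z 0)) = 0 := by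
        rw [← map_one (algebraMap F K), aeval_algebraMap_apply, coe_aeval_eq_eval, h0, map_zero]
      have h3 := eq_of_monic_of_associated (minpoly.monic hint) (minpoly.monic (isIntegral_one : IsIntegral F (1 : K)))
        (((minpoly.irreducible isIntegral_one).associated_of_dvd (minpoly.irreducible hint) (minpoly.dvd F _ h2)).symm)
      have h4 := minpoly.aeval F (z 0)
      rw [h3, minpoly.one, map_sub, aeval_X, map_one, sub_eq_zero] at h4
      exact h4)
    have h2 := W.smul_mem ((minpoly F (z 0)).eval 1)⁻¹ (hWP (minpoly F (z 0)) v hv)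
    rw [hpoly, Prod.smul_mk, smul_smul, inv_mul_cancel₀ h1, one_smul] at h2
    convert h2 using 2
    funext k
    by_cases hk : (k : ℕ) < L
    · have : η k = z 0 := by simp [η, cls, hk]
      simp [this]
    · simp [hsingle v hv k (not_lt.1 hk)]
  let π := LinearMap.snd F (Fin (L + s) → K) (Fin u ⊕ Fin u → F)
  have hdimW : finrank F ↥(W.map π) + finrank F ↥(W ⊓ LinearMap.ker π) = finrank F W := by
    have h1 := (π.domRestrict W).finrank_range_add_finrank_ker
    have e1 : LinearMap.range (π.domRestrict W) = W.map π := by ext v; simp [Submodule.mem_map]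
    have e2 : finrank F (LinearMap.ker (π.domRestrict W)) = finrank F ↥(W ⊓ LinearMap.ker π) := by
      rw [← Submodule.finrank_map_subtype_eq W (LinearMap.ker (π.domRestrict W))]
      rw [show Submodule.map W.subtype (LinearMap.ker (π.domRestrict W)) = W ⊓ LinearMap.ker π from ?_]
      ext v
      constructor
      · rintro ⟨⟨w, hw⟩, hk, rfl⟩
        exact ⟨hw, hk⟩
      · rintro ⟨hv, hk⟩
        exact ⟨⟨v, hv⟩, hk, rfl⟩
    rwa [e1, e2] at h1
  have hfixle : 2 * finrank F ↥(W.map π) ≤ 2 * u := by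
    have hiso2 : OrthTo (FormsLib.spB u F) (W.map π) (W.map π) := by
      rintro _ ⟨a, ha, rfl⟩ _ ⟨b, hb, rfl⟩
      have := hW _ (hsnd a ha) _ (hsnd b hb)
      simpa [hB, π] using this
    have := SpIso.two_mul_finrank_le (SpDecomp.ndOn_top) le_top hiso2
    rwa [finrank_top, finrank_pi, Fintype.card_sum, Fintype.card_fin, ← two_mul] at this
  let ι : (Fin L → K) →ₗ[F] ((Fin (L + s) → K) × (Fin u ⊕ Fin u → F)) :=
    LinearMap.inl F _ _ ∘ₗ LinearMap.pi fun k : Fin (L + s) =>
      if hk : (k : ℕ) < L then LinearMap.proj ⟨(k : ℕ), hk⟩ else 0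
  have hι : ∀ c (k : Fin (L + s)), (ι c).1 k = if hk : (k : ℕ) < L then c ⟨k, hk⟩ else 0 := fun c k => by
    by_cases hk : (k : ℕ) < L <;> simp [ι, hk]
  have hιinj : Function.Injective ι := fun c c' hcc => funext fun k => by
    have := congrFun (congrArg Prod.fst hcc) ⟨k, by have := k.2; omega⟩
    rw [hι, hι] at this
    simpa [k.2] using this
  have hMnd : NdOn B (LinearMap.range ι) := by
    rintro _ ⟨c, rfl⟩ hall
    refine hN _ fun w => ?_
    have := hall _ ⟨fun k => w.1 ⟨k, by have := k.2; omega⟩, rfl⟩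
    rw [hB] at this ⊢
    have h2 : (ι c).2 = 0 := rfl
    rw [h2] at this ⊢
    simp only [map_zero, LinearMap.zero_apply, add_zero] at this ⊢
    rw [← this]
    refine Finset.sum_congr rfl fun k _ => ?_
    by_cases hk : (k : ℕ) < L <;> simp [hι, hk]
  have hWbig : W ⊓ LinearMap.ker π ≤ LinearMap.range ι := by
    rintro v ⟨hv, hv2⟩
    refine ⟨fun k => v.1 ⟨k, by have := k.2; omega⟩, Prod.ext (funext fun k => ?_) (LinearMap.mem_ker.1 hv2).symm⟩
    rw [hι]
    split_ifs with hk
    · rfl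
    · exact (hsingle v hv k (not_lt.1 hk)).symm
  have hW1 := SpIso.two_mul_finrank_le hMnd hWbig fun a ha b hb => hW a ha.1 b hb.1
  rw [LinearMap.finrank_range_of_inj hιinj, finrank_pi_fintype, Finset.sum_const, Finset.card_univ, Fintype.card_fin,
    smul_eq_mul, hKdim] at hW1
  obtain ⟨a, ha⟩ : e ∣ finrank F ↥(W ⊓ LinearMap.ker π) := by
    rw [← he]
    refine orderOf_dvd_finrank hgr ?_ fun v hv hfix => ?_
    · rintro _ ⟨v, ⟨hv, hv2⟩, rfl⟩
      refine ⟨hWg v hv, ?_⟩
      rw [SetLike.mem_coe, LinearMap.mem_ker] at hv2 ⊢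
      exact hv2
    · obtain ⟨c, rfl⟩ := hWbig hv
      refine Prod.ext (funext fun k => ?_) rfl
      have h2 : (η k - 1) * (ι c).1 k = 0 := by
        rw [sub_mul, one_mul, sub_eq_zero]
        exact congrFun (congrArg Prod.fst hfix) k
      exact (mul_eq_zero.1 h2).resolve_left (sub_ne_zero.2 (hη k).2)
  refine ⟨a, by rw [← hWd, ← hdimW, ha, mul_comm]; exact Nat.le_add_left _ _, ?_, ?_⟩
  · rw [ha, mul_left_comm, mul_comm L e] at hW1
    exact Nat.le_of_mul_le_mul_left hW1 hepos
  · rw [← hWd, ← hdimW, ha, mul_comm e a, Nat.add_sub_cancel, hu, hh, mul_add, mul_left_comm 2 (L + s) h,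
      Nat.add_sub_cancel_left]
    exact hfixle

end Cfsg.Agent.Elusive.SpClass
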