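import Cfsg.Agent.Lib.Elusive.OrthogonalEvenWitness
import Cfsg.Agent.Lib.Elusive.OrthogonalEvenCount
import Cfsg.Agent.Lib.Elusive.SymplecticClassWitness

/-!
Invariant totally singular subspaces in even dimension: the criterion is necessary.
-/

set_option autoImplicit false
set_option linter.style.haveILetI false

namespace Cfsg.Agent.Elusive.OrthEvenNec

open Module FormIso OrthIso OrthType

variable {F : Type*} [Field F] [Fintype F] {r : ℕ} [Fact r.Prime]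
  {ι : Type} [Fintype ι] [DecidableEq ι]

/-- What a dividing factor says about the residues of `d`. -/
theorem factor_residue (hr2 : r ≠ 2) (hrq : (Fintype.card F : ZMod r) ≠ 0) {d m j σ h : ℕ}
    (hσ : σ = 0 ∨ σ = 1) (hj : j < m) (hmd : m + 1 ≤ d) (hme : m < orderOf (Fintype.card F : ZMod r))
    (hh : Even (orderOf (Fintype.card F : ZMod r)) → orderOf (Fintype.card F : ZMod r) = 2 * h)
    (hdvd : r ∣ OrthEvenCount.N (Fintype.card F) σ (d - j)) :
    (σ = 0 ∧ d % orderOf (Fintype.card F : ZMod r) = j) ∨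
    (σ = 1 ∧ d % orderOf (Fintype.card F : ZMod r) = j + 1) ∨
    (Even (orderOf (Fintype.card F : ZMod r)) ∧
      ((σ = 0 ∧ (d + h) % orderOf (Fintype.card F : ZMod r) = j + 1) ∨
       (σ = 1 ∧ (d + h) % orderOf (Fintype.card F : ZMod r) = j))) := by
  have hr := (Fact.out : r.Prime)
  set e := orderOf (Fintype.card F : ZMod r) with he
  set q := Fintype.card F
  have hneg : (-1 : ZMod r) ≠ 1 := fun h => hr2 (by
    have h2 : ((2 : ℕ) : ZMod r) = 0 := by push_cast; linear_combination -h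
    exact (Nat.prime_dvd_prime_iff_eq hr Nat.prime_two).1 ((ZMod.natCast_eq_zero_iff _ _).1 h2))
  have hsub : ∀ x, r ∣ q ^ x - 1 → e ∣ x := fun x hx => by
    refine orderOf_dvd_of_pow_eq_one ?_
    rw [← sub_eq_zero, ← Nat.cast_pow, ← Nat.cast_one (R := ZMod r),
      ← Nat.cast_sub (Nat.one_le_pow _ _ Fintype.card_pos), ZMod.natCast_eq_zero_iff]
    exact hx
  have hadd : ∀ x, r ∣ q ^ x + 1 → Even e ∧ e ∣ x + h := fun x hx => by
    have h1 : ((q : ZMod r)) ^ x = -1 := by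
      have := (ZMod.natCast_eq_zero_iff _ _).2 hx
      push_cast at this
      linear_combination this
    have h2 : e ∣ x * 2 := orderOf_dvd_of_pow_eq_one (by rw [pow_mul, h1, neg_one_sq])
    have hev : Even e := by
      by_contra hno
      have h3 : e ∣ x := ((Nat.prime_two.coprime_iff_not_dvd.2 fun h' => hno (even_iff_two_dvd.2 h')).symm).dvd_of_dvd_mul_right h2
      rw [orderOf_dvd_iff_pow_eq_one.1 h3] at h1
      exact hneg h1.symm
    refine ⟨hev, orderOf_dvd_of_pow_eq_one ?_⟩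
    have hepos : 0 < e := orderOf_pos_iff.2 (isUnit_iff_ne_zero.2 hrq).isOfFinOrder
    have h4 : (q : ZMod r) ^ h = -1 := by
      have h5 : (q : ZMod r) ^ h * (q : ZMod r) ^ h = 1 := by
        rw [← pow_add, ← two_mul, ← hh hev]
        exact pow_orderOf_eq_one _
      refine (mul_self_eq_one_iff.1 h5).resolve_left fun h' => ?_
      have := hh hev
      have := Nat.le_of_dvd (by omega) (orderOf_dvd_of_pow_eq_one h')
      omega
    rw [pow_add, h1, h4, neg_one_mul, neg_neg]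
  have key : ∀ A B, e ∣ A → A + B = d → B < e → d % e = B := by
    rintro A B ⟨w, rfl⟩ hAB hB
    rw [← hAB, Nat.mul_add_mod, Nat.mod_eq_of_lt hB]
  have key' : ∀ A B, e ∣ A + h → A + B = d → B < e → (d + h) % e = B := by
    rintro A B ⟨w, hw⟩ hAB hB
    rw [← hAB, add_right_comm, hw, Nat.mul_add_mod, Nat.mod_eq_of_lt hB]
  rcases hσ with rfl | rfl
  · rw [OrthEvenCount.N, if_pos rfl] at hdvd
    rcases hr.dvd_mul.1 hdvd with h1 | h1
    · exact Or.inl ⟨rfl, key _ j (hsub _ h1) (by omega) (by omega)⟩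
    · obtain ⟨hev, h2⟩ := hadd _ h1
      exact Or.inr (Or.inr ⟨hev, Or.inl ⟨rfl, key' _ (j + 1) h2 (by omega) (by omega)⟩⟩)
  · rw [OrthEvenCount.N, if_neg one_ne_zero] at hdvd
    rcases hr.dvd_mul.1 hdvd with h1 | h1
    · obtain ⟨hev, h2⟩ := hadd _ h1
      exact Or.inr (Or.inr ⟨hev, Or.inr ⟨rfl, key' _ j h2 (by omega) (by omega)⟩⟩)
    · exact Or.inr (Or.inl ⟨rfl, key _ (j + 1) (hsub _ h1) (by omega) (by omega)⟩)

variable {Q : QuadraticForm F (ι → F)}

/-- The criterion is necessary. -/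
theorem cond_of_all {p : ℕ} [Fact p.Prime] [CharP F p] (hQ : (QuadraticMap.polarBilin Q).Nondegenerate)
    {d σ m t : ℕ} (hd : 3 ≤ d) (hι : Fintype.card ι = 2 * d)
    (hσ : σ = 0 ∧ Half Q ⊤ ∨ σ = 1 ∧ ¬ Half Q ⊤) (hm : 1 ≤ m) (hmd : m + 1 ≤ d)
    (hr2 : r ≠ 2) (hrp : r ≠ p) (hrF : (r : F) ≠ 0) (hrq : (Fintype.card F : ZMod r) ≠ 0)
    (ht : r - 1 = orderOf (Fintype.card F : ZMod r) * t)
    (hfac : ∃ j, j < m ∧ r ∣ OrthEvenCount.N (Fintype.card F) σ (d - j))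
    (hall : ∀ g : GL ι F, g ∈ Cfsg.Geo.omegaGL ⇑Q → orderOf g = r →
      ∃ W : Submodule F (ι → F), finrank F W = m ∧ (∀ w ∈ W, Q w = 0) ∧
        W.map (Matrix.toLin' (g : Matrix ι ι F)) ≤ W) :
    orderOf (Fintype.card F : ZMod r) ≤ m ∧ OrthEven.Cond (orderOf (Fintype.card F : ZMod r)) t m d σ := by
  classical
  have hr := (Fact.out : r.Prime)
  obtain ⟨e, he⟩ : ∃ e, orderOf (Fintype.card F : ZMod r) = e := ⟨_, rfl⟩
  have hepos : 0 < e := he ▸ orderOf_pos_iff.2 (isUnit_iff_ne_zero.2 hrq).isOfFinOrder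
  obtain ⟨c, hc⟩ : ∃ c, c = if Even e then e else 2 * e := ⟨_, rfl⟩
  obtain ⟨hcpos, hce, -⟩ := SpWitness.c_facts (F := F) (p := p) hr2 hrp (c := c) (he ▸ hc)
  obtain ⟨h₀, hh₀⟩ := hce
  have htype : Half Q ⊤ ↔ σ = 0 := by rcases hσ with ⟨rfl, h⟩ | ⟨rfl, h⟩ <;> simp [h]
  have htop : NdOn (QuadraticMap.polarBilin Q) ⊤ := fun u _ h => hQ.1 u fun v => h v trivial
  -- using an element moving `J` blocks
  have apply : ∀ J, 1 ≤ J → c * J ≤ 2 * d → (c * J = 2 * d → (σ = 0 ↔ (Even e → Even J))) →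
      ∀ (P : (Fin (J * h₀) ⊕ Fin (J * h₀) → F) →ₗ[F] (Fin (J * h₀) ⊕ Fin (J * h₀) → F)),
      (∀ u v, FormsLib.spB (J * h₀) F (P u) (P v) = FormsLib.spB (J * h₀) F u v) → P ^ r = 1 →
      (∀ v, P v = v → v = 0) →
      ∃ (W₁ : Submodule F (Fin (J * h₀) ⊕ Fin (J * h₀) → F)) (w : ℕ),
        OrthTo (FormsLib.spB (J * h₀) F) W₁ W₁ ∧ W₁.map P ≤ W₁ ∧ m = finrank F W₁ + w ∧
        2 * w + c * J ≤ 2 * d ∧ (¬ (σ = 0 ↔ (Even e → Even J)) → 2 * w + 2 + c * J ≤ 2 * d) := by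
    intro J hJ hJd hcompat P hP hPr hPf
    have h2J : 2 * (J * h₀) = c * J := by rw [hh₀]; ring
    obtain ⟨g, hg, hgo, hfix, hgQ, hgW⟩ := OrthEvenWitness.exists_element (p := p) hQ (d := d) (d' := J * h₀) hd hι
      (Nat.mul_pos hJ (by omega)) (by omega) hr2 hrF hrq (c := c) (J := J) (he.symm ▸ hc) h2J
      (fun h => by rw [htype, he]; exact hcompat (by omega)) P hP hPr hPf
    obtain ⟨W, hWd, hW, hWT⟩ := hall g hg hgo
    obtain ⟨W₁, hW₁, hW₁T, hdim⟩ := hgW W hW hWT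
    have hgr : (Matrix.toLin' (g : Matrix ι ι F)) ^ r = 1 := by
      rw [← Matrix.toLin'_pow, ← Units.val_pow_eq_pow_val, ← hgo, pow_orderOf_eq_one, Units.val_one, Matrix.toLin'_one]
      rfl
    obtain ⟨hb, hb'⟩ := OrthEvenWitness.fixed_bound (p := p) (c := c) (J := J) (d := d) hgQ hr2 hrF hrq hgr htop
      (he.symm ▸ hc) hι hfix (by omega) hcpos hW
    rw [htype, he] at hb'
    refine ⟨W₁, _, hW₁, hW₁T, hWd ▸ hdim, by omega, fun hne => ?_⟩
    have := hb' hne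
    omega
  -- the plain element: all blocks alike
  have main : ∀ J, 1 ≤ J → c * J ≤ 2 * d → (c * J = 2 * d → (σ = 0 ↔ (Even e → Even J))) →
      ∃ w, 2 * w + c * J ≤ 2 * d ∧ m % e ≤ w ∧
        (¬ (σ = 0 ↔ (Even e → Even J)) → 2 * w + 2 + c * J ≤ 2 * d) := by
    intro J hJ hJd hcompat
    have h2J : J * c = 2 * (J * h₀) := by rw [hh₀]; ring
    obtain ⟨y, hyr, hfix⟩ := SpWitness.exists_element (F := F) (p := p) hr2 hrp (c := c) (he.symm ▸ hc)
      (m := J * h₀) (j := J) h2J.le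
    rw [h2J, Nat.sub_self, Submodule.finrank_eq_zero] at hfix
    set T := Matrix.toLin' (y : Matrix (Fin (J * h₀) ⊕ Fin (J * h₀)) (Fin (J * h₀) ⊕ Fin (J * h₀)) F)
    have hTr : T ^ r = 1 := by
      show (Matrix.toLin' (y : Matrix (Fin (J * h₀) ⊕ Fin (J * h₀)) (Fin (J * h₀) ⊕ Fin (J * h₀)) F)) ^ r = 1
      rw [← Matrix.toLin'_pow, hyr, Matrix.toLin'_one]
      rfl
    have hfree : ∀ v, T v = v → v = 0 := fun v hv => by
      have : v ∈ fixedSpace T := mem_fixedSpace.2 hv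
      rwa [hfix, Submodule.mem_bot] at this
    obtain ⟨W₁, w, -, hW₁T, hsum, hb, hb'⟩ := apply J hJ hJd hcompat T ((FormsLib.mem_symplectic_iff _).1 y.2) hTr hfree
    obtain ⟨a, ha⟩ := orderOf_dvd_finrank hTr hW₁T fun v _ => hfree v
    rw [he] at ha
    refine ⟨w, hb, ?_, hb'⟩
    rw [hsum, ha, Nat.mul_add_mod]
    exact Nat.mod_le _ _
  -- the element with one large class
  have cls : Even e → ∀ J L s, J = L + s → 1 ≤ L → (s + 1) * e ≤ r - 1 → c * J ≤ 2 * d →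
      (c * J = 2 * d → (σ = 0 ↔ (Even e → Even J))) →
      ∃ a w, m = a * e + w ∧ 2 * a ≤ L ∧ 2 * w + c * J ≤ 2 * d ∧
        (¬ (σ = 0 ↔ (Even e → Even J)) → 2 * w + 2 + c * J ≤ 2 * d) := by
    intro hev J L s hJ hL hs hJd hcompat
    have hce : c = e := by rw [hc, if_pos hev]
    have h2J : (L + s) * e = 2 * (J * h₀) := by rw [← hJ, ← hce, hh₀]; ring
    obtain ⟨y, hyr, hfix, hbad⟩ := SpClass.exists_class_element (F := F) (p := p) hr2 hrp (d := J * h₀) (L := L) (s := s)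
      (he.symm ▸ hev) hL (by rw [he]; exact hs) (by rw [he, h2J])
    rw [he, h2J, Nat.sub_self] at hfix hbad
    rw [Submodule.finrank_eq_zero] at hfix
    set T := Matrix.toLin' (y : Matrix (Fin (J * h₀) ⊕ Fin (J * h₀)) (Fin (J * h₀) ⊕ Fin (J * h₀)) F)
    have hTr : T ^ r = 1 := by
      show (Matrix.toLin' (y : Matrix (Fin (J * h₀) ⊕ Fin (J * h₀)) (Fin (J * h₀) ⊕ Fin (J * h₀)) F)) ^ r = 1
      rw [← Matrix.toLin'_pow, hyr, Matrix.toLin'_one]
      rfl
    have hfree : ∀ v, T v = v → v = 0 := fun v hv => by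
      have : v ∈ fixedSpace T := mem_fixedSpace.2 hv
      rwa [hfix, Submodule.mem_bot] at this
    obtain ⟨W₁, w, hW₁, hW₁T, hsum, hb, hb'⟩ := apply J (by omega) hJd hcompat T
      ((FormsLib.mem_symplectic_iff _).1 y.2) hTr hfree
    obtain ⟨a, ha, ha2, ha3⟩ := hbad W₁ hW₁ hW₁T
    exact ⟨a, w, by omega, ha2, hb, hb'⟩
  obtain ⟨j, hj, hjdvd⟩ := hfac
  have hres : ∀ hh : ℕ, (Even e → e = 2 * hh) → m < e →
      (σ = 0 ∧ d % e = j) ∨ (σ = 1 ∧ d % e = j + 1) ∨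
      (Even e ∧ ((σ = 0 ∧ (d + hh) % e = j + 1) ∨ (σ = 1 ∧ (d + hh) % e = j))) := by
    intro hh he2 hme
    have := factor_residue (F := F) hr2 hrq (h := hh) (hσ.imp And.left And.left) hj hmd (he.symm ▸ hme) (he.symm ▸ he2) hjdvd
    rwa [he] at this
  rw [he]
  have hmm := Nat.mod_lt m hepos
  by_cases hev : Even e
  swap
  · -- odd order
    rw [if_neg hev] at hc
    subst hc
    have hhalf : ∀ J : ℕ, (σ = 0 ↔ (Even e → Even J)) ↔ σ = 0 := fun J =>
      ⟨fun h => h.2 fun h' => absurd h' hev, fun h => iff_of_true h fun h' => absurd h' hev⟩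
    have hdiv := Nat.div_add_mod (2 * d) (2 * e)
    have hklt := Nat.mod_lt (2 * d) hcpos
    rw [Nat.mul_mod_mul_left] at hdiv hklt
    rw [Nat.mul_div_mul_left _ _ two_pos] at hdiv
    obtain ⟨K, hK⟩ : ∃ K, d % e = K := ⟨_, rfl⟩
    obtain ⟨N, hN⟩ : ∃ N, d / e = N := ⟨_, rfl⟩
    simp only [hN, hK] at hdiv hklt
    have hN1 : 1 ≤ N := by
      by_contra h0
      rw [show N = 0 by omega, mul_zero] at hdiv
      rcases lt_or_ge m e with hlt | hge
      · rcases hres 0 (fun h => absurd h hev) hlt with ⟨-, hh⟩ | ⟨-, hh⟩ | ⟨hh, -⟩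
        · omega
        · omega
        · exact absurd hh hev
      · omega
    have hstep : (σ = 1 ∧ K = 0) ∨ 2 * (m % e + σ) ≤ 2 * K := by
      by_cases hK0 : σ = 1 ∧ K = 0
      · exact Or.inl hK0
      obtain ⟨w, hw1, hw2, hw3⟩ := main N hN1 (by omega) fun heq => by
        rw [hhalf]
        rcases hσ with ⟨h, -⟩ | ⟨h, -⟩
        · exact h
        · exact absurd ⟨h, by omega⟩ hK0
      refine Or.inr ?_
      rcases hσ with ⟨rfl, -⟩ | ⟨rfl, -⟩
      · omega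
      · have := hw3 (by rw [hhalf]; exact one_ne_zero)
        omega
    refine ⟨?_, Or.inl ⟨Nat.not_even_iff_odd.1 hev, ?_⟩⟩
    · by_contra hlt
      rw [Nat.mod_eq_of_lt (not_le.1 hlt)] at hstep
      rcases hres 0 (fun h => absurd h hev) (not_le.1 hlt) with ⟨hs, hh⟩ | ⟨hs, hh⟩ | ⟨hh, -⟩
      · omega
      · omega
      · exact absurd hh hev
    · rw [Nat.mul_mod_mul_left, hK]
      omega
  -- even order
  rw [if_pos hev] at hc
  rw [hc] at apply main cls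
  have hcls := cls hev
  obtain ⟨h, hh⟩ := hev.two_dvd
  have hhalf : ∀ J : ℕ, (σ = 0 ↔ (Even e → Even J)) ↔ Even (J + σ) := fun J => by
    rw [imp_iff_right hev]
    rcases hσ with ⟨rfl, -⟩ | ⟨rfl, -⟩ <;> simp [Nat.even_add_one]
  simp only [hhalf] at main hcls
  have hdiv := Nat.div_add_mod (2 * d) e
  have hklt := Nat.mod_lt (2 * d) hepos
  obtain ⟨n', hn'⟩ : ∃ n', 2 * d / e = n' := ⟨_, rfl⟩
  obtain ⟨k, hk⟩ : ∃ k, 2 * d % e = k := ⟨_, rfl⟩
  obtain ⟨l, hl⟩ : ∃ l, m % e = l := ⟨_, rfl⟩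
  obtain ⟨m', hm'⟩ : ∃ m', m / e = m' := ⟨_, rfl⟩
  have hmdiv := Nat.div_add_mod m e
  simp only [hn', hk] at hdiv hklt
  rw [hm', hl] at hmdiv
  rw [hl] at hmm main
  have hke : Even k := by
    have h1 : Even (e * n' + k) := hdiv ▸ even_two_mul d
    exact (Nat.even_add.1 h1).1 (hev.mul_right n')
  obtain ⟨k₂, hk₂⟩ := hke
  -- residues of `d`
  have hdmod : (Even n' → d % e = k₂ ∧ (d + h) % e = h + k₂) ∧ (Odd n' → d % e = h + k₂ ∧ (d + h) % e = k₂) := by
    constructor <;> rintro ⟨u, hu⟩ <;> subst hu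
    · have hd2 : d = e * u + k₂ := by
        have : e * (u + u) = 2 * (e * u) := by ring
        omega
      exact ⟨by rw [hd2, Nat.mul_add_mod, Nat.mod_eq_of_lt (by omega)],
        by rw [hd2, add_assoc, Nat.mul_add_mod, Nat.mod_eq_of_lt (by omega), add_comm]⟩
    · have hd2 : d = e * u + (h + k₂) := by
        have : e * (2 * u + 1) = 2 * (e * u) + e := by ring
        omega
      refine ⟨by rw [hd2, Nat.mul_add_mod, Nat.mod_eq_of_lt (by omega)], ?_⟩
      rw [hd2, show e * u + (h + k₂) + h = e * (u + 1) + k₂ by rw [Nat.mul_succ]; omega, Nat.mul_add_mod,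
        Nat.mod_eq_of_lt (by omega)]
  have hpar : ∀ x, (Even x ∧ ¬ Odd x) ∨ (Odd x ∧ ¬ Even x) := fun x => by
    rcases Nat.even_or_odd x with h | h
    · exact Or.inl ⟨h, Nat.not_odd_iff_even.2 h⟩
    · exact Or.inr ⟨h, Nat.not_even_iff_odd.2 h⟩
  -- what the count says below `e`
  have hsmall : m < e → (Even (n' + σ) → k₂ < m) ∧ (Odd (n' + σ) → k₂ < m + 1 ∧ (k₂ = 0 → h < m)) := by
    intro hme
    have hr' := hres h (fun _ => hh) hme
    rcases hpar n' with ⟨hn, -⟩ | ⟨hn, -⟩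
    · obtain ⟨h1, h2⟩ := hdmod.1 hn
      rw [h1, h2] at hr'
      rw [Nat.even_iff] at hn
      constructor <;> intro hp <;> (first | rw [Nat.even_iff] at hp | rw [Nat.odd_iff] at hp) <;> omega
    · obtain ⟨h1, h2⟩ := hdmod.2 hn
      rw [h1, h2] at hr'
      rw [Nat.odd_iff] at hn
      constructor <;> intro hp <;> (first | rw [Nat.even_iff] at hp | rw [Nat.odd_iff] at hp) <;> omega
  have hn1 : 1 ≤ n' ∧ (k = 0 → Odd (n' + σ) → 2 ≤ n') := by
    rcases lt_or_ge m e with hlt | hge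
    · obtain ⟨h1, h2⟩ := hsmall hlt
      have hn1 : 1 ≤ n' := by
        by_contra h0
        obtain rfl : n' = 0 := by omega
        rcases hpar (0 + σ) with ⟨hp, -⟩ | ⟨hp, -⟩
        · have := h1 hp; omega
        · have := h2 hp; omega
      refine ⟨hn1, fun hk0 hp => ?_⟩
      by_contra h0
      obtain rfl : n' = 1 := by omega
      have := (h2 hp).2 (by omega)
      omega
    · refine ⟨Nat.one_le_iff_ne_zero.2 fun h0 => ?_, fun _ _ => ?_⟩
      · rw [h0, mul_zero] at hdiv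
        omega
      · by_contra h0
        have : e * n' ≤ e * 1 := Nat.mul_le_mul_left e (by omega)
        omega
  have hstep : (Even (n' + σ) ∧ 2 * l ≤ k) ∨ (Odd (n' + σ) ∧ (2 * l < k ∨ (k = 0 ∧ 2 * l ≤ e))) := by
    rcases hpar (n' + σ) with ⟨hp, -⟩ | ⟨hp, hp'⟩
    · obtain ⟨w, hw1, hw2, -⟩ := main n' hn1.1 (by omega) fun _ => hp
      exact Or.inl ⟨hp, by omega⟩
    · by_cases hk0 : k = 0
      · have h2n := hn1.2 hk0 hp
        obtain ⟨n'', rfl⟩ : ∃ n'', n' = n'' + 1 := ⟨n' - 1, by omega⟩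
        rw [mul_add, mul_one] at hdiv
        obtain ⟨w, hw1, hw2, -⟩ := main n'' (by omega) (by omega) fun heq => by omega
        exact Or.inr ⟨hp, Or.inr ⟨hk0, by omega⟩⟩
      · obtain ⟨w, hw1, hw2, hw3⟩ := main n' hn1.1 (by omega) fun heq => by omega
        have := hw3 hp'
        exact Or.inr ⟨hp, Or.inl (by omega)⟩
  have hem : e ≤ m := by
    by_contra hlt
    obtain ⟨h1, h2⟩ := hsmall (not_le.1 hlt)
    rw [Nat.mod_eq_of_lt (not_le.1 hlt)] at hl
    rcases hstep with ⟨hp, hs⟩ | ⟨hp, hs⟩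
    · have := h1 hp; omega
    · have := h2 hp; omega
  have ht1 : 1 ≤ t := Nat.one_le_iff_ne_zero.2 fun h0 => by
    rw [h0, mul_zero] at ht
    have := hr.two_le
    omega
  rw [he] at ht
  have hm'1 : 1 ≤ m' := hm' ▸ (Nat.le_div_iff_mul_le hepos).2 (by omega)
  have hnm : 2 * m' + 1 ≤ n' + 1 := by
    have h1 : e * (2 * m') < e * (n' + 1) := by
      rw [Nat.mul_succ, mul_left_comm]
      omega
    have := Nat.lt_of_mul_lt_mul_left h1
    omega
  -- a class element contradicts small values of `J`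
  have clsbad : ∀ J, 2 * m' - 1 ≤ J → J ≤ 2 * m' + t - 2 → e * J ≤ 2 * d → (e * J = 2 * d → Even (J + σ)) →
      ((¬ Even (J + σ) ∧ 2 * d < 2 * (e + l) + 2 + e * J) ∨ 2 * d < 2 * (e + l) + e * J) → False := by
    intro J hJ1 hJ2 hJd hcompat hbad
    obtain ⟨a, w, hsum, ha, hb, hb'⟩ := hcls J (2 * m' - 1) (J - (2 * m' - 1)) (by omega) (by omega)
      (by rw [ht, mul_comm e]; exact Nat.mul_le_mul_right e (by omega)) hJd hcompat
    have h1 : (a + 1) * e ≤ m' * e := Nat.mul_le_mul_right e (by omega)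
    rw [add_mul, one_mul, mul_comm m' e] at h1
    rcases hbad with ⟨hp, hbad⟩ | hbad
    · have := hb' hp
      omega
    · omega
  have hD : t + 2 * m' ≤ n' := by
    by_contra hlt
    by_cases hgood : n' ≤ 2 * m' + t - 2 ∧ (0 < k ∨ Even (n' + σ))
    · refine clsbad n' (by omega) hgood.1 (by omega) (fun heq => ?_) (Or.inr (by omega))
      rcases hgood.2 with h0 | h0
      · omega
      · exact h0
    · obtain ⟨n'', rfl⟩ : ∃ n'', n' = n'' + 1 := ⟨n' - 1, by omega⟩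
      rw [mul_add, mul_one] at hdiv
      refine clsbad n'' (by omega) (by omega) (by omega) (fun heq => by omega) (Or.inr ?_)
      omega
  refine ⟨hem, Or.inr ⟨hev, ?_⟩⟩
  rw [hn', hm', hl, hk]
  refine ⟨hD, ?_⟩
  rcases hstep with ⟨hp, hs⟩ | ⟨hp, hs | ⟨hk0, hs⟩⟩
  · exact Or.inr (Or.inl ⟨hs, hp⟩)
  · exact Or.inr (Or.inr ⟨hs, hp⟩)
  refine Or.inl ⟨hs, hk0, hp, ?_⟩
  by_contra hlt
  obtain ⟨n'', rfl⟩ : ∃ n'', n' = n'' + 2 := ⟨n' - 2, by omega⟩
  rw [mul_add] at hdiv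
  have hp' : ¬ Even (n'' + σ) := by
    rw [Nat.odd_iff] at hp
    rw [Nat.even_iff]
    omega
  exact clsbad n'' (by omega) (by omega) (by omega) (fun heq => by omega) (Or.inl ⟨hp', by omega⟩)

end Cfsg.Agent.Elusive.OrthEvenNec
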