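import Cfsg.Agent.Lib.Elusive.OrthogonalTwo
import Cfsg.Agent.Lib.Elusive.OrthogonalEvenNec

/-!
Elements of prime order and invariant totally singular subspaces in even dimension.
-/

set_option autoImplicit false
set_option linter.style.haveILetI false

namespace Cfsg.Agent.Elusive.OrthEvenMain

open Module FormIso OrthIso OrthType

variable {F : Type*} [Field F] [Fintype F]

section Two

variable {V : Type*} [AddCommGroup V] [Module F V] [FiniteDimensional F V] {Q : QuadraticForm F V}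

/-- Invariant totally singular subspaces of an involution in the derived group. -/
theorem exists_invol (h2 : (2 : F) ≠ 0) (hQ : (QuadraticMap.polarBilin Q).Nondegenerate) {d : ℕ}
    (hdim : finrank F V = 2 * d) (σ : FormsLib.oGroup Q) (hdick : Spinor.dick σ = 1) (hspin : Spinor.spin σ = 1)
    (hσ2 : ∀ v, σ.1 (σ.1 v) = v) (hne : σ.1 ≠ 1) (hne' : ¬ ∀ v, σ.1 v = -v) {m : ℕ} (hm : m + 1 ≤ d)
    (hcond : IsSquare (-1 : F) ∨ (Half Q ⊤ → m + 2 ≤ d)) :
    ∃ W : Submodule F V, finrank F W = m ∧ (∀ w ∈ W, Q w = 0) ∧ ∀ w ∈ W, σ.1 w ∈ W := by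
  classical
  let T : Module.End F V := σ.1.toLinearMap
  have hTa : ∀ v, T v = σ.1 v := fun v => rfl
  have hQσ : ∀ v, Q (σ.1 v) = Q v := σ.2
  have hiso := OrthEven.polar_iso (Q := Q) (T := T) hQσ
  have htop : NdOn (QuadraticMap.polarBilin Q) ⊤ := fun u _ h => hQ.1 u fun v => h v trivial
  obtain ⟨M, -, hMT, hfree, hsup, ho, hM, hK, hfd⟩ :=
    exists_split (T := T) (r := 2) (fun u v h => (polar_symm v u).trans h) hiso
      (by exact_mod_cast h2) (LinearMap.ext fun v => by rw [pow_two, Module.End.mul_apply, hTa, hTa, hσ2]; rfl) htop le_top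
  rw [finrank_top, hdim] at hfd
  set K := ⊤ ⊓ fixedSpace T
  have hneg : ∀ v ∈ M, σ.1 v = -v := fun v hv => by
    refine eq_neg_of_add_eq_zero_left (hfree _ (M.add_mem (hMT ⟨v, hv, rfl⟩) hv) ?_)
    rw [map_add, hTa, hTa, hσ2, add_comm]
  have hfix : ∀ v ∈ K, σ.1 v = v := fun v hv => mem_fixedSpace.1 hv.2
  -- both parts are present
  have hM0 : 0 < finrank F M := Nat.pos_of_ne_zero fun h0 => hne (LinearEquiv.ext fun v => by
    have hv : v ∈ K ⊔ M := hsup ▸ Submodule.mem_top
    rw [Submodule.finrank_eq_zero.1 h0, sup_bot_eq] at hv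
    exact hfix v hv)
  have hK0 : 0 < finrank F K := Nat.pos_of_ne_zero fun h0 => hne' fun v => by
    have hv : v ∈ K ⊔ M := hsup ▸ Submodule.mem_top
    rw [Submodule.finrank_eq_zero.1 h0, bot_sup_eq] at hv
    exact hneg v hv
  -- an orthogonal basis of the negated part
  haveI : Invertible (2 : F) := invertibleOfNonzero h2
  obtain ⟨v, hv⟩ := LinearMap.BilinForm.exists_orthogonal_basis (K := F) (V := M)
    (B := (QuadraticMap.polarBilin Q).compl₁₂ M.subtype M.subtype)
    ⟨fun x y => by simp only [RingHom.id_apply, LinearMap.compl₁₂_apply]; exact polar_symm _ _⟩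
  let b : Fin (finrank F M) → V := fun i => (v i : V)
  have hb : ∀ i j, i ≠ j → QuadraticMap.polar Q (b i) (b j) = 0 := fun i j hij => hv hij
  have hbne : ∀ i, Q (b i) ≠ 0 := by
    intro i h0
    refine v.ne_zero i (Subtype.ext (hM _ (v i).2 fun w hw => ?_))
    have : ((QuadraticMap.polarBilin Q).compl₁₂ M.subtype M.subtype) (v i) = 0 := v.ext fun j => by
      show QuadraticMap.polar Q (b i) (b j) = 0
      by_cases hij : i = j
      · subst hij
        rw [FormsLib.polar_self', h0, mul_zero]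
      · exact hb i j hij
    exact LinearMap.congr_fun this ⟨w, hw⟩
  obtain ⟨τ, hτb, hτf, hτd, hτs⟩ :=
    Spinor.exists_neg_on hQ (Spinor.reflGroup_eq_top_of_odd hQ h2) b hb Finset.univ fun i _ => hbne i
  have hτσ : τ = σ := by
    refine Subtype.ext (LinearEquiv.ext fun y => ?_)
    have hy : y ∈ K ⊔ M := hsup ▸ Submodule.mem_top
    obtain ⟨a, ha, c, hc, rfl⟩ := Submodule.mem_sup.1 hy
    have hca : τ.1.toLinearMap ∘ₗ M.subtype = σ.1.toLinearMap ∘ₗ M.subtype := v.ext fun i => by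
      show τ.1 (b i) = σ.1 (b i)
      rw [hτb i (Finset.mem_univ _), hneg _ (v i).2]
    rw [map_add, map_add, hτf a fun i _ => ho a ha (b i) (v i).2, hfix a ha]
    exact congrArg (a + ·) (LinearMap.congr_fun hca ⟨c, hc⟩)
  rw [hτσ] at hτd hτs
  rw [hdick, Finset.card_univ, Fintype.card_fin] at hτd
  have hMe : Even (finrank F M) := (neg_one_pow_eq_one_iff_even (by decide : (-1 : ℤˣ) ≠ 1)).1 hτd.symm
  obtain ⟨l, hl⟩ := hMe
  have hKe : Even (finrank F K) := ⟨d - l, by omega⟩
  obtain ⟨k, hk⟩ := hKe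
  have hMhalf : IsSquare (-1 : F) → Half Q M := fun hsq => by
    obtain ⟨U, hU, hUi, hUd⟩ := exists_half h2 hsq b hb l Finset.univ
      (by rw [Finset.card_univ, Fintype.card_fin]; omega) (fun i _ => hbne i) (hτs.1 hspin)
    exact half_iff.2 ⟨U, hU.trans (Submodule.span_le.2 (by rintro _ ⟨i, -, rfl⟩; exact (v i).2)),
      (orthTo_iff h2).1 hUi, by omega⟩
  have htype := half_sup hK hM ho ⟨k, hk⟩ ⟨l, hl⟩
  rw [hsup] at htype
  have part : ∀ (X : Submodule F V), NdOn (QuadraticMap.polarBilin Q) X → ∀ n x,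
      finrank F X = n + n → (x + 1 ≤ n ∨ (x = n ∧ Half Q X)) →
      ∃ U : Submodule F V, U ≤ X ∧ (∀ u ∈ U, Q u = 0) ∧ finrank F U = x := by
    rintro X hX n x hXd (hx | ⟨rfl, hH⟩)
    · exact exists_singular_subspace x X hX (by omega)
    · obtain ⟨W, hWX, hW, hWd⟩ := half_iff.1 hH
      exact ⟨W, hWX, hW, by omega⟩
  obtain ⟨x, y, hxy, hx, hy⟩ : ∃ x y, x + y = m ∧ (x + 1 ≤ k ∨ (x = k ∧ Half Q K)) ∧
      (y + 1 ≤ l ∨ (y = l ∧ Half Q M)) := by
    by_cases hHM : Half Q M
    · refine ⟨m - min m l, min m l, by omega, Or.inl (by omega), ?_⟩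
      rcases lt_or_ge m l with h | h
      · exact Or.inl (by omega)
      · exact Or.inr ⟨by omega, hHM⟩
    by_cases hHK : Half Q K
    · refine ⟨min m k, m - min m k, by omega, ?_, Or.inl (by omega)⟩
      rcases lt_or_ge m k with h | h
      · exact Or.inl (by omega)
      · exact Or.inr ⟨by omega, hHK⟩
    have hm2 : m + 2 ≤ d := by
      rcases hcond with hsq | hc
      · exact absurd (hMhalf hsq) hHM
      · exact hc (htype.2 (iff_of_false hHK hHM))
    exact ⟨min m (k - 1), m - min m (k - 1), by omega, Or.inl (by omega), Or.inl (by omega)⟩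
  obtain ⟨U₀, h0, i0, hd0⟩ := part K hK k x hk hx
  obtain ⟨U₁, h1, i1, hd1⟩ := part M hM l y hl hy
  refine ⟨U₀ ⊔ U₁, ?_, quad_sup i0 i1 fun a ha c hc => ho a (h0 ha) c (h1 hc), ?_⟩
  · have hinf : U₀ ⊓ U₁ = ⊥ := by
      rw [Submodule.eq_bot_iff]
      rintro z ⟨hz0, hz1⟩
      exact hfree z (h1 hz1) (hfix z (h0 hz0))
    have := Submodule.finrank_sup_add_finrank_inf_eq U₀ U₁
    rw [hinf, finrank_bot] at this
    omega
  · intro w hw
    obtain ⟨a, ha, c, hc, rfl⟩ := Submodule.mem_sup.1 hw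
    rw [map_add, hfix a (h0 ha), hneg c (h1 hc)]
    exact Submodule.add_mem_sup ha (U₁.neg_mem hc)

/-- An involution with small invariant totally singular subspaces. -/
theorem exists_bad (h2 : (2 : F) ≠ 0) (hns : ¬ IsSquare (-1 : F)) (hQ : (QuadraticMap.polarBilin Q).Nondegenerate)
    {d : ℕ} (hd : 2 ≤ d) (hdim : finrank F V = 2 * d) (hH : Half Q ⊤) :
    ∃ σ : FormsLib.oGroup Q, Spinor.dick σ = 1 ∧ Spinor.spin σ = 1 ∧ (∀ v, σ.1 (σ.1 v) = v) ∧ σ.1 ≠ 1 ∧
      (¬ ∀ v, σ.1 v = -v) ∧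
      ∀ W : Submodule F V, (∀ w ∈ W, Q w = 0) → (∀ w ∈ W, σ.1 w ∈ W) → finrank F W + 2 ≤ d := by
  classical
  have htop : NdOn (QuadraticMap.polarBilin Q) ⊤ := fun u _ h => hQ.1 u fun v => h v trivial
  obtain ⟨b₀, -, hQb₀⟩ := Spinor.exists_norm (ndOn_inf_orth htop) (Or.inl (by rw [finrank_top]; omega)) (one_ne_zero (α := F))
  have hxx : QuadraticMap.polar Q b₀ b₀ = 2 := by rw [FormsLib.polar_self', hQb₀, mul_one]
  have hb₀ : b₀ ≠ 0 := fun h => one_ne_zero (α := F) (by rw [← hQb₀, h, QuadraticMap.map_zero])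
  have hL : NdOn (QuadraticMap.polarBilin Q) (Submodule.span F {b₀}) := by
    intro v hv h
    obtain ⟨a, rfl⟩ := Submodule.mem_span_singleton.1 hv
    have := h b₀ (Submodule.mem_span_singleton_self b₀)
    rw [map_smul, LinearMap.smul_apply, QuadraticMap.polarBilin_apply_apply, hxx, smul_eq_mul, mul_eq_zero] at this
    rw [this.resolve_right h2, zero_smul]
  have hrefl : ∀ u v, QuadraticMap.polarBilin Q u v = 0 → QuadraticMap.polarBilin Q v u = 0 :=
    fun u v h => (polar_symm v u).trans h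
  obtain ⟨R, -, -, hR, hoR, -, -, hRd⟩ := exists_compl (T := (1 : Module.End F V)) hrefl (fun _ _ => rfl)
    one_ne_zero (one_pow 1) htop (Submodule.map_id ⊤).le hL (Submodule.map_id _).le le_top
  rw [finrank_top, hdim, finrank_span_singleton hb₀] at hRd
  obtain ⟨b₁, hb₁, hQb₁⟩ := Spinor.exists_norm (ndOn_inf_orth hR) (Or.inl (by omega)) (one_ne_zero (α := F))
  have hyy : QuadraticMap.polar Q b₁ b₁ = 2 := by rw [FormsLib.polar_self', hQb₁, mul_one]
  have horth : QuadraticMap.polar Q b₀ b₁ = 0 := hoR b₀ (Submodule.mem_span_singleton_self b₀) b₁ hb₁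
  have horth' : QuadraticMap.polar Q b₁ b₀ = 0 := (QuadraticMap.polar_comm _ _ _).trans horth
  let b : Fin 2 → V := ![b₀, b₁]
  have hb : ∀ i j, i ≠ j → QuadraticMap.polar Q (b i) (b j) = 0 := fun i j hij => by
    fin_cases i <;> fin_cases j <;> first | exact absurd rfl hij | exact horth | exact horth'
  have hQb : ∀ i, Q (b i) = 1 := fun i => by fin_cases i <;> assumption
  obtain ⟨σ, hσb, hσf, hdick, hspin⟩ :=
    Spinor.exists_neg_on hQ (Spinor.reflGroup_eq_top_of_odd hQ h2) b hb Finset.univ fun i _ => by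
      rw [hQb]; exact one_ne_zero
  obtain ⟨hP, hPd, hPh⟩ := OrthTwo.plane h2 (by rw [hQb₀]; exact one_ne_zero) horth (hQb₁.trans hQb₀.symm)
  obtain ⟨X', -, -, hX', ho, hsup, -, hd'⟩ := exists_compl (T := (1 : Module.End F V)) hrefl (fun _ _ => rfl)
    one_ne_zero (one_pow 1) htop (Submodule.map_id ⊤).le hP (Submodule.map_id _).le le_top
  rw [finrank_top, hdim, hPd] at hd'
  have hm0 : b₀ ∈ Submodule.span F ({b₀, b₁} : Set V) := Submodule.subset_span (by simp)
  have hm1 : b₁ ∈ Submodule.span F ({b₀, b₁} : Set V) := Submodule.subset_span (by simp)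
  have hσX : ∀ x ∈ X', σ.1 x = x := fun x hx => hσf x fun i _ => (QuadraticMap.polar_comm _ _ _).trans
    (ho (b i) (by fin_cases i <;> assumption) x hx)
  have hσP : ∀ p ∈ Submodule.span F ({b₀, b₁} : Set V), σ.1 p = -p := fun p hp => by
    obtain ⟨a, c, rfl⟩ := Submodule.mem_span_pair.1 hp
    rw [map_add, map_smul, map_smul, show σ.1 b₀ = -b₀ from hσb 0 (Finset.mem_univ _),
      show σ.1 b₁ = -b₁ from hσb 1 (Finset.mem_univ _), smul_neg, smul_neg, neg_add]
  have hdec : ∀ v, ∃ p ∈ Submodule.span F ({b₀, b₁} : Set V), ∃ x ∈ X', p + x = v := fun v =>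
    Submodule.mem_sup.1 (hsup ▸ Submodule.mem_top)
  have hne2 : ∀ z : V, -z = z → z = 0 := fun z hz =>
    (smul_eq_zero.1 (show (2 : F) • z = 0 by linear_combination (norm := module) -hz)).resolve_left h2
  refine ⟨σ, by rw [hdick]; simp, hspin.2 (by simp [hQb]), fun v => ?_, fun h => ?_, fun h => ?_, ?_⟩
  · obtain ⟨p, hp, x, hx, rfl⟩ := hdec v
    rw [map_add, hσP p hp, hσX x hx, map_add, map_neg, hσP p hp, hσX x hx, neg_neg]
  · have h1 : σ.1 b₀ = -b₀ := hσb 0 (Finset.mem_univ _)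
    rw [h] at h1
    exact hb₀ (hne2 b₀ h1.symm)
  · obtain ⟨x, hx, hx0⟩ := Submodule.exists_mem_ne_zero_of_ne_bot (p := X') fun h0 => by
      rw [h0, finrank_bot] at hd'
      omega
    exact hx0 (hne2 x ((h x).symm.trans (hσX x hx)))
  intro W hW hWσ
  have hWX : W ≤ X' := by
    intro w hw
    obtain ⟨p, hp, x, hx, rfl⟩ := hdec w
    have h1 := W.sub_mem hw (hWσ _ hw)
    rw [map_add, hσP p hp, hσX x hx] at h1
    have h3 := W.smul_mem (2 : F)⁻¹ h1
    rw [show (2 : F)⁻¹ • (p + x - (-p + x)) = p by match_scalars <;> field_simp <;> ring] at h3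
    have hp0 : p = 0 := by
      obtain ⟨a, c, rfl⟩ := Submodule.mem_span_pair.1 hp
      have h4 := hW _ h3
      rw [FormsLib.quad_add, QuadraticMap.map_smul, QuadraticMap.map_smul, QuadraticMap.polar_smul_left,
        QuadraticMap.polar_smul_right, horth, hQb₀, hQb₁] at h4
      simp only [smul_eq_mul, mul_one, mul_zero, add_zero] at h4
      have hc : c = 0 := by
        by_contra hc
        exact hns ⟨a / c, by field_simp; linear_combination -h4⟩
      rw [hc, mul_zero, add_zero, mul_self_eq_zero] at h4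
      simp [hc, h4]
    rw [hp0, zero_add]
    exact hx
  have hnh : ¬ Half Q X' := fun h => hPh hns (by
    have := half_sup hP hX' ho (hPd ▸ even_two) ⟨d - 1, by omega⟩
    rw [hsup] at this
    exact (this.1 hH).2 h)
  have := le_of_not_half hX' hWX hW ⟨d - 1, by omega⟩ hnh
  omega

end Two

variable {ι : Type} [Fintype ι] [DecidableEq ι] {r : ℕ} [Fact r.Prime]

/-- The criterion. -/
theorem all_fix_iff {p : ℕ} [Fact p.Prime] [CharP F p] {Q : QuadraticForm F (ι → F)}
    (hQ : (QuadraticMap.polarBilin Q).Nondegenerate) {d σ m : ℕ} (hd : 3 ≤ d) (hι : Fintype.card ι = 2 * d)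
    (hσ : σ = 0 ∧ Half Q ⊤ ∨ σ = 1 ∧ ¬ Half Q ⊤) (hm : 1 ≤ m) (hmd : m + 1 ≤ d)
    (hΩ : r ∣ Nat.card {W : Submodule F (ι → F) // finrank F ↥W = m ∧ ∀ w ∈ W, Q w = 0}) :
    (∀ x : GL ι F, x ∈ Cfsg.Geo.omegaGL ⇑Q →
      (∃ z : F, ((x ^ r : GL ι F) : Matrix ι ι F) = z • (1 : Matrix ι ι F)) →
      (∀ z : F, (x : Matrix ι ι F) ≠ z • (1 : Matrix ι ι F)) →
      ∃ W : Submodule F (ι → F), finrank F W = m ∧ (∀ w ∈ W, Q w = 0) ∧
        W.map (Matrix.toLin' (x : Matrix ι ι F)) ≤ W) ↔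
    ((r = 2 ∧ p ≠ 2 ∧ (IsSquare (-1 : F) ∨ ((σ = 0 → m + 2 ≤ d) ∧
        (Even m ∨ ¬ ((σ = 0 ↔ Even d) ∧ IsSquare ((2 : F) ^ d)))))) ∨
     (r ≠ p ∧ 2 < r ∧ orderOf (Fintype.card F : ZMod r) ≤ m ∧
        OrthEven.Cond (orderOf (Fintype.card F : ZMod r)) ((r - 1) / orderOf (Fintype.card F : ZMod r)) m d σ)) := by
  classical
  have hrpr := (Fact.out : r.Prime)
  have hppr := (Fact.out : p.Prime)
  have hdimV : finrank F (ι → F) = 2 * d := by rw [finrank_pi, hι]
  have htop : NdOn (QuadraticMap.polarBilin Q) ⊤ := fun u _ h => hQ.1 u fun v => h v trivial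
  have hexc : Fintype.card F ≠ 2 ∨ Fintype.card ι ≠ 4 := Or.inr (by omega)
  obtain ⟨hrp, hfac⟩ := OrthEvenCount.exists_factor (p := p) Q hQ hdimV hσ hmd hrpr hΩ
  have htype : Half Q ⊤ ↔ σ = 0 := by rcases hσ with ⟨rfl, h⟩ | ⟨rfl, h⟩ <;> simp [h]
  have read : ∀ x : GL ι F, x ∈ Cfsg.Geo.omegaGL ⇑Q → ∀ z : F,
      ((x ^ r : GL ι F) : Matrix ι ι F) = z • (1 : Matrix ι ι F) →
      ∃ τ : FormsLib.oGroup Q, Spinor.dick τ = 1 ∧ Spinor.spin τ = 1 ∧
        Matrix.toLin' (x : Matrix ι ι F) = τ.1.toLinearMap ∧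
        (τ.1.toLinearMap : Module.End F (ι → F)) ^ r = z • 1 ∧ z * z = 1 := by
    rintro x ⟨g, hg, rfl⟩ z hz
    obtain ⟨hd1, hs1⟩ := (OrthRows.mem_omega hQ hexc).1 hg
    have hpow : (((FormsLib.oEquiv Q g).1.toLinearMap : Module.End F (ι → F))) ^ r = z • 1 := by
      rw [show ((FormsLib.oEquiv Q g).1.toLinearMap : Module.End F (ι → F)) =
        Matrix.toLin' ((Subgroup.subtype _ g : GL ι F) : Matrix ι ι F) from rfl,
        ← Matrix.toLin'_pow, ← Units.val_pow_eq_pow_val, hz, map_smul, Matrix.toLin'_one]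
      rfl
    refine ⟨FormsLib.oEquiv Q g, hd1, hs1, rfl, hpow, ?_⟩
    haveI : Nonempty ι := Fintype.card_pos_iff.1 (by omega)
    obtain ⟨v, hv⟩ := Spinor.exists_nonsingular' (Q := Q) hQ
    have hT : ∀ (k : ℕ) w, Q ((((FormsLib.oEquiv Q g).1.toLinearMap : Module.End F (ι → F)) ^ k) w) = Q w := by
      intro k
      induction k with
      | zero => exact fun w => rfl
      | succ k ih => exact fun w => by rw [pow_succ', Module.End.mul_apply]; exact ((FormsLib.oEquiv Q g).2 _).trans (ih w)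
    have := hT r v
    rw [hpow, LinearMap.smul_apply, Module.End.one_apply, QuadraticMap.map_smul, smul_eq_mul] at this
    exact mul_right_cancel₀ hv (this.trans (one_mul _).symm)
  by_cases hr2 : r = 2
  · subst hr2
    have h20 : (2 : F) ≠ 0 := fun h => hrp ((Nat.prime_dvd_prime_iff_eq hppr Nat.prime_two).1
      ((CharP.cast_eq_zero_iff F p 2).1 (by exact_mod_cast h))).symm
    have pack : ∀ τ : FormsLib.oGroup Q, Spinor.dick τ = 1 → Spinor.spin τ = 1 →
        TransvMax.glOf τ.1 ∈ Cfsg.Geo.omegaGL ⇑Q := fun τ h1 h3 => SymRoot.glOf_mem_omega h20 hQ τ h1 h3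
    have hv0 : ∃ v : ι → F, v ≠ 0 := ⟨fun _ => 1, fun h => by
      obtain ⟨i⟩ : Nonempty ι := Fintype.card_pos_iff.1 (by omega)
      exact one_ne_zero (congrFun h i)⟩
    constructor
    · intro hall
      refine Or.inl ⟨rfl, hrp.symm, or_iff_not_imp_left.2 fun hns => ⟨fun hσ0 => ?_, ?_⟩⟩
      · obtain ⟨τ, hd1, hs1, hττ, hne, hne', hbad⟩ := exists_bad h20 hns hQ (by omega) hdimV (htype.2 hσ0)
        have hlin : ∀ v, Matrix.toLin' ((TransvMax.glOf τ.1 : GL ι F) : Matrix ι ι F) v = τ.1 v := fun v => by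
          rw [Matrix.toLin'_apply, TransvMax.glOf_mulVec]
        obtain ⟨W, hWd, hW, hWT⟩ := hall _ (pack τ hd1 hs1) ⟨1, by
            rw [← map_pow, show τ.1 ^ 2 = 1 from LinearEquiv.ext fun v => by rw [pow_two]; exact hττ v, map_one,
              Units.val_one, one_smul]⟩
          fun z hz => by
            have hzv : ∀ v, τ.1 v = z • v := fun v => by
              rw [← hlin, hz, map_smul, Matrix.toLin'_one]
              rfl
            obtain ⟨v, hv⟩ := hv0
            have h1 := hττ v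
            rw [hzv, hzv, smul_smul] at h1
            have hz2 : z * z = 1 := by
              by_contra hcon
              refine hv ((smul_eq_zero.1 (show (z * z - 1) • v = 0 by rw [sub_smul, h1, one_smul, sub_self])).resolve_left
                (sub_ne_zero.2 hcon))
            rcases mul_self_eq_one_iff.1 hz2 with rfl | rfl
            · exact hne (LinearEquiv.ext fun w => by rw [hzv, one_smul]; rfl)
            · exact hne' fun w => by rw [hzv, neg_one_smul]
        have := hbad W hW fun w hw => by rw [← hlin]; exact hWT ⟨w, hw, rfl⟩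
        omega
      · by_contra h
        push Not at h
        obtain ⟨hmodd, hpar, hsq⟩ := h
        obtain ⟨τ, hd1, hs1, hττ⟩ := OrthTwo.exists_root h20 hns hQ hdimV (htype.trans hpar) hsq
        have hlin : ∀ v, Matrix.toLin' ((TransvMax.glOf τ.1 : GL ι F) : Matrix ι ι F) v = τ.1 v := fun v => by
          rw [Matrix.toLin'_apply, TransvMax.glOf_mulVec]
        obtain ⟨W, hWd, hW, hWT⟩ := hall _ (pack τ hd1 hs1) ⟨-1, by
            refine Matrix.toLin'.injective (LinearMap.ext fun v => ?_)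
            rw [Units.val_pow_eq_pow_val, Matrix.toLin'_pow, pow_two, Module.End.mul_apply, hlin, hlin, hττ, map_smul,
              Matrix.toLin'_one, LinearMap.smul_apply, LinearMap.id_apply, neg_one_smul]⟩
          fun z hz => by
            obtain ⟨v, hv⟩ := hv0
            have hzv : ∀ w, τ.1 w = z • w := fun w => by
              rw [← hlin, hz, map_smul, Matrix.toLin'_one]
              rfl
            have h1 := hττ v
            rw [hzv, hzv, smul_smul, ← neg_one_smul F v] at h1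
            exact hns ⟨z, ((smul_left_injective F hv) h1).symm⟩
        have := OrthTwo.even_of_root hns (T := Matrix.toLin' ((TransvMax.glOf τ.1 : GL ι F) : Matrix ι ι F))
          (fun v => by rw [hlin, hlin, hττ]) hWT
        rw [hWd] at this
        exact Nat.not_even_iff_odd.2 (Nat.not_even_iff_odd.1 hmodd) this
    · rintro (⟨-, -, hcond⟩ | ⟨-, h, -⟩) x hx ⟨z, hz⟩ hns'
      swap; · omega
      obtain ⟨τ, hd1, hs1, hlin, hpow, hz2⟩ := read x hx z hz
      have hpow' : ∀ v, τ.1 (τ.1 v) = z • v := fun v => by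
        have := LinearMap.congr_fun hpow v
        rwa [pow_two] at this
      have hnsc : ∀ c : F, ¬ ∀ v, τ.1 v = c • v := fun c hc => hns' c (Matrix.toLin'.injective (by
        rw [hlin, map_smul, Matrix.toLin'_one]
        exact LinearMap.ext hc))
      rcases mul_self_eq_one_iff.1 hz2 with rfl | rfl
      · obtain ⟨W, hWd, hW, hWT⟩ := exists_invol h20 hQ hdimV τ hd1 hs1 (fun v => by rw [hpow', one_smul])
          (fun h => hnsc 1 fun v => by rw [h, one_smul]; rfl) (fun h => hnsc (-1) fun v => by rw [h, neg_one_smul])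
          hmd (hcond.imp id fun h hH => h.1 (htype.1 hH))
        refine ⟨W, hWd, hW, ?_⟩
        rintro _ ⟨w, hw, rfl⟩
        rw [hlin]
        exact hWT w hw
      · have hττ : ∀ v, τ.1 (τ.1 v) = -v := fun v => by rw [hpow', neg_one_smul]
        obtain ⟨W, hWd, hWT, hW⟩ := OrthTwo.exists_root_ts h20 hQ hdimV (by omega : m ≤ d) (T := τ.1.toLinearMap)
          (fun v => τ.2 v) hττ (by
            by_cases hns : IsSquare (-1 : F)
            · exact Or.inl hns
            refine Or.inr ?_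
            obtain ⟨h1, h3⟩ := OrthTwo.root_facts h20 hns hQ hdimV τ hττ
            exact (hcond.resolve_left hns).2.resolve_right (not_not.2 ⟨htype.symm.trans h1, h3.1 hs1⟩))
        exact ⟨W, hWd, hW, hlin ▸ hWT⟩
  -- odd order
  have hodd : Odd r := hrpr.odd_of_ne_two hr2
  have hr3 : 2 < r := lt_of_le_of_ne hrpr.two_le (Ne.symm hr2)
  have hrF : (r : F) ≠ 0 := Elusive.natCast_prime_ne_zero (p := p) hrp
  have hrq : (Fintype.card F : ZMod r) ≠ 0 := Elusive.card_cast_ne_zero (F := F) (p := p) hrp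
  obtain ⟨t, ht⟩ : orderOf (Fintype.card F : ZMod r) ∣ r - 1 :=
    orderOf_dvd_of_pow_eq_one (ZMod.pow_card_sub_one_eq_one hrq)
  have hepos : 0 < orderOf (Fintype.card F : ZMod r) := orderOf_pos_iff.2 (isUnit_iff_ne_zero.2 hrq).isOfFinOrder
  rw [show (r - 1) / orderOf (Fintype.card F : ZMod r) = t by rw [ht, Nat.mul_div_cancel_left _ hepos]]
  constructor
  · intro hall
    obtain ⟨hem, hcond⟩ := OrthEvenNec.cond_of_all (p := p) hQ hd hι hσ hm hmd hr2 hrp hrF hrq ht hfac
      fun g hg hgo => hall g hg ⟨1, by rw [← hgo, pow_orderOf_eq_one, Units.val_one, one_smul]⟩ fun z hz => by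
        have hgr : ((g ^ r : GL ι F) : Matrix ι ι F) = (z ^ r) • 1 := by
          rw [Units.val_pow_eq_pow_val, hz, smul_pow, one_pow]
        obtain ⟨τ, -, -, hlin, -, -⟩ := read g hg (z ^ r) hgr
        have hz2 : z * z = 1 := by
          haveI : Nonempty ι := Fintype.card_pos_iff.1 (by omega)
          obtain ⟨v, hv⟩ := Spinor.exists_nonsingular' (Q := Q) hQ
          have h1 := τ.2 v
          rw [show τ.1 v = z • v by
            rw [show τ.1 v = Matrix.toLin' (g : Matrix ι ι F) v by rw [hlin]; rfl, hz, map_smul, Matrix.toLin'_one]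
            rfl, QuadraticMap.map_smul, smul_eq_mul] at h1
          exact mul_right_cancel₀ hv (h1.trans (one_mul _).symm)
        obtain ⟨i₀⟩ : Nonempty ι := Fintype.card_pos_iff.1 (by omega)
        rw [← hgo, pow_orderOf_eq_one, Units.val_one] at hgr
        have h1 := congrFun (congrFun hgr i₀) i₀
        simp only [Matrix.one_apply_eq, Matrix.smul_apply, smul_eq_mul, mul_one] at h1
        obtain ⟨l, hl⟩ := hodd
        rw [hgo, hl, pow_succ, pow_mul, pow_two, hz2, one_pow, one_mul] at h1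
        have hg1 : g = 1 := Units.ext (by rw [hz, ← h1, one_smul]; rfl)
        exact hrpr.ne_one (by rw [← hgo, hg1, orderOf_one])
    exact Or.inr ⟨hrp, hr3, hem, hcond⟩
  · rintro (⟨h, -⟩ | ⟨-, -, -, hcond⟩) x hx ⟨z, hz⟩ -
    · exact absurd h hr2
    obtain ⟨τ, -, -, hlin, hpow, hz2⟩ := read x hx z hz
    set T : Module.End F (ι → F) := z • τ.1.toLinearMap with hTdef
    have hQT : ∀ v, Q (T v) = Q v := fun v => by
      rw [hTdef, LinearMap.smul_apply, QuadraticMap.map_smul, hz2, one_smul]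
      exact τ.2 v
    have hTr : T ^ r = 1 := by
      obtain ⟨l, hl⟩ := hodd
      rw [hTdef, smul_pow, hpow, smul_smul, ← pow_succ, hl, show 2 * l + 1 + 1 = 2 * (l + 1) by ring, pow_mul,
        pow_two, hz2, one_pow, one_smul]
    obtain ⟨W, hWd, hWT, hW⟩ := OrthEven.exists_invariant (p := p) hQT hr2 hrF hrq hTr htop hdimV hσ hmd ht hcond
    refine ⟨W, hWd, hW, ?_⟩
    rintro _ ⟨v, hv, rfl⟩
    have h3 := W.smul_mem z (hWT ⟨v, hv, rfl⟩)
    rwa [hTdef, LinearMap.smul_apply, smul_smul, hz2, one_smul, ← hlin] at h3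

end Cfsg.Agent.Elusive.OrthEvenMain
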