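import Mathlib

/-!
Squares among powers of two in finite fields.
-/

set_option autoImplicit false

namespace Cfsg.Agent.Elusive.OrthEvenSquares

variable {F : Type*} [Field F] [Fintype F] {p : ℕ} [CharP F p]

theorem card_mod_two (hp : p ≠ 2) : Fintype.card F % 2 = 1 :=
  FiniteField.odd_card_of_char_ne_two (by rwa [ringChar.eq F p])

theorem two_pow_iff (h2 : (2 : F) ≠ 0) (d : ℕ) :
    IsSquare ((2 : F) ^ d) ↔ Even d ∨ (Fintype.card F % 8 ≠ 3 ∧ Fintype.card F % 8 ≠ 5) := by
  rw [← FiniteField.isSquare_two_iff]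
  rcases Nat.even_or_odd d with hd | hd
  · exact iff_of_true (hd.isSquare_pow _) (Or.inl hd)
  · obtain ⟨l, rfl⟩ := hd
    constructor
    · rintro ⟨s, hs⟩
      refine Or.inr ⟨s / 2 ^ l, ?_⟩
      rw [div_mul_div_comm, ← hs, eq_div_iff (mul_ne_zero (pow_ne_zero _ h2) (pow_ne_zero _ h2))]
      ring
    · intro h
      have h' := h.resolve_left (Nat.not_even_iff_odd.2 ⟨l, rfl⟩)
      exact h'.pow _

end Cfsg.Agent.Elusive.OrthEvenSquares
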