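import Cfsg.Agent.Lib.Elusive.OrthogonalEven
import Cfsg.Agent.Lib.TransvMax.SymRoot

/-!
Elements of odd prime order of an even-dimensional orthogonal group with few invariant singular subspaces.
-/

set_option autoImplicit false
set_option linter.style.haveILetI false

namespace Cfsg.Agent.Elusive.OrthEvenWitness

open Module FormIso OrthIso OrthType OrthClasses

variable {F : Type*} [Field F] [Fintype F] {r : ℕ} [Fact r.Prime]

/-- An isometry of odd order lies in the derived group. -/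
theorem glOf_mem_omega_odd {ι : Type} [Fintype ι] [DecidableEq ι] {Q : QuadraticForm F (ι → F)}
    (hQ : (QuadraticMap.polarBilin Q).Nondegenerate) (hι : Fintype.card ι ≠ 4) {g : (ι → F) ≃ₗ[F] (ι → F)}
    (hg : g ∈ FormsLib.oGroup Q) {r : ℕ} (hr : Odd r) (hgr : g ^ r = 1) :
    TransvMax.glOf g ∈ Cfsg.Geo.omegaGL ⇑Q := by
  have hone : ∀ φ : FormsLib.oGroup Q →* ℤˣ, φ ⟨g, hg⟩ = 1 := fun φ => by
    have h : φ ⟨g, hg⟩ ^ r = 1 := by
      rw [← map_pow, show (⟨g, hg⟩ : FormsLib.oGroup Q) ^ r = 1 from Subtype.ext hgr, map_one]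
    rcases Int.units_eq_one_or (φ ⟨g, hg⟩) with h' | h'
    · exact h'
    · rw [h', hr.neg_one_pow] at h
      exact absurd h (by decide)
  refine ⟨(FormsLib.oEquiv Q).symm ⟨g, hg⟩, ?_, rfl⟩
  have hexc : Fintype.card F ≠ 2 ∨ Fintype.card ι ≠ 4 := Or.inr hι
  refine (OrthRows.mem_omega hQ hexc).2 ⟨?_, ?_⟩
  · show Spinor.dickHom hQ (OrthRows.gen_top hQ hexc) (FormsLib.oEquiv Q ((FormsLib.oEquiv Q).symm _)) = 1
    rw [MulEquiv.apply_symm_apply]
    exact hone _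
  · show Spinor.spinHom hQ (OrthRows.gen_top hQ hexc) (FormsLib.oEquiv Q ((FormsLib.oEquiv Q).symm _)) = 1
    rw [MulEquiv.apply_symm_apply]
    exact hone _

/-- Plus or minus type, with the half. -/
theorem dichotomy {a b : F} (hab : ∀ z₁ z₂ : F, z₁ ^ 2 + a * z₁ * z₂ + b * z₂ ^ 2 = 0 → z₁ = 0 ∧ z₂ = 0) {k : ℕ}
    (hk : 1 ≤ k) {X : Type*} [AddCommGroup X] [Module F X] [FiniteDimensional F X] (Q' : QuadraticForm F X)
    (hX : finrank F X = 2 * k) (hQ' : (QuadraticMap.polarBilin Q').Nondegenerate) :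
    (HasHalf (F := F) ⇑Q' k ∧ ∃ L : X ≃ₗ[F] (PI k → F), ∀ v, Cfsg.quadFormPlus k F (L v) = Q' v) ∨
      (¬ HasHalf (F := F) ⇑Q' k ∧
        ∃ L : X ≃ₗ[F] (MI (k - 1) → F), ∀ v, Cfsg.quadFormMinus (k - 1) F a b (L v) = Q' v) := by
  rcases Spinor.equiv_plus_or_minus hk hX Q' hQ' a b hab with ⟨L, hL⟩ | ⟨L, hL⟩
  · exact Or.inl ⟨hasHalf_map L.symm (fun v => by rw [← hL, L.apply_symm_apply]) (plus_half k), L, hL⟩
  · exact Or.inr ⟨fun h' => minus_no_half (k - 1) a b hab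
      (by rw [Nat.sub_add_cancel hk]; exact hasHalf_map (Q' := Cfsg.quadFormMinus (k - 1) F a b) L hL h'), L, hL⟩

/-- Completing a space to one of prescribed type. -/
theorem exists_complement {V W : Type*} [AddCommGroup V] [Module F V] [FiniteDimensional F V] [AddCommGroup W]
    [Module F W] [FiniteDimensional F W] {k l : ℕ} (hk : 1 ≤ k) (hV : finrank F V = 2 * k)
    (hW : finrank F W = 2 * (k + l)) (Q₁ : QuadraticForm F V) (hQ₁ : (QuadraticMap.polarBilin Q₁).Nondegenerate)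
    (Q : QuadraticForm F W) (hQ : (QuadraticMap.polarBilin Q).Nondegenerate)
    (hcompat : l = 0 → (HasHalf (F := F) ⇑Q₁ k ↔ HasHalf (F := F) ⇑Q k)) :
    ∃ (Q₂ : QuadraticForm F (Fin (2 * l) → F)) (L : (V × (Fin (2 * l) → F)) ≃ₗ[F] W),
      ∀ v, Q (L v) = Q₁ v.1 + Q₂ v.2 := by
  obtain ⟨a, b, hab⟩ := Spinor.exists_aniso F
  rcases Nat.eq_zero_or_pos l with rfl | hl
  · have h := hcompat rfl
    rw [Nat.add_zero] at hW
    let e : (V × (Fin (2 * 0) → F)) ≃ₗ[F] V :=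
      { toFun := fun v => v.1
        invFun := fun v => (v, 0)
        map_add' := fun _ _ => rfl
        map_smul' := fun _ _ => rfl
        left_inv := fun v => Prod.ext rfl (funext fun i => i.elim0)
        right_inv := fun _ => rfl }
    have he : ∀ v, e v = v.1 := fun v => rfl
    rcases dichotomy hab hk Q₁ hV hQ₁ with ⟨h1, L₁, hL₁⟩ | ⟨h1, L₁, hL₁⟩ <;> rcases dichotomy hab hk Q hW hQ with ⟨h2, L₂, hL₂⟩ | ⟨h2, L₂, hL₂⟩
    · exact ⟨0, e.trans (L₁.trans L₂.symm), fun v => by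
        simp only [LinearEquiv.trans_apply, ← hL₂, L₂.apply_symm_apply, hL₁, he, QuadraticMap.zero_apply, add_zero]⟩
    · exact absurd (h.1 h1) h2
    · exact absurd (h.2 h2) h1
    · exact ⟨0, e.trans (L₁.trans L₂.symm), fun v => by
        simp only [LinearEquiv.trans_apply, ← hL₂, L₂.apply_symm_apply, hL₁, he, QuadraticMap.zero_apply, add_zero]⟩
  rcases Spinor.equiv_plus_or_minus (by omega : 1 ≤ k + l) hW Q hQ a b hab with ⟨L₂, hL₂⟩ | ⟨L₂, hL₂⟩
  · obtain ⟨Q₂, L, hL⟩ := exists_complement_plus hab hk hl hV Q₁ hQ₁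
    exact ⟨Q₂, L.trans L₂.symm, fun v => by
      rw [LinearEquiv.trans_apply, ← hL₂, L₂.apply_symm_apply, hL]⟩
  · obtain ⟨Q₂, L, hL⟩ := exists_complement_minus hab hk hl hV Q₁ hQ₁
    exact ⟨Q₂, L.trans L₂.symm, fun v => by
      rw [LinearEquiv.trans_apply, ← hL₂, L₂.apply_symm_apply, hL]⟩

variable {ι : Type} [Fintype ι] [DecidableEq ι]

/-- An orthogonal element obtained from a symplectic one without fixed vectors. -/
theorem exists_element {p : ℕ} [Fact p.Prime] [CharP F p] {Q : QuadraticForm F (ι → F)} (hQ : (QuadraticMap.polarBilin Q).Nondegenerate)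
    {d d' : ℕ} (hd : 3 ≤ d) (hι : Fintype.card ι = 2 * d) (hd' : 0 < d') (hdd : d' ≤ d) (hr2 : r ≠ 2)
    (hrF : (r : F) ≠ 0) (hrq : (Fintype.card F : ZMod r) ≠ 0) {c J : ℕ}
    (hc : c = if Even (orderOf (Fintype.card F : ZMod r)) then orderOf (Fintype.card F : ZMod r)
      else 2 * orderOf (Fintype.card F : ZMod r))
    (hJ : 2 * d' = c * J)
    (hcompat : d' = d → (Half Q ⊤ ↔ (Even (orderOf (Fintype.card F : ZMod r)) → Even J)))
    (T : Module.End F (Fin d' ⊕ Fin d' → F))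
    (hiso : ∀ u v, FormsLib.spB d' F (T u) (T v) = FormsLib.spB d' F u v)
    (hT : T ^ r = 1) (hfix : ∀ v, T v = v → v = 0) :
    ∃ g : GL ι F, g ∈ Cfsg.Geo.omegaGL ⇑Q ∧ orderOf g = r ∧
      finrank F ↥(fixedSpace (Matrix.toLin' (g : Matrix ι ι F))) = 2 * (d - d') ∧
      (∀ v, Q (Matrix.toLin' (g : Matrix ι ι F) v) = Q v) ∧
      ∀ W : Submodule F (ι → F), (∀ w ∈ W, Q w = 0) → W.map (Matrix.toLin' (g : Matrix ι ι F)) ≤ W →
        ∃ W₁ : Submodule F (Fin d' ⊕ Fin d' → F), OrthTo (FormsLib.spB d' F) W₁ W₁ ∧ W₁.map T ≤ W₁ ∧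
          finrank F W = finrank F W₁ + finrank F ↥(W ⊓ fixedSpace (Matrix.toLin' (g : Matrix ι ι F))) := by
  classical
  have hrpr := (Fact.out : r.Prime)
  have hodd := hrpr.odd_of_ne_two hr2
  obtain ⟨l, rfl⟩ : ∃ l, d = d' + l := ⟨d - d', by omega⟩
  let V₁ := Fin d' ⊕ Fin d' → F
  let D : V₁ →ₗ[F] V₁ := T - T ^ (r - 1)
  have hDa : ∀ a, D a = T a - (T ^ (r - 1)) a := fun a => rfl
  have hDinj : Function.Injective D := (injective_iff_map_eq_zero D).2 fun a ha =>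
    OrthIso.sub_inj (M := ⊤) (fun v _ => hfix v) hodd hT trivial (sub_eq_zero.1 ha)
  let DE : V₁ ≃ₗ[F] V₁ := LinearEquiv.ofInjectiveEndo D hDinj
  have hDS : ∀ a, D (DE.symm a) = a := fun a => DE.apply_symm_apply a
  have hSD : ∀ a, DE.symm (D a) = a := fun a => DE.symm_apply_apply a
  have hA : LinearMap.IsAlt (FormsLib.spB d' F) := FormsLib.spB_alt
  let β : LinearMap.BilinForm F V₁ :=
    (FormsLib.spB d' F).compl₁₂ DE.symm.toLinearMap (T ∘ₗ DE.symm.toLinearMap)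
  have hβ : ∀ a b, β a b = FormsLib.spB d' F (DE.symm a) (T (DE.symm b)) := fun a b => rfl
  let Q₁ : QuadraticForm F V₁ := LinearMap.BilinMap.toQuadraticMap β
  have hQ₁ : ∀ a, Q₁ a = β a a := fun a => rfl
  have hP₁ : ∀ a b, QuadraticMap.polar Q₁ a b = FormsLib.spB d' F (DE.symm a) b := by
    intro a b
    obtain ⟨a', rfl⟩ : ∃ a', D a' = a := ⟨_, hDS a⟩
    obtain ⟨b', rfl⟩ : ∃ b', D b' = b := ⟨_, hDS b⟩
    have e : ∀ x y, FormsLib.spB d' F x ((T ^ (r - 1)) y) = FormsLib.spB d' F (T x) y := fun x y => by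
      conv_lhs => rw [← hiso]
      rw [← Module.End.mul_apply T, ← pow_succ', Nat.sub_add_cancel hrpr.one_le, hT]
      rfl
    simp only [QuadraticMap.polar, hQ₁, map_add, LinearMap.add_apply, hβ, hSD]
    conv_rhs => rw [hDa, map_sub, e, ← hA.neg b' (T a')]
    ring
  have hQ₁T : ∀ a, Q₁ (T a) = Q₁ a := fun a => by
    have hcomm : DE.symm (T a) = T (DE.symm a) := by
      refine DE.injective ((DE.apply_symm_apply _).trans ?_)
      show _ = D (T (DE.symm a))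
      rw [hDa, ← Module.End.mul_apply (T ^ (r - 1)), ← pow_succ, pow_succ', Module.End.mul_apply, ← map_sub,
        ← hDa, hDS]
    rw [hQ₁, hQ₁, hβ, hβ, hcomm, hiso]
  have hN₁ : ∀ a, (∀ b, QuadraticMap.polar Q₁ a b = 0) → a = 0 := fun a ha => by
    refine DE.symm.injective ((FormsLib.spB_nondeg.1 _ fun b => ?_).trans (map_zero _).symm)
    rw [← hP₁]
    exact ha b
  have hQ₁nd : (QuadraticMap.polarBilin Q₁).Nondegenerate :=
    ⟨fun v hv => hN₁ v hv, fun v hv => hN₁ v fun w => (QuadraticMap.polar_comm _ _ _).trans (hv w)⟩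
  have hdim₁ : finrank F V₁ = 2 * d' := by rw [finrank_pi, Fintype.card_sum, Fintype.card_fin, two_mul]
  have hhalf : HasHalf (F := F) ⇑Q₁ d' ↔ (Even (orderOf (Fintype.card F : ZMod r)) → Even J) := by
    have key := OrthEven.half_free (p := p) (Q := Q₁) hQ₁T hr2 hrF hrq hT hc (X := ⊤)
      (fun u _ h => hN₁ u fun v => h v trivial) le_top (fun v _ => hfix v) (J := J) (by rw [finrank_top, hdim₁, hJ])
    rw [Half, show finrank F (⊤ : Submodule F V₁) / 2 = d' by rw [finrank_top, hdim₁]; omega] at key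
    rw [← key]
    exact ⟨hasHalf_map Submodule.topEquiv.symm fun v => rfl, hasHalf_map Submodule.topEquiv fun v => rfl⟩
  have hdimι : finrank F (ι → F) = 2 * (d' + l) := by rw [finrank_pi, hι]
  obtain ⟨Q₂, L, hL⟩ := exists_complement (l := l) hd' hdim₁ hdimι Q₁ hQ₁nd Q hQ fun hl => by
    subst hl
    rw [hhalf, ← hcompat rfl, Half, show finrank F (⊤ : Submodule F (ι → F)) / 2 = d' by rw [finrank_top, hdimι]; omega]
    exact ⟨hasHalf_map Submodule.topEquiv fun v => rfl, hasHalf_map Submodule.topEquiv.symm fun v => rfl⟩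
  let TE : V₁ ≃ₗ[F] V₁ := LinearEquiv.ofInjectiveEndo T (FormIso.injective_of_pow hrpr.ne_zero hT)
  let e₀ : (V₁ × (Fin (2 * l) → F)) ≃ₗ[F] (V₁ × (Fin (2 * l) → F)) := TE.prodCongr (LinearEquiv.refl F _)
  have he₀ : ∀ v, e₀ v = (T v.1, v.2) := fun v => rfl
  let g₀ := L.symm.trans (e₀.trans L)
  have hg₀ : ∀ v, g₀ v = L (e₀ (L.symm v)) := fun v => rfl
  have hg₀o : g₀ ∈ FormsLib.oGroup Q := fun v => by
    rw [hg₀, hL, he₀]
    show Q₁ (T (L.symm v).1) + Q₂ (L.symm v).2 = Q v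
    rw [hQ₁T, ← hL, L.apply_symm_apply]
  have hpow : ∀ (k : ℕ) v, (g₀ ^ k) v = L ((T ^ k) (L.symm v).1, (L.symm v).2) := by
    intro k
    induction k with
    | zero =>
      intro v
      rw [pow_zero, pow_zero]
      exact (L.apply_symm_apply v).symm
    | succ k ih =>
      intro v
      rw [pow_succ', pow_succ']
      show g₀ ((g₀ ^ k) v) = _
      rw [ih, hg₀, L.symm_apply_apply, he₀]
      rfl
  have hg₀r : g₀ ^ r = 1 := LinearEquiv.ext fun v => by
    rw [hpow, hT]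
    exact L.apply_symm_apply v
  have hg₀1 : g₀ ≠ 1 := by
    intro h
    haveI : Nonempty (Fin d') := ⟨⟨0, hd'⟩⟩
    obtain ⟨a, ha⟩ := exists_ne (0 : V₁)
    refine ha (hfix a ?_)
    have h1 := LinearEquiv.congr_fun h (L (a, 0))
    rw [hg₀, L.symm_apply_apply, he₀] at h1
    exact congrArg Prod.fst (L.injective h1)
  have hlin : ∀ v, Matrix.toLin' ((TransvMax.glOf g₀ : GL ι F) : Matrix ι ι F) v = g₀ v := fun v => by
    rw [Matrix.toLin'_apply, TransvMax.glOf_mulVec]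
  have hfixmap : (fixedSpace (Matrix.toLin' ((TransvMax.glOf g₀ : GL ι F) : Matrix ι ι F))).map
      (L.symm : (ι → F) →ₗ[F] V₁ × (Fin (2 * l) → F)) = (⊥ : Submodule F V₁).prod ⊤ := by
    ext w
    constructor
    · rintro ⟨v, hv, rfl⟩
      have h1 := mem_fixedSpace.1 hv
      rw [hlin, hg₀, he₀] at h1
      have h2 := congrArg L.symm h1
      rw [L.symm_apply_apply] at h2
      exact ⟨(Submodule.mem_bot F).2 (hfix _ (congrArg Prod.fst h2)), trivial⟩
    · rintro ⟨h1, -⟩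
      refine ⟨L w, mem_fixedSpace.2 ?_, L.symm_apply_apply w⟩
      rw [hlin, hg₀, L.symm_apply_apply, he₀, show w.1 = 0 from (Submodule.mem_bot F).1 h1, map_zero]
      congr 1
      exact Prod.ext ((Submodule.mem_bot F).1 h1).symm rfl
  refine ⟨TransvMax.glOf g₀, glOf_mem_omega_odd hQ (by omega) hg₀o hodd hg₀r, ?_, ?_, fun v => by rw [hlin]; exact hg₀o v, ?_⟩
  · refine orderOf_eq_prime (by rw [← map_pow, hg₀r, map_one]) fun h => hg₀1 (LinearEquiv.ext fun v => ?_)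
    rw [← TransvMax.glOf_mulVec g₀ v, h]
    simp
  · let e2 : ↥((⊥ : Submodule F V₁).prod (⊤ : Submodule F (Fin (2 * l) → F))) ≃ₗ[F] (Fin (2 * l) → F) :=
      { toFun := fun w => w.1.2
        invFun := fun b => ⟨(0, b), rfl, trivial⟩
        map_add' := fun _ _ => rfl
        map_smul' := fun _ _ => rfl
        left_inv := fun w => Subtype.ext (Prod.ext ((Submodule.mem_bot F).1 w.2.1).symm rfl)
        right_inv := fun _ => rfl }
    rw [← LinearEquiv.finrank_map_eq L.symm, hfixmap, e2.finrank_eq, finrank_pi, Fintype.card_fin, Nat.add_sub_cancel_left]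
  intro W hW hWT
  set W' := W.map (L.symm : (ι → F) →ₗ[F] V₁ × (Fin (2 * l) → F)) with hW'
  have hW'T : ∀ w ∈ W', (T w.1, w.2) ∈ W' := by
    rintro _ ⟨v, hv, rfl⟩
    refine ⟨g₀ v, ?_, ?_⟩
    · have := hWT ⟨v, hv, rfl⟩
      rwa [hlin] at this
    · rw [LinearEquiv.coe_coe, hg₀, L.symm_apply_apply, he₀]
  set W₁ := W'.map (LinearMap.fst F V₁ (Fin (2 * l) → F))
  have hW₁T : W₁.map T ≤ W₁ := by
    rintro _ ⟨_, ⟨w, hw, rfl⟩, rfl⟩
    exact ⟨_, hW'T w hw, rfl⟩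
  have hTl : ∀ (j : ℕ), ∀ w ∈ W', ((T ^ j) w.1, w.2) ∈ W' := by
    intro j
    induction j with
    | zero => exact fun w hw => hw
    | succ j ih => exact fun w hw => by rw [pow_succ', Module.End.mul_apply]; exact hW'T _ (ih w hw)
  have h10 : ∀ a ∈ W₁, (a, (0 : Fin (2 * l) → F)) ∈ W' := by
    intro a ha
    obtain ⟨_, ⟨w, hw, rfl⟩, rfl⟩ := OrthIso.sub_surj hW₁T (fun v _ => hfix v) hodd hT ha
    have := W'.sub_mem (hW'T w hw) (hTl (r - 1) w hw)
    rwa [Prod.mk_sub_mk, sub_self] at this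
  have hinf : (W ⊓ fixedSpace (Matrix.toLin' ((TransvMax.glOf g₀ : GL ι F) : Matrix ι ι F))).map
      (L.symm : (ι → F) →ₗ[F] V₁ × (Fin (2 * l) → F)) = W' ⊓ (⊥ : Submodule F V₁).prod ⊤ := by
    rw [← hfixmap, hW', Submodule.map_inf _ L.symm.injective]
  refine ⟨W₁, ?_, hW₁T, ?_⟩
  · have hzero : ∀ a ∈ W₁, Q₁ a = 0 := fun a ha => by
      have h1 := h10 a ha
      obtain ⟨v, hv, hva⟩ := h1
      have h2 := hW v hv
      rw [← L.apply_symm_apply v, hL] at h2
      rw [show L.symm v = (a, 0) from hva] at h2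
      simpa using h2
    intro a ha b hb
    have hDa' : D a ∈ W₁ := W₁.sub_mem (hW₁T ⟨a, ha, rfl⟩) (pow_mem hW₁T ha _)
    have h : QuadraticMap.polar Q₁ (D a) b = 0 := orthTo_of_quad hzero (D a) hDa' b hb
    rwa [hP₁, hSD] at h
  · have hW₂ : ∀ w ∈ W', ((0 : V₁), w.2) ∈ W' ⊓ (⊥ : Submodule F V₁).prod ⊤ := fun w hw => by
      refine ⟨?_, rfl, trivial⟩
      have := W'.sub_mem hw (h10 _ ⟨w, hw, rfl⟩)
      rw [show w = (w.1, w.2) from rfl, Prod.mk_sub_mk] at this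
      simpa using this
    let e : W' ≃ₗ[F] W₁ × ↥(W' ⊓ (⊥ : Submodule F V₁).prod ⊤) :=
      { toFun := fun w => (⟨w.1.1, w.1, w.2, rfl⟩, ⟨(0, w.1.2), hW₂ w.1 w.2⟩)
        invFun := fun w => ⟨(w.1.1, w.2.1.2), by
          have := W'.add_mem (h10 _ w.1.2) (hW₂ _ w.2.2.1).1
          simpa using this⟩
        map_add' := fun x y => Prod.ext rfl (Subtype.ext (Prod.ext (add_zero (0 : V₁)).symm rfl))
        map_smul' := fun c x => Prod.ext rfl (Subtype.ext (Prod.ext (smul_zero c).symm rfl))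
        left_inv := fun w => rfl
        right_inv := fun w => Prod.ext rfl (Subtype.ext (Prod.ext ((Submodule.mem_bot F).1 w.2.2.2.1).symm rfl)) }
    rw [← LinearEquiv.finrank_map_eq L.symm W, ← LinearEquiv.finrank_map_eq L.symm (W ⊓ _), hinf, ← hW',
      e.finrank_eq, finrank_prod]

/-- The fixed part of an invariant singular subspace. -/
theorem fixed_bound {p : ℕ} [Fact p.Prime] [CharP F p] {Q : QuadraticForm F (ι → F)} {T : Module.End F (ι → F)}
    (hQT : ∀ v, Q (T v) = Q v) (hr2 : r ≠ 2) (hrF : (r : F) ≠ 0) (hrq : (Fintype.card F : ZMod r) ≠ 0)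
    (hT : T ^ r = 1) (htop : NdOn (QuadraticMap.polarBilin Q) ⊤) {c J f d : ℕ}
    (hc : c = if Even (orderOf (Fintype.card F : ZMod r)) then orderOf (Fintype.card F : ZMod r)
      else 2 * orderOf (Fintype.card F : ZMod r))
    (hι : Fintype.card ι = 2 * d) (hf : finrank F (fixedSpace T) = f) (hJ : f + c * J = 2 * d) (hc0 : 0 < c)
    {W : Submodule F (ι → F)} (hW : ∀ w ∈ W, Q w = 0) :
    2 * finrank F ↥(W ⊓ fixedSpace T) ≤ f ∧
      (¬ (Half Q ⊤ ↔ (Even (orderOf (Fintype.card F : ZMod r)) → Even J)) →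
        2 * finrank F ↥(W ⊓ fixedSpace T) + 2 ≤ f) := by
  obtain ⟨M, -, hMT, hfree, hsup, ho, hM, hK, hfd⟩ :=
    exists_split (fun u v h => (polar_symm v u).trans h) (OrthEven.polar_iso hQT) hrF hT htop le_top
  rw [top_inf_eq] at hsup ho hK hfd
  rw [hf, finrank_top, finrank_pi, hι] at hfd
  have hMd : finrank F M = c * J := by omega
  have hle : W ⊓ fixedSpace T ≤ fixedSpace T := inf_le_right
  have hW' : ∀ w ∈ W ⊓ fixedSpace T, Q w = 0 := fun w hw => hW w hw.1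
  have h1 := two_mul_le hK hle hW'
  rw [hf] at h1
  refine ⟨h1, fun hne => ?_⟩
  have hce : Even c := by
    rw [hc]
    split_ifs with h
    exacts [h, even_two_mul _]
  have hfe : Even f := (Nat.even_add.1 (hJ ▸ even_two_mul d : Even (f + c * J))).2 (hce.mul_right J)
  have h2 := half_sup hK hM ho (hf ▸ hfe) (hMd ▸ hce.mul_right J)
  rw [hsup, OrthEven.half_free (p := p) hQT hr2 hrF hrq hT hc hM hMT hfree hMd] at h2
  have := le_of_not_half hK hle hW' (hf ▸ hfe) fun h => hne (by tauto)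
  rwa [hf] at this

end Cfsg.Agent.Elusive.OrthEvenWitness
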