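import Cfsg.Agent.Lib.Elusive.SymplecticFreeIsotropic
import Cfsg.Agent.Lib.Spinor.Classify
import Cfsg.Agent.Lib.Spinor.Products

/-!
Totally singular invariant subspaces of isometries of prime order of quadratic spaces of odd characteristic.
-/

set_option autoImplicit false
set_option linter.style.haveILetI false

namespace Cfsg.Agent.Elusive.OrthIso

open Module FormIso

variable {F V : Type*} [Field F] [AddCommGroup V] [Module F V] {B : LinearMap.BilinForm F V} {T : Module.End F V}
  {r : ℕ}

/-- The alternating form attached to an isometry of finite order. -/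
def altForm (B : LinearMap.BilinForm F V) (T : Module.End F V) (r : ℕ) : LinearMap.BilinForm F V :=
  B.compl₁₂ (T - T ^ (r - 1)) LinearMap.id

theorem altForm_apply (u v : V) : altForm B T r u v = B (T u) v - B ((T ^ (r - 1)) u) v := by
  simp [altForm, LinearMap.compl₁₂_apply]

theorem adj (hiso : ∀ u v, B (T u) (T v) = B u v) (hr : r ≠ 0) (hT : T ^ r = 1) (u v : V) :
    B ((T ^ (r - 1)) u) v = B u (T v) := by
  conv_lhs => rw [← hiso]
  rw [← Module.End.mul_apply, ← pow_succ', Nat.sub_add_cancel (Nat.pos_of_ne_zero hr), hT]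
  rfl

theorem altForm_isAlt (hS : ∀ u v, B u v = B v u) (hiso : ∀ u v, B (T u) (T v) = B u v) (hr : r ≠ 0)
    (hT : T ^ r = 1) : LinearMap.IsAlt (altForm B T r) := fun u => by
  rw [altForm_apply, adj hiso hr hT, hS u, sub_self]

theorem altForm_iso (hiso : ∀ u v, B (T u) (T v) = B u v) (u v : V) :
    altForm B T r (T u) (T v) = altForm B T r u v := by
  rw [altForm_apply, altForm_apply, hiso, ← Module.End.mul_apply, ← pow_succ, pow_succ', Module.End.mul_apply, hiso]

theorem sub_inj {M : Submodule F V} (hfree : ∀ v ∈ M, T v = v → v = 0) (hodd : Odd r) (hT : T ^ r = 1) {u : V}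
    (hu : u ∈ M) (h : T u = (T ^ (r - 1)) u) : u = 0 := by
  obtain ⟨l, hl⟩ := hodd
  have h2 : (T ^ 2) u = u := by
    rw [pow_two, Module.End.mul_apply, h, ← Module.End.mul_apply, ← pow_succ', Nat.sub_add_cancel (by omega), hT]
    rfl
  have hev : ∀ j : ℕ, (T ^ (2 * j)) u = u := by
    intro j
    induction j with
    | zero => rfl
    | succ j ih => rw [Nat.mul_succ, pow_add, Module.End.mul_apply, h2, ih]
  refine hfree u hu ?_
  have hTu := LinearMap.congr_fun hT u
  rwa [hl, pow_succ', Module.End.mul_apply, hev, Module.End.one_apply] at hTu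

/-- The restriction of `T - T⁻¹` to an invariant subspace without fixed vectors is onto. -/
theorem sub_surj [FiniteDimensional F V] {X : Submodule F V} (hXT : X.map T ≤ X)
    (hfree : ∀ v ∈ X, T v = v → v = 0) (hodd : Odd r) (hT : T ^ r = 1) {v : V} (hv : v ∈ X) :
    ∃ u ∈ X, T u - (T ^ (r - 1)) u = v := by
  let D : X →ₗ[F] X := (T - T ^ (r - 1)).restrict fun w hw =>
    X.sub_mem (hXT ⟨w, hw, rfl⟩) (pow_mem hXT hw _)
  have hD : Function.Surjective D := by
    refine LinearMap.injective_iff_surjective.1 ((injective_iff_map_eq_zero D).2 fun w hw => Subtype.ext ?_)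
    refine sub_inj hfree hodd hT w.2 (sub_eq_zero.1 ?_)
    simpa [D] using congrArg Subtype.val hw
  obtain ⟨u, hu⟩ := hD ⟨v, hv⟩
  exact ⟨u, u.2, congrArg Subtype.val hu⟩

theorem ndOn_alt {X : Submodule F V} (hXT : X.map T ≤ X) (hfree : ∀ v ∈ X, T v = v → v = 0) (hodd : Odd r)
    (hT : T ^ r = 1) (hX : NdOn B X) : NdOn (altForm B T r) X := fun u hu hall => by
  refine sub_inj hfree hodd hT hu (sub_eq_zero.1 (hX _ (X.sub_mem (hXT ⟨u, hu, rfl⟩) (pow_mem hXT hu _)) fun v hv => ?_))
  rw [map_sub, LinearMap.sub_apply, ← altForm_apply]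
  exact hall v hv

theorem orthTo_of_alt [FiniteDimensional F V] {U : Submodule F V} (hUT : U.map T ≤ U)
    (hfree : ∀ v ∈ U, T v = v → v = 0) (hodd : Odd r) (hT : T ^ r = 1) (hU : OrthTo (altForm B T r) U U) :
    OrthTo B U U := fun u hu v hv => by
  obtain ⟨w, hw, rfl⟩ := sub_surj hUT hfree hodd hT hu
  rw [map_sub, LinearMap.sub_apply, ← altForm_apply]
  exact hU w hw v hv

/-- The dimension of the part without fixed vectors is a multiple of the least piece. -/
theorem dvd_free [Fintype F] [FiniteDimensional F V] [Fact r.Prime] {p : ℕ} [Fact p.Prime] [CharP F p]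
    (hS : ∀ u v, B u v = B v u) (hiso : ∀ u v, B (T u) (T v) = B u v) (hr2 : r ≠ 2) (hrF : (r : F) ≠ 0)
    (hrq : (Fintype.card F : ZMod r) ≠ 0) (hT : T ^ r = 1) {c : ℕ}
    (hc : c = if Even (orderOf (Fintype.card F : ZMod r)) then orderOf (Fintype.card F : ZMod r)
      else 2 * orderOf (Fintype.card F : ZMod r))
    {M : Submodule F V} (hM : NdOn B M) (hMT : M.map T ≤ M) (hfree : ∀ v ∈ M, T v = v → v = 0) :
    c ∣ finrank F M := by
  have hr := (Fact.out : r.Prime)
  have hA := altForm_isAlt hS hiso hr.ne_zero hT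
  have hepos : 0 < orderOf (Fintype.card F : ZMod r) := orderOf_pos_iff.2 (isUnit_iff_ne_zero.2 hrq).isOfFinOrder
  exact dvd_finrank (refl_of_alt hA) (altForm_iso hiso) hr.ne_zero hT (by rw [hc]; split_ifs <;> omega)
    (ndOn_alt hMT hfree (hr.odd_of_ne_two hr2) hT hM) hMT fun W hW hWT hWn hne =>
      alt_block (p := p) hA (altForm_iso hiso) hr2 hrF hrq hT hc W hWT (fun v hv => hfree v (hW hv)) hWn hne

theorem orthTo_sup (hS : ∀ u v, B u v = B v u) {U W : Submodule F V} (hU : OrthTo B U U) (hW : OrthTo B W W)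
    (hUW : OrthTo B U W) : OrthTo B (U ⊔ W) (U ⊔ W) := by
  intro x hx y hy
  obtain ⟨u, hu, w, hw, rfl⟩ := Submodule.mem_sup.1 hx
  obtain ⟨u', hu', w', hw', rfl⟩ := Submodule.mem_sup.1 hy
  simp only [map_add, LinearMap.add_apply, hU u hu u' hu', hW w hw w' hw', hUW u hu w' hw', hS w u',
    hUW u' hu' w hw, add_zero]

section Quad

variable {Q : QuadraticForm F V}

theorem polar_symm (u v : V) : QuadraticMap.polarBilin Q u v = QuadraticMap.polarBilin Q v u :=
  QuadraticMap.polar_comm _ _ _

theorem ndOn_inf_orth {X : Submodule F V} (hX : NdOn (QuadraticMap.polarBilin Q) X) :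
    X ⊓ LinearMap.BilinForm.orthogonal (QuadraticMap.polarBilin Q) X = ⊥ := by
  rw [Submodule.eq_bot_iff]
  rintro x ⟨hx, hx'⟩
  exact hX x hx fun v hv => (polar_symm x v).trans (hx' v hv)

theorem orthTo_iff (h2 : (2 : F) ≠ 0) {W : Submodule F V} :
    OrthTo (QuadraticMap.polarBilin Q) W W ↔ ∀ w ∈ W, Q w = 0 := by
  constructor
  · intro h w hw
    have h3 : QuadraticMap.polar Q w w = 0 := h w hw w hw
    rw [FormsLib.polar_self', mul_eq_zero] at h3
    exact h3.resolve_left h2
  · intro h u hu v hv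
    show QuadraticMap.polar Q u v = 0
    simp [QuadraticMap.polar, h _ hu, h _ hv, h _ (W.add_mem hu hv)]

variable [Fintype F] [FiniteDimensional F V]

/-- Totally singular subspaces below half the dimension. -/
theorem exists_isotropic (h2 : (2 : F) ≠ 0) : ∀ (k : ℕ) (X : Submodule F V),
    NdOn (QuadraticMap.polarBilin Q) X → 2 * k < finrank F X →
    ∃ W : Submodule F V, W ≤ X ∧ OrthTo (QuadraticMap.polarBilin Q) W W ∧ finrank F W = k := by
  intro k
  induction k with
  | zero => exact fun X _ _ => ⟨⊥, bot_le, fun u hu v _ => by simp [(Submodule.mem_bot F).1 hu], finrank_bot F V⟩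
  | succ k ih =>
    intro X hX hk
    set B := QuadraticMap.polarBilin Q
    obtain ⟨x, hx, hx0, hQx⟩ := Spinor.exists_singular (ndOn_inf_orth hX) (by omega)
    obtain ⟨y, hy, hQy, hxy⟩ := Spinor.exists_pair (ndOn_inf_orth hX) hx hx0 hQx
    have hxx : B x x = 0 := by
      show QuadraticMap.polar Q x x = 0
      rw [FormsLib.polar_self', hQx, mul_zero]
    have hyy : B y y = 0 := by
      show QuadraticMap.polar Q y y = 0
      rw [FormsLib.polar_self', hQy, mul_zero]
    have hxy' : B x y = 1 := hxy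
    have hyx : B y x = 1 := (polar_symm y x).trans hxy
    set P := Submodule.span F {x, y}
    have hPX : P ≤ X := Submodule.span_le.2 (by rintro z (rfl | rfl) <;> assumption)
    have hcoef : ∀ a b : F, B (a • x + b • y) y = a ∧ B (a • x + b • y) x = b := fun a b => by
      simp [hxx, hyy, hxy', hyx]
    have hP : NdOn B P := by
      intro u hu h
      obtain ⟨a, b, rfl⟩ := Submodule.mem_span_pair.1 hu
      have ha : a = 0 := (hcoef a b).1.symm.trans (h y (Submodule.subset_span (by simp)))
      have hb : b = 0 := (hcoef a b).2.symm.trans (h x (Submodule.subset_span (by simp)))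
      simp [ha, hb]
    have hPd : finrank F P = 2 := by
      have hli : LinearIndependent F ![x, y] := LinearIndependent.pair_iff.2 fun a b hab => by
        exact ⟨(hcoef a b).1.symm.trans (by simp [hab]), (hcoef a b).2.symm.trans (by simp [hab])⟩
      have := finrank_span_eq_card hli
      rwa [Fintype.card_fin, Matrix.range_cons_cons_empty] at this
    obtain ⟨X', hX'X, -, hX', ho, -, hinf, hd⟩ := exists_compl (T := (1 : Module.End F V))
      (fun u v h => (polar_symm v u).trans h) (fun _ _ => rfl) one_ne_zero (one_pow 1) hX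
      (Submodule.map_id X).le hP (Submodule.map_id P).le hPX
    obtain ⟨W, hWX, hW, hWd⟩ := ih X' hX' (by omega)
    have hxP : Submodule.span F {x} ≤ P := Submodule.span_mono (by simp)
    refine ⟨Submodule.span F {x} ⊔ W, sup_le (hxP.trans hPX) (hWX.trans hX'X),
      orthTo_sup polar_symm ?_ hW (fun u hu v hv => ho u (hxP hu) v (hWX hv)), ?_⟩
    · intro u hu v hv
      obtain ⟨a, rfl⟩ := Submodule.mem_span_singleton.1 hu
      obtain ⟨b, rfl⟩ := Submodule.mem_span_singleton.1 hv
      show B (a • x) (b • x) = 0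
      rw [map_smul, map_smul, LinearMap.smul_apply, hxx, smul_zero, smul_zero]
    · have := Submodule.finrank_sup_add_finrank_inf_eq (Submodule.span F {x}) W
      rw [le_bot_iff.1 ((inf_le_inf hxP hWX).trans hinf.le), finrank_bot, finrank_span_singleton hx0, hWd] at this
      omega

/-- Totally singular invariant subspaces built from fixed and moved parts. -/
theorem exists_isotropic_invariant [Fact r.Prime] {p : ℕ} [Fact p.Prime] [CharP F p] (h2 : (2 : F) ≠ 0)
    (hiso : ∀ u v, QuadraticMap.polarBilin Q (T u) (T v) = QuadraticMap.polarBilin Q u v) (hr2 : r ≠ 2)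
    (hrF : (r : F) ≠ 0) (hrq : (Fintype.card F : ZMod r) ≠ 0) (hT : T ^ r = 1) {X : Submodule F V}
    (hX : NdOn (QuadraticMap.polarBilin Q) X) (hXT : X.map T ≤ X) {m a : ℕ}
    (ham : a * orderOf (Fintype.card F : ZMod r) ≤ m)
    (hfix : 2 * (m - a * orderOf (Fintype.card F : ZMod r)) < finrank F ↥(X ⊓ fixedSpace T))
    (hfree1 : finrank F ↥(X ⊓ fixedSpace T) + 2 * (a * orderOf (Fintype.card F : ZMod r)) ≤ finrank F X)
    (hfree2 : Even (orderOf (Fintype.card F : ZMod r)) → a = 0 ∨ finrank F ↥(X ⊓ fixedSpace T) +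
      2 * (a * orderOf (Fintype.card F : ZMod r)) + (r - 1) ≤ finrank F X + orderOf (Fintype.card F : ZMod r)) :
    ∃ U : Submodule F V, U ≤ X ∧ U.map T ≤ U ∧ OrthTo (QuadraticMap.polarBilin Q) U U ∧ finrank F U = m := by
  have hr := (Fact.out : r.Prime)
  have hodd := hr.odd_of_ne_two hr2
  obtain ⟨M, hMX, hMT, hfree, -, ho, hM, hK, hdim⟩ :=
    exists_split (fun u v h => (polar_symm v u).trans h) hiso hrF hT hX hXT
  obtain ⟨U₁, hU₁M, hU₁T, hU₁, hU₁d⟩ := SpFree.exists_free (p := p) (altForm_isAlt polar_symm hiso hr.ne_zero hT)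
    (altForm_iso hiso) hr2 hrF hrq hT a M (ndOn_alt hMT hfree hodd hT hM) hMT hfree
    (by omega) fun hev => (hfree2 hev).imp id fun h => by omega
  have hU₁' : OrthTo (QuadraticMap.polarBilin Q) U₁ U₁ :=
    orthTo_of_alt hU₁T (fun v hv => hfree v (hU₁M hv)) hodd hT hU₁
  obtain ⟨U₀, hU₀K, hU₀, hU₀d⟩ := exists_isotropic h2 _ _ hK hfix
  have hU₀T : U₀.map T ≤ U₀ := by
    rintro _ ⟨v, hv, rfl⟩
    rwa [mem_fixedSpace.1 (hU₀K hv).2]
  refine ⟨U₀ ⊔ U₁, sup_le (hU₀K.trans inf_le_left) (hU₁M.trans hMX), invariant_sup hU₀T hU₁T,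
    orthTo_sup polar_symm hU₀ hU₁' fun u hu v hv => ho u (hU₀K hu) v (hU₁M hv), ?_⟩
  have hinf : U₀ ⊓ U₁ = ⊥ := by
    rw [Submodule.eq_bot_iff]
    rintro x ⟨h0, h1⟩
    exact hfree x (hU₁M h1) (mem_fixedSpace.1 (hU₀K h0).2)
  have := Submodule.finrank_sup_add_finrank_inf_eq U₀ U₁
  rw [hinf, finrank_bot, hU₁d, hU₀d] at this
  omega

/-- A totally singular half of an orthogonal family of square discriminant, `-1` being a square. -/
theorem exists_half (h2 : (2 : F) ≠ 0) (hm : IsSquare (-1 : F)) {ι : Type*} [DecidableEq ι] (b : ι → V)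
    (hb : ∀ i j, i ≠ j → QuadraticMap.polar Q (b i) (b j) = 0) : ∀ (k : ℕ) (s : Finset ι), s.card = 2 * k →
      (∀ i ∈ s, Q (b i) ≠ 0) → IsSquare (∏ i ∈ s, Q (b i)) →
      ∃ W : Submodule F V, W ≤ Submodule.span F (b '' s) ∧ OrthTo (QuadraticMap.polarBilin Q) W W ∧
        finrank F W = k := by
  intro k
  induction k with
  | zero => exact fun s _ _ _ => ⟨⊥, bot_le, fun u hu v _ => by simp [(Submodule.mem_bot F).1 hu], finrank_bot F V⟩
  | succ k ih =>
    intro s hs hne hsq
    obtain ⟨i, hi, j, hj, hij, hsqij⟩ : ∃ i ∈ s, ∃ j ∈ s, i ≠ j ∧ IsSquare (Q (b i) * Q (b j)) := by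
      by_cases hk : k = 0
      · obtain ⟨i, j, hij, rfl⟩ := Finset.card_eq_two.1 (by rw [hs, hk])
        exact ⟨i, by simp, j, by simp, hij, by rwa [Finset.prod_pair hij] at hsq⟩
      · obtain ⟨x, y, z, hx, hy, hz, hxy, hxz, hyz⟩ := Finset.two_lt_card_iff.1 (show 2 < s.card by omega)
        rcases em (IsSquare (Q (b x))) with h1 | h1 <;> rcases em (IsSquare (Q (b y))) with h3 | h3 <;>
          rcases em (IsSquare (Q (b z))) with h4 | h4 <;>
          first
          | exact ⟨x, hx, y, hy, hxy, (Spinor.isSquare_mul_iff' (hne x hx) (hne y hy)).2 (by tauto)⟩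
          | exact ⟨x, hx, z, hz, hxz, (Spinor.isSquare_mul_iff' (hne x hx) (hne z hz)).2 (by tauto)⟩
          | exact ⟨y, hy, z, hz, hyz, (Spinor.isSquare_mul_iff' (hne y hy) (hne z hz)).2 (by tauto)⟩
    set s' := (s.erase i).erase j
    have hj' : j ∈ s.erase i := Finset.mem_erase.2 ⟨hij.symm, hj⟩
    have hs' : s'.card = 2 * k := by
      rw [Finset.card_erase_of_mem hj', Finset.card_erase_of_mem hi, hs]
      omega
    have hsq' : IsSquare (∏ l ∈ s', Q (b l)) := by
      rw [← Finset.mul_prod_erase s _ hi, ← Finset.mul_prod_erase _ _ hj', ← mul_assoc] at hsq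
      have h := hsq.mul hsqij.inv
      rwa [mul_comm (Q (b i) * Q (b j)), mul_assoc, mul_inv_cancel₀ (mul_ne_zero (hne i hi) (hne j hj)), mul_one] at h
    obtain ⟨W, hW1, hW, hWd⟩ := ih s' hs' (fun l hl => hne l (Finset.mem_of_mem_erase (Finset.mem_of_mem_erase hl))) hsq'
    obtain ⟨t, ht⟩ : IsSquare (-(Q (b i)) / Q (b j)) := by
      rw [show -(Q (b i)) / Q (b j) = -1 * (Q (b i) * Q (b j)) * ((Q (b j))⁻¹ * (Q (b j))⁻¹) by
        have := hne j hj
        field_simp]
      exact (hm.mul hsqij).mul (IsSquare.mul_self _)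
    set w := b i + t • b j
    have hww : QuadraticMap.polarBilin Q w w = 0 := by
      show QuadraticMap.polar Q w w = 0
      have h1 : t * t * Q (b j) = -(Q (b i)) := by rw [← ht, div_mul_cancel₀ _ (hne j hj)]
      rw [FormsLib.polar_self', FormsLib.quad_add, QuadraticMap.map_smul, QuadraticMap.polar_smul_right, hb i j hij,
        smul_eq_mul, h1]
      simp
    have hperp : ∀ l ∈ ({i, j} : Finset ι), ∀ v ∈ W, QuadraticMap.polarBilin Q (b l) v = 0 := by
      intro l hl v hv
      have : Submodule.span F (b '' s') ≤ LinearMap.ker (QuadraticMap.polarBilin Q (b l)) := by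
        rw [Submodule.span_le]
        rintro _ ⟨n, hn, rfl⟩
        refine hb l n fun h => ?_
        subst h
        rcases Finset.mem_insert.1 hl with rfl | hl
        · exact (Finset.mem_erase.1 (Finset.mem_erase.1 hn).2).1 rfl
        · exact (Finset.mem_erase.1 hn).1 (Finset.mem_singleton.1 hl)
      exact this (hW1 hv)
    have hoW : ∀ v ∈ W, QuadraticMap.polarBilin Q w v = 0 := fun v hv => by
      rw [map_add, map_smul, LinearMap.add_apply, LinearMap.smul_apply, hperp i (by simp) v hv,
        hperp j (by simp) v hv, smul_zero, add_zero]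
    have hbi : QuadraticMap.polarBilin Q (b i) w ≠ 0 := by
      show QuadraticMap.polar Q (b i) w ≠ 0
      rw [QuadraticMap.polar_add_right, QuadraticMap.polar_smul_right, hb i j hij, FormsLib.polar_self', smul_zero,
        add_zero]
      exact mul_ne_zero h2 (hne i hi)
    have hw0 : w ≠ 0 := fun h => hbi (by rw [h, map_zero])
    refine ⟨Submodule.span F {w} ⊔ W, sup_le ?_ (hW1.trans (Submodule.span_mono (Set.image_mono (by
      intro l hl
      exact Finset.mem_of_mem_erase (Finset.mem_of_mem_erase hl))))), orthTo_sup polar_symm ?_ hW ?_, ?_⟩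
    · rw [Submodule.span_le, Set.singleton_subset_iff]
      exact Submodule.add_mem _ (Submodule.subset_span ⟨i, hi, rfl⟩)
        (Submodule.smul_mem _ _ (Submodule.subset_span ⟨j, hj, rfl⟩))
    · intro u hu v hv
      obtain ⟨a, rfl⟩ := Submodule.mem_span_singleton.1 hu
      obtain ⟨c, rfl⟩ := Submodule.mem_span_singleton.1 hv
      simp only [map_smul, LinearMap.smul_apply, hww, smul_zero]
    · intro u hu v hv
      obtain ⟨a, rfl⟩ := Submodule.mem_span_singleton.1 hu
      simp only [map_smul, LinearMap.smul_apply, hoW v hv, smul_zero]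
    · have hinf : Submodule.span F {w} ⊓ W = ⊥ := by
        rw [Submodule.eq_bot_iff]
        rintro x ⟨hx, hxW⟩
        obtain ⟨a, rfl⟩ := Submodule.mem_span_singleton.1 hx
        have h := hperp i (by simp) _ hxW
        rw [map_smul, smul_eq_mul, mul_eq_zero] at h
        rw [h.resolve_right hbi, zero_smul]
      have := Submodule.finrank_sup_add_finrank_inf_eq (Submodule.span F {w}) W
      rw [hinf, finrank_bot, finrank_span_singleton hw0, hWd] at this
      omega

end Quad

end Cfsg.Agent.Elusive.OrthIso
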