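import Mathlib

/-!
Arithmetic for invariant non-degenerate subspaces.
-/

set_option autoImplicit false

namespace Cfsg.Agent.Elusive.OrthNdArith

theorem cmp {c l k : ℕ} (hl : l < c) (hk : k < c) (a b : ℕ) :
    (c * a + l ≤ c * b + k ↔ a < b ∨ (a = b ∧ l ≤ k)) ∧ (c * a + l = c * b + k ↔ a = b ∧ l = k) := by
  rcases lt_trichotomy a b with h | h | h
  · have h1 : c * (a + 1) ≤ c * b := Nat.mul_le_mul_left c h
    rw [Nat.mul_succ] at h1
    omega
  · subst h
    omega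
  · have h1 : c * (b + 1) ≤ c * a := Nat.mul_le_mul_left c h
    rw [Nat.mul_succ] at h1
    omega

theorem arith_even {c n m : ℕ} (hc : 0 < c) (hm : 0 < m) (hmn : m < n) (σ pl : Prop) (τ : ℕ → Prop)
    (hτ : ∀ v u, v ≤ u → (τ u ↔ (τ v ↔ τ (u - v)))) :
    (∀ u, 1 ≤ u → c * u ≤ n → (c * u = n → (σ ↔ τ u)) →
      ∃ v, v ≤ u ∧ c * v ≤ m ∧ m + c * u ≤ n + c * v ∧ (c * v = m → (pl ↔ τ v)) ∧
        (m + c * u = n + c * v → (σ ↔ (pl ↔ τ (u - v))))) ↔
    ((n % c = 0 ∧ ¬ (σ ↔ τ (n / c))) ∨ (0 < m % c ∧ m % c < n % c) ∨ (m % c = 0 ∧ (pl ↔ τ (m / c))) ∨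
      (m % c = n % c ∧ 0 < n % c ∧ (pl ↔ (σ ↔ τ (n / c - m / c))))) := by
  have hn' := Nat.div_add_mod n c
  have hm' := Nat.div_add_mod m c
  have hkc := Nat.mod_lt n hc
  have hlc := Nat.mod_lt m hc
  obtain ⟨N, hN⟩ : ∃ N, n / c = N := ⟨_, rfl⟩
  obtain ⟨k, hk⟩ : ∃ k, n % c = k := ⟨_, rfl⟩
  obtain ⟨M, hM⟩ : ∃ M, m / c = M := ⟨_, rfl⟩
  obtain ⟨l, hl⟩ : ∃ l, m % c = l := ⟨_, rfl⟩
  rw [hN, hk] at hn'
  rw [hM, hl] at hm'
  rw [hk] at hkc
  rw [hl] at hlc
  rw [hN, hk, hM, hl]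
  have e1 : ∀ v, c * v ≤ m ↔ v ≤ M := fun v => by
    have := (cmp hc hlc v M).1
    omega
  have e2 : ∀ v, c * v = m ↔ v = M ∧ l = 0 := fun v => by
    have := (cmp hc hlc v M).2
    omega
  have e3 : ∀ u v, (m + c * u ≤ n + c * v ↔ M + u < N + v ∨ (M + u = N + v ∧ l ≤ k)) := fun u v => by
    have := (cmp hlc hkc (M + u) (N + v)).1
    rw [Nat.mul_add, Nat.mul_add] at this
    omega
  have e4 : ∀ u v, (m + c * u = n + c * v ↔ M + u = N + v ∧ l = k) := fun u v => by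
    have := (cmp hlc hkc (M + u) (N + v)).2
    rw [Nat.mul_add, Nat.mul_add] at this
    omega
  have e5 : ∀ u, c * u ≤ n ↔ u ≤ N := fun u => by
    have := (cmp hc hkc u N).1
    omega
  have e6 : ∀ u, c * u = n ↔ u = N ∧ k = 0 := fun u => by
    have := (cmp hc hkc u N).2
    omega
  have hMN : M < N ∨ (M = N ∧ l < k) := by
    have h1 := cmp hlc hkc M N
    rcases h1.1.1 (by omega) with h | ⟨h, h'⟩
    · exact Or.inl h
    · exact Or.inr ⟨h, lt_of_le_of_ne h' fun e => by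
        have := h1.2.2 ⟨h, e⟩
        omega⟩
  simp only [e1, e2, e3, e4, e5, e6]
  constructor
  · intro H
    by_contra hcon
    push Not at hcon
    obtain ⟨c1, c2, c3, c4⟩ := hcon
    have hN1 : 1 ≤ N := by
      by_contra h0
      obtain ⟨rfl, rfl⟩ : N = 0 ∧ M = 0 := ⟨by omega, by omega⟩
      have := c2 (by omega)
      omega
    obtain ⟨v, hv1, hv2, hv3, hv4, hv5⟩ := H N hN1 le_rfl fun h => by
      by_contra hc1
      exact hc1 (c1 h.2)
    obtain rfl : v = M := by omega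
    rcases hv3 with h | ⟨-, hlk⟩
    · omega
    rcases Nat.eq_zero_or_pos l with h0 | hpos
    · exact absurd (hv4 ⟨rfl, h0⟩) (by have := c3 h0; by_cases a : τ v <;> by_cases e : pl <;> simp_all)
    · have := c2 hpos
      obtain rfl : l = k := by omega
      have h5 := hv5 ⟨by omega, rfl⟩
      have h6 := c4 rfl hpos
      by_cases b : τ (N - v) <;> by_cases s : σ <;> by_cases e : pl <;> simp_all
  · intro h u hu1 hu2 hu3
    rcases h with ⟨hk0, hσ⟩ | ⟨hl0, hlk⟩ | ⟨hl0, hpl⟩ | ⟨hlk, hk0, hpl⟩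
    · have huN : u < N := lt_of_le_of_ne hu2 fun e => hσ (e ▸ hu3 ⟨e, hk0⟩)
      have hMN' : M < N := by omega
      rcases Nat.eq_zero_or_pos l with h0 | hpos
      · by_cases hp : pl ↔ τ M
        · refine ⟨min u M, min_le_left _ _, min_le_right _ _, by omega, fun h => by rw [h.1]; exact hp, fun h => absurd h.1 (by omega)⟩
        · have hM1 : 1 ≤ M := by
            by_contra hM0
            obtain rfl : M = 0 := by omega
            omega
          refine ⟨M + u - N, by omega, by omega, by omega, fun h => absurd h.1 (by omega), fun h => ?_⟩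
          have h1 := hτ M N (by omega)
          rw [show u - (M + u - N) = N - M by omega]
          by_cases a : τ M <;> by_cases b : τ (N - M) <;> by_cases s : σ <;> by_cases e : pl <;> simp_all
      · exact ⟨min u M, min_le_left _ _, min_le_right _ _, by omega, fun h => absurd h.2 (by omega),
          fun h => absurd h.2 (by omega)⟩
    · exact ⟨min u M, min_le_left _ _, min_le_right _ _, by omega, fun h => absurd h.2 (by omega),
        fun h => absurd h.2 (by omega)⟩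
    · refine ⟨min u M, min_le_left _ _, min_le_right _ _, by omega, fun h => by rw [h.1]; exact hpl, fun ⟨h, hk⟩ => ?_⟩
      obtain ⟨rfl, hv⟩ : u = N ∧ min u M = M := by omega
      rw [hv]
      have h1 := hτ M u (by omega)
      have h2 := hu3 ⟨rfl, by omega⟩
      by_cases a : τ M <;> by_cases b : τ (u - M) <;> by_cases s : σ <;> by_cases e : pl <;> simp_all
    · refine ⟨M + u - N, by omega, by omega, by omega, fun h => absurd h.2 (by omega), fun ⟨h, _⟩ => ?_⟩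
      rw [show u - (M + u - N) = N - M by omega]
      clear hu3
      by_cases b : τ (N - M) <;> by_cases s : σ <;> by_cases e : pl <;> simp [b, s, e] at hpl ⊢

theorem arith_odd {c n m : ℕ} (hc : 0 < c) (hce : Even c) (hne : Even n) (hmo : Odd m) (hmn : m < n)
    (σ : Prop) (τ : ℕ → Prop) :
    (∀ u, 1 ≤ u → c * u ≤ n → (c * u = n → (σ ↔ τ u)) →
      ∃ v, v ≤ u ∧ c * v ≤ m ∧ m + c * u ≤ n + c * v) ↔
    ((n % c = 0 ∧ ¬ (σ ↔ τ (n / c))) ∨ m % c < n % c) := by
  have hn' := Nat.div_add_mod n c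
  have hm' := Nat.div_add_mod m c
  have hkc := Nat.mod_lt n hc
  have hlc := Nat.mod_lt m hc
  have hpar : Odd (m % c) ∧ Even (n % c) := by
    obtain ⟨h, hh⟩ := hce
    rw [Nat.odd_iff, Nat.mod_mod_of_dvd _ ⟨h, by omega⟩, Nat.even_iff, Nat.mod_mod_of_dvd _ ⟨h, by omega⟩]
    rw [Nat.odd_iff] at hmo
    rw [Nat.even_iff] at hne
    omega
  rw [Nat.odd_iff, Nat.even_iff] at hpar
  obtain ⟨N, hN⟩ : ∃ N, n / c = N := ⟨_, rfl⟩
  obtain ⟨k, hk⟩ : ∃ k, n % c = k := ⟨_, rfl⟩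
  obtain ⟨M, hM⟩ : ∃ M, m / c = M := ⟨_, rfl⟩
  obtain ⟨l, hl⟩ : ∃ l, m % c = l := ⟨_, rfl⟩
  rw [hN, hk] at hn'
  rw [hM, hl] at hm'
  rw [hk] at hkc hpar
  rw [hl] at hlc hpar
  rw [hN, hk, hl]
  have e1 : ∀ v, c * v ≤ m ↔ v ≤ M := fun v => by
    have := (cmp hc hlc v M).1
    omega
  have e3 : ∀ u v, (m + c * u ≤ n + c * v ↔ M + u < N + v ∨ (M + u = N + v ∧ l ≤ k)) := fun u v => by
    have := (cmp hlc hkc (M + u) (N + v)).1
    rw [Nat.mul_add, Nat.mul_add] at this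
    omega
  have e5 : ∀ u, c * u ≤ n ↔ u ≤ N := fun u => by
    have := (cmp hc hkc u N).1
    omega
  have e6 : ∀ u, c * u = n ↔ u = N ∧ k = 0 := fun u => by
    have := (cmp hc hkc u N).2
    omega
  have hMN : M < N ∨ (M = N ∧ l ≤ k) := (cmp hlc hkc M N).1.1 (by omega)
  simp only [e1, e3, e5, e6]
  constructor
  · intro H
    by_contra hcon
    push Not at hcon
    obtain ⟨c1, c2⟩ := hcon
    obtain ⟨v, hv1, hv2, hv3⟩ := H N (by omega) le_rfl fun h => by
      by_contra hc1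
      exact hc1 (c1 h.2)
    omega
  · intro h u hu1 hu2 hu3
    refine ⟨min u M, min_le_left _ _, min_le_right _ _, ?_⟩
    rcases h with ⟨hk0, hσ⟩ | hlk
    · have huN : u < N := lt_of_le_of_ne hu2 fun e => hσ (e ▸ hu3 ⟨e, hk0⟩)
      omega
    · omega

end Cfsg.Agent.Elusive.OrthNdArith
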