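import Cfsg.Agent.Lib.Elusive.OrthogonalNdSub

/-!
Non-degenerate subspaces invariant under an isometry of odd prime order.
-/

set_option autoImplicit false
set_option linter.style.haveILetI false

namespace Cfsg.Agent.Elusive.OrthNd

open Module FormIso OrthIso OrthType OrthClasses

variable {F V : Type*} [Field F] [Fintype F] [AddCommGroup V] [Module F V] [FiniteDimensional F V]
  {Q : QuadraticForm F V} {T : Module.End F V} {r : ℕ} [Fact r.Prime]

omit [Fintype F] [FiniteDimensional F V] in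
theorem refl_polar (Q : QuadraticForm F V) (x y : V) (h : QuadraticMap.polarBilin Q x y = 0) :
    QuadraticMap.polarBilin Q y x = 0 := (polar_symm y x).trans h

/-- The sign of `v` blocks without fixed vectors. -/
def Plus (e v : ℕ) : Prop := Even e → Even v

theorem plus_add {e v u : ℕ} (h : v ≤ u) : Plus e u ↔ (Plus e v ↔ Plus e (u - v)) := by
  unfold Plus
  by_cases he : Even e
  · rw [imp_iff_right he, imp_iff_right he, imp_iff_right he, Nat.even_sub h]
    tauto
  · simp [he]

omit [Fintype F] [FiniteDimensional F V] [Fact r.Prime] in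
theorem Iso.ndOn {X Y : Submodule F V} (h : Iso Q X Y) (hY : NdOn (QuadraticMap.polarBilin Q) Y) :
    NdOn (QuadraticMap.polarBilin Q) X := by
  obtain ⟨e, he⟩ := h
  intro u hu hall
  have he' : ∀ x y : X, QuadraticMap.polar Q (e x : V) (e y : V) = QuadraticMap.polar Q (x : V) (y : V) := fun x y => by
    simp only [QuadraticMap.polar, ← Submodule.coe_add, ← map_add, he]
  have h0 : (e ⟨u, hu⟩ : V) = 0 := hY _ (e _).2 fun w hw => by
    obtain ⟨z, hz⟩ := e.surjective ⟨w, hw⟩
    have h1 : QuadraticMap.polar Q (e ⟨u, hu⟩ : V) (e z : V) = 0 := (he' _ _).trans (hall _ z.2)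
    rwa [hz] at h1
  exact congrArg Subtype.val (e.map_eq_zero_iff.1 (Subtype.ext h0) : (⟨u, hu⟩ : X) = 0)

omit [Fintype F] [Fact r.Prime] in
/-- Fixed vectors decompose along invariant complements. -/
theorem fixed_split {W W' : Submodule F V} (hWT : W.map T ≤ W) (hW'T : W'.map T ≤ W')
    (hsup : W ⊔ W' = ⊤) (hinf : W ⊓ W' = ⊥) :
    finrank F (fixedSpace T) = finrank F ↥(W ⊓ fixedSpace T) + finrank F ↥(W' ⊓ fixedSpace T) := by
  have heq : fixedSpace T = (W ⊓ fixedSpace T) ⊔ (W' ⊓ fixedSpace T) := by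
    refine le_antisymm (fun x hx => ?_) (sup_le inf_le_right inf_le_right)
    obtain ⟨a, ha, b, hb, rfl⟩ := Submodule.mem_sup.1 (hsup ▸ Submodule.mem_top : x ∈ W ⊔ W')
    have h1 := mem_fixedSpace.1 hx
    rw [map_add] at h1
    have h2 : T a - a = b - T b := sub_eq_sub_iff_add_eq_add.2 (h1.trans (add_comm a b))
    have h3 : T a - a = 0 := by
      have : T a - a ∈ W ⊓ W' := ⟨W.sub_mem (hWT ⟨a, ha, rfl⟩) ha, h2 ▸ W'.sub_mem hb (hW'T ⟨b, hb, rfl⟩)⟩
      rwa [hinf, Submodule.mem_bot] at this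
    rw [h3, eq_comm, sub_eq_zero] at h2
    exact Submodule.add_mem_sup ⟨ha, mem_fixedSpace.2 (sub_eq_zero.1 h3)⟩ ⟨hb, mem_fixedSpace.2 h2.symm⟩
  have := Submodule.finrank_sup_add_finrank_inf_eq (W ⊓ fixedSpace T) (W' ⊓ fixedSpace T)
  rw [← heq, le_bot_iff.1 ((inf_le_inf inf_le_left inf_le_left).trans hinf.le), finrank_bot, add_zero] at this
  omega

section

variable {p : ℕ} [Fact p.Prime] [CharP F p] {c : ℕ}

theorem c_pos (hrq : (Fintype.card F : ZMod r) ≠ 0)
    (hc : c = if Even (orderOf (Fintype.card F : ZMod r)) then orderOf (Fintype.card F : ZMod r)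
      else 2 * orderOf (Fintype.card F : ZMod r)) : 0 < c ∧ Even c := by
  have hepos : 0 < orderOf (Fintype.card F : ZMod r) := orderOf_pos_iff.2 (isUnit_iff_ne_zero.2 hrq).isOfFinOrder
  rw [hc]
  split_ifs with h
  exacts [⟨hepos, h⟩, ⟨by omega, even_two_mul _⟩]

include p

/-- Invariant non-degenerate subspaces of the part without fixed vectors. -/
theorem exists_free_sub (hQT : ∀ v, Q (T v) = Q v) (hr2 : r ≠ 2) (hrF : (r : F) ≠ 0)
    (hrq : (Fintype.card F : ZMod r) ≠ 0) (hT : T ^ r = 1)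
    (hc : c = if Even (orderOf (Fintype.card F : ZMod r)) then orderOf (Fintype.card F : ZMod r)
      else 2 * orderOf (Fintype.card F : ZMod r))
    {M : Submodule F V} (hM : NdOn (QuadraticMap.polarBilin Q) M) (hMT : M.map T ≤ M)
    (hfree : ∀ v ∈ M, T v = v → v = 0) {J v : ℕ} (hJ : finrank F M = c * J) (hv : v ≤ J) :
    ∃ S : Submodule F V, S ≤ M ∧ S.map T ≤ S ∧ NdOn (QuadraticMap.polarBilin Q) S ∧ finrank F S = c * v ∧
      (Half Q S ↔ Plus (orderOf (Fintype.card F : ZMod r)) v) := by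
  have hr := (Fact.out : r.Prime)
  have hodd := hr.odd_of_ne_two hr2
  have hiso := OrthEven.polar_iso hQT
  have hA := altForm_isAlt polar_symm hiso hr.ne_zero hT
  obtain ⟨U, hUM, hUT, hU, hUd⟩ := exists_multiple (refl_of_alt hA) (altForm_iso hiso) hr.ne_zero hT (c_pos hrq hc).1
    (ndOn_alt hMT hfree hodd hT hM) hMT (fun W hW hWT hWn hne =>
      alt_block (p := p) hA (altForm_iso hiso) hr2 hrF hrq hT hc W hWT (fun x hx => hfree x (hW hx)) hWn hne) v
    (by rw [hJ, mul_comm]; exact Nat.mul_le_mul_left c hv)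
  have hUf : ∀ x ∈ U, T x = x → x = 0 := fun x hx => hfree x (hUM hx)
  have hUn : NdOn (QuadraticMap.polarBilin Q) U := fun x hx hall => by
    obtain ⟨w, hw, rfl⟩ := sub_surj hUT hUf hodd hT hx
    rw [hU w hw fun y hy => by rw [altForm_apply, ← LinearMap.sub_apply, ← map_sub]; exact hall y hy,
      map_zero, map_zero, sub_zero]
  exact ⟨U, hUM, hUT, hUn, hUd.trans (mul_comm v c),
    OrthEven.half_free (p := p) hQT hr2 hrF hrq hT hc hUn hUT hUf (hUd.trans (mul_comm v c))⟩

/-- The two parts of the space. -/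
theorem parts (hQT : ∀ v, Q (T v) = Q v) (hr2 : r ≠ 2) (hrF : (r : F) ≠ 0)
    (hrq : (Fintype.card F : ZMod r) ≠ 0) (hT : T ^ r = 1) (htop : NdOn (QuadraticMap.polarBilin Q) ⊤)
    (hc : c = if Even (orderOf (Fintype.card F : ZMod r)) then orderOf (Fintype.card F : ZMod r)
      else 2 * orderOf (Fintype.card F : ZMod r))
    {W : Submodule F V} (hW : NdOn (QuadraticMap.polarBilin Q) W) (hWT : W.map T ≤ W) :
    ∃ (M : Submodule F V) (v : ℕ), M ≤ W ∧ M.map T ≤ M ∧ (∀ x ∈ M, T x = x → x = 0) ∧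
      OrthTo (QuadraticMap.polarBilin Q) (W ⊓ fixedSpace T) M ∧ NdOn (QuadraticMap.polarBilin Q) M ∧
      NdOn (QuadraticMap.polarBilin Q) (W ⊓ fixedSpace T) ∧ (W ⊓ fixedSpace T) ⊔ M = W ∧ finrank F M = c * v ∧
      finrank F ↥(W ⊓ fixedSpace T) + c * v = finrank F W ∧
      (Half Q M ↔ Plus (orderOf (Fintype.card F : ZMod r)) v) := by
  have hiso := OrthEven.polar_iso hQT
  obtain ⟨M, hMW, hMT, hfree, hsup, ho, hM, hK, hd⟩ := exists_split (refl_polar Q) hiso hrF hT hW hWT
  obtain ⟨v, hv⟩ := dvd_free (p := p) polar_symm hiso hr2 hrF hrq hT hc hM hMT hfree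
  exact ⟨M, v, hMW, hMT, hfree, ho, hM, hK, hsup, hv, hv ▸ hd,
    OrthEven.half_free (p := p) hQT hr2 hrF hrq hT hc hM hMT hfree hv⟩

/-- What an invariant non-degenerate subspace looks like. -/
theorem read (hQT : ∀ v, Q (T v) = Q v) (hr2 : r ≠ 2) (hrF : (r : F) ≠ 0)
    (hrq : (Fintype.card F : ZMod r) ≠ 0) (hT : T ^ r = 1) (htop : NdOn (QuadraticMap.polarBilin Q) ⊤)
    (hc : c = if Even (orderOf (Fintype.card F : ZMod r)) then orderOf (Fintype.card F : ZMod r)
      else 2 * orderOf (Fintype.card F : ZMod r))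
    {u : ℕ} (hu : finrank F (fixedSpace T) + c * u = finrank F V)
    {W : Submodule F V} (hW : NdOn (QuadraticMap.polarBilin Q) W) (hWT : W.map T ≤ W) :
    ∃ v, v ≤ u ∧ c * v ≤ finrank F W ∧ finrank F W + c * u ≤ finrank F V + c * v ∧
      finrank F ↥(W ⊓ fixedSpace T) + c * v = finrank F W ∧
      (Even (finrank F W) → c * v = finrank F W → (Half Q W ↔ Plus (orderOf (Fintype.card F : ZMod r)) v)) ∧
      (Even (finrank F W) → Even (finrank F V) → finrank F W + c * u = finrank F V + c * v →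
        (Half Q ⊤ ↔ (Half Q W ↔ Plus (orderOf (Fintype.card F : ZMod r)) (u - v)))) := by
  have hr := (Fact.out : r.Prime)
  have hiso := OrthEven.polar_iso hQT
  obtain ⟨M, v, -, hMT, hfree, ho, hM, hK, hsup, hMd, hd, hpl⟩ := parts (p := p) hQT hr2 hrF hrq hT htop hc hW hWT
  obtain ⟨W', -, hW'T, hW', hoW, hsW, hiW, hdW⟩ := exists_compl (refl_polar Q) hiso hr.ne_zero hT htop le_top hW hWT le_top
  obtain ⟨M', v', -, -, -, ho', hM', hK', hsup', hMd', hd', hpl'⟩ := parts (p := p) hQT hr2 hrF hrq hT htop hc hW' hW'T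
  have hfs := fixed_split hWT hW'T hsW hiW
  rw [finrank_top] at hdW
  have huv : u = v + v' := Nat.eq_of_mul_eq_mul_left (c_pos hrq hc).1 (by rw [Nat.mul_add]; omega)
  refine ⟨v, by omega, by omega, by omega, hd, fun _ hfull => ?_, fun hWe hVe hfull => ?_⟩
  · have h0 : W ⊓ fixedSpace T = ⊥ := Submodule.finrank_eq_zero.1 (by omega)
    rw [h0, bot_sup_eq] at hsup
    rwa [hsup] at hpl
  · have h0 : W' ⊓ fixedSpace T = ⊥ := by
      refine Submodule.finrank_eq_zero.1 ?_
      rw [huv, Nat.mul_add] at hfull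
      omega
    rw [h0, bot_sup_eq] at hsup'
    rw [hsup'] at hpl'
    have hW'e : Even (finrank F W') := by
      rw [← hdW] at hVe
      exact (Nat.even_add.1 hVe).1 hWe
    rw [← hsW, half_sup hW hW' hoW hWe hW'e, hpl', huv, Nat.add_sub_cancel_left]

/-- Subspaces of a given type. -/
theorem assemble_even (hQT : ∀ v, Q (T v) = Q v) (hr2 : r ≠ 2) (hrF : (r : F) ≠ 0)
    (hrq : (Fintype.card F : ZMod r) ≠ 0) (hT : T ^ r = 1) (htop : NdOn (QuadraticMap.polarBilin Q) ⊤)
    (hc : c = if Even (orderOf (Fintype.card F : ZMod r)) then orderOf (Fintype.card F : ZMod r)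
      else 2 * orderOf (Fintype.card F : ZMod r))
    {u : ℕ} (hu : finrank F (fixedSpace T) + c * u = finrank F V) (hVe : Even (finrank F V))
    {m v : ℕ} (hme : Even m) (pl : Prop) (hv : v ≤ u) (hcv : c * v ≤ m) (hle : m + c * u ≤ finrank F V + c * v)
    (h1 : c * v = m → (pl ↔ Plus (orderOf (Fintype.card F : ZMod r)) v))
    (h2 : m + c * u = finrank F V + c * v →
      (Half Q ⊤ ↔ (pl ↔ Plus (orderOf (Fintype.card F : ZMod r)) (u - v)))) :
    ∃ W : Submodule F V, NdOn (QuadraticMap.polarBilin Q) W ∧ W.map T ≤ W ∧ finrank F W = m ∧ (Half Q W ↔ pl) := by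
  obtain ⟨M, u', -, hMT, hfree, ho, hM, hK, hsup, hMd, hd, hplM⟩ :=
    parts (p := p) hQT hr2 hrF hrq hT htop hc htop le_top
  rw [top_inf_eq] at ho hK hsup hd
  rw [finrank_top] at hd
  obtain rfl : u' = u := Nat.eq_of_mul_eq_mul_left (c_pos hrq hc).1 (by omega)
  obtain ⟨S, hSM, hST, hS, hSd, hplS⟩ := exists_free_sub (p := p) hQT hr2 hrF hrq hT hc hM hMT hfree hMd hv
  have hce := (c_pos hrq hc).2
  obtain ⟨k, hk⟩ : Even (m - c * v) := (Nat.even_sub hcv).2 (iff_of_true hme (hce.mul_right v))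
  have hfe : Even (finrank F (fixedSpace T)) := by
    rw [← hd] at hVe
    exact (Nat.even_add.1 hVe).2 (hce.mul_right u')
  obtain ⟨l, hl⟩ : ∃ l, finrank F (fixedSpace T) = 2 * (k + l) := by
    obtain ⟨j, hj⟩ := hfe
    exact ⟨j - k, by omega⟩
  have hKM : Half Q ⊤ ↔ (Half Q (fixedSpace T) ↔ Half Q M) := by
    rw [← hsup]
    exact half_sup hK hM ho hfe (hMd ▸ hce.mul_right u')
  obtain ⟨N, hNK, hN, hNd, hplN⟩ := exists_sub_type hK hl (pl ↔ Half Q S)
    (fun h => by rw [hplS]; exact h1 (by omega))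
    (fun h => by
      have h3 := h2 (by omega)
      have h4 := plus_add (e := orderOf (Fintype.card F : ZMod r)) hv
      rw [hKM, hplM] at h3
      rw [hplS]
      generalize hA : Plus (orderOf (Fintype.card F : ZMod r)) v = A at h4 ⊢
      generalize hB : Plus (orderOf (Fintype.card F : ZMod r)) u' = B at h3 h4
      generalize hC : Plus (orderOf (Fintype.card F : ZMod r)) (u' - v) = C at h3 h4
      generalize hD : Half Q (fixedSpace T) = D at h3 ⊢
      clear * - h3 h4
      by_cases a : A <;> by_cases b : C <;> by_cases d : D <;> by_cases e : pl <;> simp_all)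
  have hoNS : OrthTo (QuadraticMap.polarBilin Q) N S := fun a ha b hb => ho a (hNK ha) b (hSM hb)
  have hNT : N.map T ≤ N := by
    rintro _ ⟨a, ha, rfl⟩
    rwa [mem_fixedSpace.1 (hNK ha)]
  refine ⟨N ⊔ S, ndOn_sup (refl_polar Q) hN hS hoNS, invariant_sup hNT hST, ?_, ?_⟩
  · have := Submodule.finrank_sup_add_finrank_inf_eq N S
    rw [inf_eq_bot hN (hoNS.symm (refl_polar Q)), finrank_bot] at this
    omega
  · rw [half_sup hN hS hoNS (hNd ▸ even_two_mul k) (hSd ▸ hce.mul_right v), hplN]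
    by_cases a : Half Q S <;> simp [a]

/-- Subspaces in a given isometry class. -/
theorem assemble_odd (h20 : (2 : F) ≠ 0) (hQT : ∀ v, Q (T v) = Q v) (hr2 : r ≠ 2) (hrF : (r : F) ≠ 0)
    (hrq : (Fintype.card F : ZMod r) ≠ 0) (hT : T ^ r = 1) (htop : NdOn (QuadraticMap.polarBilin Q) ⊤)
    (hc : c = if Even (orderOf (Fintype.card F : ZMod r)) then orderOf (Fintype.card F : ZMod r)
      else 2 * orderOf (Fintype.card F : ZMod r))
    {u : ℕ} (hu : finrank F (fixedSpace T) + c * u = finrank F V) (hVe : Even (finrank F V))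
    {W₀ : Submodule F V} (hW₀ : NdOn (QuadraticMap.polarBilin Q) W₀) (hmo : Odd (finrank F W₀))
    {v : ℕ} (hv : v ≤ u) (hcv : c * v ≤ finrank F W₀) (hle : finrank F W₀ + c * u ≤ finrank F V + c * v) :
    ∃ W : Submodule F V, W.map T ≤ W ∧ Iso Q W W₀ := by
  have hr := (Fact.out : r.Prime)
  obtain ⟨M, u', -, hMT, hfree, ho, hM, hK, hsup, hMd, hd, -⟩ :=
    parts (p := p) hQT hr2 hrF hrq hT htop hc htop le_top
  rw [top_inf_eq] at ho hK hsup hd
  rw [finrank_top] at hd
  obtain rfl : u' = u := Nat.eq_of_mul_eq_mul_left (c_pos hrq hc).1 (by omega)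
  obtain ⟨S, hSM, hST, hS, hSd, -⟩ := exists_free_sub (p := p) hQT hr2 hrF hrq hT hc hM hMT hfree hMd hv
  have hce := (c_pos hrq hc).2
  obtain ⟨cv₂, hcv₂⟩ := hce.mul_right v
  obtain ⟨m₂, hm₂⟩ := hmo
  obtain ⟨cu₂, hcu₂⟩ := hce.mul_right u'
  obtain ⟨n₂, hn₂⟩ := hVe
  obtain ⟨A, hAW, hA, hSA⟩ := exists_embed h20 (c * v) S W₀ hS hW₀ hSd (by omega)
  obtain ⟨B, -, -, hB, hoAB, hsAB, -, hdAB⟩ := exists_compl (T := (1 : Module.End F V)) (refl_polar Q) (fun _ _ => rfl)
    one_ne_zero (one_pow 1) hW₀ (Submodule.map_id W₀).le hA (Submodule.map_id A).le hAW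
  rw [← hSA.finrank_eq', hSd] at hdAB
  obtain ⟨N, hNK, hN, hBN⟩ := exists_embed h20 (finrank F B) B (fixedSpace T) hB hK rfl (by omega)
  have hoNS : OrthTo (QuadraticMap.polarBilin Q) N S := fun a ha b hb => ho a (hNK ha) b (hSM hb)
  have hNT : N.map T ≤ N := by
    rintro _ ⟨a, ha, rfl⟩
    rwa [mem_fixedSpace.1 (hNK ha)]
  refine ⟨N ⊔ S, invariant_sup hNT hST, ?_⟩
  rw [← hsAB, sup_comm A B]
  exact Iso.sup' hN hB hoNS (hoAB.symm (refl_polar Q)) hBN.symm' hSA

/-- Below `c` the number of subspaces in a class is prime to `r`. -/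
theorem not_dvd_card (hQT : ∀ v, Q (T v) = Q v) (hr2 : r ≠ 2) (hrF : (r : F) ≠ 0)
    (hrq : (Fintype.card F : ZMod r) ≠ 0) (hT : T ^ r = 1) (htop : NdOn (QuadraticMap.polarBilin Q) ⊤)
    (hc : c = if Even (orderOf (Fintype.card F : ZMod r)) then orderOf (Fintype.card F : ZMod r)
      else 2 * orderOf (Fintype.card F : ZMod r))
    (hfc : finrank F (fixedSpace T) < c) {W₁ : Submodule F V} (hW₁ : NdOn (QuadraticMap.polarBilin Q) W₁)
    (hW₁K : W₁ ≤ fixedSpace T) :
    ¬ r ∣ Nat.card {W : Submodule F V // Iso Q W W₁} := by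
  classical
  have hr := (Fact.out : r.Prime)
  have hiso := OrthEven.polar_iso hQT
  obtain ⟨M, u, -, -, -, -, -, hK, -, -, hd, -⟩ := parts (p := p) hQT hr2 hrF hrq hT htop hc htop le_top
  rw [top_inf_eq] at hK hd
  rw [finrank_top] at hd
  set N := fixedSpace T with hNdef
  set QN := Q.comp N.subtype
  have hQN : (QuadraticMap.polarBilin QN).Nondegenerate := Spinor.nondeg_comp (ndOn_inf_orth hK)
  haveI : Finite V := Module.finite_of_finite F
  haveI : Finite (Submodule F V) := Finite.of_injective (fun W => (W : Set V)) SetLike.coe_injective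
  haveI : Finite (N ≃ₗ[F] N) := Finite.of_injective (fun k => ⇑k) DFunLike.coe_injective
  -- invariant members lie in the fixed space
  have hfixed : ∀ W : Submodule F V, Iso Q W W₁ → W.map T ≤ W → W ≤ N := by
    intro W hW hWT
    obtain ⟨v, -, hcv, -, hdim, -, -⟩ := read (p := p) hQT hr2 hrF hrq hT htop hc hd (hW.ndOn hW₁) hWT
    have hlt : finrank F W < c := by
      rw [hW.finrank_eq']
      exact lt_of_le_of_lt (Submodule.finrank_mono hW₁K) hfc
    have hv0 : v = 0 := by
      by_contra h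
      have := Nat.le_mul_of_pos_right c (Nat.pos_of_ne_zero h)
      omega
    rw [hv0, mul_zero, add_zero] at hdim
    exact inf_eq_left.1 (Submodule.eq_of_le_of_finrank_eq inf_le_left hdim)
  -- the permutation
  let g : V ≃ₗ[F] V := LinearEquiv.ofInjectiveEndo T (FormIso.injective_of_pow hr.ne_zero hT)
  have hgW : ∀ W : Submodule F V, Iso Q W W₁ → Iso Q (W.map (g : V →ₗ[F] V)) W₁ := fun W hW =>
    Iso.trans' ⟨(g.submoduleMap W).symm, fun y => by
      obtain ⟨x, rfl⟩ := (g.submoduleMap W).surjective y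
      rw [LinearEquiv.symm_apply_apply]
      exact (hQT x).symm⟩ hW
  let Ω := {W : Submodule F V // Iso Q W W₁}
  haveI : Fintype Ω := Fintype.ofFinite _
  let φ : Function.End Ω := fun W => ⟨W.1.map (g : V →ₗ[F] V), hgW W.1 W.2⟩
  have hφr : φ ^ r ^ 1 = 1 := by
    rw [pow_one]
    have hj : ∀ (j : ℕ) (W : Ω), ((φ ^ j) W).1 = W.1.map (T ^ j) := by
      intro j
      induction j with
      | zero => intro W; exact (Submodule.map_id _).symm
      | succ j ih =>
        intro W
        rw [pow_succ', pow_succ', Module.End.mul_eq_comp, Submodule.map_comp, ← ih]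
        rfl
    funext W
    refine Subtype.ext ((hj r W).trans ?_)
    rw [hT]
    exact Submodule.map_id _
  have hmodeq := Equiv.Perm.card_fixedPoints_modEq hφr
  intro hdvd
  rw [← Nat.card_eq_fintype_card, ← Nat.card_eq_fintype_card] at hmodeq
  have hfix : r ∣ Nat.card (Function.fixedPoints φ) := (Nat.ModEq.dvd_iff hmodeq dvd_rfl).1 hdvd
  -- as subspaces of the fixed space
  let Ω' := {X : Submodule F N // Iso Q (X.map N.subtype) W₁}
  have hinvN : ∀ X : Submodule F N, (X.map N.subtype).map (g : V →ₗ[F] V) = X.map N.subtype := fun X => by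
    ext y
    constructor
    · rintro ⟨_, ⟨x, hx, rfl⟩, rfl⟩
      exact ⟨x, hx, (mem_fixedSpace.1 x.2).symm⟩
    · rintro ⟨x, hx, rfl⟩
      exact ⟨x, ⟨x, hx, rfl⟩, mem_fixedSpace.1 x.2⟩
  let e : Function.fixedPoints φ ≃ Ω' :=
    { toFun := fun W => ⟨W.1.1.comap N.subtype, by
        have hle : W.1.1 ≤ N := hfixed W.1.1 W.1.2 (congrArg Subtype.val W.2).le
        rw [Submodule.map_comap_subtype, inf_eq_right.2 hle]
        exact W.1.2⟩
      invFun := fun X => ⟨⟨X.1.map N.subtype, X.2⟩, Subtype.ext (hinvN X.1)⟩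
      left_inv := fun W => by
        refine Subtype.ext (Subtype.ext ?_)
        have hle : W.1.1 ≤ N := hfixed W.1.1 W.1.2 (congrArg Subtype.val W.2).le
        exact (Submodule.map_comap_subtype N W.1.1).trans (inf_eq_right.2 hle)
      right_inv := fun X => Subtype.ext (Submodule.comap_map_eq_of_injective N.injective_subtype X.1) }
  rw [Nat.card_congr e] at hfix
  let G := FormsLib.oGroup QN
  have hGmap : ∀ (k : G) (X : Submodule F N), Iso Q (X.map N.subtype) W₁ →
      Iso Q ((X.map (k.1 : N →ₗ[F] N)).map N.subtype) W₁ := fun k X hX => by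
    refine Iso.trans' ⟨(Submodule.equivMapOfInjective _ N.injective_subtype _).symm.trans
      ((k.1.submoduleMap X).symm.trans (Submodule.equivMapOfInjective _ N.injective_subtype X)), fun y => ?_⟩ hX
    obtain ⟨z, rfl⟩ := (Submodule.equivMapOfInjective _ N.injective_subtype _).surjective y
    obtain ⟨x, rfl⟩ := (k.1.submoduleMap X).surjective z
    rw [LinearEquiv.trans_apply, LinearEquiv.trans_apply, LinearEquiv.symm_apply_apply, LinearEquiv.symm_apply_apply]
    exact (k.2 x).symm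
  letI : MulAction G Ω' :=
    { smul := fun k X => ⟨X.1.map (k.1 : N →ₗ[F] N), hGmap k X.1 X.2⟩
      one_smul := fun X => Subtype.ext (Submodule.map_id _)
      mul_smul := fun k l X => Subtype.ext (by
        show X.1.map ((k.1 * l.1 : N ≃ₗ[F] N) : N →ₗ[F] N) = _
        exact Submodule.map_comp _ _ _) }
  let X₁ : Ω' := ⟨W₁.comap N.subtype, by
    rw [Submodule.map_comap_subtype, inf_eq_right.2 hW₁K]
    exact iso_refl W₁⟩
  have horb : MulAction.orbit G X₁ = Set.univ := Set.eq_univ_of_forall fun X => by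
    obtain ⟨ψ, hψ⟩ := X₁.2.trans' X.2.symm'
    let f : X₁.1 →ₗ[F] N := (X.1.subtype ∘ₗ (Submodule.equivMapOfInjective _ N.injective_subtype X.1).symm.toLinearMap) ∘ₗ
      ψ.toLinearMap ∘ₗ (Submodule.equivMapOfInjective _ N.injective_subtype X₁.1).toLinearMap
    have hf : Function.Injective f := fun a b h =>
      (Submodule.equivMapOfInjective _ N.injective_subtype X₁.1).injective (ψ.injective
        ((Submodule.equivMapOfInjective _ N.injective_subtype X.1).symm.injective (X.1.injective_subtype h)))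
    obtain ⟨k, hk, hkx⟩ := FormsLib.quad_witt hQN X₁.1 f hf fun x => by
      obtain ⟨y, hy⟩ := (Submodule.equivMapOfInjective _ N.injective_subtype X.1).surjective
        (ψ (Submodule.equivMapOfInjective _ N.injective_subtype X₁.1 x))
      have hfx : f x = (y : N) := by
        show ((Submodule.equivMapOfInjective _ N.injective_subtype X.1).symm
          (ψ (Submodule.equivMapOfInjective _ N.injective_subtype X₁.1 x)) : N) = y
        rw [← hy, LinearEquiv.symm_apply_apply]
      have := hψ (Submodule.equivMapOfInjective _ N.injective_subtype X₁.1 x)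
      rw [← hy] at this
      show Q ((f x : N) : V) = Q ((x : N) : V)
      rw [hfx]
      exact this
    refine ⟨⟨k, hk⟩, Subtype.ext (Submodule.eq_of_le_of_finrank_eq ?_ ?_)⟩
    · rintro _ ⟨x, hx, rfl⟩
      rw [LinearEquiv.coe_coe, hkx ⟨x, hx⟩]
      exact Subtype.coe_prop _
    · show finrank F ↥(X₁.1.map (k : N →ₗ[F] N)) = finrank F X.1
      rw [LinearEquiv.finrank_map_eq, (Submodule.equivMapOfInjective _ N.injective_subtype X₁.1).finrank_eq,
        (Submodule.equivMapOfInjective _ N.injective_subtype X.1).finrank_eq]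
      exact (X₁.2.trans' X.2.symm').finrank_eq'
  rw [← Nat.card_univ, ← horb, Nat.card_coe_set_eq, ← MulAction.index_stabilizer (G := G)] at hfix
  -- no element of order `r`
  obtain ⟨k, hk⟩ := exists_prime_orderOf_dvd_card' r (hfix.trans (Subgroup.index_dvd_card _))
  have hkr : (k.1 : Module.End F N) ^ r = 1 := by
    have h := congrArg (fun z : G => z.1) (show k ^ r = 1 by rw [← hk, pow_orderOf_eq_one])
    simp only [SubmonoidClass.coe_pow, OneMemClass.coe_one] at h
    exact (map_pow (LinearEquiv.automorphismGroup.toLinearMapMonoidHom (R := F) (M := N)) k.1 r).symm.trans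
      (congrArg _ h)
  obtain ⟨Mk, hMk1, hMkT, hMkf, hsk, -, hMkn, -, -⟩ := exists_split (refl_polar QN)
    (OrthEven.polar_iso (Q := QN) (T := (k.1 : Module.End F N)) fun v => k.2 v) hrF hkr
    (X := ⊤) (fun a _ h => hQN.1 a fun v => h v trivial) le_top
  obtain ⟨v, hv⟩ := dvd_free (p := p) polar_symm (OrthEven.polar_iso (Q := QN) (T := (k.1 : Module.End F N)) fun v => k.2 v)
    hr2 hrF hrq hkr hc hMkn hMkT hMkf
  have hMk0 : Mk = ⊥ := by
    refine Submodule.finrank_eq_zero.1 ?_
    rw [hv]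
    rcases Nat.eq_zero_or_pos v with h | h
    · rw [h, mul_zero]
    · have h1 := Nat.le_mul_of_pos_right c h
      have h2 := Submodule.finrank_le Mk
      omega
  rw [hMk0, sup_bot_eq] at hsk
  have : k = 1 := Subtype.ext (LinearEquiv.ext fun x => by
    have hx : x ∈ (⊤ : Submodule F N) := trivial
    rw [← hsk] at hx
    exact mem_fixedSpace.1 hx.2)
  rw [this, orderOf_one] at hk
  exact hr.one_lt.ne hk

end

end Cfsg.Agent.Elusive.OrthNd
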