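import Cfsg.Agent.Lib.Elusive.OrthogonalNdTrans
import Cfsg.Agent.Lib.Elusive.OrthogonalNdInv
import Cfsg.Agent.Lib.Spinor.Char2Invol

/-!
Unipotent elements with square zero and totally singular image, in every characteristic.
-/

set_option autoImplicit false
set_option linter.style.haveILetI false

namespace Cfsg.Agent.Elusive.OrthNd

open Module FormIso OrthIso OrthType

variable {F V : Type*} [Field F] [AddCommGroup V] [Module F V] [FiniteDimensional F V] {Q : QuadraticForm F V}

/-- The nilpotent map of a totally singular subspace of even dimension. -/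
theorem exists_nilpotent (hQ : (QuadraticMap.polarBilin Q).Nondegenerate) {L : Submodule F V}
    (hL : ∀ x ∈ L, Q x = 0) {a : ℕ} (hLd : finrank F L = 2 * a) :
    ∃ N : Module.End F V, LinearMap.range N = L ∧ (∀ v, N (N v) = 0) ∧
      (∀ v, N v = 0 ↔ ∀ x ∈ L, QuadraticMap.polar Q x v = 0) ∧
      (∀ v, QuadraticMap.polar Q (N v) v = 0) ∧ ∀ v, Q (v + N v) = Q v := by
  classical
  let b : Module.Basis (Fin a ⊕ Fin a) F L :=
    (Module.finBasisOfFinrankEq F L hLd).reindex ((finCongr (two_mul a)).trans finSumFinEquiv.symm)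
  let B := QuadraticMap.polarBilin Q
  let e : Fin a ⊕ Fin a → V := fun i => (b i : V)
  have heL : ∀ i, e i ∈ L := fun i => (b i).2
  let N : Module.End F V := ∑ i : Fin a,
    ((B (e (Sum.inl i))).smulRight (e (Sum.inr i)) - (B (e (Sum.inr i))).smulRight (e (Sum.inl i)))
  have hN : ∀ v, N v = ∑ i : Fin a,
      (QuadraticMap.polar Q (e (Sum.inl i)) v • e (Sum.inr i) - QuadraticMap.polar Q (e (Sum.inr i)) v • e (Sum.inl i)) :=
    fun v => by simp [N, B]
  have hNL : ∀ v, N v ∈ L := fun v => by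
    rw [hN]
    exact L.sum_mem fun i _ => L.sub_mem (L.smul_mem _ (heL _)) (L.smul_mem _ (heL _))
  have hLL := orthTo_of_quad hL
  have hker : ∀ v, N v = 0 ↔ ∀ x ∈ L, QuadraticMap.polar Q x v = 0 := by
    intro v
    constructor
    · intro h
      let g : Fin a ⊕ Fin a → F := Sum.elim (fun i => -QuadraticMap.polar Q (e (Sum.inr i)) v)
        (fun i => QuadraticMap.polar Q (e (Sum.inl i)) v)
      have hg : ∑ j, g j • b j = 0 := by
        refine Subtype.ext ?_
        rw [Submodule.coe_sum, Fintype.sum_sum_type, ← Finset.sum_add_distrib]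
        rw [hN] at h
        rw [Submodule.coe_zero, ← h]
        refine Finset.sum_congr rfl fun i _ => ?_
        simp [g, e, neg_smul, sub_eq_add_neg, add_comm]
      have h0 : ∀ j, QuadraticMap.polar Q (e j) v = 0 := fun j => by
        rcases j with i | i
        · exact Fintype.linearIndependent_iff.1 b.linearIndependent g hg (Sum.inr i)
        · exact neg_eq_zero.1 (Fintype.linearIndependent_iff.1 b.linearIndependent g hg (Sum.inl i))
      intro x hx
      have hle : L ≤ LinearMap.ker ((QuadraticMap.polarBilin Q).flip v) := by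
        rw [← Submodule.range_subtype L, LinearMap.range_eq_map, ← b.span_eq, Submodule.map_span_le]
        rintro _ ⟨j, rfl⟩
        exact h0 j
      exact hle hx
    · intro h
      rw [hN]
      refine Finset.sum_eq_zero fun i _ => ?_
      rw [h _ (heL _), h _ (heL _), zero_smul, zero_smul, sub_zero]
  have halt : ∀ v, QuadraticMap.polar Q (N v) v = 0 := fun v => by
    rw [show QuadraticMap.polar Q (N v) v = (QuadraticMap.polarBilin Q).flip v (N v) from rfl, hN, map_sum]
    refine Finset.sum_eq_zero fun i _ => ?_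
    rw [map_sub, map_smul, map_smul]
    show QuadraticMap.polar Q (e (Sum.inl i)) v * QuadraticMap.polar Q (e (Sum.inr i)) v -
      QuadraticMap.polar Q (e (Sum.inr i)) v * QuadraticMap.polar Q (e (Sum.inl i)) v = 0
    ring
  have hkerdim : finrank F (LinearMap.ker N) + finrank F L = finrank F V := by
    have hk : LinearMap.ker N = LinearMap.BilinForm.orthogonal (QuadraticMap.polarBilin Q) L := by
      ext v
      exact hker v
    rw [hk, add_comm]
    exact Spinor.finrank_split hQ
  refine ⟨N, Submodule.eq_of_le_of_finrank_eq (by rintro _ ⟨v, rfl⟩; exact hNL v) ?_, fun v => ?_, hker, halt,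
    fun v => ?_⟩
  · have := LinearMap.finrank_range_add_finrank_ker N
    omega
  · exact (hker _).2 fun x hx => hLL x hx _ (hNL v)
  · rw [FormsLib.quad_add, hL _ (hNL v), QuadraticMap.polar_comm, halt, add_zero, add_zero]

/-- Invariant non-degenerate subspaces of such an element. -/
theorem read_nilpotent {N : Module.End F V} (htop : NdOn (QuadraticMap.polarBilin Q) ⊤)
    (hN2 : ∀ v, N (N v) = 0) (halt : ∀ v, QuadraticMap.polar Q (N v) v = 0)
    (hL : ∀ x ∈ LinearMap.range N, Q x = 0) {p : ℕ} [Fact p.Prime] [CharP F p]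
    {W : Submodule F V} (hW : NdOn (QuadraticMap.polarBilin Q) W) (hWN : W.map (1 + N) ≤ W) :
    ∃ a w, finrank F W = 4 * a + w ∧ finrank F (W.map N) = 2 * a ∧ w + 2 * finrank F (LinearMap.range N) ≤ finrank F V ∧ (w = 0 → Half Q W) ∧
      (w + 2 * finrank F (LinearMap.range N) = finrank F V →
        ∀ z, N z = 0 → ∃ x ∈ W, z - x ∈ LinearMap.range N) := by
  have hp := (Fact.out : p.Prime)
  let B := QuadraticMap.polarBilin Q
  have hNv : ∀ v, (1 + N) v = v + N v := fun v => rfl
  have hWN' : ∀ v ∈ W, N v ∈ W := fun v hv => by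
    have := W.sub_mem (hWN ⟨v, hv, rfl⟩) hv
    rwa [hNv, add_sub_cancel_left] at this
  have hpow : ∀ j : ℕ, ∀ v, ((1 + N) ^ j) v = v + (j : F) • N v := by
    intro j
    induction j with
    | zero => intro v; simp
    | succ j ih =>
      intro v
      rw [pow_succ', Module.End.mul_apply, ih, hNv, map_add, map_smul, hN2, smul_zero, add_zero]
      push_cast
      rw [add_smul, one_smul]
      abel
  have hT : (1 + N) ^ p = 1 := LinearMap.ext fun v => by
    rw [hpow, CharP.cast_eq_zero F p, zero_smul, add_zero]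
    rfl
  have hskew : ∀ u v, QuadraticMap.polar Q (N u) v = -QuadraticMap.polar Q u (N v) := fun u v => by
    have h1 := halt (u + v)
    rw [map_add, QuadraticMap.polar_add_left, QuadraticMap.polar_add_right, QuadraticMap.polar_add_right, halt,
      halt, zero_add, add_zero, QuadraticMap.polar_comm Q (N v)] at h1
    exact eq_neg_of_add_eq_zero_left h1
  have hiso : ∀ u v, B ((1 + N) u) ((1 + N) v) = B u v := fun u v => by
    show QuadraticMap.polar Q (u + N u) (v + N v) = QuadraticMap.polar Q u v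
    rw [QuadraticMap.polar_add_left, QuadraticMap.polar_add_right, QuadraticMap.polar_add_right, hskew,
      show QuadraticMap.polar Q (N u) (N v) = 0 from orthTo_of_quad hL _ ⟨u, rfl⟩ _ ⟨v, rfl⟩]
    ring
  obtain ⟨W', -, hW'T, hW', hoW, hsW, hiW, hdW⟩ := exists_compl (refl_polar Q) hiso hp.ne_zero hT htop le_top hW hWN le_top
  rw [finrank_top] at hdW
  have hW'N : ∀ v ∈ W', N v ∈ W' := fun v hv => by
    have := W'.sub_mem (hW'T ⟨v, hv, rfl⟩) hv
    rwa [hNv, add_sub_cancel_left] at this
  -- the parts inside `W` and `W'`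
  have parts : ∀ {X : Submodule F V}, NdOn B X → (∀ v ∈ X, N v ∈ X) →
      Even (finrank F (X.map N)) ∧ ∀ x ∈ X, N x = 0 → (∀ y ∈ X, N y = 0 → y ∈ X.map N) →
        2 * finrank F (X.map N) = finrank F X := by
    intro X hX hXN
    obtain ⟨C, hC⟩ := exists_isCompl ((LinearMap.ker N).comap X.subtype)
    let A : LinearMap.BilinForm F V := B.compl₁₂ N LinearMap.id
    have hA : LinearMap.IsAlt A := fun v => halt v
    have hCX : C.map X.subtype ≤ X := fun _ ⟨c, _, hc⟩ => hc ▸ c.2
    have hCk : ∀ c ∈ C.map X.subtype, N c = 0 → c = 0 := by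
      rintro _ ⟨c, hc, rfl⟩ h0
      have : c ∈ (LinearMap.ker N).comap X.subtype ⊓ C := ⟨h0, hc⟩
      rw [hC.inf_eq_bot, Submodule.mem_bot] at this
      rw [this, map_zero]
    have hCn : NdOn A (C.map X.subtype) := fun u hu hall => by
      refine hCk u hu (hX _ (hXN u (hCX hu)) fun y hy => ?_)
      have hy' : (⟨y, hy⟩ : X) ∈ (LinearMap.ker N).comap X.subtype ⊔ C := by rw [hC.sup_eq_top]; trivial
      obtain ⟨k, hk, c, hc, hkc⟩ := Submodule.mem_sup.1 hy'
      have h1 : y = (k : V) + (c : V) := (congrArg Subtype.val hkc).symm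
      show QuadraticMap.polar Q (N u) y = 0
      rw [h1, QuadraticMap.polar_add_right, hskew u k, show N (k : V) = 0 from hk,
        show QuadraticMap.polar Q (N u) (c : V) = 0 from hall _ ⟨c, hc, rfl⟩]
      simp [QuadraticMap.polar]
    have heq : finrank F (C.map X.subtype) = finrank F (X.map N) := by
      have h1 : (C.map X.subtype).map N = X.map N := by
        refine le_antisymm (Submodule.map_mono hCX) ?_
        rintro _ ⟨y, hy, rfl⟩
        have hy' : (⟨y, hy⟩ : X) ∈ (LinearMap.ker N).comap X.subtype ⊔ C := by rw [hC.sup_eq_top]; trivial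
        obtain ⟨k, hk, c, hc, hkc⟩ := Submodule.mem_sup.1 hy'
        have h2 : y = (k : V) + (c : V) := (congrArg Subtype.val hkc).symm
        exact ⟨c, ⟨c, hc, rfl⟩, by rw [h2, map_add, show N (k : V) = 0 from hk, zero_add]⟩
      rw [← h1]
      refine (LinearEquiv.ofBijective (N.submoduleMap (C.map X.subtype)) ⟨?_, N.submoduleMap_surjective _⟩).finrank_eq
      refine (injective_iff_map_eq_zero _).2 fun c hc => Subtype.ext (hCk c c.2 (congrArg Subtype.val hc))
    refine ⟨heq ▸ even_finrank hA hCn, fun _ _ _ hsub => ?_⟩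
    have h3 := LinearMap.finrank_range_add_finrank_ker (N.domRestrict X)
    rw [LinearMap.range_domRestrict] at h3
    have h4 : finrank F (LinearMap.ker (N.domRestrict X)) = finrank F (X.map N) := by
      rw [← Submodule.finrank_map_subtype_eq]
      refine congrArg (fun S : Submodule F V => finrank F S) (le_antisymm ?_ ?_)
      · rintro _ ⟨y, hy, rfl⟩
        exact hsub y y.2 hy
      · rintro _ ⟨y, hy, rfl⟩
        exact ⟨⟨N y, hXN y hy⟩, hN2 y, rfl⟩
    omega
  obtain ⟨⟨a, ha⟩, hWfull⟩ := parts hW hWN'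
  obtain ⟨-, hW'full⟩ := parts hW' hW'N
  have hWk := LinearMap.finrank_range_add_finrank_ker (N.domRestrict W)
  rw [LinearMap.range_domRestrict] at hWk
  have hW'k := LinearMap.finrank_range_add_finrank_ker (N.domRestrict W')
  rw [LinearMap.range_domRestrict] at hW'k
  have hle : ∀ {X : Submodule F V}, (∀ v ∈ X, N v ∈ X) →
      finrank F (X.map N) ≤ finrank F (LinearMap.ker (N.domRestrict X)) := fun {X} hXN => by
    rw [← Submodule.finrank_map_subtype_eq X (LinearMap.ker (N.domRestrict X))]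
    refine Submodule.finrank_mono ?_
    rintro _ ⟨y, hy, rfl⟩
    exact ⟨⟨N y, hXN y hy⟩, hN2 y, rfl⟩
  have hr : finrank F (LinearMap.range N) = finrank F (W.map N) + finrank F (W'.map N) := by
    have heq : LinearMap.range N = W.map N ⊔ W'.map N := by
      rw [← Submodule.map_sup, hsW, Submodule.map_top]
    have := Submodule.finrank_sup_add_finrank_inf_eq (W.map N) (W'.map N)
    have hbot : W.map N ⊓ W'.map N = ⊥ := le_bot_iff.1 (le_trans (inf_le_inf
      (by rintro _ ⟨y, hy, rfl⟩; exact hWN' y hy) (by rintro _ ⟨y, hy, rfl⟩; exact hW'N y hy)) hiW.le)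
    rw [← heq, hbot, finrank_bot] at this
    omega
  have hle₁ := hle hWN'
  have hle₂ := hle hW'N
  refine ⟨a, finrank F W - 4 * a, by omega, by omega, by omega, fun h0 => ?_, fun h0 z hz => ?_⟩
  · refine half_iff.2 ⟨W.map N, by rintro _ ⟨y, hy, rfl⟩; exact hWN' y hy,
      fun x hx => hL x (LinearMap.map_le_range hx), by omega⟩
  · obtain ⟨x, hx, y, hy, rfl⟩ := Submodule.mem_sup.1 (hsW ▸ Submodule.mem_top : z ∈ W ⊔ W')
    refine ⟨x, hx, ?_⟩
    rw [map_add] at hz
    have hNy : N y = 0 := by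
      have h1 : N y ∈ W ⊓ W' := ⟨(eq_neg_of_add_eq_zero_right hz) ▸ W.neg_mem (hWN' x hx), hW'N y hy⟩
      rwa [hiW, Submodule.mem_bot] at h1
    have heq : (LinearMap.ker (N.domRestrict W')).map W'.subtype = W'.map N :=
      (Submodule.eq_of_le_of_finrank_eq (by
        rintro _ ⟨u, hu, rfl⟩
        exact ⟨⟨N u, hW'N u hu⟩, hN2 u, rfl⟩) (by rw [Submodule.finrank_map_subtype_eq]; omega)).symm
    rw [add_sub_cancel_left]
    have hy2 : y ∈ (LinearMap.ker (N.domRestrict W')).map W'.subtype := ⟨⟨y, hy⟩, hNy, rfl⟩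
    rw [heq] at hy2
    exact LinearMap.map_le_range hy2

section Element

variable {ι : Type} [Fintype ι] [DecidableEq ι] [Fintype F] {Q : QuadraticForm F (ι → F)}

/-- An element of order `p` attached to a totally singular subspace. -/
theorem uni_element {p : ℕ} [Fact p.Prime] [CharP F p] (hQ : (QuadraticMap.polarBilin Q).Nondegenerate)
    (hι : Fintype.card ι ≠ 4) {L : Submodule F (ι → F)} (hL : ∀ x ∈ L, Q x = 0) {a : ℕ} (hLd : finrank F L = 2 * a)
    (ha : 1 ≤ a) :
    ∃ (x : GL ι F) (N : Module.End F (ι → F)), x ∈ Cfsg.Geo.omegaGL ⇑Q ∧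
      ((x ^ p : GL ι F) : Matrix ι ι F) = (1 : F) • (1 : Matrix ι ι F) ∧
      (∀ z : F, (x : Matrix ι ι F) ≠ z • 1) ∧
      Matrix.toLin' (x : Matrix ι ι F) = 1 + N ∧ LinearMap.range N = L ∧ (∀ v, N (N v) = 0) ∧
      (∀ v, N v = 0 ↔ ∀ y ∈ L, QuadraticMap.polar Q y v = 0) ∧ (∀ v, QuadraticMap.polar Q (N v) v = 0) := by
  have hp := (Fact.out : p.Prime)
  obtain ⟨N, hNr, hN2, hNk, hNa, hNQ⟩ := exists_nilpotent hQ hL hLd
  let g : (ι → F) ≃ₗ[F] (ι → F) := LinearEquiv.ofLinearMap (1 + N) (1 - N)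
    (LinearMap.ext fun v => by simp [hN2]) (LinearMap.ext fun v => by simp [hN2])
  have hg : ∀ v, g v = v + N v := fun v => rfl
  have hgp : g ^ p = 1 := by
    have hpow : ∀ j : ℕ, ∀ v, (g ^ j) v = v + (j : F) • N v := by
      intro j
      induction j with
      | zero => intro v; simp
      | succ j ih =>
        intro v
        rw [pow_succ', LinearEquiv.mul_apply, ih, hg, map_add, map_smul, hN2, smul_zero, add_zero]
        push_cast
        rw [add_smul, one_smul]
        abel
    refine LinearEquiv.ext fun v => ?_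
    rw [hpow, CharP.cast_eq_zero F p, zero_smul, add_zero]
    rfl
  have hgo : g ∈ FormsLib.oGroup Q := fun v => by rw [hg, hNQ]
  have hmem : TransvMax.glOf g ∈ Cfsg.Geo.omegaGL ⇑Q := by
    rcases hp.eq_two_or_odd' with rfl | hodd
    · refine ⟨(FormsLib.oEquiv Q).symm ⟨g, hgo⟩, ?_, rfl⟩
      refine (OrthChar2.mem_omega_iff_dk hQ (Or.inr hι)).2 ?_
      show (-1 : ℤˣ) ^ Spinor.rk (FormsLib.oEquiv Q ((FormsLib.oEquiv Q).symm ⟨g, hgo⟩)).1 = 1
      rw [MulEquiv.apply_symm_apply, Spinor.rk, Spinor.mov,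
        show (g : (ι → F) →ₗ[F] (ι → F)) - LinearMap.id = N from LinearMap.ext fun v => by
          show g v - v = N v
          rw [hg, add_sub_cancel_left], hNr, hLd, pow_mul, neg_one_sq, one_pow]
    · exact OrthEvenWitness.glOf_mem_omega_odd hQ hι hgo hodd hgp
  have hlin : Matrix.toLin' ((TransvMax.glOf g : GL ι F) : Matrix ι ι F) = 1 + N := LinearMap.ext fun v => by
    rw [Matrix.toLin'_apply, TransvMax.glOf_mulVec]
    rfl
  refine ⟨TransvMax.glOf g, N, hmem, ?_, fun z hz => ?_, hlin, hNr, hN2, hNk, hNa⟩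
  · rw [← map_pow, hgp, map_one, Units.val_one, one_smul]
  · have hNz : ∀ v, N v = (z - 1) • v := fun v => by
      have h1 := LinearMap.congr_fun hlin v
      rw [hz, map_smul, Matrix.toLin'_one, LinearMap.smul_apply, LinearMap.id_apply, LinearMap.add_apply,
        Module.End.one_apply] at h1
      rw [sub_smul, one_smul, h1, add_sub_cancel_left]
    obtain ⟨y, hy, hy0⟩ := Submodule.exists_mem_ne_zero_of_ne_bot (p := L) fun h => by
      rw [h, finrank_bot] at hLd
      omega
    rw [← hNr] at hy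
    obtain ⟨v, rfl⟩ := hy
    have h2 := hN2 v
    rw [hNz, hNz, smul_smul, smul_eq_zero, mul_self_eq_zero] at h2
    rcases h2 with h2 | h2
    · exact hy0 (by rw [hNz, h2, zero_smul])
    · exact hy0 (by rw [h2, map_zero])

/-- Some element of order `p` leaves only subspaces `4a + w` with `w` small. -/
theorem uni_bad {p : ℕ} [Fact p.Prime] [CharP F p] (hQ : (QuadraticMap.polarBilin Q).Nondegenerate) {d a : ℕ}
    (hι : Fintype.card ι = 2 * d) (hd : 3 ≤ d) (ha : 1 ≤ a) (had : 2 * a + 1 ≤ d ∨ (2 * a ≤ d ∧ Half Q ⊤)) :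
    ∃ x : GL ι F, x ∈ Cfsg.Geo.omegaGL ⇑Q ∧
      ((x ^ p : GL ι F) : Matrix ι ι F) = (1 : F) • (1 : Matrix ι ι F) ∧
      (∀ z : F, (x : Matrix ι ι F) ≠ z • 1) ∧
      ∀ W : Submodule F (ι → F), NdOn (QuadraticMap.polarBilin Q) W → W.map (Matrix.toLin' (x : Matrix ι ι F)) ≤ W →
        ∃ b w, finrank F W = 4 * b + w ∧ w + 4 * a ≤ 2 * d ∧ (w = 0 → Half Q W) ∧
          (w = 2 → 2 * a + 1 = d → Half Q ⊤ → Half Q W) := by
  classical
  have htop : NdOn (QuadraticMap.polarBilin Q) ⊤ := fun u _ h => hQ.1 u fun v => h v trivial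
  have hdim : finrank F (ι → F) = 2 * d := by rw [finrank_pi, hι]
  -- a singular subspace inside a half when possible
  obtain ⟨L, hL, hLd, hLH⟩ : ∃ L : Submodule F (ι → F), (∀ y ∈ L, Q y = 0) ∧ finrank F L = 2 * a ∧
      (2 * a + 1 = d → Half Q ⊤ → ∃ z, Q z = 0 ∧ z ∉ L ∧ ∀ y ∈ L, QuadraticMap.polar Q y z = 0) := by
    by_cases hH : Half Q ⊤
    · obtain ⟨H, -, hH0, hHd⟩ := half_iff.1 hH
      rw [finrank_top, hdim, Nat.mul_div_cancel_left _ two_pos] at hHd
      obtain ⟨L, hLd, hLH⟩ : ∃ L : Submodule F (ι → F), finrank F L = 2 * a ∧ L ≤ H := by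
        let bH := Module.finBasis F H
        let v : Fin (2 * a) → (ι → F) := fun i => (bH (Fin.castLE (by omega) i) : ι → F)
        have hv : LinearIndependent F v :=
          (bH.linearIndependent.map' H.subtype H.ker_subtype).comp _ (Fin.castLE_injective _)
        exact ⟨Submodule.span F (Set.range v), by rw [finrank_span_eq_card hv, Fintype.card_fin],
          Submodule.span_le.2 (by rintro _ ⟨i, rfl⟩; exact (bH _).2)⟩
      refine ⟨L, fun y hy => hH0 y (hLH hy), hLd, fun he _ => ?_⟩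
      obtain ⟨z, hz, hzL⟩ := SetLike.exists_of_lt (lt_of_le_of_ne hLH fun h => by rw [h, hHd] at hLd; omega)
      exact ⟨z, hH0 z hz, hzL, fun y hy => orthTo_of_quad hH0 y (hLH hy) z hz⟩
    · have h1 : 2 * a + 1 ≤ d := had.resolve_right fun h => hH h.2
      obtain ⟨L, -, hL, hLd⟩ := exists_singular_subspace (2 * a) ⊤ htop (by rw [finrank_top, hdim]; omega)
      exact ⟨L, hL, hLd, fun _ h => absurd h hH⟩
  obtain ⟨x, N, hx, hxp, hxn, hlin, hNr, hN2, hNk, hNa⟩ := uni_element (p := p) hQ (by omega) hL hLd ha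
  refine ⟨x, hx, hxp, hxn, fun W hW hWT => ?_⟩
  obtain ⟨b, w, hWd, hWr, hw, hw0, hwf⟩ := read_nilpotent (p := p) htop hN2 hNa (hNr.symm ▸ hL) hW (hlin ▸ hWT)
  rw [hNr, hLd, hdim] at hw hwf
  refine ⟨b, w, hWd, by omega, hw0, fun hw2 he hH => ?_⟩
  obtain ⟨z, hz0, hzL, hzo⟩ := hLH he hH
  obtain ⟨y, hy, hyz⟩ := hwf (by omega) z ((hNk z).2 hzo)
  -- the half: the image and the vector
  have hyN : ∀ u ∈ W.map N, QuadraticMap.polar Q u y = 0 := by
    intro u hu
    have huL : u ∈ L := hNr ▸ LinearMap.map_le_range hu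
    have h1 : QuadraticMap.polar Q u (z - y) = 0 := orthTo_of_quad hL u huL _ hyz
    rw [QuadraticMap.polar_sub_right, hzo u huL, zero_sub, neg_eq_zero] at h1
    exact h1
  have hQy : Q y = 0 := by
    have h1 : y = z + -(z - y) := by abel
    rw [h1, FormsLib.quad_add, hz0, QuadraticMap.map_neg, hL _ hyz, QuadraticMap.polar_neg_right,
      QuadraticMap.polar_comm, hzo _ hyz, neg_zero, add_zero, add_zero]
  have hyL : y ∉ L := fun h => hzL (by simpa using L.add_mem hyz h)
  have hWN : W.map N ≤ W := by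
    rintro _ ⟨v, hv, rfl⟩
    have h1 := W.sub_mem (hWT ⟨v, hv, rfl⟩) hv
    rwa [hlin, LinearMap.add_apply, Module.End.one_apply, add_sub_cancel_left] at h1
  have hU : ∀ u ∈ W.map N ⊔ Submodule.span F {y}, Q u = 0 := quad_sup
    (fun u hu => hL u (hNr ▸ LinearMap.map_le_range hu)) (fun u hu => by
      obtain ⟨t, rfl⟩ := Submodule.mem_span_singleton.1 hu
      rw [QuadraticMap.map_smul, hQy, smul_zero]) fun u hu v hv => by
      obtain ⟨t, rfl⟩ := Submodule.mem_span_singleton.1 hv
      rw [map_smul, show (QuadraticMap.polarBilin Q) u y = 0 from hyN u hu, smul_zero]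
  have hUW : W.map N ⊔ Submodule.span F {y} ≤ W := sup_le hWN ((Submodule.span_singleton_le_iff_mem _ _).2 hy)
  have h1 := two_mul_le hW hUW hU
  -- the image has half the dimension less one
  have hdimU : finrank F ↥(W.map N ⊔ Submodule.span F {y}) = finrank F (W.map N) + 1 := by
    have h3 := Submodule.finrank_sup_add_finrank_inf_eq (W.map N) (Submodule.span F {y})
    have h4 : W.map N ⊓ Submodule.span F {y} = ⊥ := by
      rw [Submodule.eq_bot_iff]
      rintro u ⟨hu, hu'⟩
      obtain ⟨t, rfl⟩ := Submodule.mem_span_singleton.1 hu'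
      by_contra hne
      have ht : t ≠ 0 := fun h => hne (by rw [h, zero_smul])
      exact hyL (by simpa [ht] using L.smul_mem t⁻¹ (hNr ▸ LinearMap.map_le_range hu : t • y ∈ L))
    rw [h4, finrank_bot, finrank_span_singleton (fun h => hyL (by rw [h]; exact L.zero_mem))] at h3
    omega
  exact half_iff.2 ⟨_, hUW, hU, by omega⟩

end Element

end Cfsg.Agent.Elusive.OrthNd
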