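import Cfsg.Agent.Lib.Elusive.OrthogonalNdTwo
import Cfsg.Agent.Lib.Elusive.OrthogonalNdUni

/-!
Invariant non-degenerate subspaces of an isometric involution in characteristic 2.
-/

set_option autoImplicit false
set_option linter.style.haveILetI false

namespace Cfsg.Agent.Elusive.OrthNd

open Module FormIso OrthIso OrthType OrthTwo

variable {F V : Type*} [Field F] [AddCommGroup V] [Module F V] [FiniteDimensional F V]
  {Q : QuadraticForm F V} {N : Module.End F V}

/-- `1 + N` is an isometric involution in characteristic 2. -/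
structure InvData (Q : QuadraticForm F V) (N : Module.End F V) : Prop where
  two : (2 : F) = 0
  sq : ∀ v, N (N v) = 0
  iso : ∀ v, Q (v + N v) = Q v

omit [FiniteDimensional F V] in
theorem InvData.neg_eq (H : InvData Q N) (v : V) : -v = v := by
  rw [eq_comm, ← sub_eq_zero, sub_neg_eq_add, ← two_smul F v, H.two, zero_smul]

omit [FiniteDimensional F V] in
theorem InvData.polar_self (H : InvData Q N) (v : V) : QuadraticMap.polar Q v v = 0 := by
  rw [FormsLib.polar_self', H.two, zero_mul]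

omit [FiniteDimensional F V] in
theorem InvData.beta (H : InvData Q N) (v : V) : QuadraticMap.polar Q v (N v) = Q (N v) := by
  have h := H.iso v
  rw [FormsLib.quad_add] at h
  linear_combination h - H.two * Q (N v)

omit [FiniteDimensional F V] in
theorem InvData.adj (H : InvData Q N) (u v : V) : QuadraticMap.polar Q (N u) v = QuadraticMap.polar Q u (N v) := by
  have h : ∀ a b, QuadraticMap.polar Q (a + N a) (b + N b) = QuadraticMap.polar Q a b := fun a b => by
    simp only [QuadraticMap.polar]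
    rw [show a + N a + (b + N b) = (a + b) + N (a + b) by rw [map_add]; abel, H.iso, H.iso, H.iso]
  have h1 := h u (v + N v)
  rw [map_add, H.sq, add_zero, show v + N v + N v = v + (2 : F) • N v by rw [two_smul]; abel, H.two, zero_smul,
    add_zero, QuadraticMap.polar_add_left, QuadraticMap.polar_add_right] at h1
  linear_combination h1

omit [FiniteDimensional F V] in
theorem InvData.perp (H : InvData Q N) (u v : V) : QuadraticMap.polar Q (N u) (N v) = 0 := by
  rw [H.adj, H.sq]
  simp [QuadraticMap.polar]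

omit [FiniteDimensional F V] in
theorem InvData.quad_N_add (H : InvData Q N) (u v : V) : Q (N (u + v)) = Q (N u) + Q (N v) := by
  rw [map_add, FormsLib.quad_add, H.perp, add_zero]

omit [FiniteDimensional F V] in
theorem InvData.map_le (H : InvData Q N) {X : Submodule F V} (hX : X.map (1 + N) ≤ X) {v : V} (hv : v ∈ X) :
    N v ∈ X := by
  have h1 := X.sub_mem (hX ⟨v, hv, rfl⟩) hv
  rwa [show (1 + N) v = v + N v from rfl, add_sub_cancel_left] at h1

omit [FiniteDimensional F V] in
theorem InvData.pow (H : InvData Q N) : (1 + N) ^ 2 = 1 := LinearMap.ext fun v => by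
  show v + N v + N (v + N v) = v
  rw [map_add, H.sq, add_zero, add_assoc, ← two_smul F (N v), H.two, zero_smul, add_zero]

omit [FiniteDimensional F V] in
theorem InvData.inv (H : InvData Q N) (u v : V) :
    QuadraticMap.polarBilin Q ((1 + N) u) ((1 + N) v) = QuadraticMap.polarBilin Q u v := by
  show QuadraticMap.polar Q (u + N u) (v + N v) = QuadraticMap.polar Q u v
  simp only [QuadraticMap.polar]
  rw [show u + N u + (v + N v) = (u + v) + N (u + v) by rw [map_add]; abel, H.iso, H.iso, H.iso]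

/-- An invariant non-degenerate subspace has an invariant orthogonal complement. -/
theorem InvData.split (H : InvData Q N) {X P : Submodule F V} (hX : NdOn (QuadraticMap.polarBilin Q) X)
    (hXT : X.map (1 + N) ≤ X) (hP : NdOn (QuadraticMap.polarBilin Q) P) (hPT : P.map (1 + N) ≤ P) (hPX : P ≤ X) :
    ∃ Y : Submodule F V, Y ≤ X ∧ Y.map (1 + N) ≤ Y ∧ NdOn (QuadraticMap.polarBilin Q) Y ∧
      OrthTo (QuadraticMap.polarBilin Q) P Y ∧ P ⊔ Y = X ∧ finrank F P + finrank F Y = finrank F X := by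
  obtain ⟨Y, hYX, hYT, hY, ho, hs, -, hd⟩ :=
    exists_compl (refl_polar Q) H.inv two_ne_zero H.pow hX hXT hP hPT hPX
  exact ⟨Y, hYX, hYT, hY, ho, hs, hd⟩

/-- The invariant plane through `v`. -/
theorem InvData.plane (H : InvData Q N) {v : V} (hv : Q (N v) ≠ 0) :
    NdOn (QuadraticMap.polarBilin Q) (Submodule.span F {v, N v}) ∧
      (Submodule.span F {v, N v}).map (1 + N) ≤ Submodule.span F {v, N v} ∧
      finrank F (Submodule.span F ({v, N v} : Set V)) = 2 ∧
      (Half Q (Submodule.span F {v, N v}) ↔ ∃ y : F, Q v = (y ^ 2 + y) * Q (N v)) := by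
  have hNN : QuadraticMap.polar Q (N v) (N v) = 0 := H.polar_self _
  have hvv : QuadraticMap.polar Q v v = 0 := H.polar_self _
  have hvN := H.beta v
  have hNv : QuadraticMap.polar Q (N v) v = Q (N v) := (QuadraticMap.polar_comm _ _ _).trans hvN
  have hcoef : ∀ a b : F, QuadraticMap.polar Q (a • v + b • N v) (N v) = a * Q (N v) ∧
      QuadraticMap.polar Q (a • v + b • N v) v = b * Q (N v) := fun a b => by
    simp [QuadraticMap.polar_add_left, QuadraticMap.polar_smul_left, hNN, hvv, hvN, hNv]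
  have hquad : ∀ a b : F, Q (a • v + b • N v) = a ^ 2 * Q v + (b ^ 2 + a * b) * Q (N v) := fun a b => by
    rw [FormsLib.quad_add, QuadraticMap.map_smul, QuadraticMap.map_smul, QuadraticMap.polar_smul_left,
      QuadraticMap.polar_smul_right, hvN]
    simp only [smul_eq_mul]
    ring
  have hli : LinearIndependent F ![v, N v] := LinearIndependent.pair_iff.2 fun a b hab => by
    obtain ⟨h1, h2⟩ := hcoef a b
    rw [hab] at h1 h2
    simp [QuadraticMap.polar] at h1 h2
    exact ⟨h1.resolve_right hv, h2.resolve_right hv⟩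
  have hdim : finrank F (Submodule.span F ({v, N v} : Set V)) = 2 := by
    have := finrank_span_eq_card hli
    rwa [Fintype.card_fin, Matrix.range_cons_cons_empty] at this
  refine ⟨?_, ?_, hdim, ?_⟩
  · intro u hu h
    obtain ⟨a, b, rfl⟩ := Submodule.mem_span_pair.1 hu
    have ha : a * Q (N v) = 0 := (hcoef a b).1.symm.trans (h (N v) (Submodule.subset_span (by simp)))
    have hb : b * Q (N v) = 0 := (hcoef a b).2.symm.trans (h v (Submodule.subset_span (by simp)))
    rw [(mul_eq_zero.1 ha).resolve_right hv, (mul_eq_zero.1 hb).resolve_right hv, zero_smul, zero_smul, add_zero]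
  · rintro _ ⟨u, hu, rfl⟩
    obtain ⟨a, b, rfl⟩ := Submodule.mem_span_pair.1 hu
    refine Submodule.mem_span_pair.2 ⟨a, b + a, ?_⟩
    show a • v + (b + a) • N v = a • v + b • N v + N (a • v + b • N v)
    rw [map_add, map_smul, map_smul, H.sq]
    module
  constructor
  · intro hH
    obtain ⟨U, hUP, hU, hUd⟩ := half_iff.1 hH
    obtain ⟨s, hs, hs0⟩ := Submodule.exists_mem_ne_zero_of_ne_bot (p := U) fun h => by
      rw [h, finrank_bot, hdim] at hUd
      omega
    obtain ⟨a, b, rfl⟩ := Submodule.mem_span_pair.1 (hUP hs)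
    have h1 := hU _ hs
    rw [hquad] at h1
    have ha : a ≠ 0 := by
      rintro rfl
      have hb : b = 0 := by simpa [hv] using h1
      exact hs0 (by simp [hb])
    refine ⟨b / a, ?_⟩
    field_simp
    linear_combination h1 - H.two * ((b ^ 2 + a * b) * Q (N v))
  · rintro ⟨y, hy⟩
    have hne : v + y • N v ≠ 0 := fun h => one_ne_zero (LinearIndependent.pair_iff.1 hli 1 y (by rwa [one_smul])).1
    refine half_iff.2 ⟨Submodule.span F {v + y • N v}, ?_, fun w hw => ?_, by
      rw [finrank_span_singleton hne, hdim]⟩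
    · rw [Submodule.span_singleton_le_iff_mem]
      exact Submodule.add_mem _ (Submodule.subset_span (by simp)) (Submodule.smul_mem _ _ (Submodule.subset_span (by simp)))
    · obtain ⟨t, rfl⟩ := Submodule.mem_span_singleton.1 hw
      have h1 := hquad 1 y
      rw [one_smul, hy] at h1
      rw [QuadraticMap.map_smul, h1, show (1 : F) ^ 2 * ((y ^ 2 + y) * Q (N v)) + (y ^ 2 + 1 * y) * Q (N v) = 0 by
        linear_combination H.two * ((y ^ 2 + y) * Q (N v)), smul_zero]

variable [Fintype F]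

/-- Some element is not of the form `y² + y`. -/
theorem exists_not_artin_schreier (h : (2 : F) = 0) : ∃ c : F, ∀ y : F, y ^ 2 + y ≠ c := by
  by_contra hc
  push Not at hc
  have hinj := Finite.injective_iff_surjective.2 (hc : Function.Surjective fun y : F => y ^ 2 + y)
  exact one_ne_zero (hinj (show (1 : F) ^ 2 + 1 = 0 ^ 2 + 0 by linear_combination h))

/-- An anisotropic vector on which the form `B(Nu, u)` vanishes. -/
theorem InvData.exists_adjust (H : InvData Q N) {Y : Submodule F V} (hY : NdOn (QuadraticMap.polarBilin Q) Y)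
    (hYT : Y.map (1 + N) ≤ Y) (hne : Y ≠ ⊥) : ∃ u ∈ Y, Q (N u) = 0 ∧ Q u ≠ 0 := by
  by_cases h : ∃ z ∈ Y, Q (N z) ≠ 0
  · obtain ⟨z, hz, hz'⟩ := h
    exact ⟨N z, H.map_le hYT hz, by rw [H.sq, QuadraticMap.map_zero], hz'⟩
  · push Not at h
    obtain ⟨u, hu, hu'⟩ := exists_nonsing hY hne
    exact ⟨u, hu, h u hu, hu'⟩

/-- Planes of both types. -/
theorem InvData.plane_any (H : InvData Q N) {X : Submodule F V} (hX : NdOn (QuadraticMap.polarBilin Q) X)
    (hXT : X.map (1 + N) ≤ X) (hd : 2 < finrank F X) (hc : ∃ v ∈ X, Q (N v) ≠ 0) (pl : Prop) :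
    ∃ P : Submodule F V, P ≤ X ∧ P.map (1 + N) ≤ P ∧ NdOn (QuadraticMap.polarBilin Q) P ∧ finrank F P = 2 ∧
      (Half Q P ↔ pl) := by
  classical
  obtain ⟨v, hv, hβ⟩ := hc
  obtain ⟨hP, hPT, hPd, -⟩ := H.plane hβ
  obtain ⟨Y, hYX, hYT, hY, ho, -, hdY⟩ := H.split hX hXT hP hPT
    (Submodule.span_le.2 (by rintro _ (rfl | rfl); exacts [hv, H.map_le hXT hv]))
  obtain ⟨u, hu, huN, hQu⟩ := H.exists_adjust hY hYT fun h => by rw [h, finrank_bot] at hdY; omega
  obtain ⟨c₀, hc₀⟩ := exists_not_artin_schreier H.two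
  obtain ⟨T, hT⟩ : ∃ T : F, T = if pl then 0 else c₀ * Q (N v) := ⟨_, rfl⟩
  have hchar : ringChar F = 2 := CharP.ringChar_of_prime_eq_zero Nat.prime_two (by exact_mod_cast H.two)
  obtain ⟨t, ht⟩ := FiniteField.isSquare_of_char_two hchar ((T - Q v) / Q u)
  have hvu : QuadraticMap.polar Q v u = 0 := ho v (Submodule.subset_span (by simp)) u hu
  have hQ' : Q (v + t • u) = T := by
    rw [FormsLib.quad_add, QuadraticMap.map_smul, QuadraticMap.polar_smul_right, hvu, smul_eq_mul, smul_eq_mul,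
      mul_zero, add_zero, ← ht, div_mul_cancel₀ _ hQu, add_sub_cancel]
  have hN' : Q (N (v + t • u)) = Q (N v) := by
    rw [H.quad_N_add, map_smul, QuadraticMap.map_smul, huN, smul_zero, add_zero]
  obtain ⟨hP', hP'T, hP'd, hP'h⟩ := H.plane (v := v + t • u) (hN'.symm ▸ hβ)
  have hv' : v + t • u ∈ X := X.add_mem hv (X.smul_mem _ (hYX hu))
  refine ⟨_, Submodule.span_le.2 (by rintro _ (rfl | rfl); exacts [hv', H.map_le hXT hv']), hP'T, hP', hP'd, ?_⟩
  rw [hP'h, hN', hQ', hT]
  split_ifs with hp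
  · exact iff_of_true ⟨0, by ring⟩ hp
  · refine iff_of_false (fun ⟨y, hy⟩ => ?_) hp
    exact hc₀ y (mul_right_cancel₀ hβ hy).symm

/-- Subspaces of every dimension and type, unless the form `B(Nu, u)` is alternating. -/
theorem InvData.c_sub (H : InvData Q N) : ∀ (n : ℕ) (X : Submodule F V), NdOn (QuadraticMap.polarBilin Q) X →
    X.map (1 + N) ≤ X → finrank F X = 2 * n → (∃ v ∈ X, Q (N v) ≠ 0) → ∀ h, 1 ≤ h → h < n → ∀ pl : Prop,
    ∃ W : Submodule F V, W ≤ X ∧ W.map (1 + N) ≤ W ∧ NdOn (QuadraticMap.polarBilin Q) W ∧ finrank F W = 2 * h ∧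
      (Half Q W ↔ pl) := by
  intro n
  induction n with
  | zero => intros; omega
  | succ n ih =>
    intro X hX hXT hd hc h h1 hn pl
    rcases eq_or_lt_of_le h1 with rfl | h2
    · obtain ⟨P, hPX, hPT, hP, hPd, hPh⟩ := H.plane_any hX hXT (by omega) hc pl
      exact ⟨P, hPX, hPT, hP, by omega, hPh⟩
    have glue : ∀ P : Submodule F V, P ≤ X → P.map (1 + N) ≤ P → NdOn (QuadraticMap.polarBilin Q) P →
        finrank F P = 2 → ∀ Y : Submodule F V, Y ≤ X → OrthTo (QuadraticMap.polarBilin Q) P Y →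
        (∀ pl' : Prop, ∃ W : Submodule F V, W ≤ Y ∧ W.map (1 + N) ≤ W ∧ NdOn (QuadraticMap.polarBilin Q) W ∧
          finrank F W = 2 * (h - 1) ∧ (Half Q W ↔ pl')) →
        ∃ W : Submodule F V, W ≤ X ∧ W.map (1 + N) ≤ W ∧ NdOn (QuadraticMap.polarBilin Q) W ∧ finrank F W = 2 * h ∧
          (Half Q W ↔ pl) := by
      intro P hPX hPT hP hPd Y hYX ho hall
      obtain ⟨W, hWY, hWT, hW, hWd, hWh⟩ := hall (Half Q P ↔ pl)
      have hoW : OrthTo (QuadraticMap.polarBilin Q) P W := fun a ha b hb => ho a ha b (hWY hb)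
      refine ⟨P ⊔ W, sup_le hPX (hWY.trans hYX), ?_, ndOn_sup (refl_polar Q) hP hW hoW, ?_, ?_⟩
      · rw [Submodule.map_sup]
        exact sup_le_sup hPT hWT
      · have h3 := Submodule.finrank_sup_add_finrank_inf_eq P W
        rw [inf_eq_bot hP (hoW.symm (refl_polar Q)), finrank_bot] at h3
        omega
      · rw [half_sup hP hW hoW ⟨1, by omega⟩ ⟨h - 1, by omega⟩, hWh]
        tauto
    obtain ⟨v, hv, hβ⟩ := hc
    obtain ⟨hP, hPT, hPd, -⟩ := H.plane hβ
    have hPX : Submodule.span F ({v, N v} : Set V) ≤ X :=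
      Submodule.span_le.2 (by rintro _ (rfl | rfl); exacts [hv, H.map_le hXT hv])
    obtain ⟨Y, hYX, hYT, hY, ho, -, hdY⟩ := H.split hX hXT hP hPT hPX
    by_cases hYc : ∃ y ∈ Y, Q (N y) ≠ 0
    · exact glue _ hPX hPT hP hPd Y hYX ho (ih Y hY hYT (by omega) hYc (h - 1) (by omega) (by omega))
    push Not at hYc
    by_cases hY0 : ∀ u ∈ Y, N u = 0
    · refine glue _ hPX hPT hP hPd Y hYX ho fun pl' => ?_
      obtain ⟨W, hWY, hW, hWd, hWh⟩ := exists_sub_type hY (k := h - 1) (l := n - (h - 1)) (by omega) pl'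
        (by omega) (by omega)
      refine ⟨W, hWY, ?_, hW, hWd, hWh⟩
      rintro _ ⟨w, hw, rfl⟩
      show w + N w ∈ W
      rw [hY0 w (hWY hw), add_zero]
      exact hw
    push Not at hY0
    obtain ⟨u, hu, hu0⟩ := hY0
    obtain ⟨y₁, hy₁, hy₁'⟩ : ∃ y ∈ Y, QuadraticMap.polar Q (N u) y ≠ 0 := by
      by_contra hcon
      push Not at hcon
      exact hu0 (hY _ (H.map_le hYT hu) fun w hw => hcon w hw)
    set y := (Q (N v) / QuadraticMap.polar Q (N u) y₁) • y₁ with hydef
    have hy : y ∈ Y := Y.smul_mem _ hy₁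
    have huy : QuadraticMap.polar Q (N u) y = Q (N v) := by
      rw [hydef, QuadraticMap.polar_smul_right, smul_eq_mul, div_mul_cancel₀ _ hy₁']
    have hzN : Q (N (v + y)) = Q (N v) := by rw [H.quad_N_add, hYc y hy, add_zero]
    have hvN : Q (N (v + u)) = Q (N v) := by rw [H.quad_N_add, hYc u hu, add_zero]
    obtain ⟨hP', hP'T, hP'd, -⟩ := H.plane (v := v + u) (hvN.symm ▸ hβ)
    have hv' : v + u ∈ X := X.add_mem hv (hYX hu)
    have hP'X : Submodule.span F ({v + u, N (v + u)} : Set V) ≤ X :=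
      Submodule.span_le.2 (by rintro _ (rfl | rfl); exacts [hv', H.map_le hXT hv'])
    obtain ⟨Y', hY'X, hY'T, hY', ho', hs', hdY'⟩ := H.split hX hXT hP' hP'T hP'X
    obtain ⟨a, ha, z, hz, haz⟩ := Submodule.mem_sup.1 (hs'.symm ▸ X.add_mem hv (hYX hy) :
      v + y ∈ Submodule.span F {v + u, N (v + u)} ⊔ Y')
    obtain ⟨s, t, rfl⟩ := Submodule.mem_span_pair.1 ha
    have hmemP : ∀ w ∈ ({v, N v} : Set V), w ∈ Submodule.span F ({v, N v} : Set V) := fun w hw =>
      Submodule.subset_span hw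
    have h0 : QuadraticMap.polar Q (N (v + u)) (v + y) = 0 := by
      rw [map_add, QuadraticMap.polar_add_left, QuadraticMap.polar_add_right, QuadraticMap.polar_add_right, huy,
        show QuadraticMap.polar Q (N v) y = 0 from ho _ (hmemP _ (by simp)) y hy,
        (QuadraticMap.polar_comm _ (N u) v).trans (ho v (hmemP _ (by simp)) _ (H.map_le hYT hu)),
        QuadraticMap.polar_comm Q (N v), H.beta]
      linear_combination H.two * Q (N v)
    have hs0 : s = 0 := by
      rw [← haz, QuadraticMap.polar_add_right, QuadraticMap.polar_add_right, QuadraticMap.polar_smul_right,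
        QuadraticMap.polar_smul_right, H.polar_self, QuadraticMap.polar_comm Q (N (v + u)) (v + u), H.beta, hvN,
        show QuadraticMap.polar Q (N (v + u)) z = 0 from ho' _ (Submodule.subset_span (by simp)) z hz,
        smul_zero, add_zero, add_zero, smul_eq_mul] at h0
      exact (mul_eq_zero.1 h0).resolve_right hβ
    refine glue _ hP'X hP'T hP' hP'd Y' hY'X ho' (ih Y' hY' hY'T (by omega) ⟨z, hz, ?_⟩ (h - 1) (by omega) (by omega))
    rw [hs0, zero_smul, zero_add] at haz
    rw [← haz, map_add, map_smul, H.sq, smul_zero, zero_add] at hzN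
    exact hzN ▸ hβ

/-- The subspaces of an involution with alternating `B(Nu, u)`. -/
theorem InvData.a_sub (H : InvData Q N) : ∀ (n : ℕ) (X : Submodule F V), NdOn (QuadraticMap.polarBilin Q) X →
    X.map (1 + N) ≤ X → finrank F X = 2 * n → (∀ v ∈ X, Q (N v) = 0) →
    ∃ a k, n = 2 * a + k ∧ (k = 0 → Half Q X) ∧ ∀ b w, b ≤ a → w ≤ k → ∀ pl : Prop, (w = 0 → pl) →
      (w = k → (pl ↔ Half Q X)) →
      ∃ W : Submodule F V, W ≤ X ∧ W.map (1 + N) ≤ W ∧ NdOn (QuadraticMap.polarBilin Q) W ∧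
        finrank F W = 2 * (2 * b + w) ∧ (Half Q W ↔ pl) := by
  intro n
  induction n using Nat.strong_induction_on with
  | _ n ih =>
    intro X hX hXT hd hX0
    by_cases hN : ∀ u ∈ X, N u = 0
    · refine ⟨0, n, by omega, fun h => ?_, fun b w hb hw pl hw0 hwk => ?_⟩
      · subst h
        rw [Submodule.finrank_eq_zero.1 (hd.trans (mul_zero 2))]
        exact half_bot
      · obtain ⟨W, hWX, hW, hWd, hWh⟩ := exists_sub_type hX (k := w) (l := n - w) (by omega) pl hw0
          (fun h => hwk (by omega))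
        refine ⟨W, hWX, ?_, hW, by rw [hWd]; omega, hWh⟩
        rintro _ ⟨x, hx, rfl⟩
        show x + N x ∈ W
        rw [hN x (hWX hx), add_zero]
        exact hx
    push Not at hN
    obtain ⟨v, hv, hv0⟩ := hN
    obtain ⟨u₁, hu₁, hu₁'⟩ : ∃ u ∈ X, QuadraticMap.polar Q (N v) u ≠ 0 := by
      by_contra hcon
      push Not at hcon
      exact hv0 (hX _ (H.map_le hXT hv) fun w hw => hcon w hw)
    set u := (QuadraticMap.polar Q (N v) u₁)⁻¹ • u₁ with hudef
    have hu : u ∈ X := X.smul_mem _ hu₁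
    have hg : QuadraticMap.polar Q (N v) u = 1 := by
      rw [hudef, QuadraticMap.polar_smul_right, smul_eq_mul, inv_mul_cancel₀ hu₁']
    have hg' : QuadraticMap.polar Q v (N u) = 1 := (H.adj v u).symm.trans hg
    set S := Submodule.span F {v, u} ⊔ Submodule.span F {N v, N u} with hSdef
    have hcoef : ∀ a b c e : F,
        QuadraticMap.polar Q (a • v + b • u + (c • N v + e • N u)) (N u) = a ∧
        QuadraticMap.polar Q (a • v + b • u + (c • N v + e • N u)) (N v) = b ∧
        QuadraticMap.polar Q (a • v + b • u + (c • N v + e • N u)) u = a * QuadraticMap.polar Q v u + c ∧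
        QuadraticMap.polar Q (a • v + b • u + (c • N v + e • N u)) v = b * QuadraticMap.polar Q v u + e := fun a b c e => by
      simp [QuadraticMap.polar_add_left, QuadraticMap.polar_smul_left, H.perp, H.polar_self, hg, hg',
        QuadraticMap.polar_comm Q u v, QuadraticMap.polar_comm Q u (N v), QuadraticMap.polar_comm Q (N u) v,
        QuadraticMap.polar_comm Q (N v) v, QuadraticMap.polar_comm Q (N u) u, H.beta, hX0 v hv, hX0 u hu]
    have hmem : ∀ x ∈ S, ∃ a b c e : F, x = a • v + b • u + (c • N v + e • N u) := fun x hx => by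
      obtain ⟨x₁, hx₁, x₂, hx₂, rfl⟩ := Submodule.mem_sup.1 hx
      obtain ⟨a, b, rfl⟩ := Submodule.mem_span_pair.1 hx₁
      obtain ⟨c, e, rfl⟩ := Submodule.mem_span_pair.1 hx₂
      exact ⟨a, b, c, e, rfl⟩
    have hvS : v ∈ S := Submodule.mem_sup_left (Submodule.subset_span (by simp))
    have huS : u ∈ S := Submodule.mem_sup_left (Submodule.subset_span (by simp))
    have hNvS : N v ∈ S := Submodule.mem_sup_right (Submodule.subset_span (by simp))
    have hNuS : N u ∈ S := Submodule.mem_sup_right (Submodule.subset_span (by simp))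
    have hS : NdOn (QuadraticMap.polarBilin Q) S := by
      intro x hx hall
      obtain ⟨a, b, c, e, rfl⟩ := hmem x hx
      obtain ⟨h1, h2, h3, h4⟩ := hcoef a b c e
      have ha : a = 0 := h1.symm.trans (hall _ hNuS)
      have hb : b = 0 := h2.symm.trans (hall _ hNvS)
      have hc : a * QuadraticMap.polar Q v u + c = 0 := h3.symm.trans (hall _ huS)
      have he : b * QuadraticMap.polar Q v u + e = 0 := h4.symm.trans (hall _ hvS)
      rw [ha, zero_mul, zero_add] at hc
      rw [hb, zero_mul, zero_add] at he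
      simp [ha, hb, hc, he]
    have hST : S.map (1 + N) ≤ S := by
      rintro _ ⟨x, hx, rfl⟩
      obtain ⟨a, b, c, e, rfl⟩ := hmem x hx
      refine S.add_mem hx ?_
      simp only [map_add, map_smul, H.sq, smul_zero, add_zero]
      exact S.add_mem (S.smul_mem _ hNvS) (S.smul_mem _ hNuS)
    have hdim4 : finrank F S = 4 ∧ finrank F (Submodule.span F ({N v, N u} : Set V)) = 2 := by
      have hl1 : LinearIndependent F ![v, u] := LinearIndependent.pair_iff.2 fun a b hab => by
        obtain ⟨h1, h2, -, -⟩ := hcoef a b 0 0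
        simp [hab, QuadraticMap.polar] at h1 h2
        exact ⟨h1.symm, h2.symm⟩
      have hl2 : LinearIndependent F ![N v, N u] := LinearIndependent.pair_iff.2 fun c e hab => by
        obtain ⟨-, -, h3, h4⟩ := hcoef 0 0 c e
        simp [hab, QuadraticMap.polar] at h3 h4
        exact ⟨h3.symm, h4.symm⟩
      have h1 := finrank_span_eq_card hl1
      have h2 := finrank_span_eq_card hl2
      rw [Fintype.card_fin, Matrix.range_cons_cons_empty] at h1 h2
      have h3 := Submodule.finrank_sup_add_finrank_inf_eq (Submodule.span F ({v, u} : Set V)) (Submodule.span F {N v, N u})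
      have h4 : Submodule.span F ({v, u} : Set V) ⊓ Submodule.span F {N v, N u} = ⊥ := by
        rw [Submodule.eq_bot_iff]
        rintro x ⟨hx, hx'⟩
        obtain ⟨a, b, rfl⟩ := Submodule.mem_span_pair.1 hx
        obtain ⟨c, e, hce⟩ := Submodule.mem_span_pair.1 hx'
        obtain ⟨ha, hb, -, -⟩ := hcoef a b 0 0
        obtain ⟨h5, h6, -, -⟩ := hcoef 0 0 c e
        simp only [zero_smul, add_zero, zero_add, hce] at ha hb h5 h6
        rw [ha.symm.trans h5, hb.symm.trans h6, zero_smul, zero_smul, add_zero]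
      rw [h4, finrank_bot, h1, h2, ← hSdef] at h3
      exact ⟨by omega, h2⟩
    have hSX : S ≤ X := sup_le (Submodule.span_le.2 (by rintro _ (rfl | rfl); exacts [hv, hu]))
      (Submodule.span_le.2 (by rintro _ (rfl | rfl); exacts [H.map_le hXT hv, H.map_le hXT hu]))
    have hSh : Half Q S := half_iff.2 ⟨Submodule.span F {N v, N u}, le_sup_right, fun x hx => by
      obtain ⟨c, e, rfl⟩ := Submodule.mem_span_pair.1 hx
      rw [← map_smul, ← map_smul, ← map_add]
      exact hX0 _ (X.add_mem (X.smul_mem _ hv) (X.smul_mem _ hu)), by omega⟩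
    obtain ⟨Y, hYX, hYT, hY, ho, hs, hdY⟩ := H.split hX hXT hS hST hSX
    obtain ⟨a, k, hn, hk0, hall⟩ := ih (n - 2) (by omega) Y hY hYT (by omega) fun y hy => hX0 y (hYX hy)
    have hXh : Half Q X ↔ Half Q Y := by
      rw [← hs, half_sup hS hY ho ⟨2, by omega⟩ ⟨n - 2, by omega⟩, iff_true_left hSh]
    refine ⟨a + 1, k, by omega, fun h => hXh.2 (hk0 h), fun b w hb hw pl hw0 hwk => ?_⟩
    rcases Nat.eq_zero_or_pos b with rfl | hb0
    · obtain ⟨W, hWY, hWT, hW, hWd, hWh⟩ := hall 0 w (Nat.zero_le _) hw pl hw0 fun h => (hwk h).trans hXh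
      exact ⟨W, hWY.trans hYX, hWT, hW, hWd, hWh⟩
    · obtain ⟨W, hWY, hWT, hW, hWd, hWh⟩ := hall (b - 1) w (by omega) hw pl hw0 fun h => (hwk h).trans hXh
      have hoW : OrthTo (QuadraticMap.polarBilin Q) S W := fun a ha b hb => ho a ha b (hWY hb)
      refine ⟨S ⊔ W, sup_le hSX (hWY.trans hYX), ?_, ndOn_sup (refl_polar Q) hS hW hoW, ?_, ?_⟩
      · rw [Submodule.map_sup]
        exact sup_le_sup hST hWT
      · have h3 := Submodule.finrank_sup_add_finrank_inf_eq S W
        rw [inf_eq_bot hS (hoW.symm (refl_polar Q)), finrank_bot] at h3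
        omega
      · rw [half_sup hS hW hoW ⟨2, by omega⟩ ⟨2 * (b - 1) + w, by omega⟩, iff_true_left hSh, hWh]

section Element

variable {ι : Type} [Fintype ι] [DecidableEq ι] {Q : QuadraticForm F (ι → F)}

/-- An element of order 2 of `Ω` fixes a subspace of given dimension and type outside the exceptional cases. -/
theorem invol_fix (h2 : (2 : F) = 0) (hQ : (QuadraticMap.polarBilin Q).Nondegenerate) {d h : ℕ} (hd : 3 ≤ d)
    (hι : Fintype.card ι = 2 * d) (hh : 1 ≤ h) (hhd : h < d) (pl : Prop)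
    (hcond : (Half Q ⊤ ∧ pl ∧ (Odd d ∨ Even h)) ∨ (¬ Half Q ⊤ ∧ ¬ pl ∧ (Even d ∨ Odd h)))
    {x : GL ι F} (hx : x ∈ Cfsg.Geo.omegaGL ⇑Q) {z : F}
    (hz : ((x ^ 2 : GL ι F) : Matrix ι ι F) = z • (1 : Matrix ι ι F)) :
    ∃ W : Submodule F (ι → F), (finrank F W = 2 * h ∧ NdOn (QuadraticMap.polarBilin Q) W ∧ (Half Q W ↔ pl)) ∧
      W.map (Matrix.toLin' (x : Matrix ι ι F)) ≤ W := by
  classical
  have htop : NdOn (QuadraticMap.polarBilin Q) ⊤ := fun u _ h => hQ.1 u fun v => h v trivial
  have hdim : finrank F (⊤ : Submodule F (ι → F)) = 2 * d := by rw [finrank_top, finrank_pi, hι]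
  obtain ⟨τ, -, hlin, hττ⟩ := read_two hQ (by omega) (Or.inr (by omega)) hx hz
  have hneg : ∀ v : ι → F, -v = v := fun v => by
    rw [eq_comm, ← sub_eq_zero, sub_neg_eq_add, ← two_smul F v, h2, zero_smul]
  have hinvol : ∀ v, τ.1 (τ.1 v) = v := hττ.elim id fun h v => (h v).trans (hneg v)
  obtain ⟨N, hN⟩ : ∃ N : Module.End F (ι → F), Matrix.toLin' (x : Matrix ι ι F) = 1 + N := ⟨_, (add_sub_cancel _ _).symm⟩
  have hNv : ∀ v, N v = τ.1 v + v := fun v => by
    have h1 := LinearMap.congr_fun (hlin.symm.trans hN) v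
    rw [LinearMap.add_apply, Module.End.one_apply, LinearEquiv.coe_toLinearMap] at h1
    rw [h1, add_right_comm, ← two_smul F v, h2, zero_smul, zero_add]
  have H : InvData Q N := ⟨h2, fun v => by
      rw [hNv, hNv, map_add, hinvol, add_comm v, ← two_smul F (τ.1 v + v), h2, zero_smul],
    fun v => by
      have h1 := LinearMap.congr_fun (hlin.symm.trans hN) v
      rw [LinearMap.add_apply, Module.End.one_apply, LinearEquiv.coe_toLinearMap] at h1
      rw [← h1]
      exact τ.2 v⟩
  rw [hN]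
  by_cases hc : ∃ v ∈ (⊤ : Submodule F (ι → F)), Q (N v) ≠ 0
  · obtain ⟨W, -, hWT, hW, hWd, hWh⟩ := H.c_sub d ⊤ htop le_top hdim hc h hh hhd pl
    exact ⟨W, ⟨hWd, hW, hWh⟩, hWT⟩
  push Not at hc
  obtain ⟨a, k, hdk, hk0, hall⟩ := H.a_sub d ⊤ htop le_top hdim hc
  simp only [Nat.even_iff, Nat.odd_iff] at hcond
  obtain ⟨b, w, hbw, hb, hw, hw0, hwk⟩ : ∃ b w, 2 * b + w = h ∧ b ≤ a ∧ w ≤ k ∧ (w = 0 → pl) ∧
      (w = k → (pl ↔ Half Q ⊤)) := by
    rcases hcond with ⟨hH, hpl, hc'⟩ | ⟨hH, hpl, hc'⟩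
    · exact ⟨min a (h / 2), h - 2 * min a (h / 2), by omega, min_le_left _ _, by omega, fun _ => hpl,
        fun _ => iff_of_true hpl hH⟩
    · have hk : 1 ≤ k := Nat.pos_of_ne_zero fun h0 => hH (hk0 h0)
      exact ⟨min a ((h - 1) / 2), h - 2 * min a ((h - 1) / 2), by omega, min_le_left _ _, by omega,
        fun h0 => by omega, fun _ => iff_of_false hpl hH⟩
  obtain ⟨W, -, hWT, hW, hWd, hWh⟩ := hall b w hb hw pl hw0 hwk
  exact ⟨W, ⟨hWd.trans (by rw [hbw]), hW, hWh⟩, hWT⟩

end Element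

end Cfsg.Agent.Elusive.OrthNd
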