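import Cfsg.Agent.Lib.Elusive.OrthogonalNdTrans
import Cfsg.Agent.Lib.TransvMax.JordanRows

/-!
A Jordan partition of `2d`, `d` odd, without a sub-partition of a given odd size.
-/

set_option autoImplicit false

namespace Cfsg.Agent.Elusive.OrthNd

open Module FormIso

variable {F : Type*} [Field F] [Fintype F] {p : ℕ} [Fact p.Prime] [CharP F p]

/-- For odd `d` some element of order `p` fixes no non-degenerate subspace of a given odd dimension. -/
theorem jordan_bad {κ : Type} [Fintype κ] [DecidableEq κ] (hp2 : p ≠ 2) {Q : QuadraticForm F (κ → F)}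
    (S : QMax.QSetting Q) {d m : ℕ} (hd : 4 ≤ d) (hdo : Odd d) (hmo : Odd m)
    (hmodel : ∀ μ : Multiset ℕ, (∀ e ∈ μ, e ≤ p) → (∀ e, Even e → Even (μ.count e)) → (∃ e ∈ μ, Odd e) →
      μ.sum = 2 * d →
      ∃ l, JordanOrth.BlockConst l ∧ ∃ L : (JordanOrth.Idx p μ → F) ≃ₗ[F] (κ → F), ∀ v, Q (L v) = JordanOrth.model l v)
    {C : Submodule F (κ → F) → Prop}
    (hC : ∀ W, C W → finrank F W = m ∧ Cfsg.Geo.IsNondegenerateOn (QuadraticMap.polar ⇑Q) W)
    (hall : ∀ x : GL κ F, x ∈ Cfsg.Geo.omegaGL ⇑Q →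
      (∃ z : F, ((x ^ p : GL κ F) : Matrix κ κ F) = z • (1 : Matrix κ κ F)) →
      (∀ z : F, (x : Matrix κ κ F) ≠ z • (1 : Matrix κ κ F)) →
      ∃ W : Submodule F (κ → F), C W ∧ W.map (Matrix.toLin' (x : Matrix κ κ F)) ≤ W) : False := by
  classical
  have hp := (Fact.out : p.Prime)
  have hp3 : 3 ≤ p := by have := hp.two_le; omega
  rw [Nat.odd_iff] at hdo hmo
  obtain ⟨k, hk, hkd, hkm⟩ : ∃ k, (k = 1 ∨ k = 3) ∧ k % 2 = 1 ∧ m % 4 ≠ k % 4 := by
    by_cases h : m % 4 = 3
    · exact ⟨1, Or.inl rfl, rfl, by omega⟩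
    · exact ⟨3, Or.inr rfl, rfl, by omega⟩
  have hk2 : k ≠ 2 := by omega
  set μ := Multiset.replicate 2 k + Multiset.replicate (d - k) 2 with hμdef
  have hmem : ∀ e ∈ μ, e = k ∨ e = 2 := fun e he => by
    rcases Multiset.mem_add.1 he with h | h
    · exact Or.inl (Multiset.eq_of_mem_replicate h)
    · exact Or.inr (Multiset.eq_of_mem_replicate h)
  have hsum : μ.sum = 2 * d := by
    rw [hμdef, Multiset.sum_add, Multiset.sum_replicate, Multiset.sum_replicate]
    simp only [smul_eq_mul]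
    omega
  have hev : ∀ e, Even e → Even (μ.count e) := fun e he => by
    rw [Nat.even_iff] at he ⊢
    rw [hμdef, Multiset.count_add, Multiset.count_replicate, Multiset.count_replicate]
    split_ifs <;> omega
  have hkmem : k ∈ μ := Multiset.mem_add.2 (Or.inl (Multiset.mem_replicate.2 ⟨two_ne_zero, rfl⟩))
  obtain ⟨l, hl, L, hL⟩ := hmodel μ (fun e he => by rcases hmem e he with rfl | rfl <;> omega) hev
    ⟨k, hkmem, Nat.odd_iff.2 hkd⟩ hsum
  have hallP : JordanOrth.AllFixP p ⇑Q C := fun x hx hxp _ hxn =>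
    hall x hx ⟨1, by rw [hxp, Units.val_one, one_smul]⟩ hxn
  obtain ⟨W, ν, -, hνμ, hνs, hνe, -⟩ := JordanOrth.split_of_allFix hp2 S C hC hallP
    (fun e he => by rcases hmem e he with rfl | rfl <;> omega) ⟨2, by
      refine Multiset.mem_add.2 (Or.inr (Multiset.mem_replicate.2 ⟨?_, rfl⟩))
      omega, le_rfl⟩ hl L
    (JordanOrth.polar_of_equiv hl hev L (a := 1) fun v => by rw [hL, one_mul])
  have hν : ν = Multiset.replicate (ν.count k) k + Multiset.replicate (ν.count 2) 2 := by
    ext e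
    rw [Multiset.count_add, Multiset.count_replicate, Multiset.count_replicate]
    by_cases h1 : k = e
    · subst h1
      rw [if_pos rfl, if_neg (Ne.symm hk2), add_zero]
    · by_cases h2 : 2 = e
      · subst h2
        rw [if_neg h1, if_pos rfl, zero_add]
      · rw [if_neg h1, if_neg h2, Multiset.count_eq_zero]
        intro he
        rcases hmem e (Multiset.mem_of_le hνμ he) with h | h <;> omega
  have hcnt : ν.count k ≤ 2 := by
    refine (Multiset.count_le_of_le k hνμ).trans ?_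
    rw [hμdef, Multiset.count_add, Multiset.count_replicate, Multiset.count_replicate, if_pos rfl,
      if_neg (Ne.symm hk2)]
  obtain ⟨t, ht⟩ := hνe 2 even_two
  rw [hν, Multiset.sum_add, Multiset.sum_replicate, Multiset.sum_replicate] at hνs
  simp only [smul_eq_mul] at hνs
  rcases hk with rfl | rfl <;> omega

end Cfsg.Agent.Elusive.OrthNd
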