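import Cfsg.Agent.Lib.Elusive.OrthogonalNdInv
import Cfsg.Agent.Lib.Elusive.OrthogonalNdArith
import Cfsg.Agent.Lib.Elusive.SymplecticClassWitness

/-!
Elements of odd order and invariant non-degenerate subspaces.
-/

set_option autoImplicit false
set_option linter.style.haveILetI false

namespace Cfsg.Agent.Elusive.OrthNd

open Module FormIso OrthIso OrthType OrthClasses

variable {F : Type*} [Field F] [Fintype F] {ι : Type} [Fintype ι] [DecidableEq ι] {Q : QuadraticForm F (ι → F)}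
  {r : ℕ} [Fact r.Prime]

omit [Fact r.Prime] in
/-- Removing the scalar from an element whose `r`-th power is scalar. -/
theorem normalise (hQ : (QuadraticMap.polarBilin Q).Nondegenerate) (hι : 1 ≤ Fintype.card ι)
    (hexc : Fintype.card F ≠ 2 ∨ Fintype.card ι ≠ 4) (hodd : Odd r) {x : GL ι F}
    (hx : x ∈ Cfsg.Geo.omegaGL ⇑Q) {z : F}
    (hz : ((x ^ r : GL ι F) : Matrix ι ι F) = z • (1 : Matrix ι ι F)) :
    ∃ T : Module.End F (ι → F), (∀ v, Q (T v) = Q v) ∧ T ^ r = 1 ∧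
      (∀ W : Submodule F (ι → F), W.map T ≤ W → W.map (Matrix.toLin' (x : Matrix ι ι F)) ≤ W) ∧
      ((∀ c : F, (x : Matrix ι ι F) ≠ c • 1) → T ≠ 1) := by
  obtain ⟨g, hg, rfl⟩ := hx
  obtain ⟨τ, hτ⟩ : ∃ τ, FormsLib.oEquiv Q g = τ := ⟨_, rfl⟩
  have hlin : Matrix.toLin' ((Subgroup.subtype _ g : GL ι F) : Matrix ι ι F) = τ.1.toLinearMap := hτ ▸ rfl
  have hpow : (τ.1.toLinearMap : Module.End F (ι → F)) ^ r = z • 1 := by
    rw [← hlin, ← Matrix.toLin'_pow, ← Units.val_pow_eq_pow_val, hz, map_smul, Matrix.toLin'_one]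
    rfl
  haveI : Nonempty ι := Fintype.card_pos_iff.1 hι
  obtain ⟨v, hv⟩ := Spinor.exists_nonsingular' (Q := Q) hQ
  have hT : ∀ (k : ℕ) w, Q (((τ.1.toLinearMap : Module.End F (ι → F)) ^ k) w) = Q w := by
    intro k
    induction k with
    | zero => exact fun w => rfl
    | succ k ih => exact fun w => by rw [pow_succ', Module.End.mul_apply]; exact (τ.2 _).trans (ih w)
  have hz2 : z * z = 1 := by
    have := hT r v
    rw [hpow, LinearMap.smul_apply, Module.End.one_apply, QuadraticMap.map_smul, smul_eq_mul] at this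
    exact mul_right_cancel₀ hv (this.trans (one_mul _).symm)
  refine ⟨z • τ.1.toLinearMap, fun w => ?_, ?_, fun W hW => ?_, fun hns h => ?_⟩
  · rw [LinearMap.smul_apply, QuadraticMap.map_smul, hz2, one_smul]
    exact τ.2 w
  · obtain ⟨l, hl⟩ := hodd
    rw [smul_pow, hpow, smul_smul, ← pow_succ, hl, show 2 * l + 1 + 1 = 2 * (l + 1) by ring, pow_mul, pow_two, hz2,
      one_pow, one_smul]
  · rintro _ ⟨w, hw, rfl⟩
    have h3 := W.smul_mem z (hW ⟨w, hw, rfl⟩)
    rwa [LinearMap.smul_apply, smul_smul, hz2, one_smul, ← hlin] at h3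
  · refine hns z (Matrix.toLin'.injective ?_)
    rw [hlin, map_smul, Matrix.toLin'_one]
    have h1 := congrArg (fun f => z • f) h
    simp only [smul_smul, hz2, one_smul] at h1
    rw [h1]
    rfl

variable {p : ℕ} [Fact p.Prime] [CharP F p] {c : ℕ}

include p

/-- Elements of order `r` with any number of moved blocks. -/
theorem witness (hQ : (QuadraticMap.polarBilin Q).Nondegenerate) {d : ℕ} (hd : 3 ≤ d) (hι : Fintype.card ι = 2 * d)
    (hr2 : r ≠ 2) (hrp : r ≠ p)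
    (hc : c = if Even (orderOf (Fintype.card F : ZMod r)) then orderOf (Fintype.card F : ZMod r)
      else 2 * orderOf (Fintype.card F : ZMod r))
    {u : ℕ} (hu : 1 ≤ u) (hud : c * u ≤ 2 * d)
    (htype : c * u = 2 * d → (Half Q ⊤ ↔ Plus (orderOf (Fintype.card F : ZMod r)) u)) :
    ∃ x : GL ι F, x ∈ Cfsg.Geo.omegaGL ⇑Q ∧
      ((x ^ r : GL ι F) : Matrix ι ι F) = (1 : F) • (1 : Matrix ι ι F) ∧
      (∀ z : F, (x : Matrix ι ι F) ≠ z • 1) ∧
      (∀ v, Q (Matrix.toLin' (x : Matrix ι ι F) v) = Q v) ∧ (Matrix.toLin' (x : Matrix ι ι F)) ^ r = 1 ∧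
      finrank F (fixedSpace (Matrix.toLin' (x : Matrix ι ι F))) + c * u = finrank F (ι → F) := by
  have hr := (Fact.out : r.Prime)
  have hrF : (r : F) ≠ 0 := Elusive.natCast_prime_ne_zero (p := p) hrp
  have hrq : (Fintype.card F : ZMod r) ≠ 0 := Elusive.card_cast_ne_zero (F := F) (p := p) hrp
  obtain ⟨hc0, hce⟩ := c_pos hrq hc
  obtain ⟨h, hh⟩ := hce
  have h2u : 2 * (u * h) = c * u := by rw [hh]; ring
  obtain ⟨y, hyr, hfix⟩ := SpWitness.exists_element (F := F) (p := p) hr2 hrp hc (m := u * h) (j := u)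
    (by rw [mul_comm u c]; omega)
  rw [mul_comm u c, h2u, Nat.sub_self, Submodule.finrank_eq_zero] at hfix
  set T₁ := Matrix.toLin' (y : Matrix (Fin (u * h) ⊕ Fin (u * h)) (Fin (u * h) ⊕ Fin (u * h)) F)
  have hT₁r : T₁ ^ r = 1 := by
    show (Matrix.toLin' (y : Matrix (Fin (u * h) ⊕ Fin (u * h)) (Fin (u * h) ⊕ Fin (u * h)) F)) ^ r = 1
    rw [← Matrix.toLin'_pow, hyr, Matrix.toLin'_one]
    rfl
  have hfree : ∀ v, T₁ v = v → v = 0 := fun v hv => by
    have : v ∈ fixedSpace T₁ := mem_fixedSpace.2 hv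
    rwa [hfix, Submodule.mem_bot] at this
  obtain ⟨g, hg, hgo, hgf, hgQ, -⟩ := OrthEvenWitness.exists_element (p := p) hQ (d := d) (d' := u * h) hd hι
    (Nat.mul_pos hu (by omega)) (by omega) hr2 hrF hrq hc h2u (fun e => htype (by omega)) T₁
    ((FormsLib.mem_symplectic_iff _).1 y.2) hT₁r hfree
  have hgr : (Matrix.toLin' (g : Matrix ι ι F)) ^ r = 1 := by
    rw [← Matrix.toLin'_pow, ← Units.val_pow_eq_pow_val, ← hgo, pow_orderOf_eq_one, Units.val_one, Matrix.toLin'_one]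
    rfl
  refine ⟨g, hg, by rw [← hgo, pow_orderOf_eq_one, Units.val_one, one_smul], fun z hz => ?_, hgQ, hgr, ?_⟩
  · haveI : Nonempty ι := Fintype.card_pos_iff.1 (by omega)
    obtain ⟨v, hv⟩ := Spinor.exists_nonsingular' (Q := Q) hQ
    have hgv : ∀ w, Matrix.toLin' (g : Matrix ι ι F) w = z • w := fun w => by
      rw [hz, map_smul, Matrix.toLin'_one]
      rfl
    have hz2 : z * z = 1 := by
      have h1 := hgQ v
      rw [hgv, QuadraticMap.map_smul, smul_eq_mul] at h1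
      exact mul_right_cancel₀ hv (h1.trans (one_mul _).symm)
    have hzr : z ^ r = 1 := by
      have hpow : ∀ j : ℕ, ((Matrix.toLin' (g : Matrix ι ι F)) ^ j) v = z ^ j • v := by
        intro j
        induction j with
        | zero => simp
        | succ j ih => rw [pow_succ', Module.End.mul_apply, ih, map_smul, hgv, smul_smul, ← pow_succ]
      have h1 := hpow r
      rw [hgr, Module.End.one_apply] at h1
      have hv0 : v ≠ 0 := fun h => hv (by rw [h, QuadraticMap.map_zero])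
      exact smul_left_injective F hv0 (show z ^ r • v = (1 : F) • v by rw [← h1, one_smul])
    obtain ⟨l, hl⟩ := hr.odd_of_ne_two hr2
    rw [hl, pow_succ, pow_mul, pow_two, hz2, one_pow, one_mul] at hzr
    have htop : fixedSpace (Matrix.toLin' (g : Matrix ι ι F)) = ⊤ :=
      eq_top_iff.2 fun w _ => mem_fixedSpace.2 (by rw [hgv, hzr, one_smul])
    rw [htop, finrank_top, finrank_pi, hι] at hgf
    have : 0 < u * h := Nat.mul_pos hu (by omega)
    omega
  · rw [hgf, finrank_pi, hι]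
    omega

/-- An element whose fixed space is as small as possible. -/
theorem exists_big (hQ : (QuadraticMap.polarBilin Q).Nondegenerate) {d : ℕ} (hd : 3 ≤ d) (hι : Fintype.card ι = 2 * d)
    (hr2 : r ≠ 2) (hrp : r ≠ p)
    (hc : c = if Even (orderOf (Fintype.card F : ZMod r)) then orderOf (Fintype.card F : ZMod r)
      else 2 * orderOf (Fintype.card F : ZMod r))
    (hk : 0 < (2 * d) % c) :
    ∃ T : Module.End F (ι → F), (∀ v, Q (T v) = Q v) ∧ T ^ r = 1 ∧
      finrank F (fixedSpace T) + c * ((2 * d) / c) = finrank F (ι → F) ∧ finrank F (fixedSpace T) = (2 * d) % c := by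
  have hdim : finrank F (ι → F) = 2 * d := by rw [finrank_pi, hι]
  have hn := Nat.div_add_mod (2 * d) c
  rcases Nat.eq_zero_or_pos ((2 * d) / c) with h0 | h0
  · have htop : fixedSpace (1 : Module.End F (ι → F)) = ⊤ := eq_top_iff.2 fun w _ => mem_fixedSpace.2 rfl
    refine ⟨1, fun v => rfl, one_pow r, ?_, ?_⟩ <;> rw [htop, finrank_top, hdim]
    · rw [h0, mul_zero, add_zero]
    · rw [h0, mul_zero, zero_add] at hn
      exact hn.symm
  · obtain ⟨x, -, -, -, hxQ, hxr, hxf⟩ := witness (p := p) hQ hd hι hr2 hrp hc (u := (2 * d) / c) h0 (by omega)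
      fun e => by omega
    exact ⟨_, hxQ, hxr, hxf, by omega⟩

/-- The criterion for even dimension of the subspace. -/
theorem even_iff_cond (hQ : (QuadraticMap.polarBilin Q).Nondegenerate) {d m : ℕ} (hd : 3 ≤ d)
    (hι : Fintype.card ι = 2 * d) (hm : 0 < m) (hme : Even m) (hmn : m < 2 * d) (pl : Prop)
    (hr2 : r ≠ 2) (hrp : r ≠ p)
    (hc : c = if Even (orderOf (Fintype.card F : ZMod r)) then orderOf (Fintype.card F : ZMod r)
      else 2 * orderOf (Fintype.card F : ZMod r))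
    (hΩ : r ∣ Nat.card {W : Submodule F (ι → F) //
      finrank F W = m ∧ NdOn (QuadraticMap.polarBilin Q) W ∧ (Half Q W ↔ pl)}) :
    (∀ x : GL ι F, x ∈ Cfsg.Geo.omegaGL ⇑Q →
      (∃ z : F, ((x ^ r : GL ι F) : Matrix ι ι F) = z • (1 : Matrix ι ι F)) →
      (∀ z : F, (x : Matrix ι ι F) ≠ z • (1 : Matrix ι ι F)) →
      ∃ W : Submodule F (ι → F), (finrank F W = m ∧ NdOn (QuadraticMap.polarBilin Q) W ∧ (Half Q W ↔ pl)) ∧
        W.map (Matrix.toLin' (x : Matrix ι ι F)) ≤ W) ↔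
    (((2 * d) % c = 0 ∧ ¬ (Half Q ⊤ ↔ Plus (orderOf (Fintype.card F : ZMod r)) ((2 * d) / c))) ∨
      (c ≤ m ∧ ((0 < m % c ∧ m % c < (2 * d) % c) ∨
        (m % c = 0 ∧ (pl ↔ Plus (orderOf (Fintype.card F : ZMod r)) (m / c))) ∨
        (m % c = (2 * d) % c ∧ 0 < (2 * d) % c ∧
          (pl ↔ (Half Q ⊤ ↔ Plus (orderOf (Fintype.card F : ZMod r)) ((2 * d) / c - m / c))))))) := by
  classical
  have hr := (Fact.out : r.Prime)
  have hrF : (r : F) ≠ 0 := Elusive.natCast_prime_ne_zero (p := p) hrp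
  have hrq : (Fintype.card F : ZMod r) ≠ 0 := Elusive.card_cast_ne_zero (F := F) (p := p) hrp
  obtain ⟨hc0, hce⟩ := c_pos hrq hc
  have htop : NdOn (QuadraticMap.polarBilin Q) ⊤ := fun u _ h => hQ.1 u fun v => h v trivial
  have hdim : finrank F (ι → F) = 2 * d := by rw [finrank_pi, hι]
  have hexc : Fintype.card F ≠ 2 ∨ Fintype.card ι ≠ 4 := Or.inr (by omega)
  have harith := OrthNdArith.arith_even hc0 hm hmn (Half Q ⊤) pl (Plus (orderOf (Fintype.card F : ZMod r)))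
    fun v u h => plus_add h
  -- the count rules out small `m`
  have hsmall : m < c → (m % c < (2 * d) % c ∨ (m % c = (2 * d) % c ∧ 0 < (2 * d) % c ∧
      (pl ↔ (Half Q ⊤ ↔ Plus (orderOf (Fintype.card F : ZMod r)) ((2 * d) / c - m / c))))) → False := by
    intro hmc hcase
    rw [Nat.mod_eq_of_lt hmc, Nat.div_eq_of_lt hmc, Nat.sub_zero] at hcase
    have hk : 0 < (2 * d) % c := by omega
    obtain ⟨T, hTQ, hTr, hTu, hTf⟩ := exists_big (p := p) hQ hd hι hr2 hrp hc hk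
    have hn := Nat.div_add_mod (2 * d) c
    obtain ⟨W₁, hW₁, hW₁T, hW₁d, hW₁pl⟩ := assemble_even (p := p) hTQ hr2 hrF hrq hTr htop hc hTu
      (hdim ▸ even_two_mul d) hme pl (Nat.zero_le _) (by omega) (by omega) (fun e => by omega) (fun e => by
        rcases hcase with h | ⟨-, -, h⟩
        · omega
        · rw [Nat.sub_zero]
          by_cases a : pl <;> by_cases b : Half Q ⊤ <;>
            by_cases e' : Plus (orderOf (Fintype.card F : ZMod r)) ((2 * d) / c) <;> simp [a, b, e'] at h ⊢)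
    obtain ⟨v, -, hcv, -, hfix, -, -⟩ := read (p := p) hTQ hr2 hrF hrq hTr htop hc hTu hW₁ hW₁T
    have hv0 : v = 0 := by
      by_contra h
      have := Nat.le_mul_of_pos_right c (Nat.pos_of_ne_zero h)
      omega
    rw [hv0, mul_zero, add_zero] at hfix
    refine not_dvd_card (p := p) hTQ hr2 hrF hrq hTr htop hc (by rw [hTf]; exact Nat.mod_lt _ hc0) hW₁
      (inf_eq_left.1 (Submodule.eq_of_le_of_finrank_eq inf_le_left hfix)) ?_
    obtain ⟨j, hj⟩ := hme
    refine hΩ.trans (dvd_of_eq (Nat.card_congr (Equiv.subtypeEquivRight fun W => ⟨fun h => ?_, fun h => ?_⟩)))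
    · exact iso_of_type h.2.1 hW₁ (k := j) (by omega) (by omega) (h.2.2.trans hW₁pl.symm)
    · exact ⟨h.finrank_eq'.trans hW₁d, h.ndOn hW₁, h.half_iff'.trans hW₁pl⟩
  have hiff : (∀ x : GL ι F, x ∈ Cfsg.Geo.omegaGL ⇑Q →
      (∃ z : F, ((x ^ r : GL ι F) : Matrix ι ι F) = z • (1 : Matrix ι ι F)) →
      (∀ z : F, (x : Matrix ι ι F) ≠ z • (1 : Matrix ι ι F)) →
      ∃ W : Submodule F (ι → F), (finrank F W = m ∧ NdOn (QuadraticMap.polarBilin Q) W ∧ (Half Q W ↔ pl)) ∧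
        W.map (Matrix.toLin' (x : Matrix ι ι F)) ≤ W) ↔
    (∀ u, 1 ≤ u → c * u ≤ 2 * d → (c * u = 2 * d → (Half Q ⊤ ↔ Plus (orderOf (Fintype.card F : ZMod r)) u)) →
      ∃ v, v ≤ u ∧ c * v ≤ m ∧ m + c * u ≤ 2 * d + c * v ∧
        (c * v = m → (pl ↔ Plus (orderOf (Fintype.card F : ZMod r)) v)) ∧
        (m + c * u = 2 * d + c * v →
          (Half Q ⊤ ↔ (pl ↔ Plus (orderOf (Fintype.card F : ZMod r)) (u - v))))) := by
    constructor
    · intro hall u hu hud hut
      obtain ⟨x, hx, hxr, hxn, hxQ, hxT, hxf⟩ := witness (p := p) hQ hd hι hr2 hrp hc hu hud hut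
      obtain ⟨W, ⟨hWd, hW, hWpl⟩, hWT⟩ := hall x hx ⟨1, hxr⟩ hxn
      obtain ⟨v, hv, hcv, hle, -, h1, h2⟩ := read (p := p) hxQ hr2 hrF hrq hxT htop hc hxf hW hWT
      rw [hWd, hdim] at *
      exact ⟨v, hv, hcv, hle, fun e => hWpl.symm.trans (h1 hme e), fun e => by
        rw [← hWpl]; exact h2 hme (even_two_mul d) e⟩
    · intro H x hx ⟨z, hz⟩ hns
      obtain ⟨T, hTQ, hTr, hTW, hT1⟩ := normalise hQ (by omega) hexc (hr.odd_of_ne_two hr2) hx hz
      obtain ⟨M, u, -, -, -, -, hM, -, hsup, hMd, hfd, hMpl⟩ :=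
        parts (p := p) hTQ hr2 hrF hrq hTr htop hc htop le_top
      rw [top_inf_eq] at hsup hfd
      rw [finrank_top] at hfd
      have hu : 1 ≤ u := by
        by_contra h0
        rw [show u = 0 by omega, mul_zero, Submodule.finrank_eq_zero] at hMd
        rw [hMd, sup_bot_eq] at hsup
        exact hT1 hns (LinearMap.ext fun w => mem_fixedSpace.1 (hsup ▸ Submodule.mem_top : w ∈ fixedSpace T))
      obtain ⟨v, hv, hcv, hle, h1, h2⟩ := H u hu (by omega) fun e => by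
        rw [show fixedSpace T = ⊥ from Submodule.finrank_eq_zero.1 (by omega), bot_sup_eq] at hsup
        rwa [hsup] at hMpl
      obtain ⟨W, hW, hWT, hWd, hWpl⟩ := assemble_even (p := p) hTQ hr2 hrF hrq hTr htop hc hfd (hdim ▸ even_two_mul d)
        hme pl hv hcv (by rw [hdim]; exact hle) h1 (by rw [hdim]; exact h2)
      exact ⟨W, ⟨hWd, hW, hWpl⟩, hTW W hWT⟩
  rw [hiff, harith]
  refine or_congr_right ⟨fun h => ⟨?_, h⟩, fun h => h.2⟩
  by_contra hmc
  rcases h with h | ⟨h, -⟩ | h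
  · exact hsmall (by omega) (Or.inl h.2)
  · rw [Nat.mod_eq_of_lt (by omega)] at h
    omega
  · exact hsmall (by omega) (Or.inr h)

/-- The criterion for odd dimension of the subspace. -/
theorem odd_iff_cond (h20 : (2 : F) ≠ 0) (hQ : (QuadraticMap.polarBilin Q).Nondegenerate) {d m : ℕ} (hd : 3 ≤ d)
    (hι : Fintype.card ι = 2 * d) (hmo : Odd m) (hmn : m < 2 * d) {W₀ : Submodule F (ι → F)}
    (hW₀ : NdOn (QuadraticMap.polarBilin Q) W₀) (hW₀d : finrank F W₀ = m)
    (hr2 : r ≠ 2) (hrp : r ≠ p)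
    (hc : c = if Even (orderOf (Fintype.card F : ZMod r)) then orderOf (Fintype.card F : ZMod r)
      else 2 * orderOf (Fintype.card F : ZMod r))
    (hΩ : r ∣ Nat.card {W : Submodule F (ι → F) // Iso Q W W₀}) :
    (∀ x : GL ι F, x ∈ Cfsg.Geo.omegaGL ⇑Q →
      (∃ z : F, ((x ^ r : GL ι F) : Matrix ι ι F) = z • (1 : Matrix ι ι F)) →
      (∀ z : F, (x : Matrix ι ι F) ≠ z • (1 : Matrix ι ι F)) →
      ∃ W : Submodule F (ι → F), Iso Q W W₀ ∧ W.map (Matrix.toLin' (x : Matrix ι ι F)) ≤ W) ↔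
    (((2 * d) % c = 0 ∧ ¬ (Half Q ⊤ ↔ Plus (orderOf (Fintype.card F : ZMod r)) ((2 * d) / c))) ∨
      (c ≤ m ∧ 0 < m % c ∧ m % c < (2 * d) % c)) := by
  classical
  have hr := (Fact.out : r.Prime)
  have hrF : (r : F) ≠ 0 := Elusive.natCast_prime_ne_zero (p := p) hrp
  have hrq : (Fintype.card F : ZMod r) ≠ 0 := Elusive.card_cast_ne_zero (F := F) (p := p) hrp
  obtain ⟨hc0, hce⟩ := c_pos hrq hc
  have htop : NdOn (QuadraticMap.polarBilin Q) ⊤ := fun u _ h => hQ.1 u fun v => h v trivial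
  have hdim : finrank F (ι → F) = 2 * d := by rw [finrank_pi, hι]
  have hexc : Fintype.card F ≠ 2 ∨ Fintype.card ι ≠ 4 := Or.inr (by omega)
  have hpos : 0 < m % c := by
    obtain ⟨h, hh⟩ := hce
    have h1 : m % c % 2 = m % 2 := Nat.mod_mod_of_dvd _ ⟨h, by omega⟩
    rw [Nat.odd_iff] at hmo
    omega
  have hsmall : m < c → m % c < (2 * d) % c → False := by
    intro hmc hcase
    rw [Nat.mod_eq_of_lt hmc] at hcase
    obtain ⟨T, hTQ, hTr, hTu, hTf⟩ := exists_big (p := p) hQ hd hι hr2 hrp hc (by omega)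
    have hn := Nat.div_add_mod (2 * d) c
    obtain ⟨W₁, hW₁T, hW₁i⟩ := assemble_odd (p := p) h20 hTQ hr2 hrF hrq hTr htop hc hTu
      (hdim ▸ even_two_mul d) hW₀ (hW₀d ▸ hmo) (Nat.zero_le _) (by omega) (by omega)
    obtain ⟨v, -, hcv, -, hfix, -, -⟩ := read (p := p) hTQ hr2 hrF hrq hTr htop hc hTu (hW₁i.ndOn hW₀) hW₁T
    rw [hW₁i.finrank_eq', hW₀d] at hcv
    have hv0 : v = 0 := by
      by_contra h
      have := Nat.le_mul_of_pos_right c (Nat.pos_of_ne_zero h)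
      omega
    rw [hv0, mul_zero, add_zero] at hfix
    refine not_dvd_card (p := p) hTQ hr2 hrF hrq hTr htop hc (by rw [hTf]; exact Nat.mod_lt _ hc0) (hW₁i.ndOn hW₀)
      (inf_eq_left.1 (Submodule.eq_of_le_of_finrank_eq inf_le_left hfix)) ?_
    exact hΩ.trans (dvd_of_eq (Nat.card_congr (Equiv.subtypeEquivRight fun W =>
      ⟨fun h => h.trans' hW₁i.symm', fun h => h.trans' hW₁i⟩)))
  have harith := OrthNdArith.arith_odd hc0 hce (even_two_mul d) hmo hmn (Half Q ⊤)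
    (Plus (orderOf (Fintype.card F : ZMod r)))
  have hiff : (∀ x : GL ι F, x ∈ Cfsg.Geo.omegaGL ⇑Q →
      (∃ z : F, ((x ^ r : GL ι F) : Matrix ι ι F) = z • (1 : Matrix ι ι F)) →
      (∀ z : F, (x : Matrix ι ι F) ≠ z • (1 : Matrix ι ι F)) →
      ∃ W : Submodule F (ι → F), Iso Q W W₀ ∧ W.map (Matrix.toLin' (x : Matrix ι ι F)) ≤ W) ↔
    (∀ u, 1 ≤ u → c * u ≤ 2 * d → (c * u = 2 * d → (Half Q ⊤ ↔ Plus (orderOf (Fintype.card F : ZMod r)) u)) →
      ∃ v, v ≤ u ∧ c * v ≤ m ∧ m + c * u ≤ 2 * d + c * v) := by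
    constructor
    · intro hall u hu hud hut
      obtain ⟨x, hx, hxr, hxn, hxQ, hxT, hxf⟩ := witness (p := p) hQ hd hι hr2 hrp hc hu hud hut
      obtain ⟨W, hW, hWT⟩ := hall x hx ⟨1, hxr⟩ hxn
      obtain ⟨v, hv, hcv, hle, -, -, -⟩ := read (p := p) hxQ hr2 hrF hrq hxT htop hc hxf (hW.ndOn hW₀) hWT
      rw [hW.finrank_eq', hW₀d] at hcv hle
      rw [hdim] at hle
      exact ⟨v, hv, hcv, hle⟩
    · intro H x hx ⟨z, hz⟩ hns
      obtain ⟨T, hTQ, hTr, hTW, hT1⟩ := normalise hQ (by omega) hexc (hr.odd_of_ne_two hr2) hx hz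
      obtain ⟨M, u, -, -, -, -, hM, -, hsup, hMd, hfd, hMpl⟩ :=
        parts (p := p) hTQ hr2 hrF hrq hTr htop hc htop le_top
      rw [top_inf_eq] at hsup hfd
      rw [finrank_top] at hfd
      have hu : 1 ≤ u := by
        by_contra h0
        rw [show u = 0 by omega, mul_zero, Submodule.finrank_eq_zero] at hMd
        rw [hMd, sup_bot_eq] at hsup
        exact hT1 hns (LinearMap.ext fun w => mem_fixedSpace.1 (hsup ▸ Submodule.mem_top : w ∈ fixedSpace T))
      obtain ⟨v, hv, hcv, hle⟩ := H u hu (by omega) fun e => by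
        rw [show fixedSpace T = ⊥ from Submodule.finrank_eq_zero.1 (by omega), bot_sup_eq] at hsup
        rwa [hsup] at hMpl
      obtain ⟨W, hWT, hW⟩ := assemble_odd (p := p) h20 hTQ hr2 hrF hrq hTr htop hc hfd (hdim ▸ even_two_mul d)
        hW₀ (hW₀d ▸ hmo) hv (hW₀d ▸ hcv) (by rw [hdim, hW₀d]; exact hle)
      exact ⟨W, hW, hTW W hWT⟩
  rw [hiff, harith]
  refine or_congr_right ⟨fun h => ⟨?_, hpos, h⟩, fun h => h.2.2⟩
  by_contra hmc
  exact hsmall (by omega) h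

end Cfsg.Agent.Elusive.OrthNd
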