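import Cfsg.Agent.Lib.Elusive.OrthogonalNdSub

/-!
Translations between the geometric predicates and those used for invariant subspaces.
-/

set_option autoImplicit false

namespace Cfsg.Agent.Elusive.OrthNd

open Module FormIso OrthIso OrthType

variable {F : Type*} [Field F] {ι : Type} [Fintype ι] {Q : QuadraticForm F (ι → F)} {W : Submodule F (ι → F)}

theorem ndOn_iff :
    Cfsg.Geo.IsNondegenerateOn (QuadraticMap.polar ⇑Q) W ↔ NdOn (QuadraticMap.polarBilin Q) W := by
  constructor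
  · intro h u hu hall
    by_contra hne
    obtain ⟨-, v, hv, hv'⟩ := h u hu hne
    exact hv' (hall v hv)
  · intro h u hu hne
    have key : ∃ v ∈ W, QuadraticMap.polar (⇑Q) u v ≠ 0 := by
      by_contra hc
      push Not at hc
      exact hne (h u hu hc)
    obtain ⟨v, hv, hv'⟩ := key
    exact ⟨⟨v, hv, by rwa [QuadraticMap.polar_comm]⟩, v, hv, hv'⟩

theorem nd_exists_iff :
    (∀ u ∈ W, u ≠ 0 → ∃ v ∈ W, QuadraticMap.polar (⇑Q) u v ≠ 0) ↔ NdOn (QuadraticMap.polarBilin Q) W := by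
  constructor
  · intro h u hu hall
    by_contra hne
    obtain ⟨v, hv, hv'⟩ := h u hu hne
    exact hv' (hall v hv)
  · intro h u hu hne
    by_contra hc
    push Not at hc
    exact hne (h u hu hc)

theorem plus_iff (he : Even (finrank F W)) : Cfsg.Geo.IsPlusTypeOn ⇑Q W ↔ Half Q W := by
  obtain ⟨k, hk⟩ := he
  rw [half_iff]
  constructor
  · rintro ⟨U, hUW, hU, hUd⟩
    exact ⟨U, hUW, hU, by omega⟩
  · rintro ⟨U, hUW, hU, hUd⟩
    exact ⟨U, hUW, hU, by omega⟩

theorem iso_iff {W' : Submodule F (ι → F)} : Cfsg.Geo.AreIsometricFor ⇑Q W W' ↔ Iso Q W W' := Iff.rfl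

end Cfsg.Agent.Elusive.OrthNd
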