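import Cfsg.Agent.Lib.Elusive.OrthogonalEvenMain
import Cfsg.Agent.Lib.Elusive.OrthogonalEvenSquares
import Cfsg.Agent.Lib.Elusive.OrthogonalNdTrans
import Cfsg.Agent.Lib.Elusive.OrthogonalNdInv
import Cfsg.Agent.Lib.OrthClasses.InvolutionKinds

/-!
Elements of order two and invariant non-degenerate subspaces, in odd characteristic.
-/

set_option autoImplicit false
set_option linter.style.haveILetI false

namespace Cfsg.Agent.Elusive.OrthNd

open Module FormIso OrthIso OrthType OrthTwo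

variable {F V : Type*} [Field F] [Fintype F] [AddCommGroup V] [Module F V] [FiniteDimensional F V]
  {Q : QuadraticForm F V}

/-- A plane spanned by orthogonal vectors of equal norm is hyperbolic when `-1` is a square. -/
theorem plane_half (h2 : (2 : F) ≠ 0) {x y : V} (hx : Q x ≠ 0) (hxy : QuadraticMap.polar Q x y = 0) (hy : Q y = Q x) :
    Half Q (Submodule.span F {x, y}) ↔ IsSquare (-1 : F) := by
  obtain ⟨hP, hPd, hPh⟩ := plane h2 hx hxy hy
  refine ⟨fun h => by_contra fun hns => hPh hns h, ?_⟩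
  rintro ⟨i, hi⟩
  refine half_iff.2 ⟨Submodule.span F {x + i • y}, ?_, fun w hw => ?_, ?_⟩
  · rw [Submodule.span_singleton_le_iff_mem]
    exact Submodule.add_mem _ (Submodule.subset_span (by simp)) (Submodule.smul_mem _ _ (Submodule.subset_span (by simp)))
  · obtain ⟨t, rfl⟩ := Submodule.mem_span_singleton.1 hw
    rw [QuadraticMap.map_smul, FormsLib.quad_add, QuadraticMap.map_smul, QuadraticMap.polar_smul_right, hxy, hy]
    simp only [smul_eq_mul, mul_zero, add_zero]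
    linear_combination (-(t * t * Q x)) * hi
  · rw [finrank_span_singleton, hPd]
    intro h
    refine hx ?_
    have h1 : QuadraticMap.polar Q x (x + i • y) = 0 := by rw [h]; simp [QuadraticMap.polar]
    rw [QuadraticMap.polar_add_right, QuadraticMap.polar_smul_right, hxy, smul_zero, add_zero,
      FormsLib.polar_self'] at h1
    exact (mul_eq_zero.1 h1).resolve_left h2

/-- An invariant subspace of a square root of `-1` has even dimension. -/
theorem even_of_root' (h2 : (2 : F) ≠ 0) {T : Module.End F V} (hQT : ∀ v, Q (T v) = Q v)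
    (hT : ∀ v, T (T v) = -v) {W : Submodule F V} (hW : NdOn (QuadraticMap.polarBilin Q) W) (hWT : W.map T ≤ W) :
    Even (finrank F W) := by
  have hiso := OrthEven.polar_iso hQT
  let A : LinearMap.BilinForm F V := (QuadraticMap.polarBilin Q).compl₁₂ T LinearMap.id
  have hA : ∀ a b, A a b = QuadraticMap.polarBilin Q (T a) b := fun a b => rfl
  have hAlt : LinearMap.IsAlt A := fun a => by
    rw [hA]
    have h1 := hiso (T a) a
    rw [hT, map_neg, LinearMap.neg_apply, polar_symm a (T a)] at h1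
    exact (mul_eq_zero.1 (show (2 : F) * QuadraticMap.polarBilin Q (T a) a = 0 by linear_combination -h1)).resolve_left h2
  refine even_finrank hAlt fun u hu h => ?_
  have h0 : T u = 0 := hW _ (hWT ⟨u, hu, rfl⟩) fun v hv => (hA u v).symm.trans (h v hv)
  have := hT u
  rw [h0, map_zero, eq_comm, neg_eq_zero] at this
  exact this

/-- An invariant plane. -/
theorem exists_root_plane (h2 : (2 : F) ≠ 0) {T : Module.End F V} (hQT : ∀ v, Q (T v) = Q v)
    (hT : ∀ v, T (T v) = -v) {X : Submodule F V} (hX : NdOn (QuadraticMap.polarBilin Q) X) (hXT : X.map T ≤ X)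
    (hne : X ≠ ⊥) :
    ∃ x ∈ X, Q x ≠ 0 ∧ QuadraticMap.polar Q x (T x) = 0 ∧ Submodule.span F {x, T x} ≤ X ∧
      (Submodule.span F {x, T x}).map T ≤ Submodule.span F {x, T x} := by
  obtain ⟨x, hx, hQx⟩ := exists_nonsing hX hne
  refine ⟨x, hx, hQx, ?_, Submodule.span_le.2 (by rintro _ (rfl | rfl); exacts [hx, hXT ⟨x, hx, rfl⟩]), ?_⟩
  · have h1 : QuadraticMap.polar Q (T x) (T (T x)) = QuadraticMap.polar Q x (T x) := by
      simp only [QuadraticMap.polar, ← map_add, hQT]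
    rw [hT, QuadraticMap.polar_neg_right, QuadraticMap.polar_comm Q (T x)] at h1
    exact (mul_eq_zero.1 (show (2 : F) * QuadraticMap.polar Q x (T x) = 0 by linear_combination -h1)).resolve_left h2
  · rw [Submodule.map_span_le]
    rintro _ (rfl | rfl)
    · exact Submodule.subset_span (by simp)
    · rw [hT]
      exact Submodule.neg_mem _ (Submodule.subset_span (by simp))

/-- Pairs adapted to a square root of `-1`, with the type. -/
theorem pairs_of_root' (h2 : (2 : F) ≠ 0) {T : Module.End F V}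
    (hQT : ∀ v, Q (T v) = Q v) (hT : ∀ v, T (T v) = -v) : ∀ (k : ℕ) (X : Submodule F V),
      NdOn (QuadraticMap.polarBilin Q) X → X.map T ≤ X → finrank F X = 2 * k →
      ∃ u u' : Fin k → V, IsPairs Q X u u' ∧ (∀ i, T (u i) = u' i) ∧
        (Half Q X ↔ (IsSquare (-1 : F) ∨ Even k)) := by
  intro k
  induction k with
  | zero =>
    intro X _ _ hXd
    rw [mul_zero, Submodule.finrank_eq_zero] at hXd
    subst hXd
    exact ⟨_, _, isPairs_empty, fun i => i.elim0, iff_of_true half_bot (Or.inr Even.zero)⟩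
  | succ k ih =>
    intro X hX hXT hXd
    obtain ⟨x, hx, hQx, hxy, hPX, hPT⟩ := exists_root_plane h2 hQT hT hX hXT fun hbot => by
      rw [hbot, finrank_bot] at hXd
      omega
    obtain ⟨hP, hPd, -⟩ := plane h2 hQx hxy (hQT x)
    have hT4 : T ^ 4 = 1 := LinearMap.ext fun v => by simp [pow_succ, hT]
    obtain ⟨X', hX'X, hX'T, hX', ho, hsup, -, hd⟩ := exists_compl (refl_polar Q)
      (OrthEven.polar_iso hQT) (show 4 ≠ 0 by omega) hT4 hX hXT hP hPT hPX
    obtain ⟨u, u', hp, hTu, hH⟩ := ih X' hX' hX'T (by omega)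
    refine ⟨_, _, isPairs_cons h2 hx (hXT ⟨x, hx, rfl⟩) hQx hxy (hQT x) hX'X ho hsup hp, fun i => ?_, ?_⟩
    · induction i using Fin.cases with
      | zero => simp
      | succ i => simpa using hTu i
    · have := half_sup hP hX' ho (hPd ▸ even_two) ((show finrank F X' = 2 * k by omega) ▸ even_two_mul k)
      rw [hsup] at this
      rw [this, plane_half h2 hQx hxy (hQT x), hH, Nat.even_add_one]
      by_cases hs : IsSquare (-1 : F) <;> simp [hs]

/-- The type of an invariant subspace. -/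
theorem root_read (h2 : (2 : F) ≠ 0) {T : Module.End F V} (hQT : ∀ v, Q (T v) = Q v) (hT : ∀ v, T (T v) = -v)
    {W : Submodule F V} (hW : NdOn (QuadraticMap.polarBilin Q) W) (hWT : W.map T ≤ W) :
    Even (finrank F W) ∧ (Half Q W ↔ (IsSquare (-1 : F) ∨ Even (finrank F W / 2))) := by
  obtain ⟨k, hk⟩ := even_of_root' h2 hQT hT hW hWT
  obtain ⟨-, -, -, -, hH⟩ := pairs_of_root' h2 hQT hT k W hW hWT (by omega)
  exact ⟨⟨k, hk⟩, by rw [hH, show finrank F W / 2 = k by omega]⟩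

/-- Invariant subspaces of every even dimension. -/
theorem root_sub (h2 : (2 : F) ≠ 0) {T : Module.End F V} (hQT : ∀ v, Q (T v) = Q v) (hT : ∀ v, T (T v) = -v)
    (htop : NdOn (QuadraticMap.polarBilin Q) ⊤) {k : ℕ} (hk : 2 * k ≤ finrank F V) :
    ∃ W : Submodule F V, NdOn (QuadraticMap.polarBilin Q) W ∧ W.map T ≤ W ∧ finrank F W = 2 * k := by
  obtain ⟨W, -, hWT, hW, hWd⟩ := exists_multiple (refl_polar Q) (OrthEven.polar_iso hQT) (show 4 ≠ 0 by omega)
    (LinearMap.ext fun v => by simp [pow_succ, hT] : T ^ 4 = 1) two_pos htop le_top (fun X _ hXT hX hne => by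
      obtain ⟨x, hx, hQx, hxy, hPX, hPT⟩ := exists_root_plane h2 hQT hT hX hXT hne
      obtain ⟨hP, hPd, -⟩ := plane h2 hQx hxy (hQT x)
      exact ⟨_, hPX, hPT, hP, hPd⟩) k (by rw [finrank_top]; omega)
  exact ⟨W, hW, hWT, by omega⟩

/-- Pairs with the required type. -/
theorem exists_pairs' (h2 : (2 : F) ≠ 0) : ∀ (k : ℕ) (X : Submodule F V),
    NdOn (QuadraticMap.polarBilin Q) X → finrank F X = 2 * k → (Half Q X ↔ (IsSquare (-1 : F) ∨ Even k)) →
    ∃ u u' : Fin k → V, IsPairs Q X u u' := by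
  intro k X hX hXd hH
  by_cases hsq : IsSquare (-1 : F)
  swap
  · exact exists_pairs_one h2 hsq k X hX hXd (hH.trans (or_iff_right hsq))
  replace hH := hH.2 (Or.inl hsq)
  induction k generalizing X with
  | zero =>
    rw [mul_zero, Submodule.finrank_eq_zero] at hXd
    subst hXd
    exact ⟨_, _, isPairs_empty⟩
  | succ k ih =>
    obtain ⟨W, hWX, hW, hWd⟩ := half_iff.1 hH
    obtain ⟨e, he, he0⟩ := Submodule.exists_mem_ne_zero_of_ne_bot (p := W) fun h => by
      rw [h, finrank_bot, hXd] at hWd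
      omega
    obtain ⟨f, hf, hQf, hef⟩ := Spinor.exists_pair (ndOn_inf_orth hX) (hWX he) he0 (hW e he)
    obtain ⟨i, hi⟩ := hsq
    set x := e + f
    set y := i • (e - f)
    have hQe := hW e he
    have hee : QuadraticMap.polar Q e e = 0 := by rw [FormsLib.polar_self', hQe, mul_zero]
    have hff : QuadraticMap.polar Q f f = 0 := by rw [FormsLib.polar_self', hQf, mul_zero]
    have hfe : QuadraticMap.polar Q f e = 1 := (QuadraticMap.polar_comm _ _ _).trans hef
    have hQx : Q x = 1 := by simp only [x, FormsLib.quad_add, hQe, hQf, hef, zero_add]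
    have hQy : Q y = Q x := by
      rw [hQx]
      simp only [y, QuadraticMap.map_smul, sub_eq_add_neg, FormsLib.quad_add, QuadraticMap.map_neg,
        QuadraticMap.polar_neg_right, hQe, hQf, hef, smul_eq_mul]
      linear_combination hi
    have hxy : QuadraticMap.polar Q x y = 0 := by
      simp only [x, y, QuadraticMap.polar_smul_right, QuadraticMap.polar_sub_right, QuadraticMap.polar_add_left, hee,
        hff, hef, hfe, smul_eq_mul]
      ring
    have hx0 : Q x ≠ 0 := by rw [hQx]; exact one_ne_zero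
    obtain ⟨hP, hPd, -⟩ := plane h2 hx0 hxy hQy
    have hxX : x ∈ X := X.add_mem (hWX he) hf
    have hyX : y ∈ X := X.smul_mem _ (X.sub_mem (hWX he) hf)
    have hPX : Submodule.span F {x, y} ≤ X := Submodule.span_le.2 (by rintro _ (rfl | rfl) <;> assumption)
    obtain ⟨X', hX'X, -, hX', ho, hsup, -, hd⟩ := exists_compl (T := (1 : Module.End F V)) (refl_polar Q) (fun _ _ => rfl)
      one_ne_zero (one_pow 1) hX (Submodule.map_id X).le hP (Submodule.map_id _).le hPX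
    have hX'd : finrank F X' = 2 * k := by omega
    have := half_sup hP hX' ho (hPd ▸ even_two) (hX'd ▸ even_two_mul k)
    rw [hsup, plane_half h2 hx0 hxy hQy] at this
    obtain ⟨u, u', hp⟩ := ih X' hX' hX'd ((this.1 hH).1 ⟨i, hi⟩)
    exact ⟨_, _, isPairs_cons h2 hxX hyX hx0 hxy hQy hX'X ho hsup hp⟩

/-- A square root of `-1` in the derived group determines the type. -/
theorem root_facts' (h2 : (2 : F) ≠ 0) (hQ : (QuadraticMap.polarBilin Q).Nondegenerate)
    {d : ℕ} (hdim : finrank F V = 2 * d) (σ : FormsLib.oGroup Q) (hσ : ∀ v, σ.1 (σ.1 v) = -v) :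
    (Half Q ⊤ ↔ (IsSquare (-1 : F) ∨ Even d)) ∧ (Spinor.spin σ = 1 ↔ IsSquare ((2 : F) ^ d)) := by
  obtain ⟨u, u', hp, hu, hH⟩ := pairs_of_root' (T := σ.1.toLinearMap) h2 (fun v => σ.2 v) hσ d ⊤
    (fun a _ h => hQ.1 a fun v => h v trivial) le_top (by rw [finrank_top, hdim])
  obtain ⟨τ, -, hspin, hτ, -⟩ := rot h2 hQ hp
  have hσu : ∀ i, σ.1 (u i) = u' i := hu
  rw [root_eq_rot hp σ τ (fun i => ⟨hσu i, by rw [← hσu i, hσ]⟩) hτ]
  exact ⟨hH, hspin⟩

/-- An involution leaves a member of every isometry class invariant. -/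
theorem invol_iso (h2 : (2 : F) ≠ 0) (htop : NdOn (QuadraticMap.polarBilin Q) ⊤) {T : Module.End F V}
    (hQT : ∀ v, Q (T v) = Q v) (hT : ∀ v, T (T v) = v) {W₀ : Submodule F V}
    (hW₀ : NdOn (QuadraticMap.polarBilin Q) W₀) (hlt : 2 * finrank F W₀ < finrank F V) :
    ∃ W : Submodule F V, Iso Q W W₀ ∧ W.map T ≤ W := by
  obtain ⟨M, -, hMT, hfree, hsup, ho, hM, hK, hd⟩ := exists_split (T := T) (r := 2) (refl_polar Q)
    (OrthEven.polar_iso hQT) (by exact_mod_cast h2)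
    (LinearMap.ext fun v => by rw [pow_two, Module.End.mul_apply, hT]; rfl) htop le_top
  rw [finrank_top] at hd
  set K := ⊤ ⊓ fixedSpace T
  have hneg : ∀ v ∈ M, T v = -v := fun v hv => by
    refine eq_neg_of_add_eq_zero_left (hfree _ (M.add_mem (hMT ⟨v, hv, rfl⟩) hv) ?_)
    rw [map_add, hT, add_comm]
  have hKT : ∀ N : Submodule F V, N ≤ K → N.map T ≤ N := fun N hN => by
    rintro _ ⟨a, ha, rfl⟩
    rwa [mem_fixedSpace.1 (hN ha).2]
  have hMT' : ∀ N : Submodule F V, N ≤ M → N.map T ≤ N := fun N hN => by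
    rintro _ ⟨a, ha, rfl⟩
    rw [hneg a (hN ha)]
    exact N.neg_mem ha
  rcases lt_trichotomy (finrank F M) (finrank F W₀) with h | h | h
  · obtain ⟨A, hAW, hA, hMA⟩ := exists_embed h2 _ M W₀ hM hW₀ rfl h
    obtain ⟨B, -, -, hB, hoAB, hsAB, -, hdAB⟩ := exists_compl (T := (1 : Module.End F V)) (refl_polar Q) (fun _ _ => rfl)
      one_ne_zero (one_pow 1) hW₀ (Submodule.map_id W₀).le hA (Submodule.map_id A).le hAW
    rw [← hMA.finrank_eq'] at hdAB
    obtain ⟨N, hNK, hN, hBN⟩ := exists_embed h2 _ B K hB hK rfl (by omega)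
    refine ⟨N ⊔ M, ?_, invariant_sup (hKT N hNK) hMT⟩
    rw [← hsAB, sup_comm A B]
    exact Iso.sup' hN hB (fun a ha b hb => ho a (hNK ha) b hb) (hoAB.symm (refl_polar Q)) hBN.symm' hMA
  · obtain ⟨N, hNK, -, hiso⟩ := exists_embed h2 _ W₀ K hW₀ hK rfl (by omega)
    exact ⟨N, hiso.symm', hKT N hNK⟩
  · obtain ⟨N, hNM, -, hiso⟩ := exists_embed h2 _ W₀ M hW₀ hM rfl h
    exact ⟨N, hiso.symm', hMT' N hNM⟩

section Main

variable {ι : Type} [Fintype ι] [DecidableEq ι] {Q : QuadraticForm F (ι → F)} {p : ℕ} [Fact p.Prime] [CharP F p]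

/-- Reading an element whose square is scalar. -/
theorem read_two (hQ : (QuadraticMap.polarBilin Q).Nondegenerate) (hι : 1 ≤ Fintype.card ι)
    (hexc : Fintype.card F ≠ 2 ∨ Fintype.card ι ≠ 4) {x : GL ι F} (hx : x ∈ Cfsg.Geo.omegaGL ⇑Q) {z : F}
    (hz : ((x ^ 2 : GL ι F) : Matrix ι ι F) = z • (1 : Matrix ι ι F)) :
    ∃ τ : FormsLib.oGroup Q, Spinor.spin τ = 1 ∧ Matrix.toLin' (x : Matrix ι ι F) = τ.1.toLinearMap ∧
      ((∀ v, τ.1 (τ.1 v) = v) ∨ ∀ v, τ.1 (τ.1 v) = -v) := by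
  obtain ⟨g, hg, rfl⟩ := hx
  obtain ⟨-, hs1⟩ := (OrthRows.mem_omega hQ hexc).1 hg
  obtain ⟨τ, hτ⟩ : ∃ τ, FormsLib.oEquiv Q g = τ := ⟨_, rfl⟩
  have hs : Spinor.spin τ = 1 := hτ ▸ hs1
  have hlin : Matrix.toLin' ((Subgroup.subtype _ g : GL ι F) : Matrix ι ι F) = τ.1.toLinearMap := hτ ▸ rfl
  have hpow : ∀ v, τ.1 (τ.1 v) = z • v := fun v => by
    have h1 := congrArg Matrix.toLin' hz
    rw [Units.val_pow_eq_pow_val, Matrix.toLin'_pow, hlin, pow_two, map_smul, Matrix.toLin'_one] at h1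
    exact LinearMap.congr_fun h1 v
  haveI : Nonempty ι := Fintype.card_pos_iff.1 hι
  obtain ⟨v, hv⟩ := Spinor.exists_nonsingular' (Q := Q) hQ
  have hz2 : z * z = 1 := by
    have h1 := (τ.2 (τ.1 v)).trans (τ.2 v)
    rw [hpow, QuadraticMap.map_smul, smul_eq_mul] at h1
    exact mul_right_cancel₀ hv (h1.trans (one_mul _).symm)
  refine ⟨τ, hs, hlin, (mul_self_eq_one_iff.1 hz2).imp (fun h v => ?_) fun h v => ?_⟩
  · rw [hpow, h, one_smul]
  · rw [hpow, h, neg_one_smul]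

/-- Turning a root of `-1` into a group element. -/
theorem root_element (h2 : (2 : F) ≠ 0) (hQ : (QuadraticMap.polarBilin Q).Nondegenerate) {d : ℕ} (hd : 1 ≤ d)
    (hι : Fintype.card ι = 2 * d) (htype : Half Q ⊤ ↔ (IsSquare (-1 : F) ∨ Even d)) (hsq : IsSquare ((2 : F) ^ d)) :
    ∃ x : GL ι F, x ∈ Cfsg.Geo.omegaGL ⇑Q ∧
      ((x ^ 2 : GL ι F) : Matrix ι ι F) = (-1 : F) • (1 : Matrix ι ι F) ∧
      (∀ z : F, (x : Matrix ι ι F) ≠ z • 1) ∧
      (∀ v, Q (Matrix.toLin' (x : Matrix ι ι F) v) = Q v) ∧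
      ∀ v, Matrix.toLin' (x : Matrix ι ι F) (Matrix.toLin' (x : Matrix ι ι F) v) = -v := by
  have htop : NdOn (QuadraticMap.polarBilin Q) ⊤ := fun u _ h => hQ.1 u fun v => h v trivial
  have hdim : finrank F (ι → F) = 2 * d := by rw [finrank_pi, hι]
  obtain ⟨u, u', hp⟩ := exists_pairs' h2 d ⊤ htop (by rw [finrank_top, hdim]) htype
  obtain ⟨τ, hdick, hspin, hval, hττ⟩ := rot h2 hQ hp
  have hlin : ∀ v, Matrix.toLin' ((TransvMax.glOf τ.1 : GL ι F) : Matrix ι ι F) v = τ.1 v := fun v => by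
    rw [Matrix.toLin'_apply, TransvMax.glOf_mulVec]
  refine ⟨TransvMax.glOf τ.1, SymRoot.glOf_mem_omega h2 hQ τ hdick (hspin.2 hsq), ?_, fun z hz => ?_,
    fun v => by rw [hlin]; exact τ.2 v, fun v => by rw [hlin, hlin, hττ]⟩
  · refine Matrix.toLin'.injective (LinearMap.ext fun v => ?_)
    rw [Units.val_pow_eq_pow_val, Matrix.toLin'_pow, pow_two, Module.End.mul_apply, hlin, hlin, hττ, map_smul,
      Matrix.toLin'_one, LinearMap.smul_apply, LinearMap.id_apply, neg_one_smul]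
  · obtain ⟨i⟩ : Nonempty (Fin d) := ⟨⟨0, hd⟩⟩
    have h1 := (hval i).1
    rw [← hlin, hz, map_smul, Matrix.toLin'_one, LinearMap.smul_apply, LinearMap.id_apply] at h1
    have h3 : z * (QuadraticMap.polar Q (u i) (u i)) = 0 := by
      rw [← smul_eq_mul, ← QuadraticMap.polar_smul_right, h1, hp.cross]
    rw [FormsLib.polar_self', mul_eq_zero] at h3
    have hz0 := h3.resolve_right (mul_ne_zero h2 (hp.norm i).1)
    rw [hz0, zero_smul] at h1
    exact (hp.norm i).1 (by rw [← (hp.norm i).2, ← h1, QuadraticMap.map_zero])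

/-- The criterion for `r = 2` and an even dimension of the subspace. -/
theorem two_even_iff (h2 : (2 : F) ≠ 0) (hQ : (QuadraticMap.polarBilin Q).Nondegenerate) {d h : ℕ} (hd : 3 ≤ d)
    (hι : Fintype.card ι = 2 * d) (hh : 1 ≤ h) (hhd : h < d) (pl : Prop) :
    (∀ x : GL ι F, x ∈ Cfsg.Geo.omegaGL ⇑Q →
      (∃ z : F, ((x ^ 2 : GL ι F) : Matrix ι ι F) = z • (1 : Matrix ι ι F)) →
      (∀ z : F, (x : Matrix ι ι F) ≠ z • (1 : Matrix ι ι F)) →
      ∃ W : Submodule F (ι → F), (finrank F W = 2 * h ∧ NdOn (QuadraticMap.polarBilin Q) W ∧ (Half Q W ↔ pl)) ∧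
        W.map (Matrix.toLin' (x : Matrix ι ι F)) ≤ W) ↔
    (((Half Q ⊤ ↔ (IsSquare (-1 : F) ∨ Even d)) ∧ IsSquare ((2 : F) ^ d)) → (pl ↔ (IsSquare (-1 : F) ∨ Even h))) := by
  classical
  have htop : NdOn (QuadraticMap.polarBilin Q) ⊤ := fun u _ h => hQ.1 u fun v => h v trivial
  have hdim : finrank F (ι → F) = 2 * d := by rw [finrank_pi, hι]
  have hexc : Fintype.card F ≠ 2 ∨ Fintype.card ι ≠ 4 := Or.inr (by omega)
  constructor
  · rintro hall ⟨htype, hsq⟩
    obtain ⟨x, hx, hx2, hxn, hxQ, hxx⟩ := root_element h2 hQ (by omega) hι htype hsq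
    obtain ⟨W, ⟨hWd, hW, hWpl⟩, hWT⟩ := hall x hx ⟨-1, hx2⟩ hxn
    obtain ⟨-, h1⟩ := root_read h2 hxQ hxx hW hWT
    rw [hWd, Nat.mul_div_cancel_left _ two_pos] at h1
    exact hWpl.symm.trans h1
  · intro hcond x hx ⟨z, hz⟩ _
    obtain ⟨τ, hs, hlin, hττ | hττ⟩ := read_two hQ (by omega) hexc hx hz
    · obtain ⟨W, ⟨hWd, hW, hWpl⟩, hWT⟩ := OrthClasses.involution_kind h2 hQ (g := τ.1.toLinearMap) (fun v => τ.2 v) hττ hh
        (by rw [hι]; omega) pl
      refine ⟨W, ⟨hWd, ndOn_iff.1 hW, (plus_iff (hWd ▸ even_two_mul h)).symm.trans hWpl⟩, ?_⟩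
      rw [hlin]
      rintro _ ⟨w, hw, rfl⟩
      exact hWT w hw
    · obtain ⟨htype, hspin⟩ := root_facts' h2 hQ hdim τ hττ
      obtain ⟨W, hW, hWT, hWd⟩ := root_sub h2 (T := τ.1.toLinearMap) (fun v => τ.2 v) hττ htop (k := h) (by omega)
      obtain ⟨-, h1⟩ := root_read h2 (T := τ.1.toLinearMap) (fun v => τ.2 v) hττ hW hWT
      rw [hWd, Nat.mul_div_cancel_left _ two_pos] at h1
      exact ⟨W, ⟨hWd, hW, h1.trans (hcond ⟨htype, hspin.1 hs⟩).symm⟩, hlin ▸ hWT⟩

/-- The criterion for `r = 2` and an odd dimension of the subspace. -/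
theorem two_odd_iff (h2 : (2 : F) ≠ 0) (hQ : (QuadraticMap.polarBilin Q).Nondegenerate) {d m : ℕ} (hd : 3 ≤ d)
    (hι : Fintype.card ι = 2 * d) (hmo : Odd m) (hmd : m < d) {W₀ : Submodule F (ι → F)}
    (hW₀ : NdOn (QuadraticMap.polarBilin Q) W₀) (hW₀d : finrank F W₀ = m) :
    (∀ x : GL ι F, x ∈ Cfsg.Geo.omegaGL ⇑Q →
      (∃ z : F, ((x ^ 2 : GL ι F) : Matrix ι ι F) = z • (1 : Matrix ι ι F)) →
      (∀ z : F, (x : Matrix ι ι F) ≠ z • (1 : Matrix ι ι F)) →
      ∃ W : Submodule F (ι → F), Iso Q W W₀ ∧ W.map (Matrix.toLin' (x : Matrix ι ι F)) ≤ W) ↔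
    ¬ ((Half Q ⊤ ↔ (IsSquare (-1 : F) ∨ Even d)) ∧ IsSquare ((2 : F) ^ d)) := by
  classical
  have htop : NdOn (QuadraticMap.polarBilin Q) ⊤ := fun u _ h => hQ.1 u fun v => h v trivial
  have hdim : finrank F (ι → F) = 2 * d := by rw [finrank_pi, hι]
  have hexc : Fintype.card F ≠ 2 ∨ Fintype.card ι ≠ 4 := Or.inr (by omega)
  constructor
  · rintro hall ⟨htype, hsq⟩
    obtain ⟨x, hx, hx2, hxn, hxQ, hxx⟩ := root_element h2 hQ (by omega) hι htype hsq
    obtain ⟨W, hW, hWT⟩ := hall x hx ⟨-1, hx2⟩ hxn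
    obtain ⟨h1, -⟩ := root_read h2 hxQ hxx (hW.ndOn hW₀) hWT
    rw [hW.finrank_eq', hW₀d] at h1
    exact Nat.not_even_iff_odd.2 hmo h1
  · intro hcond x hx ⟨z, hz⟩ _
    obtain ⟨τ, hs, hlin, hττ | hττ⟩ := read_two hQ (by omega) hexc hx hz
    · obtain ⟨W, hW, hWT⟩ := invol_iso h2 htop (T := τ.1.toLinearMap) (fun v => τ.2 v) hττ hW₀ (by omega)
      exact ⟨W, hW, hlin ▸ hWT⟩
    · obtain ⟨htype, hspin⟩ := root_facts' h2 hQ hdim τ hττ
      exact absurd ⟨htype, hspin.1 hs⟩ hcond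

end Main

end Cfsg.Agent.Elusive.OrthNd
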