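import Cfsg.Agent.Lib.Elusive.OrthogonalNdUni
import Cfsg.Agent.Lib.Elusive.OrthogonalNdTwo

/-!
An element of order `p` that avoids one class of odd-dimensional non-degenerate subspaces.
-/

set_option autoImplicit false
set_option linter.style.haveILetI false

namespace Cfsg.Agent.Elusive.OrthNd

open Module FormIso OrthIso OrthType OrthTwo

variable {F V : Type*} [Field F] [Fintype F] [AddCommGroup V] [Module F V] [FiniteDimensional F V]
  {Q : QuadraticForm F V}

/-- An anisotropic vector orthogonal to a largest singular subspace. -/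
theorem exists_aniso_perp {X L : Submodule F V} (hX : NdOn (QuadraticMap.polarBilin Q) X) (hLX : L ≤ X)
    (hL : ∀ x ∈ L, Q x = 0) {k : ℕ} (hXd : finrank F X = 2 * k + 1) (hLd : finrank F L = k) :
    ∃ y ∈ X, (∀ x ∈ L, QuadraticMap.polar Q x y = 0) ∧ Q y ≠ 0 := by
  by_contra hc
  push Not at hc
  let f : X →ₗ[F] Module.Dual F L :=
    LinearMap.mk₂ F (fun (x : X) (l : L) => QuadraticMap.polar Q (l : V) (x : V))
      (fun _ _ _ => QuadraticMap.polar_add_right _ _ _ _) (fun _ _ _ => QuadraticMap.polar_smul_right _ _ _ _)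
      (fun _ _ _ => QuadraticMap.polar_add_left _ _ _ _) (fun _ _ _ => QuadraticMap.polar_smul_left _ _ _ _)
  have hf : ∀ (x : X) (l : L), f x l = QuadraticMap.polar Q (l : V) (x : V) := fun _ _ => rfl
  have h1 := LinearMap.finrank_range_add_finrank_ker f
  have h2 : finrank F (LinearMap.range f) ≤ k :=
    (Submodule.finrank_le _).trans (by rw [Subspace.dual_finrank_eq, hLd])
  let S := (LinearMap.ker f).map X.subtype
  have hS : ∀ u ∈ S, Q u = 0 := by
    rintro _ ⟨x, hx, rfl⟩
    refine hc x x.2 fun l hl => ?_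
    have h3 := LinearMap.congr_fun (show f x = 0 from hx) ⟨l, hl⟩
    rwa [hf] at h3
  have h3 := two_mul_le hX (Submodule.map_subtype_le _ _) hS
  rw [Submodule.finrank_map_subtype_eq] at h3
  omega

omit [Fintype F] [FiniteDimensional F V] in
theorem polar_self_zero {x : V} (hx : Q x = 0) : QuadraticMap.polar Q x x = 0 := by
  rw [FormsLib.polar_self', hx, mul_zero]

/-- Two orthogonal decompositions give the same square class. -/
theorem class_unique (h2 : (2 : F) ≠ 0) (htop : NdOn (QuadraticMap.polarBilin Q) ⊤) {W₀ : Submodule F V}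
    (hW₀ : NdOn (QuadraticMap.polarBilin Q) W₀) {k : ℕ} (hd : finrank F W₀ = 2 * k + 1)
    (hn : 2 * k + 3 ≤ finrank F V) {U U' : Submodule F V} (hU : U ≤ W₀) (hU' : U' ≤ W₀)
    (hU0 : ∀ x ∈ U, Q x = 0) (hU'0 : ∀ x ∈ U', Q x = 0) (hUd : finrank F U = k) (hU'd : finrank F U' = k)
    {y y' : V} (hy : y ∈ W₀) (hy' : y' ∈ W₀) (hyU : ∀ x ∈ U, QuadraticMap.polar Q x y = 0)
    (hy'U : ∀ x ∈ U', QuadraticMap.polar Q x y' = 0) (hy0 : Q y ≠ 0) (hy'0 : Q y' ≠ 0) :
    IsSquare (Q y * Q y') := by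
  obtain ⟨R, -, -, hR, hoR, -, -, hdR⟩ := exists_compl (T := (1 : Module.End F V)) (refl_polar Q) (fun _ _ => rfl)
    one_ne_zero (one_pow 1) htop le_top hW₀ (Submodule.map_id W₀).le le_top
  rw [finrank_top] at hdR
  obtain ⟨x, hx, hQx⟩ := Spinor.exists_norm (ndOn_inf_orth hR) (Or.inl (by omega)) (neg_ne_zero.2 hy0)
  have hx0 : x ≠ 0 := fun h => hy0 (by simpa [h] using hQx.symm)
  have hox : OrthTo (QuadraticMap.polarBilin Q) W₀ (Submodule.span F {x}) := fun a ha b hb => by
    obtain ⟨t, rfl⟩ := Submodule.mem_span_singleton.1 hb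
    rw [map_smul, show QuadraticMap.polarBilin Q a x = 0 from hoR a ha x hx, smul_zero]
  have hℓ := ndOn_line h2 (show Q x ≠ 0 by rw [hQx]; exact neg_ne_zero.2 hy0)
  set Z := W₀ ⊔ Submodule.span F {x} with hZdef
  have hZ : NdOn (QuadraticMap.polarBilin Q) Z := ndOn_sup (refl_polar Q) hW₀ hℓ hox
  have hZd : finrank F Z = 2 * (k + 1) := by
    have := Submodule.finrank_sup_add_finrank_inf_eq W₀ (Submodule.span F {x})
    rw [inf_eq_bot hW₀ (hox.symm (refl_polar Q)), finrank_bot, finrank_span_singleton hx0, ← hZdef] at this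
    omega
  -- plus type from the first decomposition
  have hpol : ∀ a ∈ W₀, QuadraticMap.polar Q a x = 0 := fun a ha => hoR a ha x hx
  have hy0' : y ∉ U := fun h => hy0 (hU0 y h)
  have hsum : y + x ∈ Z := Submodule.add_mem_sup hy (Submodule.mem_span_singleton_self x)
  have hQsum : Q (y + x) = 0 := by rw [FormsLib.quad_add, hQx, hpol y hy, add_neg_cancel, add_zero]
  have hsne : y + x ∉ U := fun h => by
    have h1 : x ∈ W₀ := by simpa using W₀.sub_mem (hU h) hy
    have h3 : x ∈ W₀ ⊓ Submodule.span F {x} := ⟨h1, Submodule.mem_span_singleton_self x⟩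
    rw [inf_eq_bot hW₀ (hox.symm (refl_polar Q)), Submodule.mem_bot] at h3
    exact hx0 h3
  have hHalf : Half Q Z := by
    refine half_iff.2 ⟨U ⊔ Submodule.span F {y + x}, sup_le (hU.trans le_sup_left)
      ((Submodule.span_singleton_le_iff_mem _ _).2 hsum), quad_sup hU0 (fun a ha => ?_) (fun a ha b hb => ?_), ?_⟩
    · obtain ⟨t, rfl⟩ := Submodule.mem_span_singleton.1 ha
      rw [QuadraticMap.map_smul, hQsum, smul_zero]
    · obtain ⟨t, rfl⟩ := Submodule.mem_span_singleton.1 hb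
      rw [map_smul, map_add, show QuadraticMap.polarBilin Q a y = 0 from hyU a ha,
        show QuadraticMap.polarBilin Q a x = 0 from hpol a (hU ha), add_zero, smul_zero]
    · have h3 := Submodule.finrank_sup_add_finrank_inf_eq U (Submodule.span F {y + x})
      have h4 : U ⊓ Submodule.span F {y + x} = ⊥ := by
        rw [Submodule.eq_bot_iff]
        rintro u ⟨hu, hu'⟩
        obtain ⟨t, rfl⟩ := Submodule.mem_span_singleton.1 hu'
        by_contra hne
        have ht : t ≠ 0 := fun h => hne (by rw [h, zero_smul])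
        exact hsne (by simpa [ht, smul_smul] using U.smul_mem t⁻¹ hu)
      rw [h4, finrank_bot, finrank_span_singleton (fun h => hsne (by rw [h]; exact U.zero_mem))] at h3
      omega
  -- the second decomposition
  obtain ⟨C, hCW, -, hC, hoC, hsC, -, hdC⟩ := exists_compl (T := (1 : Module.End F V)) (refl_polar Q) (fun _ _ => rfl)
    one_ne_zero (one_pow 1) hW₀ (Submodule.map_id W₀).le (ndOn_line h2 hy'0) (Submodule.map_id _).le
    ((Submodule.span_singleton_le_iff_mem _ _).2 hy')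
  have hy'ne : y' ≠ 0 := fun h => hy'0 (by rw [h, QuadraticMap.map_zero])
  rw [finrank_span_singleton hy'ne] at hdC
  have hU'C : U' ≤ C := by
    intro u hu
    obtain ⟨a, ha, c, hc, rfl⟩ := Submodule.mem_sup.1 (hsC.symm ▸ hU' hu : u ∈ Submodule.span F {y'} ⊔ C)
    obtain ⟨t, rfl⟩ := Submodule.mem_span_singleton.1 ha
    have h3 := hy'U _ hu
    rw [QuadraticMap.polar_add_left, QuadraticMap.polar_smul_left, QuadraticMap.polar_comm Q c,
      show QuadraticMap.polar Q y' c = 0 from hoC y' (Submodule.mem_span_singleton_self _) c hc, add_zero,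
      FormsLib.polar_self', smul_eq_mul, mul_eq_zero] at h3
    rw [h3.resolve_right (mul_ne_zero h2 hy'0), zero_smul, zero_add]
    exact hc
  have hCH : Half Q C := half_iff.2 ⟨U', hU'C, hU'0, by omega⟩
  set P := Submodule.span F ({y', x} : Set V)
  have hyx : QuadraticMap.polar Q y' x = 0 := hpol y' hy'
  have hPeq : P = Submodule.span F {y'} ⊔ Submodule.span F {x} := Submodule.span_insert _ _
  have hP : NdOn (QuadraticMap.polarBilin Q) P := by
    rw [hPeq]
    exact ndOn_sup (refl_polar Q) (ndOn_line h2 hy'0) hℓ fun a ha b hb =>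
      hox a ((Submodule.span_singleton_le_iff_mem _ _).2 hy' ha) b hb
  have hoCP : OrthTo (QuadraticMap.polarBilin Q) C P := by
    rw [hPeq]
    exact (OrthTo.sup hoC fun a ha b hb => (refl_polar Q) _ _ (hox b (hCW hb) a ha)).symm (refl_polar Q)
  have hsZ : C ⊔ P = Z := by
    rw [hPeq, hZdef, ← sup_assoc, sup_comm C, hsC]
  have hPd : finrank F P = 2 := by
    have h4 := Submodule.finrank_sup_add_finrank_inf_eq C P
    rw [hsZ, inf_eq_bot hC (hoCP.symm (refl_polar Q)), finrank_bot] at h4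
    omega
  have hPH : Half Q P := by
    have h3 := half_sup hC hP hoCP ⟨k, by omega⟩ ⟨1, by omega⟩
    rw [hsZ] at h3
    exact (h3.1 hHalf).1 hCH
  obtain ⟨S, hSP, hS, hSd⟩ := half_iff.1 hPH
  obtain ⟨s, hs, hs0⟩ := Submodule.exists_mem_ne_zero_of_ne_bot (p := S) fun h => by
    rw [h, finrank_bot] at hSd
    omega
  obtain ⟨a, b, rfl⟩ := Submodule.mem_span_pair.1 (hSP hs)
  have h5 := hS _ hs
  rw [FormsLib.quad_add, QuadraticMap.map_smul, QuadraticMap.map_smul, QuadraticMap.polar_smul_left,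
    QuadraticMap.polar_smul_right, hyx, hQx] at h5
  simp only [smul_eq_mul, mul_zero, add_zero] at h5
  have hb : a ≠ 0 := by
    intro ha
    rw [ha] at h5
    have hbb : b * b = 0 := (mul_eq_zero.1 (show b * b * Q y = 0 by linear_combination -h5)).resolve_right hy0
    rw [mul_self_eq_zero] at hbb
    simp [ha, hbb] at hs0
  exact ⟨b * Q y / a, by field_simp; linear_combination h5⟩

/-- A Siegel element combined with pairs. -/
theorem exists_siegel_pair (hQ : (QuadraticMap.polarBilin Q).Nondegenerate) (h2 : (2 : F) ≠ 0) {d : ℕ} (hd : 3 ≤ d)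
    (hde : Even d) (hdim : finrank F V = 2 * d) {δ : F} (hδ : δ ≠ 0) (first : Prop) :
    ∃ (N : Module.End F V) (e w z f : V) (L : Submodule F V),
      (∀ x ∈ L, Q x = 0) ∧ finrank F L + 2 = d ∧ Q e = 0 ∧ Q w ≠ 0 ∧ Q z ≠ 0 ∧
      QuadraticMap.polar Q e f = 1 ∧ QuadraticMap.polar Q e w = 0 ∧ QuadraticMap.polar Q e z = 0 ∧
      QuadraticMap.polar Q w z = 0 ∧
      (∀ x ∈ L, QuadraticMap.polar Q x e = 0 ∧ QuadraticMap.polar Q x w = 0 ∧ QuadraticMap.polar Q x z = 0) ∧
      ((first → Q w = δ) ∧ (¬ first → Q z = δ)) ∧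
      (∀ v, Q (v + N v) = Q v) ∧ (∀ v, N (N v) = (-(2 * Q w) * QuadraticMap.polar Q e v) • e) ∧
      (∀ v, QuadraticMap.polar Q e v = 0 → QuadraticMap.polar Q (N v) v = 0) ∧
      (∀ v, Q (N v) = QuadraticMap.polar Q e v ^ 2 * Q w) ∧
      ∀ v, N v = 0 → v ∈ L ⊔ Submodule.span F {e} ⊔ Submodule.span F {z} := by
  have htop : NdOn (QuadraticMap.polarBilin Q) ⊤ := fun u _ h => hQ.1 u fun v => h v trivial
  obtain ⟨e, -, he0, hQe⟩ := Spinor.exists_singular (ndOn_inf_orth htop) (by rw [finrank_top, hdim]; omega)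
  obtain ⟨f, -, hQf, hef⟩ := Spinor.exists_pair (ndOn_inf_orth htop) (Submodule.mem_top (x := e)) he0 hQe
  set P := Submodule.span F ({e, f} : Set V)
  have hee : QuadraticMap.polar Q e e = 0 := polar_self_zero hQe
  have hff : QuadraticMap.polar Q f f = 0 := polar_self_zero hQf
  have hfe : QuadraticMap.polar Q f e = 1 := (QuadraticMap.polar_comm _ _ _).trans hef
  have hcoef : ∀ a b : F, QuadraticMap.polar Q (a • e + b • f) f = a ∧ QuadraticMap.polar Q (a • e + b • f) e = b :=
    fun a b => by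
      simp [QuadraticMap.polar_add_left, QuadraticMap.polar_smul_left, hee, hff, hef, hfe]
  have hP : NdOn (QuadraticMap.polarBilin Q) P := by
    intro u hu h
    obtain ⟨a, b, rfl⟩ := Submodule.mem_span_pair.1 hu
    have ha : a = 0 := (hcoef a b).1.symm.trans (h f (Submodule.subset_span (by simp)))
    have hb : b = 0 := (hcoef a b).2.symm.trans (h e (Submodule.subset_span (by simp)))
    simp [ha, hb]
  obtain ⟨X, -, -, hX, hoX, -, -, hdX⟩ := exists_compl (T := (1 : Module.End F V)) (refl_polar Q) (fun _ _ => rfl)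
    one_ne_zero (one_pow 1) htop le_top hP (Submodule.map_id P).le le_top
  have hPd : finrank F P = 2 := by
    have hli : LinearIndependent F ![e, f] := LinearIndependent.pair_iff.2 fun a b hab =>
      ⟨(hcoef a b).1.symm.trans (by simp [hab, QuadraticMap.polar]),
        (hcoef a b).2.symm.trans (by simp [hab, QuadraticMap.polar])⟩
    have := finrank_span_eq_card hli
    rwa [Fintype.card_fin, Matrix.range_cons_cons_empty] at this
  rw [finrank_top, hdim, hPd] at hdX
  obtain ⟨u, hu, hQu⟩ := Spinor.exists_norm (ndOn_inf_orth hX) (Or.inl (by omega)) hδ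
  have hu0 : u ≠ 0 := fun h => hδ (by rw [← hQu, h, QuadraticMap.map_zero])
  obtain ⟨Y, hYX, -, hY, hoY, -, -, hdY⟩ := exists_compl (T := (1 : Module.End F V)) (refl_polar Q) (fun _ _ => rfl)
    one_ne_zero (one_pow 1) hX (Submodule.map_id X).le (ndOn_line h2 (hQu.symm ▸ hδ)) (Submodule.map_id _).le
    ((Submodule.span_singleton_le_iff_mem _ _).2 hu)
  rw [finrank_span_singleton hu0] at hdY
  obtain ⟨L, hLY, hL, hLd⟩ := exists_singular_subspace (d - 2) Y hY (by omega)
  obtain ⟨y, hy, hyL, hQy⟩ := exists_aniso_perp hY hLY hL (k := d - 2) (by omega) hLd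
  have heX : ∀ v ∈ X, QuadraticMap.polar Q e v = 0 := fun v hv => hoX e (Submodule.subset_span (by simp)) v hv
  have huY : ∀ v ∈ Y, QuadraticMap.polar Q u v = 0 := fun v hv => hoY u (Submodule.mem_span_singleton_self u) v hv
  obtain ⟨w, z, hwz, hw, hz, hwX, hzX, hLw, hLz, hne⟩ : ∃ w z : V, QuadraticMap.polar Q w z = 0 ∧ Q w ≠ 0 ∧ Q z ≠ 0 ∧
      w ∈ X ∧ z ∈ X ∧ (∀ x ∈ L, QuadraticMap.polar Q x w = 0) ∧ (∀ x ∈ L, QuadraticMap.polar Q x z = 0) ∧
      ((first → Q w = δ) ∧ (¬ first → Q z = δ)) := by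
    have hQu0 : Q u ≠ 0 := hQu.symm ▸ hδ
    have hLu : ∀ x ∈ L, QuadraticMap.polar Q x u = 0 := fun x hx =>
      (QuadraticMap.polar_comm _ _ _).trans (huY x (hLY hx))
    by_cases hf : first
    · exact ⟨u, y, huY y hy, hQu0, hQy, hu, hYX hy, hLu, hyL, fun _ => hQu, fun h => absurd hf h⟩
    · exact ⟨y, u, (QuadraticMap.polar_comm _ _ _).trans (huY y hy), hQy, hQu0, hYX hy, hu, hyL, hLu,
        fun h => absurd h hf, fun _ => hQu⟩
  have hLX : L ≤ X := hLY.trans hYX
  have hLe : ∀ x ∈ L, QuadraticMap.polar Q x e = 0 := fun x hx =>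
    (QuadraticMap.polar_comm _ _ _).trans (heX x (hLX hx))
  obtain ⟨a, ha⟩ := hde
  obtain ⟨N₀, hN₀r, hN₀2, hN₀k, hN₀a, hN₀Q⟩ := exists_nilpotent hQ hL (a := a - 1) (by omega)
  let N : Module.End F V := N₀ + ((QuadraticMap.polarBilin Q w).smulRight e -
    (QuadraticMap.polarBilin Q e).smulRight (w + Q w • e))
  have hN : ∀ v, N v = N₀ v + (QuadraticMap.polar Q w v • e - QuadraticMap.polar Q e v • (w + Q w • e)) :=
    fun v => rfl
  have hN₀L : ∀ v, N₀ v ∈ L := fun v => hN₀r ▸ ⟨v, rfl⟩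
  have hew : QuadraticMap.polar Q e w = 0 := heX w hwX
  have hwe : QuadraticMap.polar Q w e = 0 := (QuadraticMap.polar_comm _ _ _).trans hew
  have hww : QuadraticMap.polar Q w w = 2 * Q w := FormsLib.polar_self' Q w
  have hQN : ∀ v, Q (N v) = QuadraticMap.polar Q e v ^ 2 * Q w := fun v => by
    rw [hN, FormsLib.quad_add, hL _ (hN₀L v), sub_eq_add_neg, FormsLib.quad_add, QuadraticMap.map_neg,
      QuadraticMap.map_smul, QuadraticMap.map_smul, FormsLib.quad_add, QuadraticMap.map_smul, hQe]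
    simp only [QuadraticMap.polar_add_right, QuadraticMap.polar_neg_right, QuadraticMap.polar_smul_right,
      QuadraticMap.polar_smul_left, hwe, hew, hee, hLe _ (hN₀L v), hLw _ (hN₀L v), smul_eq_mul]
    ring
  have hvN : ∀ v, QuadraticMap.polar Q (N v) v = -(QuadraticMap.polar Q e v ^ 2 * Q w) := fun v => by
    rw [hN]
    simp only [QuadraticMap.polar_add_left, QuadraticMap.polar_sub_left, QuadraticMap.polar_smul_left, hN₀a,
      smul_eq_mul]
    ring
  refine ⟨N, e, w, z, f, L, hL, by omega, hQe, hw, hz, hef, hew, heX z hzX, hwz,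
    fun x hx => ⟨hLe x hx, hLw x hx, hLz x hx⟩, hne, fun v => ?_, fun v => ?_, fun v hv => ?_, hQN, fun v hv => ?_⟩
  · rw [FormsLib.quad_add, hQN, QuadraticMap.polar_comm Q v (N v), hvN]
    ring
  · have hNL : ∀ x ∈ L, N₀ x = 0 := fun x hx => by
      obtain ⟨t, rfl⟩ := hN₀r.symm ▸ hx
      exact hN₀2 t
    have hN₀e : N₀ e = 0 := (hN₀k e).2 hLe
    have hN₀w : N₀ w = 0 := (hN₀k w).2 hLw
    have hpe : QuadraticMap.polar Q e (N₀ v) = 0 := heX _ (hLX (hN₀L v))
    have hpw : QuadraticMap.polar Q w (N₀ v) = 0 := (QuadraticMap.polar_comm _ _ _).trans (hLw _ (hN₀L v))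
    rw [hN (N v), hN v]
    simp only [map_add, map_sub, map_smul, QuadraticMap.polar_add_right, QuadraticMap.polar_sub_right,
      QuadraticMap.polar_smul_right, hN₀2, hN₀e, hN₀w, hpe, hpw, hew, hwe, hee, hww, smul_eq_mul]
    module
  · rw [hvN, hv]
    ring
  · rw [hN] at hv
    have hsplit : N₀ v = 0 ∧ QuadraticMap.polar Q e v = 0 ∧ QuadraticMap.polar Q w v = 0 := by
      have h0 : QuadraticMap.polar Q e v = 0 := by
        have h1 := congrArg (fun t => QuadraticMap.polar Q t w) hv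
        simp only [QuadraticMap.polar_add_left, QuadraticMap.polar_sub_left, QuadraticMap.polar_smul_left,
          hLw _ (hN₀L v), hew, hww, smul_eq_mul] at h1
        simp only [QuadraticMap.polar, zero_add, QuadraticMap.map_zero, sub_zero, sub_self, mul_zero] at h1
        exact (mul_eq_zero.1 (show QuadraticMap.polar Q e v * (2 * Q w) = 0 by
          simp only [QuadraticMap.polar]; linear_combination -h1)).resolve_right (mul_ne_zero h2 hw)
      rw [h0, zero_smul, sub_zero] at hv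
      have h3 : QuadraticMap.polar Q w v = 0 := by
        have h1 := congrArg (fun t => QuadraticMap.polar Q t f) hv
        simp only [QuadraticMap.polar_add_left, QuadraticMap.polar_smul_left, hef, smul_eq_mul] at h1
        rw [QuadraticMap.polar_comm Q (N₀ v), show QuadraticMap.polar Q f (N₀ v) = 0 from
          hoX f (Submodule.subset_span (by simp)) _ (hLX (hN₀L v))] at h1
        simpa [QuadraticMap.polar] using h1
      rw [h3, zero_smul, add_zero] at hv
      exact ⟨hv, h0, h3⟩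
    set A := L ⊔ Submodule.span F {e}
    set S := A ⊔ Submodule.span F {z}
    set D := LinearMap.BilinForm.orthogonal (QuadraticMap.polarBilin Q) (A ⊔ Submodule.span F {w})
    have hDv : v ∈ D := by
      intro x hx
      obtain ⟨x₁, hx₁, x₂, hx₂, rfl⟩ := Submodule.mem_sup.1 hx
      obtain ⟨l, hl, x₃, hx₃, rfl⟩ := Submodule.mem_sup.1 hx₁
      obtain ⟨t, rfl⟩ := Submodule.mem_span_singleton.1 hx₂
      obtain ⟨t', rfl⟩ := Submodule.mem_span_singleton.1 hx₃
      show QuadraticMap.polar Q (l + t' • e + t • w) v = 0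
      simp only [QuadraticMap.polar_add_left, QuadraticMap.polar_smul_left, (hN₀k v).1 hsplit.1 l hl, hsplit.2.1,
        hsplit.2.2, smul_zero, add_zero]
    have hlew : ∀ x ∈ S, ∀ y ∈ A ⊔ Submodule.span F {w}, QuadraticMap.polar Q y x = 0 := by
      intro x hx y hy
      obtain ⟨x₁, hx₁, x₂, hx₂, rfl⟩ := Submodule.mem_sup.1 hx
      obtain ⟨l, hl, x₃, hx₃, rfl⟩ := Submodule.mem_sup.1 hx₁
      obtain ⟨t, rfl⟩ := Submodule.mem_span_singleton.1 hx₂
      obtain ⟨t', rfl⟩ := Submodule.mem_span_singleton.1 hx₃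
      obtain ⟨y₁, hy₁, y₂, hy₂, rfl⟩ := Submodule.mem_sup.1 hy
      obtain ⟨m, hm, y₃, hy₃, rfl⟩ := Submodule.mem_sup.1 hy₁
      obtain ⟨s, rfl⟩ := Submodule.mem_span_singleton.1 hy₂
      obtain ⟨s', rfl⟩ := Submodule.mem_span_singleton.1 hy₃
      simp only [QuadraticMap.polar_add_left, QuadraticMap.polar_add_right, QuadraticMap.polar_smul_left,
        QuadraticMap.polar_smul_right, show QuadraticMap.polar Q m l = 0 from orthTo_of_quad hL m hm l hl, hLe m hm,
        hLz m hm, heX _ (hLX hl), hee, heX z hzX, (QuadraticMap.polar_comm _ _ _).trans (hLw l hl), hwe, hwz,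
        smul_zero, add_zero]
    have hSD : S ≤ D := fun x hx y hy => hlew x hx y hy
    have hAd : finrank F A = d - 1 := by
      have h1 := Submodule.finrank_sup_add_finrank_inf_eq L (Submodule.span F {e})
      have h3 : L ⊓ Submodule.span F {e} = ⊥ := by
        rw [Submodule.eq_bot_iff]
        rintro x ⟨hx, hx'⟩
        obtain ⟨t, rfl⟩ := Submodule.mem_span_singleton.1 hx'
        have h4 : QuadraticMap.polar Q f (t • e) = 0 := hoX f (Submodule.subset_span (by simp)) _ (hLX hx)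
        rw [QuadraticMap.polar_smul_right, hfe, smul_eq_mul, mul_one] at h4
        rw [h4, zero_smul]
      rw [h3, finrank_bot, finrank_span_singleton he0, show L ⊔ Submodule.span F {e} = A from rfl] at h1
      omega
    have hA0 : ∀ x ∈ A, Q x = 0 := quad_sup hL (fun x hx => by
      obtain ⟨t, rfl⟩ := Submodule.mem_span_singleton.1 hx
      rw [QuadraticMap.map_smul, hQe, smul_zero]) fun x hx y hy => by
      obtain ⟨t, rfl⟩ := Submodule.mem_span_singleton.1 hy
      rw [map_smul, show (QuadraticMap.polarBilin Q) x e = 0 from hLe x hx, smul_zero]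
    have hline : ∀ v₀, Q v₀ ≠ 0 → finrank F ↥(A ⊔ Submodule.span F {v₀}) = d := fun v₀ hv₀ => by
      have h1 := Submodule.finrank_sup_add_finrank_inf_eq A (Submodule.span F {v₀})
      have h3 : A ⊓ Submodule.span F {v₀} = ⊥ := by
        rw [Submodule.eq_bot_iff]
        rintro x ⟨hx, hx'⟩
        obtain ⟨t, rfl⟩ := Submodule.mem_span_singleton.1 hx'
        have h4 := hA0 _ hx
        rw [QuadraticMap.map_smul, smul_eq_mul, mul_eq_zero, mul_self_eq_zero] at h4
        rw [h4.resolve_right hv₀, zero_smul]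
      rw [h3, finrank_bot, finrank_span_singleton (fun h => hv₀ (by rw [h, QuadraticMap.map_zero]))] at h1
      omega
    have hDd : finrank F D = d := by
      have h1 : finrank F ↥(A ⊔ Submodule.span F {w}) + finrank F D = finrank F V := Spinor.finrank_split hQ
      rw [hline w hw, hdim] at h1
      omega
    have hSeq : S = D := Submodule.eq_of_le_of_finrank_eq hSD (by rw [hDd]; exact hline z hz)
    rw [hSeq]
    exact hDv

omit [Fintype F] [FiniteDimensional F V] in
/-- Quadratic values on `L + ⟨e⟩ + ⟨z⟩`. -/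
theorem quad_ker {L : Submodule F V} (hL : ∀ x ∈ L, Q x = 0) {e z : V} (hQe : Q e = 0)
    (hez : QuadraticMap.polar Q e z = 0)
    (hLe : ∀ x ∈ L, QuadraticMap.polar Q x e = 0 ∧ QuadraticMap.polar Q x z = 0) {v : V}
    (hv : v ∈ L ⊔ Submodule.span F {e} ⊔ Submodule.span F {z}) : ∃ t : F, Q v = t ^ 2 * Q z := by
  obtain ⟨x₁, hx₁, x₂, hx₂, rfl⟩ := Submodule.mem_sup.1 hv
  obtain ⟨l, hl, x₃, hx₃, rfl⟩ := Submodule.mem_sup.1 hx₁
  obtain ⟨t, rfl⟩ := Submodule.mem_span_singleton.1 hx₂
  obtain ⟨t', rfl⟩ := Submodule.mem_span_singleton.1 hx₃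
  refine ⟨t, ?_⟩
  rw [FormsLib.quad_add, FormsLib.quad_add]
  simp only [QuadraticMap.map_smul, hL l hl, hQe, QuadraticMap.polar_add_left, QuadraticMap.polar_smul_left,
    QuadraticMap.polar_smul_right, (hLe l hl).1, (hLe l hl).2, hez, smul_eq_mul]
  ring

/-- Reading an invariant subspace of odd dimension. -/
theorem read_siegel (hQ : (QuadraticMap.polarBilin Q).Nondegenerate) (h2 : (2 : F) ≠ 0) {d : ℕ}
    (hdim : finrank F V = 2 * d) (hde : Even d) {N : Module.End F V} {e w z f : V} {L : Submodule F V}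
    (hL : ∀ x ∈ L, Q x = 0) (hLd : finrank F L + 2 = d) (hQe : Q e = 0) (hw : Q w ≠ 0) (hz : Q z ≠ 0)
    (hef : QuadraticMap.polar Q e f = 1) (hez : QuadraticMap.polar Q e z = 0)
    (hLe : ∀ x ∈ L, QuadraticMap.polar Q x e = 0 ∧ QuadraticMap.polar Q x z = 0)
    (hiso : ∀ v, Q (v + N v) = Q v) (hNN : ∀ v, N (N v) = (-(2 * Q w) * QuadraticMap.polar Q e v) • e)
    (halt : ∀ v, QuadraticMap.polar Q e v = 0 → QuadraticMap.polar Q (N v) v = 0)
    (hQN : ∀ v, Q (N v) = QuadraticMap.polar Q e v ^ 2 * Q w)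
    (hker : ∀ v, N v = 0 → v ∈ L ⊔ Submodule.span F {e} ⊔ Submodule.span F {z})
    {p : ℕ} [Fact p.Prime] [CharP F p] (hp2 : p ≠ 2) {W : Submodule F V} (hW : NdOn (QuadraticMap.polarBilin Q) W)
    (hWN : W.map (1 + N) ≤ W) (hWo : Odd (finrank F W)) :
    ∃ U : Submodule F V, U ≤ W ∧ (∀ x ∈ U, Q x = 0) ∧ 2 * finrank F U + 1 = finrank F W ∧
      ∃ y ∈ W, (∀ x ∈ U, QuadraticMap.polar Q x y = 0) ∧ ∃ t : F, t ≠ 0 ∧
        ((finrank F W % 4 = 3 ∧ Q y = t ^ 2 * Q w) ∨ (finrank F W % 4 = 1 ∧ Q y = t ^ 2 * Q z)) := by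
  have hp := (Fact.out : p.Prime)
  have hp3 : 3 ≤ p := by have := hp.two_le; omega
  have htop : NdOn (QuadraticMap.polarBilin Q) ⊤ := fun u _ h => hQ.1 u fun v => h v trivial
  have hNv : ∀ v, (1 + N) v = v + N v := fun v => rfl
  have hpe : QuadraticMap.polar Q e e = 0 := polar_self_zero hQe
  have he0 : e ≠ 0 := fun h => by simp [h, QuadraticMap.polar] at hef
  have hN3 : ∀ v, N (N (N v)) = 0 := fun v => by
    rw [hNN (N v)]
    have h1 : QuadraticMap.polar Q e (N v) = 0 := by
      have h3 := hQN (N v)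
      rw [hNN, QuadraticMap.map_smul, hQe, smul_zero, eq_comm, mul_eq_zero] at h3
      exact eq_zero_of_pow_eq_zero (h3.resolve_right hw)
    rw [h1, mul_zero, zero_smul]
  haveI : Nontrivial V := ⟨⟨e, 0, he0⟩⟩
  haveI : CharP (Module.End F V) p :=
    charP_of_injective_algebraMap (FaithfulSMul.algebraMap_injective F (Module.End F V)) p
  have hT : (1 + N) ^ p = 1 := by
    rw [add_pow_char_of_commute p (Commute.one_left N), one_pow]
    have h3 : N ^ 3 = 0 := LinearMap.ext fun v => by simp [pow_succ, hN3]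
    rw [← Nat.sub_add_cancel hp3, pow_add, h3, mul_zero, add_zero]
  have hB : ∀ u v, QuadraticMap.polarBilin Q ((1 + N) u) ((1 + N) v) = QuadraticMap.polarBilin Q u v := fun u v => by
    show QuadraticMap.polar Q ((1 + N) u) ((1 + N) v) = QuadraticMap.polar Q u v
    simp only [QuadraticMap.polar, hNv]
    rw [show u + N u + (v + N v) = (u + v) + N (u + v) by rw [map_add]; abel, hiso, hiso, hiso]
  have hkerperp : ∀ v k, N k = 0 → QuadraticMap.polar Q (N v) k = 0 := fun v k hk => by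
    have h1 : QuadraticMap.polar Q ((1 + N) v) ((1 + N) k) = QuadraticMap.polar Q v k := hB v k
    rw [hNv, hNv, hk, add_zero, QuadraticMap.polar_add_left] at h1
    linear_combination h1
  obtain ⟨W', -, hW'T, hW', hoW, hsW, hiW, hdW⟩ :=
    exists_compl (refl_polar Q) hB hp.ne_zero hT htop le_top hW hWN le_top
  rw [finrank_top, hdim] at hdW
  have hinv : ∀ {X : Submodule F V}, X.map (1 + N) ≤ X → ∀ v ∈ X, N v ∈ X := fun {X} hX v hv => by
    have := X.sub_mem (hX ⟨v, hv, rfl⟩) hv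
    rwa [hNv, add_sub_cancel_left] at this
  -- dimensions
  have hNe : N (N f) ≠ 0 := by
    rw [hNN, hef, mul_one]
    exact smul_ne_zero (neg_ne_zero.2 (mul_ne_zero h2 hw)) he0
  have hrk : ∀ X : Submodule F V, finrank F (X.map N) + finrank F ↥(X ⊓ LinearMap.ker N) = finrank F X := fun X => by
    have h1 := LinearMap.finrank_range_add_finrank_ker (N.domRestrict X)
    rw [LinearMap.range_domRestrict] at h1
    have h3 : (LinearMap.ker (N.domRestrict X)).map X.subtype = X ⊓ LinearMap.ker N := by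
      ext v
      constructor
      · rintro ⟨u, hu, rfl⟩
        exact ⟨u.2, hu⟩
      · rintro ⟨hv, hk⟩
        exact ⟨⟨v, hv⟩, hk, rfl⟩
    rw [← h3, Submodule.finrank_map_subtype_eq]
    exact h1
  have hkerdim : finrank F (LinearMap.ker N) ≤ d := by
    refine (Submodule.finrank_mono (fun v hv => hker v hv)).trans ?_
    have h1 := Submodule.finrank_add_le_finrank_add_finrank (L ⊔ Submodule.span F {e}) (Submodule.span F {z})
    have h3 := Submodule.finrank_add_le_finrank_add_finrank L (Submodule.span F {e})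
    rw [finrank_span_singleton he0] at h3
    rw [finrank_span_singleton (fun h => hz (by rw [h, QuadraticMap.map_zero]))] at h1
    omega
  have hkersplit : finrank F ↥(W ⊓ LinearMap.ker N) + finrank F ↥(W' ⊓ LinearMap.ker N) ≤ d := by
    refine le_trans ?_ hkerdim
    have h1 := Submodule.finrank_sup_add_finrank_inf_eq (W ⊓ LinearMap.ker N) (W' ⊓ LinearMap.ker N)
    rw [le_bot_iff.1 ((inf_le_inf inf_le_left inf_le_left).trans hiW.le), finrank_bot] at h1
    have h3 := Submodule.finrank_mono (sup_le inf_le_right inf_le_right :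
      (W ⊓ LinearMap.ker N) ⊔ (W' ⊓ LinearMap.ker N) ≤ LinearMap.ker N)
    omega
  -- the two kinds of parts
  have low : ∀ X : Submodule F V, X.map (1 + N) ≤ X → NdOn (QuadraticMap.polarBilin Q) X →
      (∀ v ∈ X, QuadraticMap.polar Q e v = 0) →
      Even (finrank F (X.map N)) ∧ finrank F (X.map N) ≤ finrank F ↥(X ⊓ LinearMap.ker N) := by
    intro X hXT hX hXe
    have hN2 : ∀ v ∈ X, N (N v) = 0 := fun v hv => by rw [hNN, hXe v hv, mul_zero, zero_smul]
    have hsub : X.map N ≤ X ⊓ LinearMap.ker N := by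
      rintro _ ⟨v, hv, rfl⟩
      exact ⟨hinv hXT v hv, hN2 v hv⟩
    refine ⟨?_, Submodule.finrank_mono hsub⟩
    obtain ⟨C, hC⟩ := exists_isCompl ((LinearMap.ker N).comap X.subtype)
    let A : LinearMap.BilinForm F X := (QuadraticMap.polarBilin Q).compl₁₂ (N ∘ₗ X.subtype) X.subtype
    have hA : LinearMap.IsAlt A := fun v => halt v (hXe v v.2)
    have hCk : ∀ c ∈ C, N (c : V) = 0 → c = 0 := fun c hc h0 => by
      have : c ∈ (LinearMap.ker N).comap X.subtype ⊓ C := ⟨h0, hc⟩
      rwa [hC.inf_eq_bot, Submodule.mem_bot] at this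
    have hCn : NdOn A C := fun u hu hall => by
      refine hCk u hu (hX _ (hinv hXT u u.2) fun y hy => ?_)
      have hy' : (⟨y, hy⟩ : X) ∈ (LinearMap.ker N).comap X.subtype ⊔ C := by rw [hC.sup_eq_top]; trivial
      obtain ⟨k, hk, c, hc, hkc⟩ := Submodule.mem_sup.1 hy'
      have h1 : y = (k : V) + (c : V) := (congrArg Subtype.val hkc).symm
      show QuadraticMap.polar Q (N u) y = 0
      rw [h1, QuadraticMap.polar_add_right, hkerperp u k hk,
        show QuadraticMap.polar Q (N u) (c : V) = 0 from hall c hc, add_zero]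
    have h1 : finrank F C = finrank F (X.map N) := by
      have h3 := Submodule.finrank_add_eq_of_isCompl hC
      have h4 := hrk X
      have h5 : ((LinearMap.ker N).comap X.subtype).map X.subtype = X ⊓ LinearMap.ker N :=
        Submodule.map_comap_subtype X (LinearMap.ker N)
      rw [← h5, Submodule.finrank_map_subtype_eq] at h4
      omega
    exact h1 ▸ even_finrank hA hCn
  have high : ∀ X : Submodule F V, X.map (1 + N) ≤ X → e ∈ X →
      finrank F (X.map N) ≤ finrank F ↥(X ⊓ LinearMap.ker N) + 1 := by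
    intro X hXT _
    have h1 := hrk (X.map N)
    have h3 : finrank F ((X.map N).map N) ≤ 1 := by
      rw [← finrank_span_singleton (K := F) he0]
      refine Submodule.finrank_mono ?_
      rintro _ ⟨_, ⟨v, -, rfl⟩, rfl⟩
      rw [hNN]
      exact Submodule.smul_mem _ _ (Submodule.mem_span_singleton_self e)
    have h4 : finrank F ↥(X.map N ⊓ LinearMap.ker N) ≤ finrank F ↥(X ⊓ LinearMap.ker N) :=
      Submodule.finrank_mono (inf_le_inf_right _ (by rintro _ ⟨v, hv, rfl⟩; exact hinv hXT v hv))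
    omega
  have hperp : ∀ {X Y : Submodule F V}, OrthTo (QuadraticMap.polarBilin Q) X Y → e ∈ X →
      ∀ v ∈ Y, QuadraticMap.polar Q e v = 0 := fun ho he v hv => ho e he v hv
  obtain ⟨x₁, hx₁, x₂, hx₂, hxf⟩ := Submodule.mem_sup.1 (hsW ▸ Submodule.mem_top : f ∈ W ⊔ W')
  have heside : e ∈ W ∨ e ∈ W' := by
    rw [← hxf, map_add, map_add] at hNe
    by_cases h1 : N (N x₁) = 0
    · rw [h1, zero_add] at hNe
      refine Or.inr ?_
      have h3 : N (N x₂) ∈ W' := hinv hW'T _ (hinv hW'T _ hx₂)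
      rw [hNN] at hNe h3
      exact (W'.smul_mem_iff (fun h0 => hNe (by rw [h0, zero_smul]))).1 h3
    · refine Or.inl ?_
      have h3 : N (N x₁) ∈ W := hinv hWN _ (hinv hWN _ hx₁)
      rw [hNN] at h1 h3
      exact (W.smul_mem_iff (fun h0 => h1 (by rw [h0, zero_smul]))).1 h3
  rw [Nat.odd_iff] at hWo
  obtain ⟨a, ha⟩ := hde
  have hW1 := hrk W
  have hW2 := hrk W'
  rcases heside with he | he
  · -- the large block lies in `W`
    obtain ⟨⟨j, hj⟩, hlow⟩ := low W' hW'T hW' (hperp hoW he)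
    have hhigh := high W hWN he
    refine ⟨W ⊓ LinearMap.ker N, inf_le_left, ?_, by omega, ?_⟩
    · intro x hx
      have hmem : x ∈ W.map N ⊓ LinearMap.ker N := by
        have h1 := hrk (W.map N)
        have h3 : finrank F ((W.map N).map N) ≤ 1 := by
          rw [← finrank_span_singleton (K := F) he0]
          refine Submodule.finrank_mono ?_
          rintro _ ⟨_, ⟨v, -, rfl⟩, rfl⟩
          rw [hNN]
          exact Submodule.smul_mem _ _ (Submodule.mem_span_singleton_self e)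
        rwa [Submodule.eq_of_le_of_finrank_le (S₂ := W ⊓ LinearMap.ker N)
          (inf_le_inf_right _ (by rintro _ ⟨v, hv, rfl⟩; exact hinv hWN v hv) :
            W.map N ⊓ LinearMap.ker N ≤ W ⊓ LinearMap.ker N) (by omega)]
      obtain ⟨⟨v, -, rfl⟩, h3⟩ := hmem
      have h4 : (-(2 * Q w) * QuadraticMap.polar Q e v) • e = 0 := (hNN v).symm.trans h3
      rw [smul_eq_zero] at h4
      rw [hQN, (mul_eq_zero.1 (h4.resolve_right he0)).resolve_left (neg_ne_zero.2 (mul_ne_zero h2 hw))]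
      ring
    · obtain ⟨v, hv, hev⟩ : ∃ v ∈ W, QuadraticMap.polar Q e v ≠ 0 := by
        by_contra h
        push Not at h
        exact he0 (hW e he fun v hv => h v hv)
      refine ⟨N v, hinv hWN v hv, fun x hx => (QuadraticMap.polar_comm _ _ _).trans (hkerperp v x hx.2),
        QuadraticMap.polar Q e v, hev, Or.inl ⟨by omega, hQN v⟩⟩
  · -- the large block lies in the complement
    obtain ⟨⟨j, hj⟩, hlow⟩ := low W hWN hW (hperp (hoW.symm (refl_polar Q)) he)
    have hhigh := high W' hW'T he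
    have hWe : ∀ v ∈ W, QuadraticMap.polar Q e v = 0 := hperp (hoW.symm (refl_polar Q)) he
    have hU : ∀ x ∈ W.map N, Q x = 0 := by
      rintro _ ⟨v, hv, rfl⟩
      rw [hQN, hWe v hv]
      ring
    have hsub : W.map N ≤ W ⊓ LinearMap.ker N := by
      rintro _ ⟨v, hv, rfl⟩
      refine ⟨hinv hWN v hv, ?_⟩
      show N (N v) = 0
      rw [hNN, hWe v hv, mul_zero, zero_smul]
    refine ⟨W.map N, hsub.trans inf_le_left, hU, by omega, ?_⟩
    obtain ⟨u, hu, huU⟩ := SetLike.exists_of_lt (lt_of_le_of_ne hsub fun h => by rw [h] at hW1 hj; omega)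
    have hort : ∀ x ∈ W.map N, QuadraticMap.polar Q x u = 0 := by
      rintro _ ⟨v, -, rfl⟩
      exact hkerperp v u hu.2
    obtain ⟨t, ht⟩ := quad_ker hL hQe hez hLe (hker u hu.2)
    refine ⟨u, hu.1, hort, t, fun h0 => ?_, Or.inr ⟨by omega, ht⟩⟩
    have hu0 : Q u = 0 := by rw [ht, h0]; ring
    have hbig := two_mul_le hW (sup_le (hsub.trans inf_le_left) ((Submodule.span_singleton_le_iff_mem _ _).2 hu.1))
      (quad_sup hU (fun x hx => by
        obtain ⟨s, rfl⟩ := Submodule.mem_span_singleton.1 hx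
        rw [QuadraticMap.map_smul, hu0, smul_zero]) fun x hx y hy => by
        obtain ⟨s, rfl⟩ := Submodule.mem_span_singleton.1 hy
        rw [map_smul, show QuadraticMap.polarBilin Q x u = 0 from hort x hx, smul_zero])
    have h1 := Submodule.finrank_sup_add_finrank_inf_eq (W.map N) (Submodule.span F {u})
    have h3 : W.map N ⊓ Submodule.span F {u} = ⊥ := by
      rw [Submodule.eq_bot_iff]
      rintro x ⟨hx, hx'⟩
      obtain ⟨s, rfl⟩ := Submodule.mem_span_singleton.1 hx'
      by_contra hne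
      exact huU ((Submodule.smul_mem_iff _ (fun h => hne (by rw [h, zero_smul]))).1 hx)
    rw [h3, finrank_bot, finrank_span_singleton (fun h => huU (by rw [h]; exact Submodule.zero_mem _))] at h1
    omega

section Element

variable {ι : Type} [Fintype ι] [DecidableEq ι] {Q : QuadraticForm F (ι → F)}

/-- For even `d` some element of order `p` leaves no member of a given class invariant. -/
theorem siegel_bad {p : ℕ} [Fact p.Prime] [CharP F p] (hp2 : p ≠ 2)
    (hQ : (QuadraticMap.polarBilin Q).Nondegenerate) {d m : ℕ}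
    (hι : Fintype.card ι = 2 * d) (hd : 3 ≤ d) (hde : Even d) (hmo : Odd m) (hmd : m < d)
    {W₀ : Submodule F (ι → F)} (hW₀ : NdOn (QuadraticMap.polarBilin Q) W₀) (hW₀d : finrank F W₀ = m) :
    ∃ x : GL ι F, x ∈ Cfsg.Geo.omegaGL ⇑Q ∧
      ((x ^ p : GL ι F) : Matrix ι ι F) = (1 : F) • (1 : Matrix ι ι F) ∧
      (∀ z : F, (x : Matrix ι ι F) ≠ z • 1) ∧
      ∀ W : Submodule F (ι → F), W.map (Matrix.toLin' (x : Matrix ι ι F)) ≤ W → ¬ Iso Q W W₀ := by
  classical
  have hp := (Fact.out : p.Prime)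
  have hp3 : 3 ≤ p := by have := hp.two_le; omega
  have h2 : (2 : F) ≠ 0 := Ring.two_ne_zero (by rwa [ringChar.eq F p])
  have htop : NdOn (QuadraticMap.polarBilin Q) ⊤ := fun u _ h => hQ.1 u fun v => h v trivial
  have hdim : finrank F (ι → F) = 2 * d := by rw [finrank_pi, hι]
  obtain ⟨k, hk⟩ := hmo
  obtain ⟨U₀, hU₀W, hU₀, hU₀d⟩ := exists_singular_subspace k W₀ hW₀ (by omega)
  obtain ⟨y₀, hy₀, hy₀U, hQy₀⟩ := exists_aniso_perp hW₀ hU₀W hU₀ (by omega) hU₀d
  obtain ⟨ν, hν⟩ := FiniteField.exists_nonsquare (F := F) (Spinor.ringChar_ne_two h2)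
  have hν0 : ν ≠ 0 := fun h => hν (h ▸ IsSquare.zero)
  obtain ⟨N, e, w, z, f, L, hL, hLd, hQe, hw, hz, hef, -, hez, -, hLe, ⟨hf1, hf2⟩, hiso, hNN, halt, hQN, hker⟩ :=
    exists_siegel_pair hQ h2 hd hde hdim (δ := ν * Q y₀) (mul_ne_zero hν0 hQy₀) (m % 4 = 3)
  have hNv : ∀ v, (1 + N) v = v + N v := fun v => rfl
  have hN3 : ∀ v, N (N (N v)) = 0 := fun v => by
    rw [hNN (N v)]
    have h1 : QuadraticMap.polar Q e (N v) = 0 := by
      have h3 := hQN (N v)
      rw [hNN, QuadraticMap.map_smul, hQe, smul_zero, eq_comm, mul_eq_zero] at h3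
      exact eq_zero_of_pow_eq_zero (h3.resolve_right hw)
    rw [h1, mul_zero, zero_smul]
  haveI : Nontrivial (ι → F) := ⟨⟨e, 0, fun h => by simp [h, QuadraticMap.polar] at hef⟩⟩
  haveI : CharP (Module.End F (ι → F)) p :=
    charP_of_injective_algebraMap (FaithfulSMul.algebraMap_injective F (Module.End F (ι → F))) p
  have hT : (1 + N) ^ p = 1 := by
    rw [add_pow_char_of_commute p (Commute.one_left N), one_pow]
    have h3 : N ^ 3 = 0 := LinearMap.ext fun v => by simp [pow_succ, hN3]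
    rw [← Nat.sub_add_cancel hp3, pow_add, h3, mul_zero, add_zero]
  let g : (ι → F) ≃ₗ[F] (ι → F) := LinearEquiv.ofInjectiveEndo (1 + N) (FormIso.injective_of_pow hp.ne_zero hT)
  have hg : ∀ v, g v = v + N v := fun v => rfl
  have hgp : g ^ p = 1 := LinearEquiv.toLinearMap_injective (by
    exact (map_pow (LinearEquiv.automorphismGroup.toLinearMapMonoidHom (R := F) (M := ι → F)) g p).trans hT)
  have hgo : g ∈ FormsLib.oGroup Q := fun v => by rw [hg, hiso]
  have hlin : Matrix.toLin' ((TransvMax.glOf g : GL ι F) : Matrix ι ι F) = 1 + N := LinearMap.ext fun v => by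
    rw [Matrix.toLin'_apply, TransvMax.glOf_mulVec]
    rfl
  refine ⟨TransvMax.glOf g, OrthEvenWitness.glOf_mem_omega_odd hQ (by omega) hgo (hp.odd_of_ne_two hp2) hgp, ?_,
    fun c hc => ?_, fun W hWT hiW => ?_⟩
  · rw [← map_pow, hgp, map_one, Units.val_one, one_smul]
  · have hNz : ∀ v, N v = (c - 1) • v := fun v => by
      have h1 := LinearMap.congr_fun hlin v
      rw [hc, map_smul, Matrix.toLin'_one, LinearMap.smul_apply, LinearMap.id_apply, LinearMap.add_apply,
        Module.End.one_apply] at h1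
      rw [sub_smul, one_smul, h1, add_sub_cancel_left]
    have h3 := hN3 f
    have hf0 : f ≠ 0 := fun h => by simp [h, QuadraticMap.polar] at hef
    simp only [hNz, smul_smul, smul_eq_zero, hf0, or_false, mul_eq_zero] at h3
    have he0 : e ≠ 0 := fun h => by simp [h, QuadraticMap.polar] at hef
    have hc1 : c - 1 = 0 := by tauto
    have h4 := hNN f
    rw [hNz, hc1, zero_smul, hef, mul_one, eq_comm, smul_eq_zero] at h4
    exact h4.elim (neg_ne_zero.2 (mul_ne_zero h2 hw)) he0
  rw [hlin] at hWT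
  have hWn := hiW.ndOn hW₀
  obtain ⟨U, hUW, hU, hUd, y, hy, hyU, t, ht, hty⟩ := read_siegel (p := p) hQ h2 hdim hde hL hLd hQe hw hz hef hez
    (fun x hx => ⟨(hLe x hx).1, (hLe x hx).2.2⟩) hiso hNN halt hQN hker hp2 hWn hWT
    (by rw [hiW.finrank_eq', hW₀d]; exact ⟨k, hk⟩)
  rw [hiW.finrank_eq', hW₀d] at hty hUd
  have hQy : Q y = t ^ 2 * (ν * Q y₀) := by
    rcases hty with ⟨h, h'⟩ | ⟨h, h'⟩
    · rw [h', hf1 h]
    · rw [h', hf2 (by omega)]
  obtain ⟨φ, hφ⟩ := hiW
  let j : W →ₗ[F] (ι → F) := W₀.subtype ∘ₗ φ.toLinearMap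
  have hj : Function.Injective j := W₀.injective_subtype.comp φ.injective
  have hjQ : ∀ x : W, Q (j x) = Q (x : ι → F) := hφ
  have hjB : ∀ x x' : W, QuadraticMap.polar Q (j x) (j x') = QuadraticMap.polar Q (x : ι → F) x' := fun x x' => by
    simp only [QuadraticMap.polar, ← map_add, hjQ, Submodule.coe_add]
  let U' := (U.comap W.subtype).map j
  have hU'd : finrank F U' = k := by
    rw [(Submodule.equivMapOfInjective j hj _).symm.finrank_eq, (Submodule.comapSubtypeEquivOfLe hUW).finrank_eq]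
    omega
  have hsq := class_unique h2 htop hW₀ (k := k) (by omega) (by rw [hdim]; omega) (U' := U') hU₀W
    (by rintro _ ⟨x, -, rfl⟩; exact (φ x).2) hU₀ (by rintro _ ⟨x, hx, rfl⟩; rw [hjQ]; exact hU x hx) hU₀d hU'd hy₀
    (y' := j ⟨y, hy⟩) (φ _).2 hy₀U (by rintro _ ⟨x, hx, rfl⟩; rw [hjB]; exact hyU x hx) hQy₀
    (by rw [hjQ, hQy]; exact mul_ne_zero (pow_ne_zero _ ht) (mul_ne_zero hν0 hQy₀))
  rw [hjQ, hQy] at hsq
  obtain ⟨s, hs⟩ := hsq
  exact hν ⟨s / (t * Q y₀), by field_simp; linear_combination hs⟩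

end Element

end Cfsg.Agent.Elusive.OrthNd
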