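import Cfsg.Agent.Lib.Elusive.SimpleFactors
import Cfsg.Agent.Lib.Elusive.SymplecticIsotropic

/-!
Totally isotropic invariant subspaces of a symplectic isometry of prime order.
-/

set_option autoImplicit false
set_option linter.style.haveILetI false

namespace Cfsg.Agent.Elusive.SpFree

open Module Polynomial FormIso

variable {F V : Type*} [Field F] [Fintype F] [AddCommGroup V] [Module F V] [FiniteDimensional F V]
  {A : LinearMap.BilinForm F V} {T : Module.End F V} {r : ℕ} [Fact r.Prime]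

/-- A large free part with self-dual pieces contains an isotropic piece in a nondegenerate one. -/
theorem exists_iso_simple {p : ℕ} [Fact p.Prime] [CharP F p] (hA : LinearMap.IsAlt A) (hiso : ∀ u v, A (T u) (T v) = A u v) (hr2 : r ≠ 2)
    (hrF : (r : F) ≠ 0) (hrq : (Fintype.card F : ZMod r) ≠ 0) (hT : T ^ r = 1)
    (hev : Even (orderOf (Fintype.card F : ZMod r))) {X : Submodule F V} (hX : NdOn A X) (hXT : X.map T ≤ X)
    (hfree : ∀ v ∈ X, T v = v → v = 0) (hbig : r - 1 < finrank F X) :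
    ∃ P W : Submodule F V, P ≤ X ∧ P.map T ≤ P ∧ NdOn A P ∧
      finrank F P = 2 * orderOf (Fintype.card F : ZMod r) ∧
      W ≤ P ∧ W.map T ≤ W ∧ OrthTo A W W ∧ finrank F W = orderOf (Fintype.card F : ZMod r) := by
  classical
  have hrp := (Fact.out : r.Prime)
  set e := orderOf (Fintype.card F : ZMod r) with hedef
  have hepos : 0 < e := orderOf_pos_iff.2 (isUnit_iff_ne_zero.2 hrq).isOfFinOrder
  have hblock : ∀ W : Submodule F V, W ≤ X → W.map T ≤ W → NdOn A W → W ≠ ⊥ →
      ∃ S : Submodule F V, S ≤ W ∧ S.map T ≤ S ∧ NdOn A S ∧ finrank F S = e :=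
    fun W hWX hWT hW hne => alt_block (p := p) hA hiso hr2 hrF hrq hT (if_pos hev).symm W hWT
      (fun v hv => hfree v (hWX hv)) hW hne
  obtain ⟨J, hJ⟩ := dvd_finrank (refl_of_alt hA) hiso hrp.ne_zero hT hepos hX hXT hblock
  have hfreeTop : ∀ (Y : Submodule F V), Y ≤ X → ∀ v ∈ Y, T v = v → v = 0 := fun Y hY v hv => hfree v (hY hv)
  -- the blocks, within `X`
  let B' : LinearMap.BilinForm F X := A.compl₁₂ X.subtype X.subtype
  let T' : Module.End F X := T.restrict fun v hv => hXT ⟨v, hv, rfl⟩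
  have hT'c : ∀ v : X, (T' v : V) = T v := fun v => rfl
  have hT'r : T' ^ r = 1 := by
    refine LinearMap.ext fun v => Subtype.ext ?_
    rw [Module.End.pow_restrict r]
    show (T ^ r) (v : V) = (v : V)
    rw [hT]
    rfl
  have hA' : LinearMap.IsAlt B' := fun v => hA (v : V)
  have hiso' : ∀ u v, B' (T' u) (T' v) = B' u v := fun u v => hiso (u : V) (v : V)
  have hfree' : ∀ v : X, T' v = v → v = 0 := fun v hv => Subtype.ext (hfree v v.2 (congrArg Subtype.val hv))
  obtain ⟨D, hD1, hD2, -⟩ := SpDecomp.exists_blocks (T := T') (a := e) hA' hiso' hrp.ne_zero hT'r J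
    (fun t' Y _ hY hYT hYd => by
      obtain ⟨S, hSY, hST, hS, hSd⟩ := alt_block (p := p) hA' hiso' hr2 hrF hrq hT'r (if_pos hev).symm Y hYT
        (fun v _ => hfree' v) hY fun h => by
          rw [h, finrank_bot] at hYd
          exact (Nat.mul_pos hepos (Nat.succ_pos t')).ne hYd
      exact ⟨S, hSY, hST, hS, hSd⟩)
    ⊤ (fun u _ h => Subtype.ext (hX u u.2 fun v hv => h ⟨v, hv⟩ trivial)) le_top (by rw [finrank_top, hJ])
  choose f hfm hfi hfd hfv using fun j : Fin J => Simple.exists_factor hrF hT'r (hD1 j).1 (fun v _ => hfree' v)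
    (hD1 j).2.2 (by rw [(hD1 j).2.2]; exact hepos)
  obtain ⟨a, b, hab, hne⟩ : ∃ a b, f a = f b ∧ a ≠ b := by
    by_contra h
    push Not at h
    have h1 := Simple.card_factors_le (Finset.univ.image f) (by
      intro g hg
      obtain ⟨j, -, rfl⟩ := Finset.mem_image.1 hg
      exact ⟨hfm j, hfi j, hfd j⟩) hrF hrq
    rw [Finset.card_image_of_injective _ fun x y hxy => h x y hxy, Finset.card_univ, Fintype.card_fin,
      mul_comm, ← hedef] at h1
    omega
  set P := D a ⊔ D b with hPdef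
  have hPT : P.map T' ≤ P := invariant_sup (hD1 a).1 (hD1 b).1
  have hPn : NdOn B' P := ndOn_sup (refl_of_alt hA') (hD1 a).2.1 (hD1 b).2.1 (hD2 a b hne)
  have hPd : finrank F P = 2 * e := by
    have := Submodule.finrank_sup_add_finrank_inf_eq (D a) (D b)
    rw [inf_eq_bot (hD1 a).2.1 (hD2 b a (Ne.symm hne)), finrank_bot, (hD1 a).2.2, (hD1 b).2.2, ← hPdef] at this
    omega
  -- work inside the two blocks
  have hPm : ∀ v ∈ P, T' v ∈ P := fun v hv => hPT ⟨v, hv, rfl⟩
  let B'' : LinearMap.BilinForm F P := B'.compl₁₂ P.subtype P.subtype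
  let T'' : Module.End F P := T'.restrict hPm
  have hfd' : (f a).natDegree = e := Simple.natDegree_factor hrF hrq (hfi a) (hfd a)
  have hfP : aeval T'' (f a) = 0 := by
    refine LinearMap.ext fun v => Subtype.ext ?_
    rw [← aeval_restrict_apply hPm]
    obtain ⟨x, hx, y, hy, hxy⟩ := Submodule.mem_sup.1 v.2
    rw [← hxy, map_add, hfv a x hx, hab, hfv b y hy, add_zero]
    rfl
  have hT''r : T'' ^ r = 1 := by
    refine LinearMap.ext fun v => Subtype.ext ?_
    rw [Module.End.pow_restrict r]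
    show (T' ^ r) (v : X) = (v : X)
    rw [hT'r]
    rfl
  -- each block is spanned by any orbit
  have hcyc : ∀ j, D j ≤ P → ∀ (u : P), (u : X) ∈ D j → u ≠ 0 → f j = f a →
      ∀ g : F[X], (∀ g' : F[X], B'' (aeval T'' g' u) (aeval T'' g u) = 0) → aeval T'' g u = 0 := by
    intro j hjP u hu hu0 hfj g hg
    set U := Submodule.span F (Set.range fun l : Fin (f a).natDegree => (T' ^ (l : ℕ)) (u : X))
    obtain ⟨hUT, huU⟩ := Simple.span_orbit_invariant (hfm a) (hfj ▸ hfv j u hu) U rfl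
    have hUD : U ≤ D j := Submodule.span_le.2 (by rintro _ ⟨l, rfl⟩; exact pow_mem (hD1 j).1 hu l)
    have hUeq : U = D j := by
      refine Submodule.eq_of_le_of_finrank_le hUD ((hD1 j).2.2.le.trans (Nat.le_of_dvd ?_
        (orderOf_dvd_finrank hT'r hUT fun v _ => hfree' v)))
      exact Nat.pos_of_ne_zero fun h => hu0 (Subtype.ext (by
        rwa [Submodule.finrank_eq_zero.1 h, Submodule.mem_bot] at huU))
    have hval : ∀ h : F[X], ((aeval T'' h u : P) : X) = aeval T' h (u : X) := fun h =>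
      (aeval_restrict_apply hPm h u).symm
    have hgD : aeval T' g (u : X) ∈ D j := by
      rw [aeval_eq_sum_range, LinearMap.sum_apply]
      exact Submodule.sum_mem _ fun l _ => Submodule.smul_mem _ _ (pow_mem (hD1 j).1 hu l)
    refine Subtype.ext ?_
    rw [hval]
    refine (hD1 j).2.1 _ hgD fun y hy => refl_of_alt hA' _ _ ?_
    have : D j ≤ LinearMap.ker (B'.flip (aeval T' g (u : X))) := by
      rw [← hUeq, Submodule.span_le]
      rintro _ ⟨l, rfl⟩
      have h := hg (Polynomial.X ^ (l : ℕ))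
      change B' ((aeval T'' (Polynomial.X ^ (l : ℕ)) u : P) : _) ((aeval T'' g u : P) : _) = 0 at h
      rw [hval, hval, map_pow, aeval_X] at h
      exact h
    exact this hy
  obtain ⟨x₁, hx₁, hx₁0⟩ := Submodule.exists_mem_ne_zero_of_ne_bot (p := D a) fun h => by
    have := (hD1 a).2.2
    rw [h, finrank_bot] at this
    omega
  obtain ⟨x₂, hx₂, hx₂0⟩ := Submodule.exists_mem_ne_zero_of_ne_bot (p := D b) fun h => by
    have := (hD1 b).2.2
    rw [h, finrank_bot] at this
    omega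
  let u₁ : P := ⟨x₁, Submodule.mem_sup_left hx₁⟩
  let u₂ : P := ⟨x₂, Submodule.mem_sup_right hx₂⟩
  obtain ⟨h, hh⟩ := hev.two_dvd
  obtain ⟨f₀, -, hf₀⟩ := FiniteField.card F p
  have hqh : (Fintype.card F : ZMod r) ^ h = -1 := by
    have h2 : (Fintype.card F : ZMod r) ^ h * (Fintype.card F : ZMod r) ^ h = 1 := by
      rw [← pow_add, ← two_mul, ← hh]
      exact pow_orderOf_eq_one _
    refine (mul_self_eq_one_iff.1 h2).resolve_left fun h' => ?_
    have := Nat.le_of_dvd (by omega) (orderOf_dvd_of_pow_eq_one h')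
    omega
  obtain ⟨g, hv0, hv⟩ := Simple.exists_isotropic_vector (σ := RingHom.id F) (B := B'') (T := T'')
    (fun u v => hiso' (u : X) (v : X)) (fun _ => rfl) (ε := -1)
    (fun u v => by rw [RingHom.id_apply, neg_one_mul]; exact (hA'.neg (u : X) (v : X)).symm)
    (p := p) (m := f₀ * h) (fun a => by rw [pow_mul, ← hf₀, RingHom.id_apply, FiniteField.pow_card_pow])
    (by
      obtain ⟨l, hl⟩ : r ∣ p ^ (↑f₀ * h) + 1 := by
        rw [pow_mul, ← hf₀, ← ZMod.natCast_eq_zero_iff]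
        push_cast
        rw [hqh]
        ring
      rw [hl, pow_mul, hT''r, one_pow])
    (hfi a) hfP (by rw [hfd', hh, pow_mul p, ← hf₀, ← pow_mul, mul_comm 2 h])
    (u₁ := u₁) (u₂ := u₂)
    (fun k => by
      show B' x₁ ((aeval T'' k u₂ : P) : _) = 0
      rw [← aeval_restrict_apply hPm]
      refine hD2 a b hne x₁ hx₁ _ ?_
      show aeval T' k x₂ ∈ D b
      rw [aeval_eq_sum_range, LinearMap.sum_apply]
      exact Submodule.sum_mem _ fun l _ => Submodule.smul_mem _ _ (pow_mem (hD1 b).1 hx₂ l))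
    (fun e => hx₂0 (congrArg Subtype.val e))
    (hcyc a le_sup_left u₁ hx₁ (fun e => hx₁0 (congrArg Subtype.val e)) rfl)
    (fun e => hx₁0 (congrArg Subtype.val e))
    (hcyc b le_sup_right u₂ hx₂ (fun e => hx₂0 (congrArg Subtype.val e)) hab.symm)
  set v := aeval T'' g u₁ + u₂
  set U := Submodule.span F (Set.range fun l : Fin (f a).natDegree => (T'' ^ (l : ℕ)) v)
  obtain ⟨hUT, hvU⟩ := Simple.span_orbit_invariant (hfm a) (show aeval T'' (f a) v = 0 by rw [hfP]; rfl) U rfl
  have hUd : finrank F U = e := by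
    refine le_antisymm ?_ (Nat.le_of_dvd ?_ (orderOf_dvd_finrank hT''r hUT fun w _ hw =>
      Subtype.ext (hfree' _ (congrArg Subtype.val hw))))
    · exact (finrank_range_le_card _).trans ((Fintype.card_fin _).trans hfd').le
    · exact Nat.pos_of_ne_zero fun h => hv0 (by rwa [Submodule.finrank_eq_zero.1 h, Submodule.mem_bot] at hvU)
  have hUiso : OrthTo B'' U U := by
    have key : ∀ i l : ℕ, i ≤ l → B'' ((T'' ^ i) v) ((T'' ^ l) v) = 0 := fun i l hil => by
      obtain ⟨k, rfl⟩ := Nat.exists_eq_add_of_le hil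
      rw [pow_add, Module.End.mul_apply,
        pow_isometry (B := B'') (fun u v => hiso' (u : X) (v : X)) i, hv]
    have key' : ∀ i l : ℕ, B'' ((T'' ^ i) v) ((T'' ^ l) v) = 0 := fun i l => by
      rcases le_total i l with h | h
      · exact key i l h
      · exact refl_of_alt (fun w => hA' (w : X)) _ _ (key l i h)
    intro x hx y hy
    have h1 : ∀ l : Fin (f a).natDegree, B'' x ((T'' ^ (l : ℕ)) v) = 0 := fun l => by
      have : U ≤ LinearMap.ker (B''.flip ((T'' ^ (l : ℕ)) v)) :=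
        Submodule.span_le.2 (by rintro _ ⟨i, rfl⟩; exact key' i l)
      exact this hx
    have : U ≤ LinearMap.ker (B'' x) := Submodule.span_le.2 (by rintro _ ⟨l, rfl⟩; exact h1 l)
    exact this hy
  refine ⟨P.map X.subtype, (U.map P.subtype).map X.subtype, fun _ ⟨w, _, hw⟩ => hw ▸ w.2, ?_, ?_, ?_,
    Submodule.map_mono (fun _ ⟨w, _, hw⟩ => hw ▸ w.2), ?_, ?_, ?_⟩
  · rintro _ ⟨_, ⟨w, hw, rfl⟩, rfl⟩
    exact ⟨T' w, hPT ⟨w, hw, rfl⟩, rfl⟩
  · rintro _ ⟨w, hw, rfl⟩ hall
    rw [hPn w hw fun y hy => hall _ ⟨y, hy, rfl⟩, map_zero]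
  · rw [Submodule.finrank_map_subtype_eq, hPd]
  · rintro _ ⟨_, ⟨_, ⟨w, hw, rfl⟩, rfl⟩, rfl⟩
    exact ⟨_, ⟨T'' w, hUT ⟨w, hw, rfl⟩, rfl⟩, rfl⟩
  · rintro _ ⟨_, ⟨w, hw, rfl⟩, rfl⟩ _ ⟨_, ⟨y, hy, rfl⟩, rfl⟩
    exact hUiso w hw y hy
  · rw [Submodule.finrank_map_subtype_eq, Submodule.finrank_map_subtype_eq, hUd]

/-- Totally isotropic invariant subspaces inside a part without fixed vectors. -/
theorem exists_free {p : ℕ} [Fact p.Prime] [CharP F p] (hA : LinearMap.IsAlt A) (hiso : ∀ u v, A (T u) (T v) = A u v) (hr2 : r ≠ 2)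
    (hrF : (r : F) ≠ 0) (hrq : (Fintype.card F : ZMod r) ≠ 0) (hT : T ^ r = 1) :
    ∀ (a : ℕ) (X : Submodule F V), NdOn A X → X.map T ≤ X → (∀ v ∈ X, T v = v → v = 0) →
      2 * (a * orderOf (Fintype.card F : ZMod r)) ≤ finrank F X →
      (Even (orderOf (Fintype.card F : ZMod r)) → a = 0 ∨
        2 * (a * orderOf (Fintype.card F : ZMod r)) + (r - 1) ≤ finrank F X + orderOf (Fintype.card F : ZMod r)) →
      ∃ U : Submodule F V, U ≤ X ∧ U.map T ≤ U ∧ OrthTo A U U ∧
        finrank F U = a * orderOf (Fintype.card F : ZMod r) := by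
  classical
  have hepos : 0 < (orderOf (Fintype.card F : ZMod r)) := orderOf_pos_iff.2 (isUnit_iff_ne_zero.2 hrq).isOfFinOrder
  intro a
  induction a with
  | zero => exact fun X _ _ _ _ _ => ⟨⊥, bot_le, by simp, fun u hu v _ => by simp [(Submodule.mem_bot F).1 hu], by simp⟩
  | succ a ih =>
    intro X hX hXT hfree hdim hcond
    simp only [add_mul, one_mul] at hdim hcond
    have hne : X ≠ ⊥ := fun h => by rw [h, finrank_bot] at hdim; omega
    obtain ⟨P, W, hPX, hPT, hP, hPd, hWP, hWT, hW, hWd⟩ : ∃ P W : Submodule F V, P ≤ X ∧ P.map T ≤ P ∧ NdOn A P ∧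
        finrank F P = 2 * (orderOf (Fintype.card F : ZMod r)) ∧ W ≤ P ∧ W.map T ≤ W ∧ OrthTo A W W ∧ finrank F W = (orderOf (Fintype.card F : ZMod r)) := by
      by_cases hev : Even (orderOf (Fintype.card F : ZMod r))
      · refine exists_iso_simple (p := p) hA hiso hr2 hrF hrq hT hev hX hXT hfree ?_
        have := (hcond hev).resolve_left (Nat.succ_ne_zero a)
        omega
      · have hno : ∀ S : Submodule F V, S.map T ≤ S → (∀ v ∈ S, T v = v → v = 0) → finrank F S = (orderOf (Fintype.card F : ZMod r)) → ¬ NdOn A S :=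
          fun S _ _ hSd hS => hev (by have := even_finrank hA hS; rwa [hSd] at this)
        obtain ⟨P, hPX, hPT, hP, hPd⟩ := exists_pair (refl_of_alt hA) hiso hrF hrq hT hX hXT hfree hne hno
        obtain ⟨W, hWP, hWT, hWd⟩ := exists_invariant_orderOf hT hrq hPT
          (fun h => by rw [h, finrank_bot] at hPd; omega) fun v hv => hfree v (hPX hv)
        exact ⟨P, W, hPX, hPT, hP, hPd, hWP, hWT, (ndOn_or_orthTo (refl_of_alt hA) hiso hT hWT
          (fun v hv => hfree v (hPX (hWP hv))) hWd).resolve_left (hno W hWT (fun v hv => hfree v (hPX (hWP hv))) hWd),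
          hWd⟩
    obtain ⟨X', hX'X, hX'T, hX', ho, -, hinf, hd⟩ :=
      exists_compl (refl_of_alt hA) hiso (Fact.out : r.Prime).ne_zero hT hX hXT hP hPT hPX
    obtain ⟨U, hUX, hUT, hU, hUd⟩ := ih X' hX' hX'T (fun v hv => hfree v (hX'X hv)) (by omega) fun hev => by
      rcases Nat.eq_zero_or_pos a with h0 | h0
      · exact Or.inl h0
      · have := (hcond hev).resolve_left (Nat.succ_ne_zero a)
        exact Or.inr (by omega)
    have hoWU : OrthTo A W U := fun u hu v hv => ho u (hWP hu) v (hUX hv)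
    refine ⟨W ⊔ U, sup_le (hWP.trans hPX) (hUX.trans hX'X), invariant_sup hWT hUT, ?_, ?_⟩
    · intro x hx y hy
      obtain ⟨w, hw, u, hu, rfl⟩ := Submodule.mem_sup.1 hx
      obtain ⟨w', hw', u', hu', rfl⟩ := Submodule.mem_sup.1 hy
      simp only [map_add, LinearMap.add_apply, hW w hw w' hw', hU u hu u' hu', hoWU w hw u' hu',
        hoWU.symm (refl_of_alt hA) u hu w' hw', add_zero]
    · have := Submodule.finrank_sup_add_finrank_inf_eq W U
      rw [le_bot_iff.1 ((inf_le_inf hWP hUX).trans hinf.le), finrank_bot, hWd, hUd] at this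
      rw [add_mul, one_mul]
      omega

/-- Totally isotropic invariant subspaces built from fixed and moved parts. -/
theorem exists_isotropic_invariant {p : ℕ} [Fact p.Prime] [CharP F p] (hA : LinearMap.IsAlt A) (hiso : ∀ u v, A (T u) (T v) = A u v) (hr2 : r ≠ 2)
    (hrF : (r : F) ≠ 0) (hrq : (Fintype.card F : ZMod r) ≠ 0) (hT : T ^ r = 1) {X : Submodule F V}
    (hX : NdOn A X) (hXT : X.map T ≤ X) {m a : ℕ} (ham : a * orderOf (Fintype.card F : ZMod r) ≤ m)
    (hfix : 2 * (m - a * orderOf (Fintype.card F : ZMod r)) ≤ finrank F ↥(X ⊓ fixedSpace T))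
    (hfree1 : finrank F ↥(X ⊓ fixedSpace T) + 2 * (a * orderOf (Fintype.card F : ZMod r)) ≤ finrank F X)
    (hfree2 : Even (orderOf (Fintype.card F : ZMod r)) → a = 0 ∨ finrank F ↥(X ⊓ fixedSpace T) +
      2 * (a * orderOf (Fintype.card F : ZMod r)) + (r - 1) ≤ finrank F X + orderOf (Fintype.card F : ZMod r)) :
    ∃ U : Submodule F V, U ≤ X ∧ U.map T ≤ U ∧ OrthTo A U U ∧ finrank F U = m := by
  obtain ⟨M, hMX, hMT, hfree, hsup, ho, hM, hK, hdim⟩ :=
    exists_split (refl_of_alt hA) hiso hrF hT hX hXT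
  obtain ⟨U₁, hU₁M, hU₁T, hU₁, hU₁d⟩ := exists_free (p := p) hA hiso hr2 hrF hrq hT a M hM hMT hfree
    (by omega) fun hev => (hfree2 hev).imp id fun h => by omega
  obtain ⟨U₀, hU₀K, hU₀, hU₀d⟩ := SpIso.exists_isotropic hA hK hfix
  have hU₀T : U₀.map T ≤ U₀ := by
    rintro _ ⟨v, hv, rfl⟩
    rwa [mem_fixedSpace.1 (hU₀K hv).2]
  have ho' : OrthTo A U₀ U₁ := fun u hu v hv => ho u (hU₀K hu) v (hU₁M hv)
  refine ⟨U₀ ⊔ U₁, sup_le (hU₀K.trans inf_le_left) (hU₁M.trans hMX), invariant_sup hU₀T hU₁T, ?_, ?_⟩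
  · intro x hx y hy
    obtain ⟨w, hw, u, hu, rfl⟩ := Submodule.mem_sup.1 hx
    obtain ⟨w', hw', u', hu', rfl⟩ := Submodule.mem_sup.1 hy
    simp only [map_add, LinearMap.add_apply, hU₀ w hw w' hw', hU₁ u hu u' hu', ho' w hw u' hu',
      ho'.symm (refl_of_alt hA) u hu w' hw', add_zero]
  · have hinf : U₀ ⊓ U₁ = ⊥ := by
      rw [Submodule.eq_bot_iff]
      rintro x ⟨h0, h1⟩
      exact hfree x (hU₁M h1) (mem_fixedSpace.1 (hU₀K h0).2)
    have := Submodule.finrank_sup_add_finrank_inf_eq U₀ U₁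
    rw [hinf, finrank_bot, hU₁d, hU₀d] at this
    omega

end Cfsg.Agent.Elusive.SpFree
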