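import Cfsg.Agent.Lib.Elusive.Linear
import Cfsg.Agent.Lib.FormTorus.Models
import Cfsg.Agent.Lib.FormTorus.SymplecticOrders
import Cfsg.Agent.Lib.TransvMax.NonsingModels
import Cfsg.Agent.Lib.Forms.SpOrder
import Cfsg.Agent.Lib.Forms.Models

/-!
Symplectic isometries of prime order with prescribed fixed space.
-/

set_option autoImplicit false
set_option linter.style.haveILetI false

namespace Cfsg.Agent.Elusive.SpWitness

open Module

variable {F : Type*} [Field F]

/-- An isometry of an alternating form carried to the standard symplectic group. -/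
theorem exists_matrix {V : Type*} [AddCommGroup V] [Module F V] [FiniteDimensional F V]
    {B : LinearMap.BilinForm F V} (hA : LinearMap.IsAlt B) (hB : ∀ u, (∀ v, B u v = 0) → u = 0)
    {m : ℕ} (hdim : finrank F V = 2 * m) (g : Module.End F V) (hg : ∀ u v, B (g u) (g v) = B u v)
    {r : ℕ} (hgr : g ^ r = 1) :
    ∃ x : ↥(Matrix.symplecticGroup (Fin m) F),
      (x : Matrix (Fin m ⊕ Fin m) (Fin m ⊕ Fin m) F) ^ r = 1 ∧
      finrank F ↥(fixedSpace (Matrix.toLin' (x : Matrix (Fin m ⊕ Fin m) (Fin m ⊕ Fin m) F))) =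
        finrank F ↥(fixedSpace g) := by
  obtain ⟨Φ, hΦ⟩ := FormModel.exists_symp_coords hA hB hdim
  let L : Module.End F (Fin m ⊕ Fin m → F) :=
    (Φ.symm : V →ₗ[F] _) ∘ₗ g ∘ₗ (Φ : (Fin m ⊕ Fin m → F) →ₗ[F] V)
  have hpow : ∀ k : ℕ, L ^ k = (Φ.symm : V →ₗ[F] _) ∘ₗ (g ^ k) ∘ₗ (Φ : (Fin m ⊕ Fin m → F) →ₗ[F] V) := by
    intro k
    induction k with
    | zero => exact LinearMap.ext fun v => (Φ.symm_apply_apply v).symm
    | succ k ih =>
      refine LinearMap.ext fun v => ?_
      rw [pow_succ, pow_succ, ih, Module.End.mul_apply]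
      show Φ.symm ((g ^ k) (Φ (Φ.symm (g (Φ v))))) = _
      rw [Φ.apply_symm_apply]
      rfl
  let x : ↥(Matrix.symplecticGroup (Fin m) F) := ⟨LinearMap.toMatrix' L,
    (FormsLib.mem_symplectic_iff _).2 fun u v => by
      rw [LinearMap.toMatrix'_mulVec, LinearMap.toMatrix'_mulVec]
      show FormsLib.spB m F (Φ.symm (g (Φ u))) (Φ.symm (g (Φ v))) = _
      rw [← hΦ, Φ.apply_symm_apply, Φ.apply_symm_apply, hg, hΦ]⟩
  refine ⟨x, ?_, ?_⟩
  · have h1 : L ^ r = 1 := by
      rw [hpow, hgr]
      exact LinearMap.ext fun v => Φ.symm_apply_apply v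
    apply Matrix.toLin'.injective
    rw [Matrix.toLin'_pow, Matrix.toLin'_one]
    show (Matrix.toLin' (LinearMap.toMatrix' L)) ^ r = LinearMap.id
    rw [Matrix.toLin'_toMatrix', h1]
    rfl
  · show finrank F ↥(fixedSpace (Matrix.toLin' (LinearMap.toMatrix' L))) = _
    rw [Matrix.toLin'_toMatrix']
    have hmap : (fixedSpace L).map (Φ : (Fin m ⊕ Fin m → F) →ₗ[F] V) = fixedSpace g := by
      ext v
      rw [Submodule.mem_map]
      constructor
      · rintro ⟨u, hu, rfl⟩
        have := congrArg Φ (mem_fixedSpace.1 hu)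
        rw [mem_fixedSpace]
        simpa [L] using this
      · intro hv
        refine ⟨Φ.symm v, mem_fixedSpace.2 ?_, Φ.apply_symm_apply v⟩
        show Φ.symm (g (Φ (Φ.symm v))) = _
        rw [Φ.apply_symm_apply, mem_fixedSpace.1 hv]
    rw [← hmap, Φ.finrank_map_eq]

variable [Fintype F] {p : ℕ} [Fact p.Prime] [CharP F p] {r : ℕ} [Fact r.Prime]

/-- The least dimension of a symplectic isometry of order `r`. -/
theorem c_facts (hr2 : r ≠ 2) (hrp : r ≠ p) {c : ℕ}
    (hc : c = if Even (orderOf (Fintype.card F : ZMod r)) then orderOf (Fintype.card F : ZMod r)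
      else 2 * orderOf (Fintype.card F : ZMod r)) :
    0 < c ∧ Even c ∧ c ∣ r - 1 := by
  have hrpr := (Fact.out : r.Prime)
  have hpos := orderOf_card_pos (F := F) (p := p) hrp
  have hdvd : orderOf (Fintype.card F : ZMod r) ∣ r - 1 :=
    orderOf_dvd_of_pow_eq_one (ZMod.pow_card_sub_one_eq_one (card_cast_ne_zero (F := F) (p := p) hrp))
  have hev : 2 ∣ r - 1 := by
    obtain ⟨k, hk⟩ := hrpr.odd_of_ne_two hr2
    exact ⟨k, by omega⟩
  rw [hc]
  split_ifs with h
  · exact ⟨hpos, h, hdvd⟩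
  · refine ⟨by omega, even_two_mul _, ?_⟩
    exact (Nat.prime_two.coprime_iff_not_dvd.2 fun h' => h (even_iff_two_dvd.2 h')).mul_dvd_of_dvd_of_dvd hev hdvd

/-- If `r` divides the order of the symplectic group, then `c ≤ 2m`. -/
theorem c_le_of_dvd_card (hr2 : r ≠ 2) (hrp : r ≠ p) {c : ℕ}
    (hc : c = if Even (orderOf (Fintype.card F : ZMod r)) then orderOf (Fintype.card F : ZMod r)
      else 2 * orderOf (Fintype.card F : ZMod r))
    {m : ℕ} (h : r ∣ Nat.card (Matrix.symplecticGroup (Fin m) F)) : c ≤ 2 * m := by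
  have hrpr := (Fact.out : r.Prime)
  rw [FormsLib.card_symplecticGroup] at h
  have hq : ¬ r ∣ Fintype.card F := fun h' =>
    card_cast_ne_zero (F := F) (p := p) hrp ((ZMod.natCast_eq_zero_iff _ _).2 h')
  obtain ⟨i, hi, hri⟩ := (hrpr.prime.dvd_finsetProd_iff _).1
    ((hrpr.dvd_mul.1 h).resolve_left fun h' => hq (hrpr.dvd_of_dvd_pow h'))
  have hi' : i < m := Finset.mem_range.1 hi
  have h1 : (Fintype.card F : ZMod r) ^ (2 * (i + 1)) = 1 := by
    rw [← sub_eq_zero, ← Nat.cast_pow, ← Nat.cast_one (R := ZMod r),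
      ← Nat.cast_sub (Nat.one_le_pow _ _ Fintype.card_pos), ZMod.natCast_eq_zero_iff]
    exact hri
  have h2 := orderOf_dvd_of_pow_eq_one h1
  rw [hc]
  split_ifs with hev
  · exact (Nat.le_of_dvd (by omega) h2).trans (by omega)
  · have h3 := ((Nat.prime_two.coprime_iff_not_dvd.2 fun h' => hev (even_iff_two_dvd.2 h')).symm).dvd_of_dvd_mul_left h2
    have := Nat.le_of_dvd (by omega) h3
    omega

/-- A symplectic isometry of order `r` without fixed vectors in dimension `c`. -/
theorem exists_block (hr2 : r ≠ 2) (hrp : r ≠ p) {c : ℕ}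
    (hc : c = if Even (orderOf (Fintype.card F : ZMod r)) then orderOf (Fintype.card F : ZMod r)
      else 2 * orderOf (Fintype.card F : ZMod r)) {h : ℕ} (hh : c = 2 * h) :
    ∃ g : Module.End F (Fin h ⊕ Fin h → F),
      (∀ u v, FormsLib.spB h F (g u) (g v) = FormsLib.spB h F u v) ∧ g ^ r = 1 ∧ fixedSpace g = ⊥ := by
  classical
  have hrpr := (Fact.out : r.Prime)
  set e := orderOf (Fintype.card F : ZMod r) with hedef
  have hepos : 0 < e := orderOf_card_pos (F := F) (p := p) hrp
  obtain ⟨K, _, _, _, hKdim, hKcard, ζ, hζ, hζ1⟩ := NonsingPoints.exists_root_of_unity (F := F) e hepos hrpr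
    ((ZMod.natCast_eq_zero_iff _ _).1 (by
      rw [Nat.cast_sub (Nat.one_le_pow _ _ Fintype.card_pos), Nat.cast_pow, Nat.cast_one, hedef, pow_orderOf_eq_one,
        sub_self]))
  haveI : Module.Finite F K := Module.Finite.of_finite
  -- from an isometry of order `r` of some alternating form
  have finish : ∀ {V : Type} [AddCommGroup V] [Module F V] [FiniteDimensional F V]
      (B : LinearMap.BilinForm F V), LinearMap.IsAlt B → (∀ u, (∀ v, B u v = 0) → u = 0) →
      finrank F V = 2 * h → ∀ g : Module.End F V, (∀ u v, B (g u) (g v) = B u v) → g ^ r = 1 →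
      (∀ v, g v = v → v = 0) →
      ∃ g : Module.End F (Fin h ⊕ Fin h → F),
        (∀ u v, FormsLib.spB h F (g u) (g v) = FormsLib.spB h F u v) ∧ g ^ r = 1 ∧ fixedSpace g = ⊥ := by
    intro V _ _ _ B hA hB hdim g hg hgr hfree
    obtain ⟨x, hxr, hfix⟩ := exists_matrix hA hB hdim g hg hgr
    refine ⟨Matrix.toLin' (x : Matrix _ _ F), (FormsLib.mem_symplectic_iff _).1 x.2, ?_, ?_⟩
    · rw [← Matrix.toLin'_pow, hxr, Matrix.toLin'_one]
      rfl
    · rw [← Submodule.finrank_eq_zero (R := F), hfix, Submodule.finrank_eq_zero, eq_bot_iff]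
      exact fun v hv => (Submodule.mem_bot F).2 (hfree v (mem_fixedSpace.1 hv))
  by_cases hev : Even e
  · rw [if_pos hev] at hc
    obtain ⟨k, hk⟩ := hev
    have hkh : e = 2 * k := by omega
    have hzh : (Fintype.card F : ZMod r) ^ k = -1 := by
      have h1 : (Fintype.card F : ZMod r) ^ k * (Fintype.card F : ZMod r) ^ k = 1 := by
        rw [← pow_add, ← two_mul, ← hkh]
        exact pow_orderOf_eq_one _
      refine (mul_self_eq_one_iff.1 h1).resolve_left fun h' => ?_
      have := Nat.le_of_dvd (by omega) (orderOf_dvd_of_pow_eq_one h')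
      omega
    have hdvd : r ∣ Fintype.card F ^ k + 1 := (ZMod.natCast_eq_zero_iff _ _).1 (by push_cast; rw [hzh]; ring)
    let φ : K →ₐ[F] K := FiniteField.frobeniusAlgHom F K ^ k
    have hφ : ∀ a : K, φ a = a ^ Fintype.card F ^ k := by
      intro a
      show (FiniteField.frobeniusAlgHom F K ^ k) a = _
      clear hk hkh hzh hdvd φ
      induction k generalizing a with
      | zero => simp
      | succ k ih => rw [pow_succ, AlgHom.mul_apply, ih, FiniteField.coe_frobeniusAlgHom, ← pow_mul, pow_succ']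
    let τ : K →+* K := φ.toRingHom
    have hττ : ∀ a, τ (τ a) = a := fun a => by
      show φ (φ a) = a
      rw [hφ, hφ, ← pow_mul, ← pow_add, ← two_mul, ← hkh, ← hKcard, FiniteField.pow_card]
    have htr : ∀ z, Algebra.trace F K (τ z) = (RingHom.id F) (Algebra.trace F K z) := fun z => by
      let ψ : K ≃ₐ[F] K := AlgEquiv.ofBijective φ ⟨φ.toRingHom.injective, fun a => ⟨φ a, hττ a⟩⟩
      exact Algebra.trace_eq_of_algEquiv ψ z
    have hτc : ∀ a : F, τ (algebraMap F K a) = algebraMap F K ((RingHom.id F) a) := fun a => φ.commutes a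
    have hτζ : τ ζ * ζ = 1 := by
      show φ ζ * ζ = 1
      obtain ⟨l, hl⟩ := hdvd
      rw [hφ, ← pow_succ, hl, pow_mul, hζ, one_pow]
    obtain ⟨l, hl⟩ := hrpr.odd_of_ne_two hr2
    have hne : τ ζ ≠ ζ := fun h0 => by
      rw [h0] at hτζ
      refine hζ1 ?_
      rw [hl, pow_succ, pow_mul, pow_two, hτζ, one_pow, one_mul] at hζ
      exact hζ
    have hsum : ζ + τ ζ ≠ 0 := fun h0 => by
      have h1 : ζ ^ 2 = -1 := by
        rw [eq_neg_of_add_eq_zero_right h0] at hτζ
        linear_combination -hτζ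
      have h4 : ζ ^ 4 = 1 := by rw [show 4 = 2 * 2 from rfl, pow_mul, h1, neg_one_sq]
      have h5 : ζ ^ Nat.gcd r 4 = 1 := pow_gcd_eq_one.2 ⟨hζ, h4⟩
      rw [show Nat.gcd r 4 = 1 from Nat.Coprime.pow_right 2 ((Nat.coprime_primes hrpr Nat.prime_two).2 hr2),
        pow_one] at h5
      exact hζ1 h5
    set w : K := ζ / (ζ + τ ζ) with hwdef
    have hw : w + τ w = 1 := by
      rw [hwdef, map_div₀, map_add, hττ, add_comm (τ ζ) ζ, ← add_div, div_self hsum]
    set δ : K := ζ - τ ζ with hδdef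
    have hδ0 : δ ≠ 0 := sub_ne_zero.2 (Ne.symm hne)
    have hδ : algebraMap F K (-1 : F) * τ δ = δ := by
      rw [map_neg, map_one, hδdef, map_sub, hττ]
      ring
    have hflip := FormTorus.fieldB_isFlip (RingHom.id F) (-1 : F) τ hτc htr hττ δ hδ hδ0
    refine finish (FormTorus.fieldB (RingHom.id F) τ hτc δ) (fun a => ?_) hflip.nondeg (by omega)
      (LinearMap.mulLeft F ζ) (fun a b => FormTorus.fieldB_mul (RingHom.id F) τ hτc δ ζ hτζ a b) ?_ ?_
    · set y : K := δ * τ a * a with hy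
      have hτy : τ y = -y := by
        rw [hy, hδdef, map_mul, map_mul, map_sub, hττ, hττ]
        ring
      have hysplit : y = y * w - τ (y * w) := by
        rw [map_mul, hτy]
        linear_combination (-y) * hw
      rw [FormTorus.fieldB_apply, ← hy, hysplit, map_sub, htr]
      exact sub_self _
    · rw [LinearMap.pow_mulLeft, hζ, LinearMap.mulLeft_one]
      rfl
    · intro v hv
      have h0 : (ζ - 1) * v = 0 := by rw [sub_mul, one_mul]; exact sub_eq_zero.2 hv
      exact (mul_eq_zero.1 h0).resolve_left (sub_ne_zero.2 hζ1)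
  · rw [if_neg hev] at hc
    have hτc : ∀ a : F, (RingHom.id K) (algebraMap F K a) = algebraMap F K ((RingHom.id F) a) := fun _ => rfl
    have hσσ : ∀ a : F, (RingHom.id F) ((RingHom.id F) a) = a := fun _ => rfl
    have hflip := FormTorus.pairB_isFlip (RingHom.id F) (-1 : F) (RingHom.id K) hτc hσσ (by simp)
    let g : Module.End F (K × K) := (LinearMap.mulLeft F ζ).prodMap (LinearMap.mulLeft F (ζ ^ (r - 1)))
    have hζr : (RingHom.id K) ζ * ζ ^ (r - 1) = 1 := by
      rw [RingHom.id_apply, ← pow_succ', Nat.sub_add_cancel hrpr.one_le, hζ]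
    refine finish (FormTorus.pairB (RingHom.id F) (-1 : F) (RingHom.id K) hτc hσσ) (fun a => ?_) hflip.nondeg
      (by rw [Module.finrank_prod, hKdim]; omega) g
      (fun a b => FormTorus.pairB_mul (RingHom.id F) (-1 : F) (RingHom.id K) hτc hσσ ζ _ hζr a b) ?_ ?_
    · simp [FormTorus.pairB_apply]
    · refine LinearMap.ext fun v => ?_
      have hpow : ∀ l : ℕ, (g ^ l) v = (ζ ^ l * v.1, (ζ ^ (r - 1)) ^ l * v.2) := by
        intro l
        induction l with
        | zero => simp
        | succ l ih =>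
          rw [pow_succ', Module.End.mul_apply, ih]
          simp [g, pow_succ', mul_assoc]
      rw [hpow, hζ, ← pow_mul, mul_comm (r - 1) r, pow_mul, hζ, one_pow, one_mul, one_mul]
      rfl
    · intro v hv
      have h1 : (ζ - 1) * v.1 = 0 := by
        rw [sub_mul, one_mul, sub_eq_zero]
        exact congrArg Prod.fst hv
      have hne : ζ ^ (r - 1) ≠ 1 := fun h0 => hζ1 (by rw [h0, mul_one] at hζr; exact hζr)
      have h2 : (ζ ^ (r - 1) - 1) * v.2 = 0 := by
        rw [sub_mul, one_mul, sub_eq_zero]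
        exact congrArg Prod.snd hv
      exact Prod.ext ((mul_eq_zero.1 h1).resolve_left (sub_ne_zero.2 hζ1))
        ((mul_eq_zero.1 h2).resolve_left (sub_ne_zero.2 hne))

/-- A symplectic element of order `r` moving exactly `j * c` dimensions. -/
theorem exists_element (hr2 : r ≠ 2) (hrp : r ≠ p) {c : ℕ}
    (hc : c = if Even (orderOf (Fintype.card F : ZMod r)) then orderOf (Fintype.card F : ZMod r)
      else 2 * orderOf (Fintype.card F : ZMod r))
    {m j : ℕ} (hj : j * c ≤ 2 * m) :
    ∃ x : ↥(Matrix.symplecticGroup (Fin m) F),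
      (x : Matrix (Fin m ⊕ Fin m) (Fin m ⊕ Fin m) F) ^ r = 1 ∧
      finrank F ↥(fixedSpace (Matrix.toLin' (x : Matrix (Fin m ⊕ Fin m) (Fin m ⊕ Fin m) F))) = 2 * m - j * c := by
  classical
  obtain ⟨-, ⟨h, hh⟩, -⟩ := c_facts (F := F) (p := p) hr2 hrp hc
  rw [← two_mul] at hh
  obtain ⟨g₀, hg₀, hgr₀, hfix₀⟩ := exists_block (F := F) (p := p) hr2 hrp hc hh
  subst hh
  obtain ⟨s, rfl⟩ : ∃ s, m = j * h + s := ⟨m - j * h, by rw [mul_left_comm] at hj; omega⟩
  let U := Fin h ⊕ Fin h → F
  let W := (Fin j → U) × (Fin s ⊕ Fin s → F)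
  let B : LinearMap.BilinForm F W :=
    ∑ k : Fin j, (FormsLib.spB h F).compl₁₂ (LinearMap.proj k ∘ₗ LinearMap.fst F _ _)
        (LinearMap.proj k ∘ₗ LinearMap.fst F _ _) +
      (FormsLib.spB s F).compl₁₂ (LinearMap.snd F _ _) (LinearMap.snd F _ _)
  have hB : ∀ u v : W, B u v = ∑ k, FormsLib.spB h F (u.1 k) (v.1 k) + FormsLib.spB s F u.2 v.2 :=
    fun u v => by simp [B]; rfl
  have hA : LinearMap.IsAlt B := fun u => by
    rw [hB, Finset.sum_eq_zero fun k _ => FormsLib.spB_alt (u.1 k), FormsLib.spB_alt u.2, add_zero]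
  have hN : ∀ u, (∀ v, B u v = 0) → u = 0 := fun u hu => by
    refine Prod.ext (funext fun k => FormsLib.spB_nondeg.1 _ fun y => ?_) (FormsLib.spB_nondeg.1 _ fun y => ?_)
    · have := hu (Pi.single k y, 0)
      rw [hB, Finset.sum_eq_single k (fun l _ hl => by simp [Pi.single_eq_of_ne hl]) (by simp)] at this
      simpa using this
    · simpa [hB] using hu (0, y)
  let g : Module.End F W := (LinearMap.pi fun k => g₀ ∘ₗ LinearMap.proj k).prodMap LinearMap.id
  have hg : ∀ v : W, g v = ((fun k => g₀ (v.1 k)), v.2) := fun v => rfl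
  have hgr : g ^ r = 1 := by
    refine LinearMap.ext fun v => ?_
    have hpow : ∀ l : ℕ, (g ^ l) v = ((fun k => (g₀ ^ l) (v.1 k)), v.2) := by
      intro l
      induction l with
      | zero => rfl
      | succ l ih =>
        rw [pow_succ', Module.End.mul_apply, ih]
        rw [hg, pow_succ']
        rfl
    rw [hpow, hgr₀]
    rfl
  have hdimU : finrank F U = 2 * h := by simp [U, two_mul]
  have hdim : finrank F W = 2 * (j * h + s) := by
    simp only [W, Module.finrank_prod, Module.finrank_pi_fintype, hdimU, Finset.sum_const, Finset.card_univ,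
      Fintype.card_fin, smul_eq_mul, Module.finrank_pi, Fintype.card_sum, Module.finrank_self, U]
    ring
  obtain ⟨x, hxr, hfix⟩ := exists_matrix hA hN hdim g (fun u v => by rw [hB, hB, hg, hg]; simp only [hg₀]) hgr
  refine ⟨x, hxr, hfix.trans ?_⟩
  have hfs : fixedSpace g = Submodule.prod ⊥ ⊤ := by
    ext v
    rw [mem_fixedSpace]
    constructor
    · intro hv
      refine ⟨(Submodule.mem_bot F).2 (funext fun k => ?_), trivial⟩
      have h1 := congrFun (congrArg Prod.fst hv) k
      have h2 : v.1 k ∈ fixedSpace g₀ := mem_fixedSpace.2 h1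
      rw [hfix₀] at h2
      exact h2
    · rintro ⟨h1, -⟩
      rw [SetLike.mem_coe, Submodule.mem_bot] at h1
      refine Prod.ext (funext fun k => ?_) rfl
      show g₀ (v.1 k) = v.1 k
      rw [h1]
      exact map_zero g₀
  have hrange : Submodule.prod (⊥ : Submodule F (Fin j → U)) (⊤ : Submodule F (Fin s ⊕ Fin s → F)) =
      LinearMap.range (LinearMap.inr F (Fin j → U) (Fin s ⊕ Fin s → F)) := by
    rw [LinearMap.range_inr]
    ext v
    simp
  rw [hfs, hrange, LinearMap.finrank_range_of_inj LinearMap.inr_injective, Module.finrank_pi, Fintype.card_sum,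
    Fintype.card_fin, mul_add, mul_left_comm 2 j h]
  omega

end Cfsg.Agent.Elusive.SpWitness
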