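import Cfsg.Agent.Lib.Elusive.OrthogonalType
import Cfsg.Agent.Lib.Spinor.Products
import Cfsg.Agent.S5955

/-!
Involutions and square roots of `-1` in even-dimensional orthogonal groups of odd characteristic.
-/

set_option autoImplicit false
set_option linter.style.haveILetI false

namespace Cfsg.Agent.Elusive.OrthTwo

open Module FormIso OrthIso OrthType

variable {F V : Type*} [Field F] [Fintype F] [AddCommGroup V] [Module F V] [FiniteDimensional F V]
  {Q : QuadraticForm F V}

omit [Fintype F] in
/-- A non-degenerate subspace has a nonsingular vector. -/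
theorem exists_nonsing {X : Submodule F V} (hX : NdOn (QuadraticMap.polarBilin Q) X) (hne : X ≠ ⊥) :
    ∃ x ∈ X, Q x ≠ 0 := by
  by_contra h
  push Not at h
  obtain ⟨v, hv, hv0⟩ := Submodule.exists_mem_ne_zero_of_ne_bot hne
  exact hv0 (hX v hv fun w hw => orthTo_of_quad h v hv w hw)

omit [Fintype F] in
/-- A plane with two orthogonal vectors of equal non-zero norm. -/
theorem plane (h2 : (2 : F) ≠ 0) {x y : V} (hx : Q x ≠ 0) (hxy : QuadraticMap.polar Q x y = 0) (hy : Q y = Q x) :
    NdOn (QuadraticMap.polarBilin Q) (Submodule.span F {x, y}) ∧ finrank F ↥(Submodule.span F {x, y}) = 2 ∧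
      (¬ IsSquare (-1 : F) → ¬ Half Q (Submodule.span F {x, y})) := by
  set B := QuadraticMap.polarBilin Q with hBdef
  have hxx : B x x = 2 * Q x := FormsLib.polar_self' Q x
  have hyy : B y y = 2 * Q x := (FormsLib.polar_self' Q y).trans (by rw [hy])
  have hxy' : B x y = 0 := hxy
  have hyx : B y x = 0 := (polar_symm y x).trans hxy
  have hne : (2 : F) * Q x ≠ 0 := mul_ne_zero h2 hx
  have hcoef : ∀ a b : F, B (a • x + b • y) x = a * (2 * Q x) ∧ B (a • x + b • y) y = b * (2 * Q x) := fun a b => by
    simp [hxx, hyy, hxy', hyx]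
  have hmx : x ∈ Submodule.span F ({x, y} : Set V) := Submodule.subset_span (by simp)
  have hmy : y ∈ Submodule.span F ({x, y} : Set V) := Submodule.subset_span (by simp)
  refine ⟨?_, ?_, ?_⟩
  · intro u hu h
    obtain ⟨a, b, rfl⟩ := Submodule.mem_span_pair.1 hu
    have ha := (mul_eq_zero.1 ((hcoef a b).1.symm.trans (h x hmx))).resolve_right hne
    have hb := (mul_eq_zero.1 ((hcoef a b).2.symm.trans (h y hmy))).resolve_right hne
    simp [ha, hb]
  · have hli : LinearIndependent F ![x, y] := LinearIndependent.pair_iff.2 fun a b hab =>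
      ⟨(mul_eq_zero.1 ((hcoef a b).1.symm.trans (by simp [hab]))).resolve_right hne,
        (mul_eq_zero.1 ((hcoef a b).2.symm.trans (by simp [hab]))).resolve_right hne⟩
    have := finrank_span_eq_card hli
    rwa [Fintype.card_fin, Matrix.range_cons_cons_empty] at this
  · intro hns hH
    obtain ⟨W, hWP, hW, hWd⟩ := half_iff.1 hH
    have hWne : W ≠ ⊥ := fun h => by
      have hP2 : finrank F ↥(Submodule.span F ({x, y} : Set V)) = 2 := by
        have hli : LinearIndependent F ![x, y] := LinearIndependent.pair_iff.2 fun a b hab =>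
          ⟨(mul_eq_zero.1 ((hcoef a b).1.symm.trans (by simp [hab]))).resolve_right hne,
            (mul_eq_zero.1 ((hcoef a b).2.symm.trans (by simp [hab]))).resolve_right hne⟩
        have := finrank_span_eq_card hli
        rwa [Fintype.card_fin, Matrix.range_cons_cons_empty] at this
      rw [h, finrank_bot, hP2] at hWd
      omega
    obtain ⟨w, hw, hw0⟩ := Submodule.exists_mem_ne_zero_of_ne_bot hWne
    obtain ⟨a, b, rfl⟩ := Submodule.mem_span_pair.1 (hWP hw)
    have h0 := hW _ hw
    rw [FormsLib.quad_add, QuadraticMap.map_smul, QuadraticMap.map_smul, QuadraticMap.polar_smul_left,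
      QuadraticMap.polar_smul_right, hxy, hy] at h0
    simp only [smul_eq_mul, mul_zero, add_zero] at h0
    have h1 : a * a + b * b = 0 := (mul_eq_zero.1 (show (a * a + b * b) * Q x = 0 by linear_combination h0)).resolve_right hx
    have hb : b = 0 := by
      by_contra hb
      exact hns ⟨a / b, by field_simp; linear_combination -h1⟩
    rw [hb, mul_zero, add_zero, mul_self_eq_zero] at h1
    simp [hb, h1] at hw0

/-- Orthogonal pairs of vectors of equal norms spanning a space. -/
structure IsPairs (Q : QuadraticForm F V) (X : Submodule F V) {k : ℕ} (u u' : Fin k → V) : Prop where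
  mem : ∀ i, u i ∈ X ∧ u' i ∈ X
  orth : ∀ i j, i ≠ j → QuadraticMap.polar Q (u i) (u j) = 0 ∧ QuadraticMap.polar Q (u' i) (u' j) = 0
  cross : ∀ i j, QuadraticMap.polar Q (u i) (u' j) = 0
  norm : ∀ i, Q (u i) ≠ 0 ∧ Q (u' i) = Q (u i)
  complete : ∀ z ∈ X, (∀ i, QuadraticMap.polar Q z (u i) = 0 ∧ QuadraticMap.polar Q z (u' i) = 0) → z = 0

omit [Fintype F] in
theorem isPairs_cons (h2 : (2 : F) ≠ 0) {X X' : Submodule F V} {x y : V} (hx : x ∈ X) (hy : y ∈ X) (hQ : Q x ≠ 0)
    (hxy : QuadraticMap.polar Q x y = 0) (hQy : Q y = Q x)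
    (hX' : X' ≤ X) (ho : OrthTo (QuadraticMap.polarBilin Q) (Submodule.span F {x, y}) X')
    (hsup : Submodule.span F {x, y} ⊔ X' = X) {k : ℕ} {u u' : Fin k → V} (h : IsPairs Q X' u u') :
    IsPairs Q X (Fin.cons x u : Fin (k + 1) → V) (Fin.cons y u') := by
  have hmx : x ∈ Submodule.span F ({x, y} : Set V) := Submodule.subset_span (by simp)
  have hmy : y ∈ Submodule.span F ({x, y} : Set V) := Submodule.subset_span (by simp)
  have hP : ∀ v ∈ ({x, y} : Set V), ∀ w ∈ X', QuadraticMap.polar Q v w = 0 := fun v hv w hw =>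
    ho v (Submodule.subset_span hv) w hw
  have hP' : ∀ v ∈ ({x, y} : Set V), ∀ w ∈ X', QuadraticMap.polar Q w v = 0 := fun v hv w hw =>
    (QuadraticMap.polar_comm _ _ _).trans (hP v hv w hw)
  refine ⟨fun i => ?_, fun i j hij => ?_, fun i j => ?_, fun i => ?_, fun z hz hall => ?_⟩
  · induction i using Fin.cases with
    | zero => exact ⟨hx, hy⟩
    | succ i => exact ⟨hX' (h.mem i).1, hX' (h.mem i).2⟩
  · induction i using Fin.cases with
    | zero =>
      induction j using Fin.cases with
      | zero => exact absurd rfl hij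
      | succ j => simpa using ⟨hP x (by simp) _ (h.mem j).1, hP y (by simp) _ (h.mem j).2⟩
    | succ i =>
      induction j using Fin.cases with
      | zero => simpa using ⟨hP' x (by simp) _ (h.mem i).1, hP' y (by simp) _ (h.mem i).2⟩
      | succ j => simpa using h.orth i j fun e => hij (by rw [e])
  · induction i using Fin.cases with
    | zero =>
      induction j using Fin.cases with
      | zero => simpa using hxy
      | succ j => simpa using hP x (by simp) _ (h.mem j).2
    | succ i =>
      induction j using Fin.cases with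
      | zero => simpa using hP' y (by simp) _ (h.mem i).1
      | succ j => simpa using h.cross i j
  · induction i using Fin.cases with
    | zero => simpa using ⟨hQ, hQy⟩
    | succ i => simpa using h.norm i
  · rw [← hsup] at hz
    obtain ⟨p, hp, w, hw, rfl⟩ := Submodule.mem_sup.1 hz
    have hp0 : p = 0 := by
      refine (plane h2 hQ hxy hQy).1 p hp fun v hv => ?_
      have hzx := (hall 0).1
      have hzy := (hall 0).2
      simp only [Fin.cons_zero, QuadraticMap.polar_add_left] at hzx hzy
      rw [hP' x (by simp) w hw, add_zero] at hzx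
      rw [hP' y (by simp) w hw, add_zero] at hzy
      have : Submodule.span F ({x, y} : Set V) ≤ LinearMap.ker (QuadraticMap.polarBilin Q p) :=
        Submodule.span_le.2 (by rintro t (rfl | rfl) <;> assumption)
      exact this hv
    have hw0 : w = 0 := h.complete w hw fun i => by
      simpa [hp0] using hall i.succ
    rw [hp0, hw0, add_zero]

omit [Fintype F] in
theorem isPairs_empty : IsPairs Q (⊥ : Submodule F V) (Fin.elim0 : Fin 0 → V) Fin.elim0 :=
  ⟨fun i => i.elim0, fun i => i.elim0, fun i => i.elim0, fun i => i.elim0, fun z hz _ => (Submodule.mem_bot F).1 hz⟩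

/-- The quarter turn of a family of pairs. -/
theorem rot (h2 : (2 : F) ≠ 0) (hQ : (QuadraticMap.polarBilin Q).Nondegenerate) {k : ℕ} {u u' : Fin k → V}
    (h : IsPairs Q ⊤ u u') :
    ∃ τ : FormsLib.oGroup Q, Spinor.dick τ = 1 ∧ (Spinor.spin τ = 1 ↔ IsSquare ((2 : F) ^ k)) ∧
      (∀ i, τ.1 (u i) = u' i ∧ τ.1 (u' i) = -u i) ∧ ∀ v, τ.1 (τ.1 v) = -v := by
  classical
  have hgen := Spinor.reflGroup_eq_top_of_odd hQ h2
  have hs : ∀ i, Q (u i + u' i) = 2 * Q (u i) := fun i => by
    rw [FormsLib.quad_add, h.cross i i, (h.norm i).2, add_zero, two_mul]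
  have hsum : ∀ i j, i ≠ j → QuadraticMap.polar Q (u i + u' i) (u j + u' j) = 0 := fun i j hij => by
    simp only [QuadraticMap.polar_add_left, QuadraticMap.polar_add_right, (h.orth i j hij).1, (h.orth i j hij).2,
      h.cross i j, QuadraticMap.polar_comm Q (u' i) (u j), h.cross j i, add_zero]
  obtain ⟨τ₁, h1b, h1f, h1d, h1s⟩ := Spinor.exists_neg_on hQ hgen u (fun i j hij => (h.orth i j hij).1)
    Finset.univ fun i _ => (h.norm i).1
  obtain ⟨τ₂, h2b, h2f, h2d, h2s⟩ := Spinor.exists_neg_on hQ hgen (fun i => u i + u' i) hsum Finset.univ fun i _ => by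
    rw [hs]
    exact mul_ne_zero h2 (h.norm i).1
  have hu' : ∀ i, τ₁.1 (u' i) = u' i := fun i => h1f _ fun j _ => (QuadraticMap.polar_comm _ _ _).trans (h.cross j i)
  have hdiff : ∀ i, τ₂.1 (u i - u' i) = u i - u' i := fun i => h2f _ fun j _ => by
    simp only [QuadraticMap.polar_sub_left, QuadraticMap.polar_add_right]
    rw [h.cross i j, QuadraticMap.polar_comm Q (u' i) (u j), h.cross j i, sub_zero, zero_sub, ← sub_eq_add_neg]
    by_cases hij : i = j
    · subst hij
      rw [FormsLib.polar_self', FormsLib.polar_self', (h.norm i).2, sub_self]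
    · rw [(h.orth i j hij).1, (h.orth i j hij).2, sub_zero]
  have hτ₂ : ∀ i, τ₂.1 (u i) = -u' i ∧ τ₂.1 (u' i) = -u i := fun i => by
    have hA := hdiff i
    have hB := h2b i (Finset.mem_univ i)
    rw [map_sub] at hA
    rw [map_add] at hB
    constructor
    · refine smul_right_injective V h2 ?_
      show (2 : F) • τ₂.1 (u i) = (2 : F) • -u' i
      linear_combination (norm := module) hA + hB
    · refine smul_right_injective V h2 ?_
      show (2 : F) • τ₂.1 (u' i) = (2 : F) • -u i
      linear_combination (norm := module) hB - hA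
  have hval : ∀ i, (τ₂ * τ₁).1 (u i) = u' i ∧ (τ₂ * τ₁).1 (u' i) = -u i := fun i => by
    constructor
    · show τ₂.1 (τ₁.1 (u i)) = _
      rw [h1b i (Finset.mem_univ i), map_neg, (hτ₂ i).1, neg_neg]
    · show τ₂.1 (τ₁.1 (u' i)) = _
      rw [hu', (hτ₂ i).2]
  refine ⟨τ₂ * τ₁, ?_, ?_, hval, fun v => ?_⟩
  · rw [Spinor.dick_mul hQ hgen, h1d, h2d, ← mul_pow]
    simp
  · rw [Spinor.spin_mul hQ hgen]
    have hne1 : (∏ i, Q (u i)) ≠ 0 := Finset.prod_ne_zero_iff.2 fun i _ => (h.norm i).1
    have hne2 : (∏ i, Q (u i + u' i)) ≠ 0 := Finset.prod_ne_zero_iff.2 fun i _ => by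
      rw [hs]
      exact mul_ne_zero h2 (h.norm i).1
    have hiff : Spinor.spin τ₂ * Spinor.spin τ₁ = 1 ↔ (Spinor.spin τ₂ = 1 ↔ Spinor.spin τ₁ = 1) := by
      rcases Int.units_eq_one_or (Spinor.spin τ₂) with e1 | e1 <;>
        rcases Int.units_eq_one_or (Spinor.spin τ₁) with e2 | e2 <;> simp [e1, e2]
    rw [hiff, h2s, h1s, ← Spinor.isSquare_mul_iff' hne2 hne1, Finset.prod_congr rfl fun i _ => hs i,
      Finset.prod_mul_distrib, Finset.prod_const, Finset.card_univ, Fintype.card_fin, mul_assoc]
    constructor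
    · intro hsq
      have := hsq.mul (IsSquare.mul_self (∏ i, Q (u i))).inv
      rwa [mul_assoc, mul_inv_cancel₀ (mul_ne_zero hne1 hne1), mul_one] at this
    · exact fun hsq => hsq.mul (IsSquare.mul_self _)
  · have hz : ∀ i, QuadraticMap.polar Q ((τ₂ * τ₁).1 ((τ₂ * τ₁).1 v) + v) (u i) = 0 ∧
        QuadraticMap.polar Q ((τ₂ * τ₁).1 ((τ₂ * τ₁).1 v) + v) (u' i) = 0 := fun i => by
      set J := (τ₂ * τ₁).1
      have hQJ : ∀ w, Q (J w) = Q w := (τ₂ * τ₁).2
      have hpJ : ∀ a b, QuadraticMap.polar Q (J a) (J b) = QuadraticMap.polar Q a b := fun a b => by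
        simp only [QuadraticMap.polar, ← map_add, hQJ]
      have e1 : J (J (u i)) = -u i := by rw [(hval i).1, (hval i).2]
      have e2 : J (J (u' i)) = -u' i := by rw [(hval i).2, map_neg, (hval i).1]
      constructor
      · have := hpJ (J v) (J (u i))
        rw [e1, hpJ, QuadraticMap.polar_neg_right] at this
        rw [QuadraticMap.polar_add_left]
        linear_combination -this
      · have := hpJ (J v) (J (u' i))
        rw [e2, hpJ, QuadraticMap.polar_neg_right] at this
        rw [QuadraticMap.polar_add_left]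
        linear_combination -this
    exact eq_neg_of_add_eq_zero_left (h.complete _ trivial hz)

/-- Pairs adapted to a square root of `-1`. -/
theorem exists_pairs_of_root (h2 : (2 : F) ≠ 0) (hns : ¬ IsSquare (-1 : F)) {T : Module.End F V}
    (hQT : ∀ v, Q (T v) = Q v) (hT : ∀ v, T (T v) = -v) : ∀ (k : ℕ) (X : Submodule F V),
      NdOn (QuadraticMap.polarBilin Q) X → X.map T ≤ X → finrank F X = 2 * k →
      ∃ u u' : Fin k → V, IsPairs Q X u u' ∧ (∀ i, T (u i) = u' i) ∧ (Half Q X ↔ Even k) := by
  intro k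
  induction k with
  | zero =>
    intro X _ _ hXd
    rw [mul_zero, Submodule.finrank_eq_zero] at hXd
    subst hXd
    exact ⟨_, _, isPairs_empty, fun i => i.elim0, iff_of_true half_bot Even.zero⟩
  | succ k ih =>
    intro X hX hXT hXd
    obtain ⟨x, hx, hQx⟩ := exists_nonsing (Q := Q) (X := X) hX fun hbot => by
      rw [hbot, finrank_bot] at hXd
      omega
    have hxy : QuadraticMap.polar Q x (T x) = 0 := by
      have h1 : QuadraticMap.polar Q (T x) (T (T x)) = QuadraticMap.polar Q x (T x) := by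
        simp only [QuadraticMap.polar, ← map_add, hQT]
      rw [hT, QuadraticMap.polar_neg_right, QuadraticMap.polar_comm Q (T x)] at h1
      exact (mul_eq_zero.1 (show (2 : F) * QuadraticMap.polar Q x (T x) = 0 by linear_combination -h1)).resolve_left h2
    obtain ⟨hP, hPd, hPh⟩ := plane h2 hQx hxy (hQT x)
    have hPT : (Submodule.span F {x, T x}).map T ≤ Submodule.span F {x, T x} := by
      rw [Submodule.map_span_le]
      rintro _ (rfl | rfl)
      · exact Submodule.subset_span (by simp)
      · rw [hT]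
        exact Submodule.neg_mem _ (Submodule.subset_span (by simp))
    have hPX : Submodule.span F {x, T x} ≤ X :=
      Submodule.span_le.2 (by rintro _ (rfl | rfl); exacts [hx, hXT ⟨x, hx, rfl⟩])
    have hT4 : T ^ 4 = 1 := LinearMap.ext fun v => by simp [pow_succ, hT]
    obtain ⟨X', hX'X, hX'T, hX', ho, hsup, -, hd⟩ := exists_compl (fun u v h => (polar_symm v u).trans h)
      (fun u v => by
        show QuadraticMap.polar Q (T u) (T v) = QuadraticMap.polar Q u v
        simp only [QuadraticMap.polar, ← map_add, hQT]) (show 4 ≠ 0 by omega) hT4 hX hXT hP hPT hPX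
    obtain ⟨u, u', hp, hTu, hH⟩ := ih X' hX' hX'T (by omega)
    refine ⟨_, _, isPairs_cons h2 hx (hXT ⟨x, hx, rfl⟩) hQx hxy (hQT x) hX'X ho hsup hp, fun i => ?_, ?_⟩
    · induction i using Fin.cases with
      | zero => simp
      | succ i => simpa using hTu i
    · have := half_sup hP hX' ho (hPd ▸ even_two) ((show finrank F X' = 2 * k by omega) ▸ even_two_mul k)
      rw [hsup] at this
      rw [this, Nat.even_add_one, ← hH, iff_false_left (hPh hns)]

/-- Pairs of vectors of norm one. -/
theorem exists_pairs_one (h2 : (2 : F) ≠ 0) (hns : ¬ IsSquare (-1 : F)) : ∀ (k : ℕ) (X : Submodule F V),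
      NdOn (QuadraticMap.polarBilin Q) X → finrank F X = 2 * k → (Half Q X ↔ Even k) →
      ∃ u u' : Fin k → V, IsPairs Q X u u' := by
  intro k
  induction k with
  | zero =>
    intro X _ hXd _
    rw [mul_zero, Submodule.finrank_eq_zero] at hXd
    subst hXd
    exact ⟨_, _, isPairs_empty⟩
  | succ k ih =>
    intro X hX hXd hH
    have hrefl : ∀ u v, QuadraticMap.polarBilin Q u v = 0 → QuadraticMap.polarBilin Q v u = 0 :=
      fun u v h => (polar_symm v u).trans h
    obtain ⟨x, hx, hQx⟩ := Spinor.exists_norm (ndOn_inf_orth hX) (Or.inl (by omega)) (one_ne_zero (α := F))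
    have hx0 : Q x ≠ 0 := by rw [hQx]; exact one_ne_zero
    have hxx : QuadraticMap.polarBilin Q x x = 2 * Q x := FormsLib.polar_self' Q x
    have hne : (2 : F) * Q x ≠ 0 := mul_ne_zero h2 hx0
    have hL : NdOn (QuadraticMap.polarBilin Q) (Submodule.span F {x}) := by
      intro v hv h
      obtain ⟨a, rfl⟩ := Submodule.mem_span_singleton.1 hv
      have := h x (Submodule.mem_span_singleton_self x)
      rw [map_smul, LinearMap.smul_apply, hxx, smul_eq_mul, mul_eq_zero] at this
      rw [this.resolve_right hne, zero_smul]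
    have hLd : finrank F (Submodule.span F {x}) = 1 :=
      finrank_span_singleton fun h => hx0 (by rw [h, QuadraticMap.map_zero])
    obtain ⟨R, hRX, -, hR, hoR, hsupR, -, hRd⟩ := exists_compl (T := (1 : Module.End F V)) hrefl (fun _ _ => rfl)
      one_ne_zero (one_pow 1) hX (Submodule.map_id X).le hL (Submodule.map_id _).le
      ((Submodule.span_singleton_le_iff_mem _ _).2 hx)
    obtain ⟨y, hy, hQy⟩ : ∃ y ∈ R, Q y = 1 := by
      rcases Nat.eq_zero_or_pos k with rfl | hk
      · obtain ⟨z, hz, hz0⟩ := exists_nonsing (Q := Q) (X := R) hR fun hbot => by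
          rw [hbot, finrank_bot] at hRd
          omega
        obtain ⟨s, hs⟩ : IsSquare (Q z) := by
          by_contra hzns
          have h1 : IsSquare (-1 * Q z) :=
            (Spinor.isSquare_mul_iff' (neg_ne_zero.2 one_ne_zero) hz0).2 (iff_of_false hns hzns)
          obtain ⟨s, hs⟩ := h1
          refine absurd (half_iff.2 ⟨Submodule.span F {s • x + z}, ?_, ?_, ?_⟩) (mt hH.1 Nat.not_even_one)
          · exact (Submodule.span_singleton_le_iff_mem _ _).2 (X.add_mem (X.smul_mem _ hx) (hRX hz))
          · intro w hw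
            obtain ⟨c, rfl⟩ := Submodule.mem_span_singleton.1 hw
            rw [QuadraticMap.map_smul, FormsLib.quad_add, QuadraticMap.map_smul, hQx, QuadraticMap.polar_smul_left,
              show QuadraticMap.polar Q x z = 0 from hoR x (Submodule.mem_span_singleton_self x) z hz]
            simp only [smul_eq_mul, mul_one, mul_zero, add_zero]
            rw [← hs]
            ring
          · rw [finrank_span_singleton, hXd]
            intro h0
            have := hoR x (Submodule.mem_span_singleton_self x) z hz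
            rw [eq_neg_of_add_eq_zero_right h0, map_neg, map_smul, hxx, smul_eq_mul, neg_eq_zero, mul_eq_zero] at this
            rw [this.resolve_right hne, zero_smul, zero_add] at h0
            exact hz0 (by rw [h0, QuadraticMap.map_zero])
        have hs0 : s ≠ 0 := fun h => hz0 (by rw [hs, h, mul_zero])
        refine ⟨s⁻¹ • z, R.smul_mem _ hz, ?_⟩
        rw [QuadraticMap.map_smul, hs, smul_eq_mul]
        field_simp
      · exact Spinor.exists_norm (ndOn_inf_orth hR) (Or.inl (by omega)) one_ne_zero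
    have hxy : QuadraticMap.polar Q x y = 0 := hoR x (Submodule.mem_span_singleton_self x) y hy
    obtain ⟨hP, hPd, hPh⟩ := plane h2 hx0 hxy (hQy.trans hQx.symm)
    have hPX : Submodule.span F {x, y} ≤ X := Submodule.span_le.2 (by rintro _ (rfl | rfl); exacts [hx, hRX hy])
    obtain ⟨X', hX'X, -, hX', ho, hsup, -, hd⟩ := exists_compl (T := (1 : Module.End F V)) hrefl (fun _ _ => rfl)
      one_ne_zero (one_pow 1) hX (Submodule.map_id X).le hP (Submodule.map_id _).le hPX
    have hX'd : finrank F X' = 2 * k := by omega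
    have := half_sup hP hX' ho (hPd ▸ even_two) (hX'd ▸ even_two_mul k)
    rw [hsup, hH, Nat.even_add_one, iff_false_left (hPh hns), not_iff_not] at this
    obtain ⟨u, u', hp⟩ := ih X' hX' hX'd this.symm
    exact ⟨_, _, isPairs_cons h2 hx (hRX hy) hx0 hxy (hQy.trans hQx.symm) hX'X ho hsup hp⟩

omit [Fintype F] in
/-- The root of `-1` as the quarter turn of its pairs. -/
theorem root_eq_rot {k : ℕ} {u u' : Fin k → V} (h : IsPairs Q ⊤ u u') (σ τ : FormsLib.oGroup Q)
    (hσ : ∀ i, σ.1 (u i) = u' i ∧ σ.1 (u' i) = -u i) (hτ : ∀ i, τ.1 (u i) = u' i ∧ τ.1 (u' i) = -u i) :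
    σ = τ := by
  refine Subtype.ext (LinearEquiv.ext fun v => sub_eq_zero.1 (h.complete _ trivial fun i => ?_))
  have hp : ∀ (ρ : FormsLib.oGroup Q) a b, QuadraticMap.polar Q (ρ.1 a) (ρ.1 b) = QuadraticMap.polar Q a b := by
    intro ρ a b
    have hQρ : ∀ w, Q (ρ.1 w) = Q w := ρ.2
    simp only [QuadraticMap.polar, ← map_add, hQρ]
  constructor
  · have e1 := hp σ v (u' i)
    have e2 := hp τ v (u' i)
    rw [(hσ i).2, QuadraticMap.polar_neg_right] at e1
    rw [(hτ i).2, QuadraticMap.polar_neg_right] at e2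
    rw [QuadraticMap.polar_sub_left]
    linear_combination e2 - e1
  · have e1 := hp σ v (u i)
    have e2 := hp τ v (u i)
    rw [(hσ i).1] at e1
    rw [(hτ i).1] at e2
    rw [QuadraticMap.polar_sub_left]
    linear_combination e1 - e2

/-- Facts about a square root of `-1` in the orthogonal group. -/
theorem root_facts (h2 : (2 : F) ≠ 0) (hns : ¬ IsSquare (-1 : F)) (hQ : (QuadraticMap.polarBilin Q).Nondegenerate)
    {d : ℕ} (hdim : finrank F V = 2 * d) (σ : FormsLib.oGroup Q) (hσ : ∀ v, σ.1 (σ.1 v) = -v) :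
    (Half Q ⊤ ↔ Even d) ∧ (Spinor.spin σ = 1 ↔ IsSquare ((2 : F) ^ d)) := by
  obtain ⟨u, u', hp, hu, hH⟩ := exists_pairs_of_root (T := σ.1.toLinearMap) h2 hns (fun v => σ.2 v) hσ d ⊤
    (fun a _ h => hQ.1 a fun v => h v trivial) le_top (by rw [finrank_top, hdim])
  obtain ⟨τ, -, hspin, hτ, -⟩ := rot h2 hQ hp
  have hσu : ∀ i, σ.1 (u i) = u' i := hu
  rw [root_eq_rot hp σ τ (fun i => ⟨hσu i, by rw [← hσu i, hσ]⟩) hτ]
  exact ⟨hH, hspin⟩

/-- A square root of `-1` in the derived group. -/
theorem exists_root (h2 : (2 : F) ≠ 0) (hns : ¬ IsSquare (-1 : F)) (hQ : (QuadraticMap.polarBilin Q).Nondegenerate)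
    {d : ℕ} (hdim : finrank F V = 2 * d) (htype : Half Q ⊤ ↔ Even d) (h2d : IsSquare ((2 : F) ^ d)) :
    ∃ τ : FormsLib.oGroup Q, Spinor.dick τ = 1 ∧ Spinor.spin τ = 1 ∧ ∀ v, τ.1 (τ.1 v) = -v := by
  obtain ⟨u, u', hp⟩ := exists_pairs_one h2 hns d ⊤ (fun a _ h => hQ.1 a fun v => h v trivial)
    (by rw [finrank_top, hdim]) htype
  obtain ⟨τ, hd, hs, -, hτ⟩ := rot h2 hQ hp
  exact ⟨τ, hd, hs.2 h2d, hτ⟩

/-- An invariant subspace of a square root of `-1` has even dimension unless `-1` is a square. -/
theorem even_of_root (hns : ¬ IsSquare (-1 : F)) {T : Module.End F V} (hT : ∀ v, T (T v) = -v)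
    {W : Submodule F V} (hWT : W.map T ≤ W) : Even (finrank F W) := by
  by_contra hodd
  let T' : Module.End F W := T.restrict fun v hv => hWT ⟨v, hv, rfl⟩
  have h1 : T' * T' = (-1 : F) • (1 : Module.End F W) := LinearMap.ext fun v => Subtype.ext (by simp [T', hT])
  have h2 := congrArg LinearMap.det h1
  rw [map_mul, LinearMap.det_smul, map_one, mul_one, (Nat.not_even_iff_odd.1 hodd).neg_one_pow] at h2
  exact hns ⟨LinearMap.det T', h2.symm⟩

/-- Invariant totally singular subspaces of a square root of `-1`. -/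
theorem exists_root_ts (h2 : (2 : F) ≠ 0) (hQ : (QuadraticMap.polarBilin Q).Nondegenerate) {d m : ℕ}
    (hdim : finrank F V = 2 * d) (hm : m ≤ d) {T : Module.End F V} (hQT : ∀ v, Q (T v) = Q v)
    (hT : ∀ v, T (T v) = -v) (h : IsSquare (-1 : F) ∨ Even m) :
    ∃ W : Submodule F V, finrank F W = m ∧ W.map T ≤ W ∧ ∀ w ∈ W, Q w = 0 := by
  have hiso : ∀ u v, QuadraticMap.polarBilin Q (T u) (T v) = QuadraticMap.polarBilin Q u v := fun u v => by
    show QuadraticMap.polar Q (T u) (T v) = QuadraticMap.polar Q u v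
    simp only [QuadraticMap.polar, ← map_add, hQT]
  have htop : NdOn (QuadraticMap.polarBilin Q) ⊤ := fun a _ h => hQ.1 a fun v => h v trivial
  rcases h with ⟨ι, hι⟩ | ⟨l, hl⟩
  · obtain ⟨W, hWT, hW, hWd⟩ := S5955.exists_eigen h2 hiso hT hι.symm htop (m := m) (by omega)
    exact ⟨W, hWd, hWT, (orthTo_iff h2).1 hW⟩
  · have hodd : Fintype.card F % 2 = 1 := FiniteField.odd_card_of_char_ne_two fun h => h2 (by
      have h' := ringChar.Nat.cast_ringChar (R := F)
      rw [h] at h'
      exact_mod_cast h')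
    let A : LinearMap.BilinForm F V := (QuadraticMap.polarBilin Q).compl₁₂ T LinearMap.id
    have hA : ∀ a b, A a b = QuadraticMap.polarBilin Q (T a) b := fun a b => rfl
    have hAlt : LinearMap.IsAlt A := fun a => by
      rw [hA]
      have h1 := hiso (T a) a
      rw [hT, map_neg, LinearMap.neg_apply, polar_symm a (T a)] at h1
      exact (mul_eq_zero.1 (show (2 : F) * QuadraticMap.polarBilin Q (T a) a = 0 by linear_combination -h1)).resolve_left h2
    obtain ⟨W, -, hWT, hW, hWd⟩ := S5955.exists_quad (B := A) hodd h2 hAlt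
      (fun a b => by rw [hA, hA, hiso]) hT l ⊤ (fun a _ h => by
        have : T a = 0 := hQ.1 _ fun b => (hA a b).symm.trans (h b trivial)
        simpa [this] using (hT a).symm) le_top (by rw [finrank_top, hdim]; omega)
    refine ⟨W, hWd.trans (by omega), hWT, (orthTo_iff h2).1 fun a ha b hb => ?_⟩
    have := hW (T a) (hWT ⟨a, ha, rfl⟩) b hb
    rw [hA, hT, map_neg, LinearMap.neg_apply, neg_eq_zero] at this
    exact this

end Cfsg.Agent.Elusive.OrthTwo
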