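import Cfsg.Agent.Lib.Elusive.OrthogonalEvenWitness
import Cfsg.Agent.Lib.Elusive.OrthogonalTwo

/-!
Non-degenerate subspaces of a given type or isometry class.
-/

set_option autoImplicit false
set_option linter.style.haveILetI false

namespace Cfsg.Agent.Elusive.OrthNd

open Module FormIso OrthIso OrthType OrthClasses

variable {F V : Type*} [Field F] [AddCommGroup V] [Module F V] {Q : QuadraticForm F V}

/-- The two subspaces are isometric. -/
def Iso (Q : QuadraticForm F V) (X Y : Submodule F V) : Prop :=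
  ∃ e : X ≃ₗ[F] Y, ∀ x : X, Q (e x : V) = Q (x : V)

theorem iso_refl (X : Submodule F V) : Iso Q X X := ⟨LinearEquiv.refl F X, fun _ => rfl⟩

theorem Iso.symm' {X Y : Submodule F V} (h : Iso Q X Y) : Iso Q Y X := by
  obtain ⟨e, he⟩ := h
  refine ⟨e.symm, fun y => ?_⟩
  rw [← he (e.symm y), e.apply_symm_apply]

theorem Iso.trans' {X Y Z : Submodule F V} (h : Iso Q X Y) (h' : Iso Q Y Z) : Iso Q X Z := by
  obtain ⟨e, he⟩ := h
  obtain ⟨e', he'⟩ := h'
  exact ⟨e.trans e', fun x => (he' (e x)).trans (he x)⟩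

theorem Iso.finrank_eq' {X Y : Submodule F V} (h : Iso Q X Y) : finrank F X = finrank F Y := h.choose.finrank_eq

theorem iso_bot : Iso Q (⊥ : Submodule F V) ⊥ := iso_refl _

theorem Iso.sup' [FiniteDimensional F V] {A B A' B' : Submodule F V} (hA : NdOn (QuadraticMap.polarBilin Q) A)
    (hA' : NdOn (QuadraticMap.polarBilin Q) A') (ho : OrthTo (QuadraticMap.polarBilin Q) A B)
    (ho' : OrthTo (QuadraticMap.polarBilin Q) A' B') (h₁ : Iso Q A A') (h₂ : Iso Q B B') :
    Iso Q (A ⊔ B) (A' ⊔ B') := by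
  obtain ⟨L, hL⟩ := exists_sum_equiv hA ho
  obtain ⟨L', hL'⟩ := exists_sum_equiv hA' ho'
  obtain ⟨e₁, he₁⟩ := h₁
  obtain ⟨e₂, he₂⟩ := h₂
  refine ⟨L.symm.trans ((e₁.prodCongr e₂).trans L'), fun x => ?_⟩
  obtain ⟨y, rfl⟩ := L.surjective x
  rw [LinearEquiv.trans_apply, LinearEquiv.trans_apply, L.symm_apply_apply, hL', hL]
  show Q (e₁ y.1 : V) + Q (e₂ y.2 : V) = _
  rw [he₁, he₂]

/-- Isometric subspaces have the same type. -/
theorem Iso.half_iff' {X Y : Submodule F V} (h : Iso Q X Y) : Half Q X ↔ Half Q Y := by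
  have hd := h.finrank_eq'
  obtain ⟨e, he⟩ := h
  rw [Half, Half, ← hd]
  refine ⟨hasHalf_map e he, hasHalf_map e.symm fun y => ?_⟩
  rw [← he (e.symm y), e.apply_symm_apply]

variable [Fintype F] [FiniteDimensional F V]

/-- Even-dimensional non-degenerate subspaces of the same dimension and type are isometric. -/
theorem iso_of_type {X Y : Submodule F V} (hX : NdOn (QuadraticMap.polarBilin Q) X)
    (hY : NdOn (QuadraticMap.polarBilin Q) Y) {k : ℕ} (hXd : finrank F X = 2 * k) (hYd : finrank F Y = 2 * k)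
    (h : Half Q X ↔ Half Q Y) : Iso Q X Y := by
  obtain ⟨a, b, hab⟩ := Spinor.exists_aniso F
  rcases Nat.eq_zero_or_pos k with rfl | hk
  · rw [mul_zero, Submodule.finrank_eq_zero] at hXd hYd
    rw [hXd, hYd]
    exact iso_bot
  have hXk : finrank F X / 2 = k := by omega
  have hYk : finrank F Y / 2 = k := by omega
  rw [Half, Half, hXk, hYk] at h
  rcases OrthEvenWitness.dichotomy hab hk (Q.comp X.subtype) hXd (Spinor.nondeg_comp (ndOn_inf_orth hX)) with
      ⟨h1, L₁, hL₁⟩ | ⟨h1, L₁, hL₁⟩ <;>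
    rcases OrthEvenWitness.dichotomy hab hk (Q.comp Y.subtype) hYd (Spinor.nondeg_comp (ndOn_inf_orth hY)) with
      ⟨h2, L₂, hL₂⟩ | ⟨h2, L₂, hL₂⟩
  · exact ⟨L₁.trans L₂.symm, fun x => by
      have := hL₂ (L₂.symm (L₁ x))
      rw [L₂.apply_symm_apply, hL₁] at this
      exact this.symm⟩
  · exact absurd (h.1 h1) h2
  · exact absurd (h.2 h2) h1
  · exact ⟨L₁.trans L₂.symm, fun x => by
      have := hL₂ (L₂.symm (L₁ x))
      rw [L₂.apply_symm_apply, hL₁] at this
      exact this.symm⟩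

/-- Subspaces of both types, in any characteristic. -/
theorem exists_sub_type {X : Submodule F V} (hX : NdOn (QuadraticMap.polarBilin Q) X) {k l : ℕ}
    (hXd : finrank F X = 2 * (k + l)) (pl : Prop) (hk0 : k = 0 → pl) (hl0 : l = 0 → (pl ↔ Half Q X)) :
    ∃ W : Submodule F V, W ≤ X ∧ NdOn (QuadraticMap.polarBilin Q) W ∧ finrank F W = 2 * k ∧ (Half Q W ↔ pl) := by
  rcases Nat.eq_zero_or_pos k with rfl | hk
  · exact ⟨⊥, bot_le, ndOn_bot, by simp, iff_of_true half_bot (hk0 rfl)⟩
  obtain ⟨a, b, hab⟩ := Spinor.exists_aniso F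
  have hXk : finrank F X / 2 = k + l := by omega
  have main : ∀ {U : Type _} [AddCommGroup U] [Module F U] [FiniteDimensional F U] (Q₁ : QuadraticForm F U),
      finrank F U = 2 * k → (QuadraticMap.polarBilin Q₁).Nondegenerate → (HasHalf (F := F) ⇑Q₁ k ↔ pl) →
      ∃ W : Submodule F V, W ≤ X ∧ NdOn (QuadraticMap.polarBilin Q) W ∧ finrank F W = 2 * k ∧ (Half Q W ↔ pl) := by
    intro U _ _ _ Q₁ hU hQ₁ hpl
    obtain ⟨Q₂, L, hL⟩ := OrthEvenWitness.exists_complement (l := l) hk hU hXd Q₁ hQ₁ (Q.comp X.subtype)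
      (Spinor.nondeg_comp (ndOn_inf_orth hX)) fun h => by
        rw [hpl, hl0 h, Half, hXk, h, Nat.add_zero]
        exact Iff.rfl
    let f : U →ₗ[F] V := X.subtype ∘ₗ L.toLinearMap ∘ₗ LinearMap.inl F U (Fin (2 * l) → F)
    have hf : Function.Injective f := fun u v huv =>
      congrArg Prod.fst (L.injective (X.injective_subtype huv))
    have hfQ : ∀ u, Q (f u) = Q₁ u := fun u => by
      show (Q.comp X.subtype) (L (u, 0)) = _
      rw [hL]
      simp
    have hd : finrank F (LinearMap.range f) = 2 * k := by rw [LinearMap.finrank_range_of_inj hf, hU]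
    refine ⟨LinearMap.range f, ?_, ?_, hd, ?_⟩
    · rintro _ ⟨u, rfl⟩
      exact (L (u, 0)).2
    · rintro _ ⟨u, rfl⟩ h
      rw [hQ₁.1 u fun v => ?_, map_zero]
      show QuadraticMap.polar Q₁ u v = 0
      simp only [QuadraticMap.polar, ← hfQ, map_add]
      exact h (f v) ⟨v, rfl⟩
    · rw [Half, hd, Nat.mul_div_cancel_left _ two_pos, ← hpl]
      exact ⟨hasHalf_map (LinearEquiv.ofInjective f hf).symm fun x => by
          obtain ⟨u, rfl⟩ := (LinearEquiv.ofInjective f hf).surjective x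
          rw [LinearEquiv.symm_apply_apply]
          exact (hfQ u).symm,
        hasHalf_map (LinearEquiv.ofInjective f hf) hfQ⟩
  by_cases hp : pl
  · exact main (OrthOrder.qPlus k F) (by simp; omega) (OrthForms.qPlus_nondeg k)
      (iff_of_true (hasHalf_map (LinearEquiv.refl F _) (fun v => OrthOrder.qPlus_apply k v) (plus_half k)) hp)
  · obtain ⟨Qm, hQm, hQmn⟩ := OrthForms.exists_qMinus (F := F) (k - 1) a b hab
    exact main Qm (by simp; omega) hQmn (iff_of_false (fun h => minus_no_half (k - 1) a b hab (by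
      rw [hQm] at h
      rwa [Nat.sub_add_cancel hk])) hp)

omit [Fintype F] [FiniteDimensional F V] in
/-- A line spanned by an anisotropic vector. -/
theorem ndOn_line (h2 : (2 : F) ≠ 0) {b : V} (hb : Q b ≠ 0) :
    NdOn (QuadraticMap.polarBilin Q) (Submodule.span F {b}) := by
  intro u hu h
  obtain ⟨t, rfl⟩ := Submodule.mem_span_singleton.1 hu
  have h1 : QuadraticMap.polar Q (t • b) b = 0 := h b (Submodule.mem_span_singleton_self b)
  rw [QuadraticMap.polar_smul_left, FormsLib.polar_self', smul_eq_mul] at h1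
  rw [(mul_eq_zero.1 h1).resolve_right (mul_ne_zero h2 hb), zero_smul]

/-- In odd characteristic every smaller non-degenerate space embeds. -/
theorem exists_embed (h2 : (2 : F) ≠ 0) : ∀ (k : ℕ) (B X : Submodule F V),
    NdOn (QuadraticMap.polarBilin Q) B → NdOn (QuadraticMap.polarBilin Q) X → finrank F B = k → k < finrank F X →
    ∃ W : Submodule F V, W ≤ X ∧ NdOn (QuadraticMap.polarBilin Q) W ∧ Iso Q B W := by
  intro k
  induction k with
  | zero =>
    intro B X _ _ hB _
    rw [Submodule.finrank_eq_zero.1 hB]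
    exact ⟨⊥, bot_le, ndOn_bot, iso_bot⟩
  | succ k ih =>
    intro B X hB hX hBd hk
    obtain ⟨b, hb, hQb⟩ := OrthTwo.exists_nonsing hB fun h => by
      rw [h, finrank_bot] at hBd
      omega
    obtain ⟨u, hu, hQu⟩ := Spinor.exists_norm (ndOn_inf_orth hX) (Or.inl (by omega)) hQb
    have hQu0 : Q u ≠ 0 := hQu ▸ hQb
    have hb0 : b ≠ 0 := fun h => hQb (by rw [h, QuadraticMap.map_zero])
    have hu0 : u ≠ 0 := fun h => hQu0 (by rw [h, QuadraticMap.map_zero])
    have hrefl : ∀ x y, QuadraticMap.polarBilin Q x y = 0 → QuadraticMap.polarBilin Q y x = 0 :=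
      fun x y h => (polar_symm y x).trans h
    obtain ⟨B', -, -, hB', hoB, hsB, -, hdB⟩ := exists_compl (T := (1 : Module.End F V)) hrefl (fun _ _ => rfl)
      one_ne_zero (one_pow 1) hB (Submodule.map_id B).le (ndOn_line h2 hQb) (Submodule.map_id _).le
      ((Submodule.span_singleton_le_iff_mem _ _).2 hb)
    obtain ⟨X', hX'X, -, hX', hoX, -, -, hdX⟩ := exists_compl (T := (1 : Module.End F V)) hrefl (fun _ _ => rfl)
      one_ne_zero (one_pow 1) hX (Submodule.map_id X).le (ndOn_line h2 hQu0) (Submodule.map_id _).le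
      ((Submodule.span_singleton_le_iff_mem _ _).2 hu)
    rw [finrank_span_singleton hb0] at hdB
    rw [finrank_span_singleton hu0] at hdX
    obtain ⟨W, hWX, hW, hiso⟩ := ih B' X' hB' hX' (by omega) (by omega)
    have hoW : OrthTo (QuadraticMap.polarBilin Q) (Submodule.span F {u}) W := fun x hx y hy => hoX x hx y (hWX hy)
    refine ⟨Submodule.span F {u} ⊔ W, sup_le ((Submodule.span_singleton_le_iff_mem _ _).2 hu) (hWX.trans hX'X),
      ndOn_sup hrefl (ndOn_line h2 hQu0) hW hoW, ?_⟩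
    rw [← hsB]
    refine Iso.sup' (ndOn_line h2 hQb) (ndOn_line h2 hQu0) hoB hoW ⟨(LinearEquiv.toSpanNonzeroSingleton F V b hb0).symm.trans
      (LinearEquiv.toSpanNonzeroSingleton F V u hu0), fun x => ?_⟩ hiso
    obtain ⟨t, rfl⟩ := (LinearEquiv.toSpanNonzeroSingleton F V b hb0).surjective x
    rw [LinearEquiv.trans_apply, LinearEquiv.symm_apply_apply]
    show Q (t • u) = Q (t • b)
    rw [QuadraticMap.map_smul, QuadraticMap.map_smul, hQu]

end Cfsg.Agent.Elusive.OrthNd
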