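import Cfsg.Agent.Lib.Elusive.OrthogonalIsotropic
import Cfsg.Agent.Lib.OrthClasses.Types
import Cfsg.Agent.Lib.Spinor.SemisimpleCent

/-!
Types of non-degenerate even-dimensional subspaces, in any characteristic.
-/

set_option autoImplicit false
set_option linter.style.haveILetI false

namespace Cfsg.Agent.Elusive.OrthType

open Module FormIso OrthIso OrthClasses

variable {F V : Type*} [Field F] [AddCommGroup V] [Module F V] {Q : QuadraticForm F V}

/-- The subspace has a totally singular half. -/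
def Half (Q : QuadraticForm F V) (X : Submodule F V) : Prop :=
  HasHalf (F := F) (fun x : X => Q x) (finrank F X / 2)

theorem half_iff {X : Submodule F V} : Half Q X ↔
    ∃ W : Submodule F V, W ≤ X ∧ (∀ w ∈ W, Q w = 0) ∧ finrank F W = finrank F X / 2 := by
  constructor
  · rintro ⟨W, hW, hW'⟩
    refine ⟨W.map X.subtype, fun _ ⟨w, _, hw⟩ => hw ▸ w.2, ?_, by rw [Submodule.finrank_map_subtype_eq, hW]⟩
    rintro _ ⟨w, hw, rfl⟩
    exact hW' w hw
  · rintro ⟨W, hWX, hW, hWd⟩
    exact ⟨W.comap X.subtype, by rw [(Submodule.comapSubtypeEquivOfLe hWX).finrank_eq, hWd],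
      fun w hw => hW w hw⟩

theorem half_bot : Half Q (⊥ : Submodule F V) :=
  half_iff.2 ⟨⊥, le_rfl, fun w hw => by rw [(Submodule.mem_bot F).1 hw, QuadraticMap.map_zero], by simp⟩

theorem quad_sup {U W : Submodule F V} (hU : ∀ u ∈ U, Q u = 0) (hW : ∀ w ∈ W, Q w = 0)
    (hUW : OrthTo (QuadraticMap.polarBilin Q) U W) : ∀ x ∈ U ⊔ W, Q x = 0 := by
  intro x hx
  obtain ⟨u, hu, w, hw, rfl⟩ := Submodule.mem_sup.1 hx
  rw [FormsLib.quad_add, hU u hu, hW w hw, show QuadraticMap.polar Q u w = 0 from hUW u hu w hw, add_zero, add_zero]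

theorem orthTo_of_quad {W : Submodule F V} (hW : ∀ w ∈ W, Q w = 0) : OrthTo (QuadraticMap.polarBilin Q) W W :=
  fun u hu v hv => by
    show QuadraticMap.polar Q u v = 0
    simp [QuadraticMap.polar, hW _ hu, hW _ hv, hW _ (W.add_mem hu hv)]

variable [FiniteDimensional F V]

/-- A totally singular subspace of half the dimension at most. -/
theorem two_mul_le {X W : Submodule F V} (hX : NdOn (QuadraticMap.polarBilin Q) X) (hWX : W ≤ X)
    (hW : ∀ w ∈ W, Q w = 0) : 2 * finrank F W ≤ finrank F X :=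
  SpIso.two_mul_finrank_le hX hWX (orthTo_of_quad hW)

/-- Beyond the half there is nothing. -/
theorem le_of_not_half {X W : Submodule F V} (hX : NdOn (QuadraticMap.polarBilin Q) X) (hWX : W ≤ X)
    (hW : ∀ w ∈ W, Q w = 0) (hev : Even (finrank F X)) (h : ¬ Half Q X) : 2 * finrank F W + 2 ≤ finrank F X := by
  have h1 := two_mul_le hX hWX hW
  obtain ⟨k, hk⟩ := hev
  by_contra h2
  exact h (half_iff.2 ⟨W, hWX, hW, by omega⟩)

/-- An orthogonal sum as a product. -/
theorem exists_sum_equiv {X Y : Submodule F V} (hX : NdOn (QuadraticMap.polarBilin Q) X)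
    (ho : OrthTo (QuadraticMap.polarBilin Q) X Y) :
    ∃ L : (X × Y) ≃ₗ[F] ↥(X ⊔ Y), ∀ v, Q (L v : V) = Q v.1 + Q v.2 := by
  let f : (X × Y) →ₗ[F] ↥(X ⊔ Y) :=
    (Submodule.inclusion (le_sup_left : X ≤ X ⊔ Y)).coprod (Submodule.inclusion (le_sup_right : Y ≤ X ⊔ Y))
  have hf : ∀ v, (f v : V) = (v.1 : V) + (v.2 : V) := fun v => rfl
  have hinj : Function.Injective f := (injective_iff_map_eq_zero f).2 fun v hv => by
    have h : (v.1 : V) + v.2 = 0 := congrArg Subtype.val hv
    have h1 : (v.1 : V) = 0 := hX _ v.1.2 fun w hw => by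
      rw [eq_neg_of_add_eq_zero_left h, map_neg, LinearMap.neg_apply,
        OrthTo.symm (fun a b h => (polar_symm b a).trans h) ho _ v.2.2 w hw, neg_zero]
    rw [h1, zero_add] at h
    exact Prod.ext (Subtype.ext h1) (Subtype.ext h)
  have hsurj : Function.Surjective f := fun z => by
    obtain ⟨x, hx, y, hy, hxy⟩ := Submodule.mem_sup.1 z.2
    exact ⟨(⟨x, hx⟩, ⟨y, hy⟩), Subtype.ext hxy⟩
  refine ⟨LinearEquiv.ofBijective f ⟨hinj, hsurj⟩, fun v => ?_⟩
  show Q (f v : V) = _
  rw [hf, FormsLib.quad_add,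
    show QuadraticMap.polar Q (v.1 : V) v.2 = 0 from ho _ v.1.2 _ v.2.2, add_zero]

variable [Fintype F]

/-- Totally singular subspaces below half the dimension, in any characteristic. -/
theorem exists_singular_subspace : ∀ (k : ℕ) (X : Submodule F V),
    NdOn (QuadraticMap.polarBilin Q) X → 2 * k < finrank F X →
    ∃ W : Submodule F V, W ≤ X ∧ (∀ w ∈ W, Q w = 0) ∧ finrank F W = k := by
  intro k
  induction k with
  | zero => exact fun X _ _ => ⟨⊥, bot_le, fun w hw => by simp [(Submodule.mem_bot F).1 hw], finrank_bot F V⟩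
  | succ k ih =>
    intro X hX hk
    obtain ⟨x, hx, hx0, hQx⟩ := Spinor.exists_singular (ndOn_inf_orth hX) (by omega)
    obtain ⟨y, hy, hQy, hxy⟩ := Spinor.exists_pair (ndOn_inf_orth hX) hx hx0 hQx
    set B := QuadraticMap.polarBilin Q with hBdef
    have hxx : B x x = 0 := by
      show QuadraticMap.polar Q x x = 0
      rw [FormsLib.polar_self', hQx, mul_zero]
    have hyy : B y y = 0 := by
      show QuadraticMap.polar Q y y = 0
      rw [FormsLib.polar_self', hQy, mul_zero]
    have hxy' : B x y = 1 := hxy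
    have hyx : B y x = 1 := (polar_symm y x).trans hxy
    set P := Submodule.span F {x, y}
    have hPX : P ≤ X := Submodule.span_le.2 (by rintro z (rfl | rfl) <;> assumption)
    have hcoef : ∀ a b : F, B (a • x + b • y) y = a ∧ B (a • x + b • y) x = b := fun a b => by
      simp [hxx, hyy, hxy', hyx]
    have hP : NdOn B P := by
      intro u hu h
      obtain ⟨a, b, rfl⟩ := Submodule.mem_span_pair.1 hu
      have ha : a = 0 := (hcoef a b).1.symm.trans (h y (Submodule.subset_span (by simp)))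
      have hb : b = 0 := (hcoef a b).2.symm.trans (h x (Submodule.subset_span (by simp)))
      simp [ha, hb]
    have hPd : finrank F P = 2 := by
      have hli : LinearIndependent F ![x, y] := LinearIndependent.pair_iff.2 fun a b hab => by
        exact ⟨(hcoef a b).1.symm.trans (by simp [hab]), (hcoef a b).2.symm.trans (by simp [hab])⟩
      have := finrank_span_eq_card hli
      rwa [Fintype.card_fin, Matrix.range_cons_cons_empty] at this
    obtain ⟨X', hX'X, -, hX', ho, -, hinf, hd⟩ := exists_compl (T := (1 : Module.End F V))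
      (fun u v h => (polar_symm v u).trans h) (fun _ _ => rfl) one_ne_zero (one_pow 1) hX
      (Submodule.map_id X).le hP (Submodule.map_id P).le hPX
    obtain ⟨W, hWX, hW, hWd⟩ := ih X' hX' (by omega)
    have hxP : Submodule.span F {x} ≤ P := Submodule.span_mono (by simp)
    refine ⟨Submodule.span F {x} ⊔ W, sup_le (hxP.trans hPX) (hWX.trans hX'X),
      quad_sup ?_ hW (fun u hu v hv => ho u (hxP hu) v (hWX hv)), ?_⟩
    · intro u hu
      obtain ⟨a, rfl⟩ := Submodule.mem_span_singleton.1 hu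
      rw [QuadraticMap.map_smul, hQx, smul_zero]
    · have := Submodule.finrank_sup_add_finrank_inf_eq (Submodule.span F {x}) W
      rw [le_bot_iff.1 ((inf_le_inf hxP hWX).trans hinf.le), finrank_bot, finrank_span_singleton hx0, hWd] at this
      omega

/-- The type of an orthogonal sum. -/
theorem half_sup {X Y : Submodule F V} (hX : NdOn (QuadraticMap.polarBilin Q) X)
    (hY : NdOn (QuadraticMap.polarBilin Q) Y) (ho : OrthTo (QuadraticMap.polarBilin Q) X Y)
    (hXe : Even (finrank F X)) (hYe : Even (finrank F Y)) : Half Q (X ⊔ Y) ↔ (Half Q X ↔ Half Q Y) := by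
  obtain ⟨k, hk⟩ := hXe
  obtain ⟨l, hl⟩ := hYe
  rcases Nat.eq_zero_or_pos k with rfl | hk0
  · have : X = ⊥ := Submodule.finrank_eq_zero.1 (by omega)
    subst this
    simp [half_bot]
  rcases Nat.eq_zero_or_pos l with rfl | hl0
  · have : Y = ⊥ := Submodule.finrank_eq_zero.1 (by omega)
    subst this
    simp [half_bot]
  obtain ⟨a, b, hab⟩ := Spinor.exists_aniso F
  obtain ⟨L, hL⟩ := exists_sum_equiv hX ho
  have hsum : finrank F ↥(X ⊔ Y) / 2 = k + l := by
    rw [← L.finrank_eq, finrank_prod, hk, hl]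
    omega
  have hXd : finrank F X / 2 = k := by omega
  have hYd : finrank F Y / 2 = l := by omega
  let Qs : (X × Y) → F := fun v => Q v.1 + Q v.2
  have key : Half Q (X ⊔ Y) ↔ HasHalf (F := F) Qs (k + l) := by
    rw [Half, hsum]
    exact ⟨hasHalf_map L.symm fun v => by
        show Q (L.symm v).1 + Q (L.symm v).2 = _
        rw [← hL, L.apply_symm_apply],
      hasHalf_map L hL⟩
  have plusC : ∀ {Z : Submodule F V} {j : ℕ}, 1 ≤ j → finrank F Z = 2 * j → NdOn (QuadraticMap.polarBilin Q) Z →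
      (Half Q Z ∧ ∃ L₁ : Z ≃ₗ[F] (PI j → F), ∀ v : Z, Cfsg.quadFormPlus j F (L₁ v) = Q v) ∨
      (¬ Half Q Z ∧ ∃ L₁ : Z ≃ₗ[F] (MI (j - 1) → F), ∀ v : Z, Cfsg.quadFormMinus (j - 1) F a b (L₁ v) = Q v) := by
    intro Z j hj hZd hZ
    have hjd : finrank F Z / 2 = j := by omega
    rcases Spinor.equiv_plus_or_minus hj hZd (Q.comp Z.subtype) (Spinor.nondeg_comp (ndOn_inf_orth hZ)) a b hab with
      ⟨L₁, h₁⟩ | ⟨L₁, h₁⟩
    · refine Or.inl ⟨?_, L₁, h₁⟩
      rw [Half, hjd]
      exact hasHalf_map L₁.symm (fun v => by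
        show Q (L₁.symm v : V) = _
        have := h₁ (L₁.symm v)
        rw [L₁.apply_symm_apply] at this
        exact this.symm) (plus_half j)
    · refine Or.inr ⟨fun h => minus_no_half (j - 1) a b hab ?_, L₁, h₁⟩
      rw [Half, hjd] at h
      rw [Nat.sub_add_cancel hj]
      exact hasHalf_map L₁ h₁ h
  have back : ∀ {A B : Type _} [AddCommGroup A] [Module F A] [AddCommGroup B] [Module F B] {Q₁ : A → F} {Q₂ : B → F}
      (L₁ : X ≃ₗ[F] A) (L₂ : Y ≃ₗ[F] B), (∀ v : X, Q₁ (L₁ v) = Q v) → (∀ v : Y, Q₂ (L₂ v) = Q v) →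
      (HasHalf (F := F) Qs (k + l) ↔ HasHalf (F := F) (fun v : A × B => Q₁ v.1 + Q₂ v.2) (k + l)) := by
    intro A B _ _ _ _ Q₁ Q₂ L₁ L₂ h₁ h₂
    refine ⟨hasHalf_map (L₁.prodCongr L₂) fun v => ?_, hasHalf_map (L₁.prodCongr L₂).symm fun v => ?_⟩
    · simp [Qs, h₁, h₂]
    · simp [Qs, ← h₁, ← h₂]
  rw [key]
  rcases plusC hk0 (by omega) hX with ⟨hx, L₁, h₁⟩ | ⟨hx, L₁, h₁⟩ <;>
    rcases plusC hl0 (by omega) hY with ⟨hy, L₂, h₂⟩ | ⟨hy, L₂, h₂⟩ <;>
    rw [back L₁ L₂ h₁ h₂] <;> simp only [hx, hy, iff_true, iff_false, not_true_eq_false, not_false_eq_true]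
  · exact prod_half (plus_half k) (plus_half l)
  · intro h
    obtain ⟨L₃, h₃⟩ := plus_minus_equiv (F := F) k (l - 1) a b
    refine minus_no_half (k + (l - 1)) a b hab ?_
    rw [show k + (l - 1) + 1 = k + l by omega]
    exact hasHalf_map L₃ h₃ h
  · intro h
    obtain ⟨L₃, h₃⟩ := plus_minus_equiv (F := F) l (k - 1) a b
    refine minus_no_half (l + (k - 1)) a b hab ?_
    rw [show l + (k - 1) + 1 = k + l by omega]
    exact hasHalf_map ((LinearEquiv.prodComm F _ _).trans L₃) (fun v => by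
      rw [LinearEquiv.trans_apply, h₃]
      exact add_comm _ _) h
  · rw [show k + l = k - 1 + (l - 1) + 2 by omega]
    exact minus_minus_half (k - 1) (l - 1) a b hab

end Cfsg.Agent.Elusive.OrthType
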