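import Cfsg.Agent.Lib.Elusive.OrthogonalIsotropic
import Cfsg.Agent.Lib.TransvMax.SymRoot
import Cfsg.Agent.Lib.OrthClasses.Types
import Cfsg.Agent.Lib.Forms.Models

/-!
Orthogonal elements of odd prime order obtained from symplectic ones without fixed vectors.
-/

set_option autoImplicit false
set_option linter.style.haveILetI false

namespace Cfsg.Agent.Elusive.OrthWitness

open Module FormIso

variable {F : Type*} [Field F] [Fintype F] {r : ℕ} [Fact r.Prime]

/-- The symmetric form attached to a symplectic isometry without fixed vectors gives an odd-dimensional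
orthogonal element whose totally singular invariant subspaces are controlled by the symplectic ones. -/
theorem exists_element (h2 : (2 : F) ≠ 0) (hr2 : r ≠ 2) {d' d : ℕ} (hd' : 0 < d') (hdd : d' ≤ d)
    (T : Module.End F (Fin d' ⊕ Fin d' → F))
    (hiso : ∀ u v, FormsLib.spB d' F (T u) (T v) = FormsLib.spB d' F u v)
    (hT : T ^ r = 1) (hfix : ∀ v, T v = v → v = 0) :
    ∃ g : GL (Unit ⊕ (Fin d ⊕ Fin d)) F, g ∈ Cfsg.Geo.omegaGL (Cfsg.quadFormOdd d F) ∧ orderOf g = r ∧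
      ∀ W : Submodule F (Unit ⊕ (Fin d ⊕ Fin d) → F), (∀ w ∈ W, Cfsg.quadFormOdd d F w = 0) →
        W.map (Matrix.toLin' (g : Matrix (Unit ⊕ (Fin d ⊕ Fin d)) (Unit ⊕ (Fin d ⊕ Fin d)) F)) ≤ W →
        ∃ W₁ : Submodule F (Fin d' ⊕ Fin d' → F), OrthTo (FormsLib.spB d' F) W₁ W₁ ∧ W₁.map T ≤ W₁ ∧
          finrank F W₁ ≤ finrank F W ∧ finrank F W - finrank F W₁ ≤ d - d' := by
  classical
  have hrpr := (Fact.out : r.Prime)
  have hodd := hrpr.odd_of_ne_two hr2
  let V₁ := Fin d' ⊕ Fin d' → F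
  let u := 2 * (d - d') + 1
  let D : V₁ →ₗ[F] V₁ := T - T ^ (r - 1)
  have hDa : ∀ a, D a = T a - (T ^ (r - 1)) a := fun a => rfl
  have hDinj : Function.Injective D := (injective_iff_map_eq_zero D).2 fun a ha =>
    OrthIso.sub_inj (M := ⊤) (fun v _ => hfix v) hodd hT trivial (sub_eq_zero.1 ha)
  let DE : V₁ ≃ₗ[F] V₁ := LinearEquiv.ofInjectiveEndo D hDinj
  have hDS : ∀ a, D (DE.symm a) = a := fun a => DE.apply_symm_apply a
  have hSD : ∀ a, DE.symm (D a) = a := fun a => DE.symm_apply_apply a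
  let B₁ : LinearMap.BilinForm F V₁ := (FormsLib.spB d' F).compl₁₂ DE.symm.toLinearMap LinearMap.id
  have hB₁ : ∀ a b, B₁ a b = FormsLib.spB d' F (DE.symm a) b := fun a b => rfl
  have hA : LinearMap.IsAlt (FormsLib.spB d' F) := FormsLib.spB_alt
  have hB₁s : ∀ a b, B₁ a b = B₁ b a := by
    intro a b
    obtain ⟨a', rfl⟩ : ∃ a', D a' = a := ⟨_, hDS a⟩
    obtain ⟨b', rfl⟩ : ∃ b', D b' = b := ⟨_, hDS b⟩
    rw [hB₁, hB₁, hSD, hSD, hDa, hDa, map_sub, map_sub]
    have e : ∀ x y, FormsLib.spB d' F x ((T ^ (r - 1)) y) = FormsLib.spB d' F (T x) y := fun x y => by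
      conv_lhs => rw [← hiso]
      rw [← Module.End.mul_apply T, ← pow_succ', Nat.sub_add_cancel hrpr.one_le, hT]
      rfl
    rw [e, e, ← hA.neg a' (T b'), ← hA.neg (T a') b']
    ring
  let Q₁ : QuadraticForm F V₁ := LinearMap.BilinMap.toQuadraticMap B₁
  have hQ₁ : ∀ a, Q₁ a = B₁ a a := fun a => rfl
  have hP₁ : ∀ a b, QuadraticMap.polar Q₁ a b = 2 * B₁ a b := fun a b => by
    simp only [QuadraticMap.polar, hQ₁, map_add, LinearMap.add_apply, hB₁s b a]
    ring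
  let Q₂ : QuadraticForm F (Fin u → F) := QuadraticMap.weightedSumSquares F (fun _ => (1 : F))
  have hP₂ : ∀ a b, QuadraticMap.polar Q₂ a b = 2 * ∑ k, a k * b k := fun a b => by
    simp only [QuadraticMap.polar, Q₂, QuadraticMap.weightedSumSquares_apply, one_smul, Pi.add_apply,
      Finset.mul_sum, ← Finset.sum_sub_distrib]
    exact Finset.sum_congr rfl fun k _ => by ring
  have hN₁ : ∀ a, (∀ b, QuadraticMap.polar Q₁ a b = 0) → a = 0 := fun a ha => by
    refine DE.symm.injective ((FormsLib.spB_nondeg.1 _ fun b => ?_).trans (map_zero _).symm)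
    have := ha b
    rw [hP₁, mul_eq_zero, or_iff_right h2, hB₁] at this
    exact this
  have hN₂ : ∀ a, (∀ b, QuadraticMap.polar Q₂ a b = 0) → a = 0 := fun a ha => funext fun k => by
    have := ha (Pi.single k 1)
    rw [hP₂, mul_eq_zero, or_iff_right h2] at this
    simpa [Pi.single_apply] using this
  let Q := Q₁.prod Q₂
  have hQ : ∀ v, Q v = Q₁ v.1 + Q₂ v.2 := fun v => rfl
  have hQnd : (QuadraticMap.polarBilin Q).Nondegenerate := by
    have key : ∀ v, (∀ w, QuadraticMap.polar Q v w = 0) → v = 0 := fun v hv => by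
      refine Prod.ext (hN₁ _ fun b => ?_) (hN₂ _ fun b => ?_)
      · simpa [QuadraticMap.polar, hQ, add_sub_add_comm] using hv (b, 0)
      · simpa [QuadraticMap.polar, hQ, add_sub_add_comm] using hv (0, b)
    exact ⟨fun v hv => key v hv, fun v hv => key v fun w => (QuadraticMap.polar_comm _ _ _).trans (hv w)⟩
  obtain ⟨c, L, hc, hL⟩ := OrthClasses.exists_similar_odd h2 (m := d) (V := V₁ × (Fin u → F)) (by
    rw [finrank_prod, finrank_pi, finrank_pi, Fintype.card_sum, Fintype.card_fin, Fintype.card_fin]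
    omega) Q hQnd
  let TE : V₁ ≃ₗ[F] V₁ := LinearEquiv.ofInjectiveEndo T (FormIso.injective_of_pow hrpr.ne_zero hT)
  have hTE : ∀ a, TE a = T a := fun a => rfl
  let e₀ : (V₁ × (Fin u → F)) ≃ₗ[F] (V₁ × (Fin u → F)) := TE.prodCongr (LinearEquiv.refl F _)
  have he₀ : ∀ v, e₀ v = (T v.1, v.2) := fun v => rfl
  have hQe : ∀ v, Q (e₀ v) = Q v := fun v => by
    have hcomm : DE.symm (T v.1) = T (DE.symm v.1) := by
      refine DE.injective ((DE.apply_symm_apply _).trans ?_)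
      show _ = D (T (DE.symm v.1))
      rw [hDa, ← Module.End.mul_apply (T ^ (r - 1)), ← pow_succ, pow_succ', Module.End.mul_apply, ← map_sub,
        ← hDa, hDS]
    rw [hQ, hQ, he₀, hQ₁, hQ₁, hB₁, hcomm, hiso, hB₁]
  let g₀ := L.symm.trans (e₀.trans L)
  have hg₀ : ∀ v, g₀ v = L (e₀ (L.symm v)) := fun v => rfl
  have hg₀o : g₀ ∈ FormsLib.oGroup (FormsLib.qOdd d F) := fun v => by
    have e : ∀ w, FormsLib.qOdd d F w = Cfsg.quadFormOdd d F w := fun w => congrFun FormsLib.coe_qOdd w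
    rw [e, e, hg₀, hL, hQe, ← hL, L.apply_symm_apply]
  have hpow : ∀ (k : ℕ) v, (g₀ ^ k) v = L ((T ^ k) (L.symm v).1, (L.symm v).2) := by
    intro k
    induction k with
    | zero =>
      intro v
      rw [pow_zero, pow_zero]
      exact (L.apply_symm_apply v).symm
    | succ k ih =>
      intro v
      rw [pow_succ', pow_succ']
      show g₀ ((g₀ ^ k) v) = _
      rw [ih, hg₀, L.symm_apply_apply, he₀]
      rfl
  have hg₀r : g₀ ^ r = 1 := LinearEquiv.ext fun v => by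
    rw [hpow, hT]
    exact L.apply_symm_apply v
  have hg₀1 : g₀ ≠ 1 := by
    intro h
    haveI : Nonempty (Fin d') := ⟨⟨0, hd'⟩⟩
    obtain ⟨a, ha⟩ := exists_ne (0 : V₁)
    refine ha (hfix a ?_)
    have h1 := LinearEquiv.congr_fun h (L (a, 0))
    rw [hg₀, L.symm_apply_apply, he₀] at h1
    exact congrArg Prod.fst (L.injective h1)
  refine ⟨TransvMax.glOf g₀, ?_, ?_, ?_⟩
  · rw [← FormsLib.coe_qOdd]
    exact SymRoot.glOf_mem_omega_of_pow h2 (FormsLib.qOdd_nondeg h2) hg₀o hodd hg₀r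
  · refine orderOf_eq_prime (by rw [← map_pow, hg₀r, map_one]) fun h => hg₀1 (LinearEquiv.ext fun v => ?_)
    rw [← TransvMax.glOf_mulVec g₀ v, h]
    simp
  intro W hW hWT
  set W' := W.map (L.symm : (Unit ⊕ (Fin d ⊕ Fin d) → F) →ₗ[F] V₁ × (Fin u → F)) with hW'
  have hW'Q : ∀ w ∈ W', Q w = 0 := by
    rintro _ ⟨v, hv, rfl⟩
    have h := hW v hv
    rw [← L.apply_symm_apply v, hL, mul_eq_zero, or_iff_right hc] at h
    exact h
  have hW'T : ∀ w ∈ W', (T w.1, w.2) ∈ W' := by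
    rintro _ ⟨v, hv, rfl⟩
    refine ⟨g₀ v, ?_, ?_⟩
    · have := hWT ⟨v, hv, rfl⟩
      rwa [Matrix.toLin'_apply, TransvMax.glOf_mulVec] at this
    · rw [LinearEquiv.coe_coe, hg₀, L.symm_apply_apply, he₀]
  set W₁ := W'.map (LinearMap.fst F V₁ (Fin u → F))
  set W₂ := W'.map (LinearMap.snd F V₁ (Fin u → F))
  have hW₁T : W₁.map T ≤ W₁ := by
    rintro _ ⟨_, ⟨w, hw, rfl⟩, rfl⟩
    exact ⟨_, hW'T w hw, rfl⟩
  have hTl : ∀ (l : ℕ), ∀ w ∈ W', ((T ^ l) w.1, w.2) ∈ W' := by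
    intro l
    induction l with
    | zero => exact fun w hw => hw
    | succ l ih => exact fun w hw => by rw [pow_succ', Module.End.mul_apply]; exact hW'T _ (ih w hw)
  have h10 : ∀ a ∈ W₁, (a, (0 : Fin u → F)) ∈ W' := by
    intro a ha
    obtain ⟨_, ⟨w, hw, rfl⟩, rfl⟩ := OrthIso.sub_surj hW₁T (fun v _ => hfix v) hodd hT ha
    have := W'.sub_mem (hW'T w hw) (hTl (r - 1) w hw)
    rwa [Prod.mk_sub_mk, sub_self] at this
  have h20 : ∀ b ∈ W₂, ((0 : V₁), b) ∈ W' := by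
    rintro _ ⟨w, hw, rfl⟩
    have := W'.sub_mem hw (h10 _ ⟨w, hw, rfl⟩)
    rw [show w = (w.1, w.2) from rfl, Prod.mk_sub_mk] at this
    simpa using this
  have hprod : W' = W₁.prod W₂ := le_antisymm (fun w hw => ⟨⟨w, hw, rfl⟩, ⟨w, hw, rfl⟩⟩) fun w hw => by
    have := W'.add_mem (h10 _ hw.1) (h20 _ hw.2)
    simpa using this
  have hdim : finrank F W₁ + finrank F W₂ = finrank F W := by
    let e : ↥(W₁.prod W₂) ≃ₗ[F] W₁ × W₂ :=
      { toFun := fun w => (⟨w.1.1, w.2.1⟩, ⟨w.1.2, w.2.2⟩)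
        invFun := fun w => ⟨(w.1.1, w.2.1), w.1.2, w.2.2⟩
        map_add' := fun _ _ => rfl
        map_smul' := fun _ _ => rfl
        left_inv := fun _ => rfl
        right_inv := fun _ => rfl }
    rw [← LinearEquiv.finrank_map_eq L.symm W, ← hW', hprod, e.finrank_eq, finrank_prod]
  have hW₂le : 2 * finrank F W₂ ≤ u := by
    have := SpIso.two_mul_finrank_le (B := QuadraticMap.polarBilin Q₂) (X := ⊤) (W := W₂)
      (fun a _ ha => hN₂ a fun b => ha b trivial) le_top ((OrthIso.orthTo_iff h2).2 fun b hb => by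
        have := hW'Q _ (h20 b hb)
        simpa [hQ] using this)
    rwa [finrank_top, finrank_pi, Fintype.card_fin] at this
  refine ⟨W₁, ?_, hW₁T, le_trans (Nat.le_add_right _ _) hdim.le, by rw [← hdim, Nat.add_sub_cancel_left]; exact (by intro n k h; omega : ∀ n k : ℕ, 2 * n ≤ 2 * k + 1 → n ≤ k) _ _ hW₂le⟩
  have hiso₁ : OrthTo (QuadraticMap.polarBilin Q₁) W₁ W₁ := (OrthIso.orthTo_iff h2).2 fun a ha => by
    have := hW'Q _ (h10 a ha)
    simpa [hQ] using this
  intro a ha b hb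
  have hDa' : D a ∈ W₁ := W₁.sub_mem (hW₁T ⟨a, ha, rfl⟩) (pow_mem hW₁T ha _)
  have h := hiso₁ (D a) hDa' b hb
  rw [QuadraticMap.polarBilin_apply_apply, hP₁, mul_eq_zero, or_iff_right h2, hB₁, hSD] at h
  exact h

end Cfsg.Agent.Elusive.OrthWitness
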