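import Cfsg.Agent.Lib.Elusive.InvolutionType
import Cfsg.Agent.Lib.Elusive.Linear
import Cfsg.Prelude.Def_GeometricClasses

/-!
Normalisers of quadratic fields of matrices.
-/

set_option autoImplicit false
set_option linter.style.haveILetI false

namespace Cfsg.Agent.Elusive

open Module
open scoped Matrix

theorem det_fromBlocks_diagonal {R ι : Type*} [CommRing R] [Fintype ι] [DecidableEq ι] (a b c d : ι → R) :
    (Matrix.fromBlocks (Matrix.diagonal a) (Matrix.diagonal b) (Matrix.diagonal c) (Matrix.diagonal d)).det =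
      ∏ l, (a l * d l - b l * c l) := by
  let σ : ι ⊕ ι ≃ Fin 2 × ι :=
    { toFun := Sum.elim (fun l => (0, l)) (fun l => (1, l))
      invFun := fun x => if x.1 = 0 then Sum.inl x.2 else Sum.inr x.2
      left_inv := by rintro (l | l) <;> simp
      right_inv := by rintro ⟨i, l⟩; fin_cases i <;> simp }
  rw [← Matrix.det_reindex_self σ, show Matrix.reindex σ σ _ =
    Matrix.blockDiagonal fun l => !![a l, b l; c l, d l] from ?_, Matrix.det_blockDiagonal]
  · simp [Matrix.det_fin_two]
  · ext ⟨i, k⟩ ⟨j, l⟩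
    rw [Matrix.blockDiagonal_apply]
    fin_cases i <;> fin_cases j <;> by_cases hkl : k = l <;> simp [σ, hkl, Matrix.diagonal_apply]

variable {F : Type*} [Field F] {n : ℕ} {K : Subalgebra F (Matrix (Fin n) (Fin n) F)}

theorem mulVec_injective_field {r : ℕ} (hK : Cfsg.Geo.IsFieldSubalgebra r K) {a : Matrix (Fin n) (Fin n) F}
    (ha : a ∈ K) {v : Fin n → F} (hv : v ≠ 0) (h : a *ᵥ v = 0) : a = 0 := by
  by_contra hne
  obtain ⟨y, hy, hay⟩ := hK.inv a ha hne
  refine hv ?_
  rw [← Matrix.one_mulVec v, ← hay, hK.comm a ha y hy, ← Matrix.mulVec_mulVec, h, Matrix.mulVec_zero]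

/-- A quadratic field of matrices is generated by any non-scalar element. -/
theorem exists_generator (hK : Cfsg.Geo.IsFieldSubalgebra 2 K) :
    ∃ a ∈ K, (∀ c : F, a ≠ c • 1) ∧ ∀ k ∈ K, ∃ s t : F, k = s • 1 + t • a := by
  obtain ⟨a, haK, ha⟩ : ∃ a ∈ K, a ∉ Submodule.span F {(1 : Matrix (Fin n) (Fin n) F)} := by
    by_contra h
    push Not at h
    have hle : Subalgebra.toSubmodule K ≤ Submodule.span F {(1 : Matrix (Fin n) (Fin n) F)} := h
    have h1 := Submodule.finrank_mono hle
    have h2 : finrank F (Submodule.span F {(1 : Matrix (Fin n) (Fin n) F)}) ≤ 1 :=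
      (finrank_span_le_card _).trans (by simp)
    have h3 : finrank F (Subalgebra.toSubmodule K) = 2 := hK.finrank_eq
    omega
  have hac : ∀ c : F, a ≠ c • 1 := fun c e => ha (Submodule.mem_span_singleton.2 ⟨c, e.symm⟩)
  refine ⟨a, haK, hac, fun k hk => ?_⟩
  let v : Fin 2 → K := ![⟨1, K.one_mem⟩, ⟨a, haK⟩]
  have hli : LinearIndependent F v := by
    rw [linearIndependent_fin2]
    have h1 : (1 : Matrix (Fin n) (Fin n) F) ≠ 0 := fun e => by
      apply hac 0
      rw [zero_smul, ← mul_one a, e, mul_zero]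
    refine ⟨fun e => hac 0 (by rw [zero_smul]; exact congrArg Subtype.val e), fun c e => ?_⟩
    have e' : c • a = 1 := congrArg Subtype.val e
    have hc : c ≠ 0 := fun h => h1 (by rw [← e', h, zero_smul])
    exact hac c⁻¹ (by rw [← e', inv_smul_smul₀ hc])
  have hspan := hli.span_eq_top_of_card_eq_finrank (by rw [Fintype.card_fin]; exact hK.finrank_eq.symm)
  have hk' : (⟨k, hk⟩ : K) ∈ Submodule.span F (Set.range v) := hspan ▸ Submodule.mem_top
  obtain ⟨c, hc⟩ := (Submodule.mem_span_range_iff_exists_fun F).1 hk'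
  refine ⟨c 0, c 1, ?_⟩
  have := congrArg Subtype.val hc
  simp only [Fin.sum_univ_two, v] at this
  exact this.symm

/-- No element of the normaliser of a quadratic field is a scalar plus a map of rank one. -/
theorem not_rank_one (hn : 4 ≤ n) (hK : Cfsg.Geo.IsFieldSubalgebra 2 K) {g : GL (Fin n) F}
    (hg : g ∈ Cfsg.Geo.subalgebraNormalizer K) {μ : F} (hμ : μ ≠ 0)
    (h1 : finrank F (LinearMap.range
      (Matrix.toLin' (g : Matrix (Fin n) (Fin n) F) - μ • LinearMap.id)) = 1) : False := by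
  classical
  set T := Matrix.toLin' (g : Matrix (Fin n) (Fin n) F) - μ • LinearMap.id
  set W := LinearMap.ker T
  have hmem : ∀ v, v ∈ W ↔ (g : Matrix (Fin n) (Fin n) F) *ᵥ v = μ • v := fun v => by
    simp [W, T, sub_eq_zero]
  obtain ⟨a, haK, hac, -⟩ := exists_generator hK
  have hW := LinearMap.finrank_range_add_finrank_ker T
  rw [h1, finrank_pi, Fintype.card_fin] at hW
  let L : W →ₗ[F] (Fin n → F) := T ∘ₗ Matrix.toLin' a ∘ₗ W.subtype
  have hLr : finrank F (LinearMap.range L) ≤ 1 := h1 ▸ Submodule.finrank_mono (LinearMap.range_comp_le_range _ _)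
  have hLk := LinearMap.finrank_range_add_finrank_ker L
  obtain ⟨⟨v, hv⟩, hvk, hv0⟩ := Submodule.exists_mem_ne_zero_of_ne_bot (p := LinearMap.ker L) fun h => by
    rw [h, finrank_bot] at hLk
    change 1 + finrank F W = n at hW
    omega
  have hv0' : v ≠ 0 := fun e => hv0 (Subtype.ext e)
  have hav : a *ᵥ v ∈ W := by
    rw [LinearMap.mem_ker] at hvk ⊢
    simpa [L] using hvk
  set a' := (g : Matrix (Fin n) (Fin n) F) * a * ((g⁻¹ : GL (Fin n) F) : Matrix (Fin n) (Fin n) F)
  have ha' : a' ∈ K := (hg a).1 haK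
  have h2 : (a' - a) *ᵥ (μ • v) = 0 := by
    rw [Matrix.sub_mulVec, sub_eq_zero, ← (hmem v).1 hv, Matrix.mulVec_mulVec, mul_assoc, Units.inv_mul,
      mul_one, ← Matrix.mulVec_mulVec, (hmem _).1 hav, (hmem v).1 hv, Matrix.mulVec_smul]
  have h3 := sub_eq_zero.1 (mulVec_injective_field hK (K.sub_mem ha' haK) (smul_ne_zero hμ hv0') h2)
  have hga : (g : Matrix (Fin n) (Fin n) F) * a = a * g := by
    calc (g : Matrix (Fin n) (Fin n) F) * a = a' * g := by
          rw [mul_assoc _ _ (g : Matrix (Fin n) (Fin n) F), Units.inv_mul, mul_one]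
      _ = a * g := by rw [h3]
  obtain ⟨⟨u, hu⟩, hu0, hspan⟩ := finrank_eq_one_iff'.1 h1
  have hu0' : u ≠ 0 := fun e => hu0 (Subtype.ext e)
  have hau : a *ᵥ u ∈ LinearMap.range T := by
    obtain ⟨w, hw⟩ := hu
    refine ⟨a *ᵥ w, ?_⟩
    rw [← hw]
    simp only [T, LinearMap.sub_apply, LinearMap.smul_apply, LinearMap.id_apply, Matrix.toLin'_apply,
      Matrix.mulVec_sub, Matrix.mulVec_smul, Matrix.mulVec_mulVec, hga]
  obtain ⟨c, hc⟩ := hspan ⟨_, hau⟩
  have hc' : c • u = a *ᵥ u := congrArg Subtype.val hc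
  refine hac c (sub_eq_zero.1 (mulVec_injective_field hK (K.sub_mem haK (K.smul_mem K.one_mem c)) hu0' ?_))
  rw [Matrix.sub_mulVec, Matrix.smul_mulVec, Matrix.one_mulVec, hc', sub_self]

variable [Fintype F]

/-- In odd characteristic a quadratic field is generated by a square root of a non-square. -/
theorem exists_sqrt_generator (h2 : (2 : F) ≠ 0) (hn : 0 < n) (hK : Cfsg.Geo.IsFieldSubalgebra 2 K) :
    ∃ j ∈ K, ∃ d : F, (∀ e : F, e ^ 2 ≠ d) ∧ j * j = d • 1 ∧ ∀ k ∈ K, ∃ s t : F, k = s • 1 + t • j := by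
  obtain ⟨a, haK, hac, hgen⟩ := exists_generator hK
  obtain ⟨s, t, hst⟩ := hgen (a * a) (K.mul_mem haK haK)
  set j := (2 : F) • a - t • (1 : Matrix (Fin n) (Fin n) F) with hj
  have hjK : j ∈ K := K.sub_mem (K.smul_mem haK 2) (K.smul_mem K.one_mem t)
  have hjj : j * j = (4 * s + t ^ 2) • 1 := by
    simp only [hj, sub_mul, mul_sub, Matrix.smul_mul, Matrix.mul_smul, one_mul, mul_one, hst]
    module
  refine ⟨j, hjK, _, fun e he => ?_, hjj, fun k hk => ?_⟩
  · -- a square root in the field would make `j` scalar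
    have hprod : (j - e • 1) * (j + e • 1) = 0 := by
      simp only [sub_mul, mul_add, Matrix.smul_mul, Matrix.mul_smul, one_mul, mul_one, hjj, ← he]
      module
    have hjs : ∀ c : F, j ≠ c • 1 := fun c hc => hac ((c + t) / 2) (by
      have : (2 : F) • a = (c + t) • 1 := by rw [add_smul, ← hc, hj]; abel
      rw [div_eq_inv_mul, mul_smul, ← this, inv_smul_smul₀ h2])
    obtain ⟨y, -, hy⟩ := hK.inv (j + e • 1) (K.add_mem hjK (K.smul_mem K.one_mem e))
      (fun h0 => hjs (-e) (by rw [neg_smul]; exact eq_neg_of_add_eq_zero_left h0))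
    have : j - e • 1 = 0 := by
      calc j - e • 1 = (j - e • 1) * ((j + e • 1) * y) := by rw [hy, mul_one]
        _ = 0 := by rw [← mul_assoc, hprod, zero_mul]
    exact hjs e (sub_eq_zero.1 this)
  · obtain ⟨u, v, rfl⟩ := hgen k hk
    refine ⟨u + v * t / 2, v / 2, ?_⟩
    have ha : a = (2 : F)⁻¹ • (j + t • 1) := by rw [hj, sub_add_cancel, inv_smul_smul₀ h2]
    conv_lhs => rw [ha]
    match_scalars <;> field_simp <;> ring

omit [Fintype F] in
/-- A matrix commuting or anticommuting with the generator normalises the field. -/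
theorem mem_normalizer_of_sign {j : Matrix (Fin n) (Fin n) F} (hj : j ∈ K)
    (hgen : ∀ k ∈ K, ∃ s t : F, k = s • 1 + t • j) {g : GL (Fin n) F} {ε : F} (hε : ε ^ 2 = 1)
    (hgj : (g : Matrix (Fin n) (Fin n) F) * j = ε • (j * g)) :
    g ∈ Cfsg.Geo.subalgebraNormalizer K := by
  have hc1 : (g : Matrix (Fin n) (Fin n) F) * j * ((g⁻¹ : GL (Fin n) F) : Matrix (Fin n) (Fin n) F) = ε • j := by
    rw [hgj, Matrix.smul_mul, mul_assoc, Units.mul_inv, mul_one]
  have hkey : ∀ s t : F, (g : Matrix (Fin n) (Fin n) F) * (s • 1 + t • j) *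
      ((g⁻¹ : GL (Fin n) F) : Matrix (Fin n) (Fin n) F) = s • 1 + (t * ε) • j := fun s t => by
    rw [mul_add, add_mul, Matrix.mul_smul, Matrix.mul_smul, mul_one, Matrix.smul_mul, Matrix.smul_mul,
      Units.mul_inv, hc1, smul_smul]
  intro k
  constructor
  · intro hk
    obtain ⟨s, t, rfl⟩ := hgen k hk
    rw [hkey]
    exact K.add_mem (K.smul_mem K.one_mem _) (K.smul_mem hj _)
  · intro hk
    obtain ⟨s, t, hst⟩ := hgen _ hk
    have : k = s • 1 + (t * ε) • j := by
      have h' := hkey s (t * ε)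
      rw [mul_assoc t, ← pow_two, hε, mul_one, ← hst] at h'
      calc k = ((g⁻¹ : GL (Fin n) F) : Matrix (Fin n) (Fin n) F) * (g * k *
            ((g⁻¹ : GL (Fin n) F) : Matrix (Fin n) (Fin n) F)) * g := by
            simp [mul_assoc]
        _ = s • 1 + (t * ε) • j := by
            rw [← h']
            simp [mul_assoc]
    rw [this]
    exact K.add_mem (K.smul_mem K.one_mem _) (K.smul_mem hj _)

omit [Fintype F] in
/-- A square root of a non-square has a basis of pairs `(u, J u)`. -/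
theorem exists_root_basis {d : F} (hd : ∀ e : F, e ^ 2 ≠ d) (J : Module.End F (Fin n → F))
    (hJ : ∀ v, J (J v) = d • v) :
    ∃ (h : ℕ) (c : Basis (Fin h ⊕ Fin h) F (Fin n → F)),
      (∀ l, J (c (Sum.inl l)) = c (Sum.inr l)) ∧ 2 * h = n := by
  classical
  have hd0 : d ≠ 0 := fun e => hd 0 (by rw [e]; ring)
  obtain ⟨U, hUd, hUmax⟩ : ∃ U : Submodule F (Fin n → F), Disjoint U (U.map J) ∧
      ∀ U' : Submodule F (Fin n → F), Disjoint U' (U'.map J) → finrank F U' ≤ finrank F U := by
    let P : ℕ → Prop := fun m => ∃ U : Submodule F (Fin n → F), Disjoint U (U.map J) ∧ finrank F U = m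
    have hP0 : P 0 := ⟨⊥, disjoint_bot_left, finrank_bot F _⟩
    have hb : ∀ m, P m → m ≤ finrank F (Fin n → F) := fun m ⟨U, _, hU⟩ => hU ▸ Submodule.finrank_le U
    have hspec := Nat.findGreatest_spec (P := P) (Nat.zero_le (finrank F (Fin n → F))) hP0
    obtain ⟨U, hU1, hU2⟩ := hspec
    exact ⟨U, hU1, fun U' h => hU2 ▸ Nat.le_findGreatest (hb _ ⟨U', h, rfl⟩) ⟨U', h, rfl⟩⟩
  set W := U ⊔ U.map J with hW
  have hWJ : ∀ w ∈ W, J w ∈ W := by
    intro w hw
    obtain ⟨u, hu, _, ⟨u', hu', rfl⟩, rfl⟩ := Submodule.mem_sup.1 hw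
    rw [map_add, hJ]
    exact add_mem (Submodule.mem_sup_right ⟨u, hu, rfl⟩) (Submodule.mem_sup_left (U.smul_mem _ hu'))
  have hJinj : Function.Injective J := fun v w h => by
    have := congrArg J h
    rw [hJ, hJ] at this
    exact smul_right_injective (Fin n → F) hd0 this
  have htop : W = ⊤ := by
    by_contra hne
    obtain ⟨v, -, hv⟩ := SetLike.exists_of_lt (lt_top_iff_ne_top.2 hne)
    have hkey : ∀ c e : F, c • v - e • J v ∈ W → c = 0 ∧ e = 0 := by
      intro c e h
      by_cases he : e = 0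
      · rw [he, zero_smul, sub_zero] at h
        exact ⟨by_contra fun hc => hv ((W.smul_mem_iff hc).1 h), he⟩
      · exfalso
        have h1 : J v - (c / e) • v ∈ W := by
          have := W.smul_mem (-e⁻¹) h
          convert this using 1
          rw [smul_sub, smul_smul, smul_smul, neg_mul, neg_mul, inv_mul_cancel₀ he, neg_smul, neg_smul,
            one_smul, div_eq_inv_mul]
          abel
        have h3 : (d - (c / e) ^ 2) • v ∈ W := by
          have := add_mem (hWJ _ h1) (W.smul_mem (c / e) h1)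
          convert this using 1
          rw [map_sub, map_smul, hJ]
          module
        exact hv ((W.smul_mem_iff (fun h0 => hd (c / e) (sub_eq_zero.1 h0).symm)).1 h3)
    have hdis : Disjoint (U ⊔ F ∙ v) ((U ⊔ F ∙ v).map J) := by
      rw [Submodule.disjoint_def]
      intro y hy hy'
      obtain ⟨u, hu, w, hw, rfl⟩ := Submodule.mem_sup.1 hy
      obtain ⟨c, rfl⟩ := Submodule.mem_span_singleton.1 hw
      obtain ⟨y', hy'', he⟩ := hy'
      obtain ⟨u', hu', w', hw', rfl⟩ := Submodule.mem_sup.1 hy''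
      obtain ⟨e, rfl⟩ := Submodule.mem_span_singleton.1 hw'
      rw [map_add, map_smul] at he
      obtain ⟨hc, he0⟩ := hkey c e (by
        rw [show c • v - e • J v = J u' - u by linear_combination (norm := module) -he]
        exact sub_mem (Submodule.mem_sup_right ⟨u', hu', rfl⟩) (Submodule.mem_sup_left hu))
      rw [hc, he0, zero_smul, zero_smul, add_zero, add_zero] at he
      rw [hc, zero_smul, add_zero]
      exact Submodule.disjoint_def.1 hUd u hu ⟨u', hu', he⟩
    have hle := hUmax _ hdis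
    have hlt : U < U ⊔ F ∙ v := left_lt_sup.2 fun h =>
      hv (Submodule.mem_sup_left (h (Submodule.mem_span_singleton_self v)))
    have := Submodule.finrank_lt_finrank_of_lt hlt
    omega
  let Φ : U × U →ₗ[F] (Fin n → F) := U.subtype.coprod (J ∘ₗ U.subtype)
  have hinj : Function.Injective Φ := by
    rw [injective_iff_map_eq_zero]
    rintro ⟨u, u'⟩ h
    change (u : Fin n → F) + J u' = 0 at h
    have h1 : (u : Fin n → F) = 0 := Submodule.disjoint_def.1 hUd _ u.2
      (by rw [eq_neg_of_add_eq_zero_left h]; exact neg_mem ⟨u', u'.2, rfl⟩)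
    rw [h1, zero_add] at h
    exact Prod.ext (Subtype.ext h1) (Subtype.ext (hJinj (h.trans (map_zero J).symm)))
  have hsurj : Function.Surjective Φ := by
    intro v
    obtain ⟨u, hu, _, ⟨u', hu', rfl⟩, rfl⟩ := Submodule.mem_sup.1 (htop ▸ Submodule.mem_top : v ∈ W)
    exact ⟨(⟨u, hu⟩, ⟨u', hu'⟩), rfl⟩
  let c := ((finBasis F U).prod (finBasis F U)).map (LinearEquiv.ofBijective Φ ⟨hinj, hsurj⟩)
  refine ⟨finrank F U, c, fun l => ?_, ?_⟩
  · have hc : ∀ k, c k = Φ ((finBasis F U).prod (finBasis F U) k) := fun _ => rfl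
    simp [hc, Φ, Basis.prod_apply]
  · have := Module.finrank_eq_card_basis c
    rw [finrank_pi, Fintype.card_fin, Fintype.card_sum, Fintype.card_fin] at this
    omega

/-- Two square roots of the same non-square are conjugate in `SL`. -/
theorem exists_conj_root {d : F} (hd : ∀ e : F, e ^ 2 ≠ d) (hn : 0 < n) (J₁ J₂ : Module.End F (Fin n → F))
    (h₁ : ∀ v, J₁ (J₁ v) = d • v) (h₂ : ∀ v, J₂ (J₂ v) = d • v) :
    ∃ P : Matrix.SpecialLinearGroup (Fin n) F, ∀ v,
      J₁ (Matrix.toLin' (P : Matrix (Fin n) (Fin n) F) v) =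
        Matrix.toLin' (P : Matrix (Fin n) (Fin n) F) (J₂ v) := by
  classical
  obtain ⟨h, c₁, hc₁, hh⟩ := exists_root_basis hd J₁ h₁
  obtain ⟨h', c₂, hc₂, hh'⟩ := exists_root_basis hd J₂ h₂
  obtain rfl : h = h' := by omega
  set Q := (c₂.equiv c₁ (Equiv.refl _) : (Fin n → F) ≃ₗ[F] (Fin n → F)) with hQ
  set D := LinearMap.det (Q : (Fin n → F) →ₗ[F] (Fin n → F)) with hD
  have hD0 : D ≠ 0 := (LinearEquiv.isUnit_det' Q).ne_zero
  -- a norm equal to `D⁻¹`
  obtain ⟨e, f, hef⟩ : ∃ e f : F, e ^ 2 - d * f ^ 2 = D⁻¹ := by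
    classical
    let Sq : Finset F := (Finset.univ : Finset F).image fun e : F => e ^ 2
    let Sq' : Finset F := (Finset.univ : Finset F).image fun f : F => D⁻¹ + d * f ^ 2
    have hd0 : d ≠ 0 := fun e => hd 0 (by rw [e]; ring)
    have hsq : Fintype.card F ≤ 2 * Sq.card := by
      rw [← Finset.card_univ]
      refine Finset.card_le_mul_card_image (f := fun e : F => e ^ 2) (Finset.univ : Finset F) 2 fun b hb => ?_
      obtain ⟨e, -, rfl⟩ := Finset.mem_image.1 hb
      refine (Finset.card_le_card (t := ({e, -e} : Finset F)) fun y hy => ?_).trans Finset.card_le_two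
      rw [Finset.mem_filter] at hy
      simpa using sq_eq_sq_iff_eq_or_eq_neg.1 hy.2
    have hsq' : Sq'.card = Sq.card := by
      rw [show Sq' = Sq.image fun s => D⁻¹ + d * s by simp only [Sq, Sq', Finset.image_image]; rfl]
      exact Finset.card_image_of_injective _ fun a b h => mul_left_cancel₀ hd0 (add_left_cancel h)
    by_contra hno
    push Not at hno
    have hdis : Disjoint Sq Sq' := by
      rw [Finset.disjoint_left]
      intro y hy hy'
      obtain ⟨e, -, rfl⟩ := Finset.mem_image.1 hy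
      obtain ⟨f, -, hf⟩ := Finset.mem_image.1 hy'
      exact hno e f (by linear_combination -hf)
    have hU : Sq ∪ Sq' = Finset.univ := by
      refine Finset.eq_univ_of_card _ (le_antisymm (Finset.card_le_univ _) ?_)
      rw [Finset.card_union_of_disjoint hdis, hsq']
      omega
    have hlt : Fintype.card F = 2 * Sq.card := by
      rw [← Finset.card_univ, ← hU, Finset.card_union_of_disjoint hdis, hsq']; omega
    by_cases h2 : (2 : F) = 0
    · haveI : CharP F 2 := CharTwo.of_one_ne_zero_of_two_eq_zero one_ne_zero h2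
      obtain ⟨e, he⟩ := surjective_frobenius F 2 d
      exact hd e he
    · have : Fintype.card F % 2 = 1 := by
        obtain ⟨p, _⟩ := CharP.exists F
        obtain ⟨f, hp, hf⟩ := FiniteField.card F p
        rw [hf, Nat.pow_mod]
        rcases hp.eq_two_or_odd with rfl | ho
        · exact absurd (CharP.cast_eq_zero F 2) (by exact_mod_cast h2)
        · rw [ho]; simp
      omega
  have hh0 : 0 < h := by omega
  set l₀ : Fin h := ⟨0, hh0⟩
  let T : Module.End F (Fin n → F) := c₁.constr F fun k => Sum.elim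
    (fun l => if l = l₀ then e • c₁ (Sum.inl l) + f • c₁ (Sum.inr l) else c₁ (Sum.inl l))
    (fun l => if l = l₀ then (f * d) • c₁ (Sum.inl l) + e • c₁ (Sum.inr l) else c₁ (Sum.inr l)) k
  have hT : ∀ k, T (c₁ k) = _ := fun k => c₁.constr_basis F _ k
  have hJr : ∀ l, J₁ (c₁ (Sum.inr l)) = d • c₁ (Sum.inl l) := fun l => by rw [← hc₁, h₁]
  have hTJ : ∀ v, J₁ (T v) = T (J₁ v) := by
    refine LinearMap.congr_fun (f := J₁ ∘ₗ T) (g := T ∘ₗ J₁) (c₁.ext ?_)
    rintro (l | l) <;> simp only [LinearMap.comp_apply, hc₁, hJr, map_smul, hT, Sum.elim_inl, Sum.elim_inr] <;>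
      split_ifs <;> simp [map_add, map_smul, hc₁, hJr, smul_smul] <;> module
  have hTdet : LinearMap.det T = D⁻¹ := by
    rw [← LinearMap.det_toMatrix c₁]
    have hblocks : LinearMap.toMatrix c₁ c₁ T = Matrix.fromBlocks
        (Matrix.diagonal fun l => if l = l₀ then e else 1) (Matrix.diagonal fun l => if l = l₀ then f * d else 0)
        (Matrix.diagonal fun l => if l = l₀ then f else 0) (Matrix.diagonal fun l => if l = l₀ then e else 1) := by
      ext (a | a) (b | b)
      all_goals rw [LinearMap.toMatrix_apply, hT]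
      all_goals simp only [Sum.elim_inl, Sum.elim_inr, Matrix.fromBlocks_apply₁₁, Matrix.fromBlocks_apply₁₂,
        Matrix.fromBlocks_apply₂₁, Matrix.fromBlocks_apply₂₂, Matrix.diagonal_apply]
      all_goals by_cases hb : b = l₀ <;> by_cases hab : a = b
      all_goals first
        | (subst hb; subst hab; simp [Finsupp.single_apply]; done)
        | (subst hab; simp [hb, Finsupp.single_apply]; done)
        | (subst hb; simp [hab, Ne.symm hab, Finsupp.single_apply]; done)
        | (simp [hb, hab, Ne.symm hab, Finsupp.single_apply]; done)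
    rw [hblocks, ← hef]
    rw [det_fromBlocks_diagonal, Finset.prod_eq_single l₀ (fun l _ hl => by simp [hl]) (by simp)]
    simp only [if_true]
    ring
  refine ⟨⟨LinearMap.toMatrix' (T ∘ₗ (Q : (Fin n → F) →ₗ[F] (Fin n → F))), ?_⟩, fun v => ?_⟩
  · rw [LinearMap.det_toMatrix', LinearMap.det_comp, hTdet, inv_mul_cancel₀ hD0]
  · show J₁ (Matrix.toLin' (LinearMap.toMatrix' _) v) = Matrix.toLin' (LinearMap.toMatrix' _) (J₂ v)
    rw [Matrix.toLin'_toMatrix', LinearMap.comp_apply, LinearMap.comp_apply, hTJ]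
    congr 1
    refine LinearMap.congr_fun (f := J₁ ∘ₗ Q.toLinearMap) (g := Q.toLinearMap ∘ₗ J₂) (c₂.ext ?_) v
    have hQc : ∀ k, Q (c₂ k) = c₁ k := fun k => by simp [hQ]
    rintro (l | l)
    · simp [hQc, hc₁, hc₂]
    · have : J₂ (c₂ (Sum.inr l)) = d • c₂ (Sum.inl l) := by rw [← hc₂, h₂]
      simp [hQc, hJr, this]

end Cfsg.Agent.Elusive
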