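import Cfsg.Agent.Lib.Elusive.FormIsometry

/-!
Irreducible factors of a map of prime order, and isotropic vectors from two pieces of the same kind.
-/

set_option autoImplicit false
set_option linter.style.haveILetI false

namespace Cfsg.Agent.Elusive.Simple

open Module Polynomial FormIso

variable {F : Type*} [Field F] [Fintype F] {r : ℕ} [Fact r.Prime]

/-- The irreducible factors of `1 + X + ⋯ + X^(r-1)` all have degree `ord_r q`. -/
theorem natDegree_factor (hrF : (r : F) ≠ 0) (hrq : (Fintype.card F : ZMod r) ≠ 0) {f : F[X]} (hf : Irreducible f)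
    (hdvd : f ∣ ∑ l ∈ Finset.range r, X ^ l) : f.natDegree = orderOf (Fintype.card F : ZMod r) := by
  classical
  haveI := Fact.mk hf
  set q := Fintype.card F
  set e := orderOf (q : ZMod r)
  set ρ : AdjoinRoot f := AdjoinRoot.root f with hρ
  haveI : Module.Finite F (AdjoinRoot f) := (AdjoinRoot.powerBasis hf.ne_zero).finite
  haveI : Finite (AdjoinRoot f) := Module.finite_of_finite F
  haveI := Fintype.ofFinite (AdjoinRoot f)
  have hcard : Fintype.card (AdjoinRoot f) = q ^ f.natDegree := by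
    rw [Module.card_eq_pow_finrank (K := F), (AdjoinRoot.powerBasis hf.ne_zero).finrank, AdjoinRoot.powerBasis_dim]
  have hsum : ∑ l ∈ Finset.range r, ρ ^ l = 0 := by
    obtain ⟨g, hg⟩ := hdvd
    have h := congrArg (AdjoinRoot.mk f) hg
    rwa [map_sum, map_mul, AdjoinRoot.mk_self, zero_mul, Finset.sum_congr rfl fun l _ => map_pow _ _ l,
      AdjoinRoot.mk_X] at h
  have hρr : ρ ^ r = 1 := by
    rw [← sub_eq_zero, ← mul_geom_sum ρ r, hsum, mul_zero]
  have hρ1 : ρ ≠ 1 := fun h => by
    rw [h] at hsum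
    simp only [one_pow, Finset.sum_const, Finset.card_range, nsmul_eq_mul, mul_one] at hsum
    exact hrF ((algebraMap F (AdjoinRoot f)).injective (by rw [map_natCast, map_zero, hsum]))
  have hord : orderOf ρ = r := orderOf_eq_prime hρr hρ1
  have hρ0 : ρ ≠ 0 := fun h => by rw [h, zero_pow (Fact.out : r.Prime).ne_zero] at hρr; exact zero_ne_one hρr
  have hpos := hf.natDegree_pos
  refine le_antisymm ?_ (Nat.le_of_dvd hpos ?_)
  · -- the root lies in the field with `q ^ e` elements
    have hipos : 0 < e := orderOf_pos_iff.2 (isUnit_iff_ne_zero.2 hrq).isOfFinOrder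
    have hfix : ∀ y : AdjoinRoot f, y ^ q ^ e = y := by
      intro y
      induction y using AdjoinRoot.induction_on with
      | ih g =>
        rw [← map_pow]
        have hfrob : ∀ l : ℕ, AdjoinRoot.mk f (g ^ q ^ l) = aeval (ρ ^ q ^ l) g := by
          intro l
          rw [← AdjoinRoot.aeval_eq]
          induction l generalizing g with
          | zero => simp [hρ]
          | succ l ih =>
            rw [pow_succ', pow_mul, ← FiniteField.expand_card, ih, expand_aeval, ← pow_mul, mul_comm]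
        rw [hfrob, ← AdjoinRoot.aeval_eq]
        congr 2
        have h1 : ((q ^ e : ℕ) : ZMod r) = ((1 : ℕ) : ZMod r) := by
          rw [Nat.cast_pow, Nat.cast_one, pow_orderOf_eq_one]
        have h2 : q ^ e % r = 1 := by
          rw [(ZMod.natCast_eq_natCast_iff _ _ r).1 h1, Nat.one_mod_eq_one]
          exact (Fact.out : r.Prime).ne_one
        rw [← Nat.div_add_mod (q ^ e) r, h2, pow_succ, pow_mul, hρr, one_pow, one_mul, hρ]
    have h := (card_le_of_forall_pow_eq (Nat.one_lt_pow hipos.ne' Fintype.one_lt_card) hfix).2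
    rw [Nat.card_eq_fintype_card, hcard] at h
    exact (Nat.pow_le_pow_iff_right Fintype.one_lt_card).1 h
  · refine orderOf_dvd_of_pow_eq_one ?_
    have h1 : ρ ^ (Fintype.card (AdjoinRoot f) - 1) = 1 := FiniteField.pow_card_sub_one_eq_one ρ hρ0
    rw [hcard] at h1
    have h2 := orderOf_dvd_of_pow_eq_one h1
    rw [hord] at h2
    rw [← sub_eq_zero, ← Nat.cast_pow, ← Nat.cast_one (R := ZMod r),
      ← Nat.cast_sub (Nat.one_le_pow _ _ Fintype.card_pos), ZMod.natCast_eq_zero_iff]
    exact h2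

/-- At most `(r - 1) / ord_r q` such factors. -/
theorem card_factors_le (E : Finset F[X])
    (hE : ∀ f ∈ E, f.Monic ∧ Irreducible f ∧ f ∣ ∑ l ∈ Finset.range r, X ^ l) (hrF : (r : F) ≠ 0)
    (hrq : (Fintype.card F : ZMod r) ≠ 0) : E.card * orderOf (Fintype.card F : ZMod r) ≤ r - 1 := by
  classical
  set P : F[X] := ∑ l ∈ Finset.range r, X ^ l
  have hP : P.natDegree ≤ r - 1 := natDegree_sum_le_of_forall_le _ _ fun l hl => by
    rw [natDegree_X_pow]
    have := Finset.mem_range.1 hl
    omega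
  have hP0 : P ≠ 0 := fun h => by
    have h1 := congrArg (Polynomial.eval 1) h
    simp only [P, eval_finsetSum, eval_pow, eval_X, one_pow, Finset.sum_const, Finset.card_range, nsmul_eq_mul,
      mul_one, eval_zero] at h1
    exact hrF h1
  have hd : (∏ f ∈ E, f) ∣ P := by
    refine Finset.prod_dvd_of_coprime (fun f hf g hg hne => ?_) fun f hf => (hE f hf).2.2
    refine ((hE f hf).2.1.coprime_iff_not_dvd).2 fun h => hne ?_
    exact eq_of_monic_of_associated (hE f hf).1 (hE g hg).1 ((hE f hf).2.1.associated_of_dvd (hE g hg).2.1 h)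
  have h := (natDegree_le_of_dvd hd hP0).trans hP
  rw [natDegree_prod _ _ fun f hf => (hE f hf).2.1.ne_zero,
    Finset.sum_congr rfl fun f hf => natDegree_factor hrF hrq (hE f hf).2.1 (hE f hf).2.2, Finset.sum_const,
    smul_eq_mul] at h
  exact h

variable {V : Type*} [AddCommGroup V] [Module F V] [FiniteDimensional F V] {T : Module.End F V}

/-- The polynomial of a simple piece without fixed vectors. -/
theorem exists_factor (hrF : (r : F) ≠ 0) (hT : T ^ r = 1) {S : Submodule F V} (hS : S.map T ≤ S)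
    (hfree : ∀ v ∈ S, T v = v → v = 0) (hd : finrank F S = orderOf (Fintype.card F : ZMod r))
    (hpos : 0 < finrank F S) :
    ∃ f : F[X], f.Monic ∧ Irreducible f ∧ f ∣ (∑ l ∈ Finset.range r, X ^ l) ∧ ∀ v ∈ S, aeval T f v = 0 := by
  classical
  have hSm : ∀ v ∈ S, T v ∈ S := fun v hv => hS ⟨v, hv, rfl⟩
  set T' := T.restrict hSm with hT'
  have hint : IsIntegral F T' := Algebra.IsIntegral.isIntegral T'
  set f := minpoly F T' with hf
  have hker : ∀ g : F[X], aeval T' g = 0 ↔ f ∣ g := fun g => (minpoly.dvd_iff).symm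
  haveI : Nontrivial S := Module.nontrivial_of_finrank_pos (R := F) hpos
  refine ⟨f, minpoly.monic hint, ⟨minpoly.not_isUnit F T', fun a b hab => ?_⟩, ?_, fun v hv => ?_⟩
  · have hcomm : ∀ g : F[X], ∀ v, T' (aeval T' g v) = aeval T' g (T' v) := fun g v => by
      have h1 := congrArg (aeval T') (mul_comm X g)
      rw [map_mul, map_mul, aeval_X] at h1
      exact LinearMap.congr_fun h1 v
    have hab0 : aeval T' a * aeval T' b = 0 := by rw [← map_mul, ← hab, hf, minpoly.aeval]
    have hunit : ∀ a b : F[X], f = a * b → aeval T' a = 0 → IsUnit b := by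
      intro a b hab ha
      obtain ⟨c, hc⟩ := (hker a).1 ha
      refine isUnit_of_dvd_one ⟨c, ?_⟩
      refine mul_left_cancel₀ (minpoly.ne_zero hint) (?_ : f * 1 = f * (b * c))
      rw [mul_one]
      conv_lhs => rw [hab, hc]
      ring
    by_cases hb : aeval T' b = 0
    · exact Or.inl (hunit b a (by rw [hab, mul_comm]) hb)
    · refine Or.inr (hunit a b hab ?_)
      set K := (LinearMap.ker (aeval T' a)).map S.subtype
      have hKS : K ≤ S := fun _ ⟨w, _, e⟩ => e ▸ w.2
      have hKT : K.map T ≤ K := by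
        rintro _ ⟨_, ⟨w, hw, rfl⟩, rfl⟩
        refine ⟨T' w, ?_, rfl⟩
        show aeval T' a (T' w) = 0
        rw [← hcomm, LinearMap.mem_ker.1 hw, map_zero]
      have hdvd := orderOf_dvd_finrank hT hKT fun v hv => hfree v (hKS hv)
      have hKne : 0 < finrank F K := by
        refine Nat.pos_of_ne_zero fun h => hb (LinearMap.ext fun w => ?_)
        have hw : aeval T' b w ∈ LinearMap.ker (aeval T' a) := LinearMap.mem_ker.2 (LinearMap.congr_fun hab0 w)
        have h2 : ((aeval T' b w : S) : V) ∈ K := ⟨_, hw, rfl⟩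
        rw [Submodule.finrank_eq_zero.1 h, Submodule.mem_bot] at h2
        exact Subtype.ext h2
      have hKeq : K = S := Submodule.eq_of_le_of_finrank_le hKS (hd.le.trans (Nat.le_of_dvd hKne hdvd))
      refine LinearMap.ext fun w => ?_
      have hw : (w : V) ∈ K := by rw [hKeq]; exact w.2
      obtain ⟨w', hw', hww⟩ := hw
      have hw2 : w' = w := Subtype.ext hww
      rw [hw2] at hw'
      exact hw'
  · refine (hker _).1 (LinearMap.ext fun w => Subtype.ext ?_)
    rw [← aeval_restrict_apply hSm]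
    simp only [map_sum, map_pow, aeval_X, LinearMap.sum_apply, LinearMap.zero_apply, Submodule.coe_zero]
    refine hfree _ (Submodule.sum_mem _ fun l _ => pow_mem hS w.2 l) ?_
    rw [map_sum]
    have h1 := Finset.sum_range_succ' (fun l => (T ^ l) (w : V)) r
    rw [Finset.sum_range_succ, hT, pow_zero] at h1
    rw [add_right_cancel h1]
    exact Finset.sum_congr rfl fun l _ => by rw [pow_succ', Module.End.mul_apply]
  · rw [show v = ((⟨v, hv⟩ : S) : V) from rfl, aeval_restrict_apply hSm, hf, minpoly.aeval]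
    rfl

omit [Fact r.Prime] [FiniteDimensional F V] in
/-- The subspace spanned by an orbit inside the kernel of a polynomial. -/
theorem span_orbit_invariant {f : F[X]} (hfm : f.Monic) {v : V} (hfv : aeval T f v = 0) :
    ∀ U, U = Submodule.span F (Set.range fun l : Fin f.natDegree => (T ^ (l : ℕ)) v) →
      U.map T ≤ U ∧ v ∈ U := by
  rintro U rfl
  have hmem : ∀ l, l ≤ f.natDegree → (T ^ l) v ∈ Submodule.span F (Set.range fun l : Fin f.natDegree => (T ^ (l : ℕ)) v) := by
    intro l hl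
    rcases hl.eq_or_lt with rfl | hlt
    · have h0 := hfv
      rw [aeval_eq_sum_range, LinearMap.sum_apply, Finset.sum_range_succ] at h0
      simp only [LinearMap.smul_apply] at h0
      rw [hfm.coeff_natDegree, one_smul, add_eq_zero_iff_eq_neg'] at h0
      rw [h0]
      exact neg_mem (Submodule.sum_mem _ fun i hi =>
        Submodule.smul_mem _ _ (Submodule.subset_span ⟨⟨i, Finset.mem_range.1 hi⟩, rfl⟩))
    · exact Submodule.subset_span ⟨⟨l, hlt⟩, rfl⟩
  refine ⟨?_, by simpa using hmem 0 (Nat.zero_le _)⟩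
  rw [Submodule.map_span_le]
  rintro _ ⟨l, rfl⟩
  rw [← Module.End.mul_apply, ← pow_succ']
  exact hmem _ l.2

variable {σ : F →+* F} {B : V →ₛₗ[σ] V →ₗ[F] F}

omit [Fintype F] [Fact r.Prime] [FiniteDimensional F V] in
/-- The adjoint of a polynomial in an isometry of finite order. -/
theorem adjoint_aeval_pow (hiso : ∀ u v, B (T u) (T v) = B u v) {N : ℕ} (hT : T ^ (N + 1) = 1)
    (hσσ : ∀ a, σ (σ a) = a) (f : F[X]) (u w : V) : B (aeval (T ^ N) (f.map σ) u) w = B u (aeval T f w) := by
  induction f using Polynomial.induction_on' generalizing u w with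
  | add f g hf hg => simp only [Polynomial.map_add, map_add, LinearMap.add_apply, hf, hg]
  | monomial l a =>
    rw [Polynomial.map_monomial, aeval_monomial, aeval_monomial, Algebra.algebraMap_eq_smul_one,
      Algebra.algebraMap_eq_smul_one, smul_mul_assoc, one_mul, smul_mul_assoc, one_mul,
      LinearMap.smul_apply, LinearMap.smul_apply, map_smulₛₗ, hσσ, LinearMap.smul_apply, map_smul,
      smul_eq_mul, smul_eq_mul]
    congr 1
    rw [← pow_isometry hiso l, ← pow_mul, ← Module.End.mul_apply, ← pow_add,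
      show l + N * l = (N + 1) * l by ring, pow_mul T, hT, one_pow, Module.End.one_apply]

/-- Two orthogonal cyclic nondegenerate pieces with the same factor contain an isotropic orbit. -/
theorem exists_isotropic_vector (hiso : ∀ u v, B (T u) (T v) = B u v) (hσσ : ∀ a, σ (σ a) = a)
    {ε : F} (hflip : ∀ u v, B v u = ε * σ (B u v)) {p : ℕ} [Fact p.Prime] [CharP F p] {m : ℕ}
    (hN1 : ∀ a, σ a = a ^ p ^ m) (hT : T ^ (p ^ m + 1) = 1) {f : F[X]} (hf : Irreducible f) (hfT : aeval T f = 0)
    (hdeg : Fintype.card F ^ f.natDegree = (p ^ m) ^ 2) {u₁ u₂ : V}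
    (horth : ∀ g : F[X], B u₁ (aeval T g u₂) = 0) (hu₂ : u₂ ≠ 0)
    (hnd₁ : ∀ g : F[X], (∀ g' : F[X], B (aeval T g' u₁) (aeval T g u₁) = 0) → aeval T g u₁ = 0) (hu₁ : u₁ ≠ 0)
    (hnd₂ : ∀ g : F[X], (∀ g' : F[X], B (aeval T g' u₂) (aeval T g u₂) = 0) → aeval T g u₂ = 0) :
    ∃ g : F[X], aeval T g u₁ + u₂ ≠ 0 ∧
      ∀ j : ℕ, B (aeval T g u₁ + u₂) ((T ^ j) (aeval T g u₁ + u₂)) = 0 := by
  classical
  haveI := Fact.mk hf
  haveI : Module.Finite F (AdjoinRoot f) := (AdjoinRoot.powerBasis hf.ne_zero).finite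
  haveI : Finite (AdjoinRoot f) := Module.finite_of_finite F
  haveI := Fintype.ofFinite (AdjoinRoot f)
  haveI : CharP (AdjoinRoot f) p := charP_of_injective_algebraMap (algebraMap F (AdjoinRoot f)).injective p
  haveI : ExpChar (AdjoinRoot f) p := ExpChar.prime Fact.out
  set N := p ^ m with hN
  have hcard : Fintype.card (AdjoinRoot f) = N ^ 2 := by
    rw [← hdeg, Module.card_eq_pow_finrank (K := F), (AdjoinRoot.powerBasis hf.ne_zero).finrank,
      AdjoinRoot.powerBasis_dim]
  have hNN : ∀ a : AdjoinRoot f, (a ^ N) ^ N = a := fun a => by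
    rw [← pow_mul, ← pow_two, ← hcard, FiniteField.pow_card]
  let ψ : AdjoinRoot f →ₐ[F] Module.End F V :=
    Ideal.Quotient.liftₐ (Ideal.span {f}) (aeval T) fun a ha => by
      obtain ⟨b, rfl⟩ := Ideal.mem_span_singleton.1 ha
      rw [map_mul, hfT, zero_mul]
  have hψ : ∀ g, ψ (AdjoinRoot.mk f g) = aeval T g := fun g => rfl
  have hadj : ∀ a u w, B (ψ (a ^ N) u) w = B u (ψ a w) := by
    intro a
    induction a using AdjoinRoot.induction_on with
    | ih g =>
      intro u w
      rw [← map_pow, hψ, hψ, ← adjoint_aeval_pow hiso hT hσσ]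
      congr 3
      rw [hN, ← expand_aeval, ← map_iterateFrobenius_expand p g m, map_expand,
        show iterateFrobenius F p m = σ from RingHom.ext fun a => by rw [hN1, iterateFrobenius_def]]
  have hadj' : ∀ a u w, B (ψ a u) w = B u (ψ (a ^ N) w) := fun a u w => by rw [← hadj, hNN]
  have horth' : ∀ a, B u₁ (ψ a u₂) = 0 := by
    intro a
    induction a using AdjoinRoot.induction_on with
    | ih g => exact horth g
  have horth'' : ∀ a, B u₂ (ψ a u₁) = 0 := fun a => by
    rw [hflip (ψ a u₁) u₂, hadj', horth', map_zero, mul_zero]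
  let ℓ : V → (AdjoinRoot f →ₗ[F] F) := fun u => (B u) ∘ₗ (LinearMap.applyₗ u) ∘ₗ ψ.toLinearMap
  have hℓ : ∀ u a, ℓ u a = B u (ψ a u) := fun u a => rfl
  have hstar : ∀ u a, ℓ u (a ^ N) = ε * σ (ℓ u a) := fun u a => by
    rw [hℓ, hℓ, hflip (ψ (a ^ N) u) u, hadj]
  have hinj : ∀ u, u ≠ 0 → (∀ g : F[X], (∀ g' : F[X], B (aeval T g' u) (aeval T g u) = 0) → aeval T g u = 0) →
      ∀ a : AdjoinRoot f, (∀ b, ℓ u (a * b) = 0) → a = 0 := by
    intro u hu hnd a
    induction a using AdjoinRoot.induction_on with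
    | ih g =>
      intro h
      by_contra ha
      refine hu ?_
      have h1 : aeval T g u = 0 := hnd g fun g' => by
        rw [← hψ, ← hψ, hadj', ← Module.End.mul_apply, ← map_mul, mul_comm]
        exact h _
      rw [← Module.End.one_apply (R := F) u, ← map_one ψ, ← inv_mul_cancel₀ ha, map_mul, Module.End.mul_apply, hψ,
        h1, map_zero]
  let Λ : AdjoinRoot f →ₗ[F] Module.Dual F (AdjoinRoot f) :=
    LinearMap.mk₂ F (fun a b => ℓ u₁ (a * b)) (fun a a' b => by rw [add_mul, map_add])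
      (fun c a b => by rw [smul_mul_assoc, map_smul]) (fun a b b' => by rw [mul_add, map_add])
      (fun c a b => by rw [mul_smul_comm, map_smul])
  have hΛ : Function.Injective Λ := (injective_iff_map_eq_zero Λ).2 fun a ha =>
    hinj u₁ hu₁ hnd₁ a fun b => LinearMap.congr_fun ha b
  obtain ⟨ρ, hρ⟩ := (LinearMap.injective_iff_surjective_of_finrank_eq_finrank
    (Subspace.dual_finrank_eq).symm).1 hΛ (ℓ u₂)
  have hρ' : ∀ b, ℓ u₁ (ρ * b) = ℓ u₂ b := fun b => LinearMap.congr_fun hρ b
  have hρN : ρ ^ N = ρ := by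
    refine sub_eq_zero.1 (hinj u₁ hu₁ hnd₁ _ fun b => ?_)
    rw [sub_mul, map_sub, sub_eq_zero, hρ', ← hNN b, ← mul_pow, hstar, hρ', ← hstar]
  have hneg : (-ρ) ^ N = -ρ := by
    rw [hN, ← iterateFrobenius_def (R := AdjoinRoot f) p m, map_neg, iterateFrobenius_def, ← hN, hρN]
  have hρ0 : -ρ ≠ 0 := neg_ne_zero.2 fun h => hu₂ <| by
    have h1 : aeval T (1 : F[X]) u₂ = 0 := hnd₂ 1 fun g' => by
      rw [← hψ, map_one, Module.End.one_apply, hadj', ← hℓ, ← hρ', h, zero_mul, map_zero]
    simpa using h1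
  obtain ⟨a, ha⟩ : ∃ a : AdjoinRoot f, a ^ (N + 1) = -ρ := by
    obtain ⟨g₀, hg₀⟩ := IsCyclic.exists_generator (α := (AdjoinRoot f)ˣ)
    obtain ⟨k, hk⟩ := Subgroup.mem_zpowers_iff.1 (hg₀ (Units.mk0 _ hρ0))
    have ho : orderOf g₀ = (N + 1) * (N - 1) := by
      rw [orderOf_eq_card_of_forall_mem_zpowers hg₀, Nat.card_units, Nat.card_eq_fintype_card, hcard,
        ← Nat.sq_sub_sq, one_pow]
    have hN1' : 1 ≤ N := Nat.one_le_pow _ _ (Fact.out : p.Prime).pos
    have h1 : g₀ ^ (k * ((N - 1 : ℕ) : ℤ)) = 1 := by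
      rw [zpow_mul, hk, zpow_natCast]
      refine Units.ext (mul_left_cancel₀ hρ0 ?_)
      rw [Units.val_pow_eq_pow_val, Units.val_mk0, ← pow_succ', Nat.sub_add_cancel hN1', hneg, Units.val_one,
        mul_one]
    have h2 := orderOf_dvd_iff_zpow_eq_one.2 h1
    rw [ho, Nat.cast_mul] at h2
    have hN2' : 2 ≤ N := by
      rcases Nat.eq_zero_or_pos m with rfl | hm0
      · exfalso
        rw [hN, pow_zero] at hdeg
        rw [one_pow] at hdeg
        exact hf.natDegree_pos.ne' ((Nat.pow_eq_one.1 hdeg).resolve_left Fintype.one_lt_card.ne')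
      · exact (Fact.out : p.Prime).two_le.trans (Nat.le_self_pow hm0.ne' p)
    obtain ⟨j, hj⟩ := (mul_dvd_mul_iff_right (show ((N - 1 : ℕ) : ℤ) ≠ 0 by omega)).1 h2
    refine ⟨((g₀ ^ j : (AdjoinRoot f)ˣ) : AdjoinRoot f), ?_⟩
    rw [← Units.val_pow_eq_pow_val, ← zpow_natCast, ← zpow_mul, mul_comm j, ← hj, hk, Units.val_mk0]
  obtain ⟨g, rfl⟩ := AdjoinRoot.mk_surjective a
  refine ⟨g, fun hv => ?_, fun j => ?_⟩
  · refine hρ0 (neg_eq_zero.2 (hinj u₁ hu₁ hnd₁ _ fun b => ?_))
    rw [hρ', hℓ]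
    have hv' : u₂ = -(aeval T g u₁) := eq_neg_of_add_eq_zero_right hv
    conv_lhs => arg 1; arg 2; rw [hv']
    rw [map_neg, LinearMap.neg_apply, ← hψ, hadj', ← Module.End.mul_apply, ← map_mul, horth', neg_zero]
  · rw [show T ^ j = ψ (AdjoinRoot.mk f (X ^ j)) by rw [hψ, map_pow, aeval_X], ← hψ g]
    simp only [map_add, LinearMap.add_apply, hadj']
    simp only [← Module.End.mul_apply, ← map_mul, horth', horth'', add_zero, zero_add]
    rw [← hℓ, ← hℓ, ← hρ']
    rw [← map_add]
    convert map_zero (ℓ u₁) using 2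
    rw [pow_succ] at ha
    simp only [map_mul]
    linear_combination (AdjoinRoot.mk f (X ^ j)) * ha

end Cfsg.Agent.Elusive.Simple
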