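import Cfsg.Agent.Lib.Elusive.SubspaceCriterion
import Cfsg.Prelude.Def_GeometricClasses

/-!
The normaliser of a field of matrices of prime degree equal to the dimension.
-/

set_option autoImplicit false
set_option linter.style.haveILetI false

namespace Cfsg.Agent.Elusive

open Module
open scoped Matrix

variable {F : Type*} [Field F] [Fintype F] {n : ℕ}

section FieldAlgebra

variable {K : Subalgebra F (Matrix (Fin n) (Fin n) F)}

omit [Fintype F] in
/-- Nonzero elements of a field of matrices act injectively. -/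
theorem mulVec_injective (hK : Cfsg.Geo.IsFieldSubalgebra n K) {a : Matrix (Fin n) (Fin n) F} (ha : a ∈ K)
    {v : Fin n → F} (hv : v ≠ 0) (h : a *ᵥ v = 0) : a = 0 := by
  by_contra hne
  obtain ⟨y, hy, hay⟩ := hK.inv a ha hne
  refine hv ?_
  rw [← Matrix.one_mulVec v, ← hay, hK.comm a ha y hy, ← Matrix.mulVec_mulVec, h, Matrix.mulVec_zero]

omit [Fintype F] in
/-- Every vector is a multiple of a given nonzero one. -/
theorem exists_mulVec_eq (hK : Cfsg.Geo.IsFieldSubalgebra n K) {v : Fin n → F} (hv : v ≠ 0) (w : Fin n → F) :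
    ∃ a ∈ K, a *ᵥ v = w := by
  let f : K →ₗ[F] (Fin n → F) :=
    { toFun := fun a => (a : Matrix (Fin n) (Fin n) F) *ᵥ v
      map_add' := fun a b => Matrix.add_mulVec _ _ _
      map_smul' := fun c a => Matrix.smul_mulVec c _ _ }
  have hinj : Function.Injective f := (injective_iff_map_eq_zero f).2 fun a ha =>
    Subtype.ext (mulVec_injective hK a.2 hv ha)
  obtain ⟨a, ha⟩ := (LinearMap.injective_iff_surjective_of_finrank_eq_finrank
    (by rw [hK.finrank_eq, finrank_pi, Fintype.card_fin])).1 hinj w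
  exact ⟨a, a.2, ha⟩

/-- The eigenspaces of a normaliser element of order `n` outside the scalars are at most lines. -/
theorem finrank_eigen_le_one (hn : n.Prime) (hK : Cfsg.Geo.IsFieldSubalgebra n K) {g : GL (Fin n) F}
    (hg : g ∈ Cfsg.Geo.subalgebraNormalizer K) {μ : F}
    (hne : ∀ z : F, (g : Matrix (Fin n) (Fin n) F) ≠ z • (1 : Matrix (Fin n) (Fin n) F)) :
    finrank F (LinearMap.ker (Matrix.toLin' (g : Matrix (Fin n) (Fin n) F) - μ • LinearMap.id)) ≤ 1 := by
  classical
  set W := LinearMap.ker (Matrix.toLin' (g : Matrix (Fin n) (Fin n) F) - μ • LinearMap.id)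
  have hmem : ∀ v, v ∈ W ↔ (g : Matrix (Fin n) (Fin n) F) *ᵥ v = μ • v := fun v => by
    simp [W, sub_eq_zero]
  by_contra hlt
  obtain ⟨v, hvW, hv⟩ := Submodule.exists_mem_ne_zero_of_ne_bot (p := W) fun h => by
    rw [h, finrank_bot] at hlt; omega
  obtain ⟨w, hwW, hwv⟩ : ∃ w ∈ W, w ∉ F ∙ v := by
    by_contra h
    push Not at h
    have := Submodule.finrank_mono (show W ≤ F ∙ v from h)
    rw [finrank_span_singleton hv] at this
    omega
  obtain ⟨a, haK, hav⟩ := exists_mulVec_eq hK hv w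
  have hμ : μ ≠ 0 := fun h => hv (by
    have := (hmem v).1 hvW
    rw [h, zero_smul] at this
    rw [← Matrix.one_mulVec v, ← Units.inv_mul g, ← Matrix.mulVec_mulVec, this, Matrix.mulVec_zero])
  -- `g` commutes with `a`
  have hga : (g : Matrix (Fin n) (Fin n) F) * a = a * (g : Matrix (Fin n) (Fin n) F) := by
    set a' := (g : Matrix (Fin n) (Fin n) F) * a * ((g⁻¹ : GL (Fin n) F) : Matrix (Fin n) (Fin n) F)
    have ha' : a' ∈ K := (hg a).1 haK
    have h1 : (a' - a) *ᵥ (μ • v) = 0 := by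
      rw [Matrix.sub_mulVec, sub_eq_zero, ← (hmem v).1 hvW, Matrix.mulVec_mulVec, mul_assoc, Units.inv_mul,
        mul_one, ← Matrix.mulVec_mulVec, hav, (hmem w).1 hwW, (hmem v).1 hvW, Matrix.mulVec_smul, hav]
    have h2 := sub_eq_zero.1 (mulVec_injective hK (K.sub_mem ha' haK) (smul_ne_zero hμ hv) h1)
    calc (g : Matrix (Fin n) (Fin n) F) * a = a' * g := by rw [mul_assoc _ _ (g : Matrix (Fin n) (Fin n) F), Units.inv_mul, mul_one]
      _ = a * g := by rw [h2]
  -- the elements of `K` commuting with `g`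
  have haF : ∀ c : F, a ≠ c • 1 := fun c hc => hwv (Submodule.mem_span_singleton.2 ⟨c, by
    rw [← hav, hc, Matrix.smul_mulVec, Matrix.one_mulVec]⟩)
  letI : CommRing K := { (inferInstance : Ring K) with
    mul_comm := fun x y => Subtype.ext (hK.comm x x.2 y y.2) }
  haveI : Nontrivial K := Module.nontrivial_of_finrank_pos (R := F) (by rw [hK.finrank_eq]; exact hn.pos)
  letI : Field K := IsField.toField ⟨exists_pair_ne K, mul_comm, fun {x} hx => by
    obtain ⟨y, hy, hxy⟩ := hK.inv x x.2 fun h => hx (Subtype.ext h)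
    exact ⟨⟨y, hy⟩, Subtype.ext hxy⟩⟩
  let L : Subalgebra F K :=
    { carrier := {x | (g : Matrix (Fin n) (Fin n) F) * x.1 = x.1 * g}
      mul_mem' := fun {x y} hx hy => by
        show _ * (x.1 * y.1) = x.1 * y.1 * _
        rw [← mul_assoc, hx, mul_assoc, hy, mul_assoc]
      one_mem' := by simp
      add_mem' := fun {x y} hx hy => by
        show _ * (x.1 + y.1) = (x.1 + y.1) * _
        rw [mul_add, add_mul, hx, hy]
      zero_mem' := by simp
      algebraMap_mem' := fun c => by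
        show _ * algebraMap F (Matrix (Fin n) (Fin n) F) c = algebraMap F (Matrix (Fin n) (Fin n) F) c * _
        exact (Algebra.commutes c _).symm }
  have hL : L = ⊤ := by
    haveI := Subalgebra.isSimpleOrder_of_finrank_prime F K (by rw [hK.finrank_eq]; exact hn)
    refine (IsSimpleOrder.eq_bot_or_eq_top L).resolve_left fun h => ?_
    have hmemL : (⟨a, haK⟩ : K) ∈ L := hga
    rw [h, Algebra.mem_bot] at hmemL
    obtain ⟨c, hc⟩ := hmemL
    exact haF c ((congrArg Subtype.val hc).symm.trans (Algebra.algebraMap_eq_smul_one c))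
  have hcomm : ∀ k ∈ K, (g : Matrix (Fin n) (Fin n) F) * k = k * g := fun k hk =>
    (hL ▸ Algebra.mem_top : (⟨k, hk⟩ : K) ∈ L)
  -- so `g` lies in `K` and is scalar
  obtain ⟨b, hbK, hbv⟩ := exists_mulVec_eq hK hv ((g : Matrix (Fin n) (Fin n) F) *ᵥ v)
  have hgb : (g : Matrix (Fin n) (Fin n) F) = b := Matrix.ext_of_mulVec_single fun i => by
    obtain ⟨k, hk, hkv⟩ := exists_mulVec_eq hK hv (Pi.single i 1)
    rw [← hkv, Matrix.mulVec_mulVec, Matrix.mulVec_mulVec, hcomm k hk, ← hK.comm k hk b hbK,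
      ← Matrix.mulVec_mulVec, ← hbv, Matrix.mulVec_mulVec]
  refine hne μ ?_
  have hbμ : b - μ • 1 ∈ K := K.sub_mem hbK (K.smul_mem K.one_mem μ)
  have h0 := mulVec_injective hK hbμ hv (by
    rw [Matrix.sub_mulVec, hbv, (hmem v).1 hvW, Matrix.smul_mulVec, Matrix.one_mulVec, sub_self])
  rw [hgb, sub_eq_zero.1 h0]

/-- A Frobenius element of order `n` in the normaliser. -/
theorem exists_frobenius_element (hn : n.Prime) (hK : Cfsg.Geo.IsFieldSubalgebra n K) :
    ∃ g : GL (Fin n) F, g ∈ Cfsg.Geo.subalgebraNormalizer K ∧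
      (g : Matrix (Fin n) (Fin n) F) ^ n = 1 ∧
      (∀ z : F, (g : Matrix (Fin n) (Fin n) F) ≠ z • (1 : Matrix (Fin n) (Fin n) F)) ∧
      ∃ v : Fin n → F, v ≠ 0 ∧ (g : Matrix (Fin n) (Fin n) F) *ᵥ v = v := by
  classical
  haveI : Nonempty (Fin n) := ⟨⟨0, hn.pos⟩⟩
  letI : CommRing K := { (inferInstance : Ring K) with
    mul_comm := fun x y => Subtype.ext (hK.comm x x.2 y y.2) }
  haveI : Nontrivial K := Module.nontrivial_of_finrank_pos (R := F) (by rw [hK.finrank_eq]; exact hn.pos)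
  letI : Field K := IsField.toField ⟨exists_pair_ne K, mul_comm, fun {x} hx => by
    obtain ⟨y, hy, hxy⟩ := hK.inv x x.2 fun h => hx (Subtype.ext h)
    exact ⟨⟨y, hy⟩, Subtype.ext hxy⟩⟩
  haveI := Fintype.ofFinite K
  set q := Fintype.card F
  have hcardK : Fintype.card K = q ^ n := by
    rw [Module.card_eq_pow_finrank (K := F) (V := K), hK.finrank_eq]
  obtain ⟨p, _⟩ := CharP.exists F
  obtain ⟨f, hp, hf⟩ := FiniteField.card F p
  haveI := Fact.mk hp
  haveI : CharP K p := charP_of_injective_algebraMap (algebraMap F K).injective p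
  let φ : K →ₗ[F] K :=
    { toFun := fun a => a ^ q
      map_add' := fun a b => by simp only [q, hf]; exact add_pow_char_pow a b p f
      map_smul' := fun c a => by rw [smul_pow, FiniteField.pow_card, RingHom.id_apply] }
  have hφ : ∀ (l : ℕ) (a : K), (φ ^ l) a = a ^ q ^ l := by
    intro l
    induction l with
    | zero => intro a; simp
    | succ l ih =>
      intro a
      rw [pow_succ', Module.End.mul_apply, ih]
      show (a ^ q ^ l) ^ q = _
      rw [← pow_mul, ← pow_succ]
  have hφn : φ ^ n = 1 := LinearMap.ext fun a => by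
    rw [hφ, ← hcardK, FiniteField.pow_card]; rfl
  obtain ⟨v₀, hv₀⟩ : ∃ v : Fin n → F, v ≠ 0 := exists_ne 0
  let E : K →ₗ[F] (Fin n → F) :=
    { toFun := fun a => (a : Matrix (Fin n) (Fin n) F) *ᵥ v₀
      map_add' := fun a b => Matrix.add_mulVec _ _ _
      map_smul' := fun c a => Matrix.smul_mulVec c _ _ }
  have hEbij : Function.Bijective E :=
    ⟨(injective_iff_map_eq_zero E).2 fun a ha => Subtype.ext (mulVec_injective hK a.2 hv₀ ha), fun w => by
      obtain ⟨a, ha, e⟩ := exists_mulVec_eq hK hv₀ w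
      exact ⟨⟨a, ha⟩, e⟩⟩
  let Ee := LinearEquiv.ofBijective E hEbij
  let G : Module.End F (Fin n → F) := E ∘ₗ φ ∘ₗ (Ee.symm : (Fin n → F) →ₗ[F] K)
  have hG : ∀ a, G (E a) = E (a ^ q) := fun a => by
    show E (φ (Ee.symm (Ee a))) = _
    rw [LinearEquiv.symm_apply_apply]
    rfl
  have hGl : ∀ (l : ℕ) (a : K), (G ^ l) (E a) = E (a ^ q ^ l) := by
    intro l
    induction l with
    | zero => intro a; simp
    | succ l ih => intro a; rw [pow_succ', Module.End.mul_apply, ih, hG, ← pow_mul, ← pow_succ]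
  have hGn : G ^ n = 1 := LinearMap.ext fun w => by
    obtain ⟨a, rfl⟩ := hEbij.2 w
    rw [hGl, ← hcardK, FiniteField.pow_card]; rfl
  have hMn : LinearMap.toMatrix' G ^ n = 1 := by
    refine Matrix.toLin'.injective ?_
    rw [Matrix.toLin'_pow, Matrix.toLin'_toMatrix', hGn, Matrix.toLin'_one]
    rfl
  let g : GL (Fin n) F := ⟨LinearMap.toMatrix' G, LinearMap.toMatrix' G ^ (n - 1),
    by rw [← pow_succ', Nat.sub_add_cancel hn.pos, hMn],
    by rw [← pow_succ, Nat.sub_add_cancel hn.pos, hMn]⟩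
  have hgapp : ∀ w, (g : Matrix (Fin n) (Fin n) F) *ᵥ w = G w := fun w =>
    LinearMap.toMatrix'_mulVec G w
  have hmul : ∀ k a : K, k.1 *ᵥ E a = E (k * a) := fun k a => by
    show k.1 *ᵥ (a.1 *ᵥ v₀) = (k.1 * a.1) *ᵥ v₀
    rw [Matrix.mulVec_mulVec]
  have hgk : ∀ k : K, (g : Matrix (Fin n) (Fin n) F) * k.1 = (k ^ q).1 * g := fun k =>
    Matrix.ext_of_mulVec_single fun i => by
      rw [← Matrix.mulVec_mulVec, ← Matrix.mulVec_mulVec, hgapp, hgapp]
      obtain ⟨a, ha⟩ := hEbij.2 (Pi.single i 1)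
      rw [← ha, hG, hmul k a, hG, hmul (k ^ q) (a ^ q), mul_pow]
  have hsurj : ∀ k : K, ∃ a : K, a ^ q = k := fun k => ⟨k ^ q ^ (n - 1), by
    rw [← pow_mul, ← pow_succ, Nat.sub_add_cancel hn.pos, ← hcardK, FiniteField.pow_card]⟩
  refine ⟨g, fun k => ⟨fun hk => ?_, fun hk => ?_⟩, hMn, fun z hz => ?_, E 1, fun h => ?_, ?_⟩
  · rw [hgk ⟨k, hk⟩, mul_assoc, Units.mul_inv, mul_one]
    exact (⟨k, hk⟩ ^ q : K).2
  · obtain ⟨a, ha⟩ := hsurj ⟨_, hk⟩
    have h1 := hgk a
    rw [ha] at h1
    simp only [mul_assoc, Units.inv_mul, mul_one] at h1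
    have h2 : a.1 = k := by
      calc a.1 = ((g⁻¹ : GL (Fin n) F) : Matrix (Fin n) (Fin n) F) * (g * a.1) := by
            rw [← mul_assoc, Units.inv_mul, one_mul]
        _ = k := by rw [h1, ← mul_assoc, Units.inv_mul, one_mul]
    exact h2 ▸ a.2
  · have h1 : ∀ a : K, a ^ q = z • a := fun a => hEbij.1 (by
      rw [← hG, ← hgapp, hz, Matrix.smul_mulVec, Matrix.one_mulVec, map_smul])
    have hz1 : z = 1 := by
      have h2 := h1 1
      rw [one_pow, Algebra.smul_def, mul_one] at h2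
      exact ((map_eq_one_iff _ (algebraMap F K).injective).1 h2.symm)
    obtain ⟨-, hle⟩ := card_le_of_forall_pow_eq (R := K) (N := q) Fintype.one_lt_card fun y => by
      rw [h1, hz1, one_smul]
    rw [Nat.card_eq_fintype_card, hcardK] at hle
    have := (Nat.pow_le_pow_iff_right Fintype.one_lt_card).1 (hle.trans (pow_one q).ge)
    have := hn.two_le
    omega
  · exact one_ne_zero (hEbij.1 (h.trans (map_zero E).symm) : (1 : K) = 0)
  · rw [hgapp, hG, one_pow]

end FieldAlgebra

/-- A map of order `n` with a fixed line and a cyclic complement. -/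
def IsRegularOrder (B : Module.End F (Fin n → F)) : Prop :=
  ∃ (b : Basis (Unit ⊕ Fin (n - 1)) F (Fin n → F)) (u : Fin n → F),
    B (b (Sum.inl ())) = b (Sum.inl ()) ∧ (∀ l, b (Sum.inr l) = (B ^ (l : ℕ)) u) ∧
      ∑ l ∈ Finset.range n, (B ^ l) u = 0

omit [Fintype F] in
/-- Two such maps are conjugate by an element of determinant one. -/
theorem IsRegularOrder.conj {A G : Module.End F (Fin n → F)} (hn : 0 < n) (hA : IsRegularOrder A)
    (hG : IsRegularOrder G) :
    ∃ P : Matrix.SpecialLinearGroup (Fin n) F, ∀ z, A (Matrix.toLin' (P : Matrix (Fin n) (Fin n) F) z) =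
      Matrix.toLin' (P : Matrix (Fin n) (Fin n) F) (G z) := by
  classical
  obtain ⟨a, u, ha0, hau, hasum⟩ := hA
  obtain ⟨c, v, hc0, hcv, hcsum⟩ := hG
  let Q := (c.equiv a (Equiv.refl _) : (Fin n → F) ≃ₗ[F] (Fin n → F))
  set δ := LinearMap.det (Q : (Fin n → F) →ₗ[F] (Fin n → F)) with hδ
  have hδ0 : δ ≠ 0 := (LinearEquiv.isUnit_det' Q).ne_zero
  let D : Module.End F (Fin n → F) := a.constr F fun k => Sum.elim (fun _ => δ⁻¹) (fun _ => (1 : F)) k • a k
  have hD : ∀ k, D (a k) = Sum.elim (fun _ => δ⁻¹) (fun _ => (1 : F)) k • a k := fun k => a.constr_basis F _ k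
  let R : Module.End F (Fin n → F) := D ∘ₗ (Q : (Fin n → F) →ₗ[F] (Fin n → F))
  have hRdet : LinearMap.det R = 1 := by
    rw [show LinearMap.det R = LinearMap.det D * δ from LinearMap.det_comp D _,
      det_monomial a D 1 _ (fun k => by simpa using hD k), Equiv.Perm.sign_one]
    simp [Fintype.prod_sum_type, hδ0]
  refine ⟨⟨LinearMap.toMatrix' R, by rw [LinearMap.det_toMatrix', hRdet]⟩, fun z => ?_⟩
  show A (Matrix.toLin' (LinearMap.toMatrix' R) z) = Matrix.toLin' (LinearMap.toMatrix' R) (G z)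
  rw [Matrix.toLin'_toMatrix']
  have hR0 : R (c (Sum.inl ())) = δ⁻¹ • a (Sum.inl ()) := by simp [R, Q, hD]
  have hRr : ∀ l : Fin (n - 1), R ((G ^ (l : ℕ)) v) = (A ^ (l : ℕ)) u := fun l => by
    rw [← hcv, ← hau]; simp [R, Q, hD]
  refine LinearMap.congr_fun (f := A ∘ₗ R) (g := R ∘ₗ G) (c.ext fun k => ?_) z
  show A (R (c k)) = R (G (c k))
  rcases k with ⟨⟩ | l
  · rw [hc0, hR0, map_smul, ha0]
  · rw [hcv, hRr, ← Module.End.mul_apply A, ← pow_succ', ← Module.End.mul_apply G, ← pow_succ']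
    rcases Nat.lt_or_ge ((l : ℕ) + 1) (n - 1) with h | h
    · exact (hRr ⟨_, h⟩).symm
    · have hl : (l : ℕ) + 1 = n - 1 := by have := l.2; omega
      have hrec : ∀ (B : Module.End F (Fin n → F)) (y : Fin n → F), ∑ i ∈ Finset.range n, (B ^ i) y = 0 →
          (B ^ (n - 1)) y = -∑ i : Fin (n - 1), (B ^ (i : ℕ)) y := by
        intro B y hy
        have hsucc := Finset.sum_range_succ (fun i => (B ^ i) y) (n - 1)
        rw [Nat.sub_add_cancel hn, hy, ← Fin.sum_univ_eq_sum_range (fun i => (B ^ i) y)] at hsucc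
        exact (neg_eq_of_add_eq_zero_right hsucc.symm).symm
      rw [hl, hrec A u hasum, hrec G v hcsum, map_neg, map_sum]
      exact congrArg Neg.neg (Finset.sum_congr rfl fun i _ => (hRr i).symm)

omit [Fintype F] in
/-- Regular structure from a fixed line and a cyclic vector of a complement. -/
theorem isRegularOrder_of_cyclic (hnp : (n : F) ≠ 0) {B : Module.End F (Fin n → F)} (hB : B ^ n = 1)
    (hfix : finrank F (fixedSpace B) = 1) {M : Submodule F (Fin n → F)} (hM : M.map B ≤ M)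
    (hcompl : IsCompl (fixedSpace B) M) {u : Fin n → F} (hu : u ∈ M)
    (hli : LinearIndependent F fun l : Fin (n - 1) => (B ^ (l : ℕ)) u) : IsRegularOrder B := by
  classical
  obtain ⟨w, hw, hw0⟩ := Submodule.exists_mem_ne_zero_of_ne_bot (p := fixedSpace B) fun h => by
    rw [h, finrank_bot] at hfix; omega
  have hmem : ∀ l : ℕ, (B ^ l) u ∈ M := by
    intro l
    induction l with
    | zero => exact hu
    | succ l ih => rw [pow_succ', Module.End.mul_apply]; exact hM ⟨_, ih, rfl⟩
  have hli' : LinearIndependent F (Sum.elim (fun _ : Unit => w) fun l : Fin (n - 1) => (B ^ (l : ℕ)) u) := by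
    refine LinearIndependent.sum_type (LinearIndependent.of_subsingleton () hw0) hli ?_
    refine hcompl.disjoint.mono (Submodule.span_le.2 ?_) (Submodule.span_le.2 ?_)
    · rintro _ ⟨i, rfl⟩; exact hw
    · rintro _ ⟨i, rfl⟩; exact hmem i
  have hn : 0 < n := Nat.pos_of_ne_zero fun h => hnp (by simp [h])
  let b := basisOfLinearIndependentOfCardEqFinrank hli' (by
    rw [Fintype.card_sum, Fintype.card_unit, Fintype.card_fin, finrank_pi, Fintype.card_fin]; omega)
  refine ⟨b, u, ?_, fun l => ?_, ?_⟩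
  · simp [b, mem_fixedSpace.1 hw]
  · simp [b]
  · have hz : B (∑ l ∈ Finset.range n, (B ^ l) u) = ∑ l ∈ Finset.range n, (B ^ l) u := by
      have h := (Finset.sum_range_succ' (fun l => (B ^ l) u) n).symm.trans
        (Finset.sum_range_succ (fun l => (B ^ l) u) n)
      rw [hB, pow_zero] at h
      rw [map_sum, Finset.sum_congr rfl fun l _ => show B ((B ^ l) u) = (B ^ (l + 1)) u by
        rw [pow_succ', Module.End.mul_apply]]
      exact add_right_cancel h
    have : (∑ l ∈ Finset.range n, (B ^ l) u) ∈ fixedSpace B ⊓ M :=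
      ⟨mem_fixedSpace.2 hz, Submodule.sum_mem _ fun l _ => hmem l⟩
    rwa [hcompl.inf_eq_bot, Submodule.mem_bot] at this

/-- A fixed line and `ord_n q = n - 1` give the regular structure. -/
theorem isRegularOrder_of_primitive {p : ℕ} [Fact p.Prime] [CharP F p] [Fact n.Prime] (hnp : n ≠ p)
    (hi : orderOf (Fintype.card F : ZMod n) = n - 1) {B : Module.End F (Fin n → F)} (hB : B ^ n = 1)
    (hfix : finrank F (fixedSpace B) = 1) : IsRegularOrder B := by
  classical
  have hn2 : 2 ≤ n := (Fact.out : n.Prime).two_le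
  have hnF := natCast_prime_ne_zero (F := F) (p := p) hnp
  obtain ⟨M, hc, hMi⟩ := exists_invariant_compl B hnF one_ne_zero (by rw [one_smul, hB])
    (fixedSpace_invariant B)
  have hd := Submodule.finrank_add_eq_of_isCompl hc
  rw [hfix, finrank_pi, Fintype.card_fin] at hd
  obtain ⟨u, hu, hu0⟩ := Submodule.exists_mem_ne_zero_of_ne_bot (p := M) fun h => by
    rw [h, finrank_bot] at hd; omega
  refine isRegularOrder_of_cyclic hnF hB hfix hMi hc hu ?_
  have hfree : ∀ v ∈ M, B v = v → v = 0 := fun v hv h =>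
    Submodule.disjoint_def.1 hc.disjoint v (mem_fixedSpace.2 h) hv
  have hmem : ∀ l : ℕ, (B ^ l) u ∈ M := by
    intro l
    induction l with
    | zero => exact hu
    | succ l ih => rw [pow_succ', Module.End.mul_apply]; exact hMi ⟨_, ih, rfl⟩
  rw [linearIndependent_iff_card_eq_finrank_span, Fintype.card_fin]
  set S := Submodule.span F (Set.range fun l : Fin (n - 1) => (B ^ (l : ℕ)) u)
  have hSM : S ≤ M := Submodule.span_le.2 (by rintro _ ⟨l, rfl⟩; exact hmem l)
  have hlast : (B ^ (n - 1)) u ∈ S := by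
    have hz : B (∑ l ∈ Finset.range n, (B ^ l) u) = ∑ l ∈ Finset.range n, (B ^ l) u := by
      have h := (Finset.sum_range_succ' (fun l => (B ^ l) u) n).symm.trans
        (Finset.sum_range_succ (fun l => (B ^ l) u) n)
      rw [hB, pow_zero] at h
      rw [map_sum, Finset.sum_congr rfl fun l _ => show B ((B ^ l) u) = (B ^ (l + 1)) u by
        rw [pow_succ', Module.End.mul_apply]]
      exact add_right_cancel h
    have h0 := hfree _ (Submodule.sum_mem _ fun l _ => hmem l) hz
    have hsucc := Finset.sum_range_succ (fun i => (B ^ i) u) (n - 1)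
    rw [Nat.sub_add_cancel (by omega : 1 ≤ n), h0, ← Fin.sum_univ_eq_sum_range (fun i => (B ^ i) u)] at hsucc
    rw [← neg_eq_of_add_eq_zero_right hsucc.symm]
    exact neg_mem (Submodule.sum_mem _ fun l _ => Submodule.subset_span ⟨l, rfl⟩)
  have hSi : S.map B ≤ S := by
    rw [Submodule.map_span, Submodule.span_le]
    rintro _ ⟨_, ⟨l, rfl⟩, rfl⟩
    show B ((B ^ (l : ℕ)) u) ∈ S
    rw [← Module.End.mul_apply, ← pow_succ']
    rcases Nat.lt_or_ge ((l : ℕ) + 1) (n - 1) with h | h
    · exact Submodule.subset_span ⟨⟨_, h⟩, rfl⟩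
    · rw [show (l : ℕ) + 1 = n - 1 by have := l.2; omega]
      exact hlast
  have hdvd := orderOf_dvd_finrank hB hSi fun v hv => hfree v (hSM hv)
  rw [hi] at hdvd
  have hpos : 0 < finrank F S := Nat.pos_of_ne_zero fun h => hu0 (by
    have : u ∈ S := Submodule.subset_span ⟨⟨0, by omega⟩, rfl⟩
    rwa [Submodule.finrank_eq_zero.1 h, Submodule.mem_bot] at this)
  refine le_antisymm (Nat.le_of_dvd hpos hdvd) ((finrank_range_le_card _).trans (Fintype.card_fin _).le)

end Cfsg.Agent.Elusive
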