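import Cfsg.Agent.Lib.Elusive.Singer

/-!
Conjugation into the normaliser of a field of matrices of prime degree `n`.
-/

set_option autoImplicit false
set_option linter.style.haveILetI false

namespace Cfsg.Agent.Elusive

open Module
open scoped Matrix

variable {F : Type*} [Field F] [Fintype F] {n : ℕ} {K : Subalgebra F (Matrix (Fin n) (Fin n) F)}

/-- Two independent eigenvectors prevent conjugation into the normaliser. -/
theorem not_conj_of_eigen (hn : n.Prime) (hK : Cfsg.Geo.IsFieldSubalgebra n K)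
    (x : Matrix.SpecialLinearGroup (Fin n) F)
    (hns : ∀ z : F, (x : Matrix (Fin n) (Fin n) F) ≠ z • (1 : Matrix (Fin n) (Fin n) F)) {μ : F}
    (h2 : 2 ≤ finrank F (LinearMap.ker (Matrix.toLin' (x : Matrix (Fin n) (Fin n) F) - μ • LinearMap.id)))
    (P : Matrix.SpecialLinearGroup (Fin n) F) :
    P⁻¹ * x * P ∉ (Cfsg.Geo.subalgebraNormalizer K).comap
      (Matrix.SpecialLinearGroup.toGL : Matrix.SpecialLinearGroup (Fin n) F →* GL (Fin n) F) := by
  intro h
  set y := P⁻¹ * x * P with hy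
  have hyns : ∀ z : F, (Matrix.SpecialLinearGroup.toGL y : Matrix (Fin n) (Fin n) F) ≠
      z • (1 : Matrix (Fin n) (Fin n) F) := by
    intro z hz
    apply hns z
    have hx : x = P * y * P⁻¹ := by rw [hy]; group
    change (y : Matrix (Fin n) (Fin n) F) = _ at hz
    rw [hx, Matrix.SpecialLinearGroup.coe_mul, Matrix.SpecialLinearGroup.coe_mul, hz, Matrix.mul_smul,
      Matrix.mul_one, Matrix.smul_mul, ← Matrix.SpecialLinearGroup.coe_mul, mul_inv_cancel,
      Matrix.SpecialLinearGroup.coe_one]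
  have hle := finrank_eigen_le_one hn hK (g := Matrix.SpecialLinearGroup.toGL y) h (μ := μ) hyns
  let T : (Fin n → F) ≃ₗ[F] (Fin n → F) := Matrix.SpecialLinearGroup.toLin' P⁻¹
  have hsub : (LinearMap.ker (Matrix.toLin' (x : Matrix (Fin n) (Fin n) F) - μ • LinearMap.id)).map T.toLinearMap ≤
      LinearMap.ker (Matrix.toLin' ((Matrix.SpecialLinearGroup.toGL y : GL (Fin n) F) : Matrix (Fin n) (Fin n) F) -
        μ • LinearMap.id) := by
    rintro _ ⟨v, hv, rfl⟩
    have hv' : (x : Matrix (Fin n) (Fin n) F) *ᵥ v = μ • v := by simpa [sub_eq_zero] using hv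
    have hT : ∀ w, T w = (P⁻¹ : Matrix.SpecialLinearGroup (Fin n) F).1 *ᵥ w := fun w => rfl
    rw [LinearMap.mem_ker, LinearMap.sub_apply, LinearMap.smul_apply, LinearMap.id_apply, sub_eq_zero,
      Matrix.toLin'_apply]
    show (y : Matrix (Fin n) (Fin n) F) *ᵥ T v = μ • T v
    rw [hT, Matrix.mulVec_mulVec, ← Matrix.SpecialLinearGroup.coe_mul, show y * P⁻¹ = P⁻¹ * x by rw [hy]; group,
      Matrix.SpecialLinearGroup.coe_mul, ← Matrix.mulVec_mulVec, hv', Matrix.mulVec_smul]
  have h3 := (Submodule.finrank_mono hsub).trans hle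
  rw [T.finrank_map_eq] at h3
  omega

omit [Fintype F] in
/-- A determinant-one conjugation of a scalar multiple lands in the normaliser. -/
theorem conj_mem {x : Matrix.SpecialLinearGroup (Fin n) F} {g : GL (Fin n) F}
    (hg : g ∈ Cfsg.Geo.subalgebraNormalizer K) {l : F} (hl : l ≠ 0) {B : Module.End F (Fin n → F)}
    (hxB : Matrix.toLin' (x : Matrix (Fin n) (Fin n) F) = l • B)
    {P : Matrix.SpecialLinearGroup (Fin n) F}
    (hP : ∀ z, B (Matrix.toLin' (P : Matrix (Fin n) (Fin n) F) z) =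
      Matrix.toLin' (P : Matrix (Fin n) (Fin n) F) (Matrix.toLin' (g : Matrix (Fin n) (Fin n) F) z)) :
    P⁻¹ * x * P ∈ (Cfsg.Geo.subalgebraNormalizer K).comap
      (Matrix.SpecialLinearGroup.toGL : Matrix.SpecialLinearGroup (Fin n) F →* GL (Fin n) F) := by
  have hxP : (x : Matrix (Fin n) (Fin n) F) * P = l • ((P : Matrix (Fin n) (Fin n) F) * g) := by
    refine Matrix.toLin'.injective (LinearMap.ext fun z => ?_)
    rw [Matrix.toLin'_mul, map_smul, Matrix.toLin'_mul, hxB]
    show l • B _ = l • _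
    rw [hP]
    rfl
  have hy : ((P⁻¹ * x * P : Matrix.SpecialLinearGroup (Fin n) F) : Matrix (Fin n) (Fin n) F) =
      l • (g : Matrix (Fin n) (Fin n) F) := by
    rw [Matrix.SpecialLinearGroup.coe_mul, Matrix.SpecialLinearGroup.coe_mul, mul_assoc, hxP, Matrix.mul_smul,
      ← mul_assoc, ← Matrix.SpecialLinearGroup.coe_mul, inv_mul_cancel, Matrix.SpecialLinearGroup.coe_one, one_mul]
  let h : GL (Fin n) F := ⟨l • (g : Matrix (Fin n) (Fin n) F), l⁻¹ • ((g⁻¹ : GL (Fin n) F) : Matrix (Fin n) (Fin n) F),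
    by rw [Matrix.smul_mul, Matrix.mul_smul, smul_smul, Units.mul_inv, mul_inv_cancel₀ hl, one_smul],
    by rw [Matrix.smul_mul, Matrix.mul_smul, smul_smul, Units.inv_mul, inv_mul_cancel₀ hl, one_smul]⟩
  rw [Subgroup.mem_comap, show Matrix.SpecialLinearGroup.toGL (P⁻¹ * x * P) = h from Units.ext hy]
  intro k
  rw [hg k]
  show _ ↔ (l • (g : Matrix (Fin n) (Fin n) F)) * k * (l⁻¹ • ((g⁻¹ : GL (Fin n) F) : Matrix (Fin n) (Fin n) F)) ∈ K
  rw [Matrix.smul_mul, Matrix.smul_mul, Matrix.mul_smul, smul_smul, mul_inv_cancel₀ hl, one_smul]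

/-- The fixed space of a non-trivial normaliser element with a fixed vector is a line. -/
theorem finrank_fixed_eq_one (hn : n.Prime) (hK : Cfsg.Geo.IsFieldSubalgebra n K) {g : GL (Fin n) F}
    (hg : g ∈ Cfsg.Geo.subalgebraNormalizer K)
    (hne : ∀ z : F, (g : Matrix (Fin n) (Fin n) F) ≠ z • (1 : Matrix (Fin n) (Fin n) F))
    {v : Fin n → F} (hv : v ≠ 0) (hgv : (g : Matrix (Fin n) (Fin n) F) *ᵥ v = v) :
    finrank F (fixedSpace (Matrix.toLin' (g : Matrix (Fin n) (Fin n) F))) = 1 := by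
  refine le_antisymm ?_ ?_
  · have h := finrank_eigen_le_one hn hK hg (μ := 1) hne
    rwa [one_smul] at h
  · refine Submodule.one_le_finrank_iff.2 fun h => hv ?_
    have : v ∈ fixedSpace (Matrix.toLin' (g : Matrix (Fin n) (Fin n) F)) :=
      mem_fixedSpace.2 (by rw [Matrix.toLin'_apply, hgv])
    rwa [h, Submodule.mem_bot] at this

/-- The case `ord_n q = n - 1`: every element of order `n` is conjugate into the normaliser. -/
theorem conj_of_primitive {p : ℕ} [Fact p.Prime] [CharP F p] [Fact n.Prime] (hn3 : 3 ≤ n) (hnp : n ≠ p)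
    (hK : Cfsg.Geo.IsFieldSubalgebra n K) (hi : orderOf (Fintype.card F : ZMod n) = n - 1)
    (x : Matrix.SpecialLinearGroup (Fin n) F)
    (hx : ∃ z : F, ((x ^ n : Matrix.SpecialLinearGroup (Fin n) F) : Matrix (Fin n) (Fin n) F) =
      z • (1 : Matrix (Fin n) (Fin n) F))
    (hns : ∀ z : F, (x : Matrix (Fin n) (Fin n) F) ≠ z • (1 : Matrix (Fin n) (Fin n) F)) :
    ∃ P : Matrix.SpecialLinearGroup (Fin n) F, P⁻¹ * x * P ∈ (Cfsg.Geo.subalgebraNormalizer K).comap
      (Matrix.SpecialLinearGroup.toGL : Matrix.SpecialLinearGroup (Fin n) F →* GL (Fin n) F) := by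
  have hn := (Fact.out : n.Prime)
  have hnF := natCast_prime_ne_zero (F := F) (p := p) hnp
  have hi1 : orderOf (Fintype.card F : ZMod n) ≠ 1 := by omega
  have hdim : finrank F (Fin n → F) = n := by rw [finrank_pi, Fintype.card_fin]
  rcases scalar_cases hn.pos hnp x hx with ⟨l, B, hl, hB, hxB⟩ | ⟨c, -, -, h1, -⟩
  · have hdetB : LinearMap.det B = 1 := eq_one_of_pow_eq_one hi1 (by rw [← map_pow, hB, map_one])
    have hl1 : l = 1 := by
      refine eq_one_of_pow_eq_one hi1 ?_
      have h := congrArg LinearMap.det hxB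
      rw [LinearMap.det_toLin', x.det_coe, LinearMap.det_smul, hdetB, mul_one, hdim] at h
      exact h.symm
    have hfix : finrank F (fixedSpace B) = 1 := by
      have hm := finrank_mod_orderOf hB hnF (X := ⊤) le_top
      rw [finrank_top, hdim, top_inf_eq, hi] at hm
      have hlt : finrank F (fixedSpace B) ≠ n := fun h => hns 1 (by
        refine Matrix.toLin'.injective (LinearMap.ext fun v => ?_)
        rw [hxB, hl1, one_smul, one_smul, Matrix.toLin'_one, LinearMap.id_apply]
        refine mem_fixedSpace.1 ?_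
        rw [Submodule.eq_top_of_finrank_eq (h.trans hdim.symm)]
        trivial)
      have hle := Submodule.finrank_le (fixedSpace B)
      rw [hdim] at hle
      have h1 : n % (n - 1) = 1 := by
        rw [Nat.mod_eq_sub_mod (by omega), Nat.mod_eq_of_lt (by omega)]
        omega
      rcases Nat.lt_or_ge (finrank F (fixedSpace B)) (n - 1) with h | h
      · rw [Nat.mod_eq_of_lt h, h1] at hm; exact hm.symm
      · rw [show finrank F (fixedSpace B) = n - 1 by omega, Nat.mod_self, h1] at hm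
        exact absurd hm one_ne_zero
    obtain ⟨g, hg, hgn, hgns, v, hv, hgv⟩ := exists_frobenius_element hn hK
    have hG : (Matrix.toLin' (g : Matrix (Fin n) (Fin n) F) : Module.End F (Fin n → F)) ^ n = 1 := by
      rw [← Matrix.toLin'_pow, hgn, Matrix.toLin'_one]; rfl
    obtain ⟨P, hP⟩ := (isRegularOrder_of_primitive hnp hi hB hfix).conj hn.pos
      (isRegularOrder_of_primitive hnp hi hG (finrank_fixed_eq_one hn hK hg hgns hv hgv))
    exact ⟨P, conj_mem hg hl hxB hP⟩
  · omega

end Cfsg.Agent.Elusive
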