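import Cfsg.Agent.Lib.Elusive.SingerConj
import Cfsg.Agent.Lib.Elusive.Arith

/-!
Elements of order three in dimension three when `3 ∣ q - 1`.
-/

set_option autoImplicit false
set_option linter.style.haveILetI false

namespace Cfsg.Agent.Elusive

open Module
open scoped Matrix

variable {F : Type*} [Field F] [Fintype F]

omit [Fintype F] in
/-- Determinant of a map fixing `U` pointwise and scalar on a complement. -/
theorem det_of_scalar_on_compl {V : Type*} [AddCommGroup V] [Module F V] [FiniteDimensional F V]
    (B : Module.End F V) {U M : Submodule F V} (hc : IsCompl U M) (hU : ∀ v ∈ U, B v = v) {c : F}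
    (hM : ∀ v ∈ M, B v = c • v) : LinearMap.det B = c ^ finrank F M := by
  classical
  let b := ((finBasis F U).prod (finBasis F M)).map (Submodule.prodEquivOfIsCompl U M hc)
  have hb : ∀ k, B (b k) = Sum.elim (fun _ => (1 : F)) (fun _ => c) k • b ((1 : Equiv.Perm (Fin (finrank F U) ⊕ Fin (finrank F M))) k) := by
    rintro (i | i)
    · have := hU _ (finBasis F U i).2
      simpa [b, Basis.prod_apply] using this
    · have := hM _ (finBasis F M i).2
      simpa [b, Basis.prod_apply] using this
  rw [det_monomial b B 1 _ hb, Equiv.Perm.sign_one]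
  simp [Fintype.prod_sum_type]

/-- A map of order three with a fixed line and no scalar action on the complement is regular. -/
theorem isRegularOrder_three {p : ℕ} [Fact p.Prime] [CharP F p] (h3 : (3 : ℕ) ≠ p)
    {B : Module.End F (Fin 3 → F)} (hB : B ^ 3 = 1) (hfix : finrank F (fixedSpace B) = 1)
    (hnsc : ∀ (M : Submodule F (Fin 3 → F)) (c : F), IsCompl (fixedSpace B) M →
      (∀ v ∈ M, B v = c • v) → False) : IsRegularOrder B := by
  classical
  haveI : Fact (Nat.Prime 3) := ⟨Nat.prime_three⟩
  have h3F := natCast_prime_ne_zero (F := F) (p := p) (r := 3) h3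
  obtain ⟨M, hc, hMi⟩ := exists_invariant_compl B h3F one_ne_zero (by rw [one_smul, hB])
    (fixedSpace_invariant B)
  let B' : Module.End F M := B.restrict fun v hv => hMi ⟨v, hv, rfl⟩
  by_cases hall : ∀ v : M, ¬ LinearIndependent F ![v, B' v]
  · obtain ⟨a, ha⟩ := LinearMap.exists_eq_smul_id_of_forall_notLinearIndependent (f := B') hall
    exact (hnsc M a hc fun v hv => congrArg Subtype.val (LinearMap.congr_fun ha ⟨v, hv⟩)).elim
  · push Not at hall
    obtain ⟨v, hv⟩ := hall
    refine isRegularOrder_of_cyclic h3F hB hfix hMi hc v.2 ?_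
    have h := hv.map' M.subtype M.ker_subtype
    show LinearIndependent F fun l : Fin 2 => (B ^ (l : ℕ)) (v : Fin 3 → F)
    have e : (fun l : Fin 2 => (B ^ (l : ℕ)) (v : Fin 3 → F)) = M.subtype ∘ ![v, B' v] := by
      funext l
      fin_cases l <;> simp [B']
    rw [e]
    exact h

end Cfsg.Agent.Elusive
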