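import Cfsg.Agent.S5964

/-!
The index of the subfield subgroup, the rank of a matrix under a field extension, and fixed points of the
Frobenius of a subfield.
-/

set_option autoImplicit false
set_option linter.style.haveILetI false

namespace Cfsg.Agent.Elusive.Subfld

open Module

variable {F : Type*} [Field F] [Fintype F] {n : ℕ} (F₀ : Subfield F)

/-- A prime dividing the index of the subfield subgroup divides one of the geometric sums `∑ (q₀^j)^t`,
`2 ≤ j ≤ n`. -/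
theorem exists_geom_of_dvd_index (hn : 1 ≤ n) {k q₀ : ℕ} (hk : 0 < k) (hF₀ : Nat.card ↥F₀ = q₀)
    (hqk : Fintype.card F = q₀ ^ k) {r : ℕ} (hr : r.Prime) (hrq : ¬ r ∣ q₀)
    (hdvd : r ∣ ((Cfsg.Geo.subfieldSubgroup F₀ 1).comap
        (Matrix.SpecialLinearGroup.toGL : Matrix.SpecialLinearGroup (Fin n) F →* GL (Fin n) F)).index) :
    ∃ j, 2 ≤ j ∧ j ≤ n ∧ r ∣ ∑ t ∈ Finset.range k, (q₀ ^ j) ^ t := by
  classical
  haveI : Fintype F₀ := Fintype.ofFinite _
  set H := (Cfsg.Geo.subfieldSubgroup F₀ 1).comap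
        (Matrix.SpecialLinearGroup.toGL : Matrix.SpecialLinearGroup (Fin n) F →* GL (Fin n) F)
  let φ : Matrix.SpecialLinearGroup (Fin n) F₀ →* Matrix.SpecialLinearGroup (Fin n) F :=
    Matrix.SpecialLinearGroup.map F₀.subtype
  have hφ : Function.Injective φ := fun a b h => Subtype.ext
    (Matrix.map_injective F₀.subtype.injective
      (congrArg (fun u : Matrix.SpecialLinearGroup (Fin n) F => (u : Matrix (Fin n) (Fin n) F)) h))
  have hle : φ.range ≤ H := by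
    rintro _ ⟨a, rfl⟩
    exact (S5964.mem_subfieldSL F₀ _).2 ⟨1, a, one_ne_zero, by rw [one_smul]; rfl⟩
  have hdvd' : Nat.card (Matrix.SpecialLinearGroup (Fin n) F₀) * H.index ∣
      Nat.card (Matrix.SpecialLinearGroup (Fin n) F) := by
    rw [← H.card_mul_index, Nat.card_congr (MonoidHom.ofInjective hφ).toEquiv]
    exact mul_dvd_mul_right (Subgroup.card_dvd_of_le hle) _
  obtain ⟨s, hs⟩ := hdvd'
  have h0 := LinGrp.natCard_SL_mul (F := F₀) n hn
  have h1 := LinGrp.natCard_SL_mul (F := F) n hn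
  rw [← Nat.card_eq_fintype_card, hF₀] at h0
  rw [hqk, hs] at h1
  have hq1 : 1 < q₀ := hF₀ ▸ Finite.one_lt_card
  have h2 : ∏ i : Fin n, ((q₀ ^ k) ^ n - (q₀ ^ k) ^ (i : ℕ)) = (∏ i : Fin n, (q₀ ^ n - q₀ ^ (i : ℕ))) *
      ∏ i : Fin n, ((q₀ ^ (i : ℕ)) ^ (k - 1) * ∑ j ∈ Finset.range k, (q₀ ^ (n - (i : ℕ))) ^ j) := by
    rw [← Finset.prod_mul_distrib]
    refine Finset.prod_congr rfl fun i _ => ?_
    have hi : (i : ℕ) ≤ n := i.2.le
    have hg := geom_sum_mul_of_one_le (Nat.one_le_pow (n - (i : ℕ)) q₀ (by omega)) k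
    rw [show q₀ ^ n - q₀ ^ (i : ℕ) = q₀ ^ (i : ℕ) * (q₀ ^ (n - (i : ℕ)) - 1) by
      rw [Nat.mul_sub, mul_one, ← pow_add, Nat.add_sub_cancel' hi]]
    rw [show (q₀ ^ (i : ℕ) * (q₀ ^ (n - (i : ℕ)) - 1)) * ((q₀ ^ (i : ℕ)) ^ (k - 1) *
        ∑ j ∈ Finset.range k, (q₀ ^ (n - (i : ℕ))) ^ j) = (q₀ ^ (i : ℕ)) ^ (k - 1) * q₀ ^ (i : ℕ) *
        ((∑ j ∈ Finset.range k, (q₀ ^ (n - (i : ℕ))) ^ j) * (q₀ ^ (n - (i : ℕ)) - 1)) by ring,
      hg, ← pow_succ, Nat.sub_add_cancel hk, Nat.mul_sub, mul_one, ← mul_pow, ← pow_add,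
      Nat.add_sub_cancel' hi, pow_right_comm q₀ k, pow_right_comm q₀ k]
  have h3 : q₀ ^ k - 1 = (∑ j ∈ Finset.range k, q₀ ^ j) * (q₀ - 1) :=
    (geom_sum_mul_of_one_le (by omega) k).symm
  rw [h2, ← h0, h3] at h1
  have hpos : 0 < (q₀ - 1) * Nat.card (Matrix.SpecialLinearGroup (Fin n) F₀) :=
    Nat.mul_pos (by omega) Nat.card_pos
  have h4 : (∑ j ∈ Finset.range k, q₀ ^ j) * (H.index * s) =
      ∏ i : Fin n, ((q₀ ^ (i : ℕ)) ^ (k - 1) * ∑ j ∈ Finset.range k, (q₀ ^ (n - (i : ℕ))) ^ j) :=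
    Nat.eq_of_mul_eq_mul_left hpos (by rw [← h1]; ring)
  obtain ⟨m, rfl⟩ : ∃ m, n = m + 1 := ⟨n - 1, by omega⟩
  simp only [Fin.prod_univ_castSucc, Fin.val_last, Fin.val_castSucc, Nat.add_sub_cancel_left, pow_one] at h4
  have hG : 0 < ∑ j ∈ Finset.range k, q₀ ^ j :=
    Finset.sum_pos (fun j _ => pow_pos (by omega) j) ⟨0, Finset.mem_range.2 hk⟩
  have h5 := Nat.eq_of_mul_eq_mul_left hG (h4.trans (by ring) :
    (∑ j ∈ Finset.range k, q₀ ^ j) * (H.index * s) = (∑ j ∈ Finset.range k, q₀ ^ j) *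
      ((q₀ ^ m) ^ (k - 1) * ∏ i : Fin m, ((q₀ ^ (i : ℕ)) ^ (k - 1) *
        ∑ j ∈ Finset.range k, (q₀ ^ (m + 1 - (i : ℕ))) ^ j)))
  have h6 : ∀ a b, r ∣ (q₀ ^ a) ^ b → False := fun a b h => hrq (hr.dvd_of_dvd_pow (hr.dvd_of_dvd_pow h))
  rcases hr.dvd_mul.1 (h5 ▸ hdvd.mul_right s) with h | h
  · exact (h6 _ _ h).elim
  obtain ⟨i, -, hi⟩ := (hr.prime.dvd_finsetProd_iff _).1 h
  rcases hr.dvd_mul.1 hi with h' | h'
  · exact (h6 _ _ h').elim
  · exact ⟨m + 1 - (i : ℕ), by have := i.2; omega, by omega, h'⟩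

/-- The fixed points of the Frobenius of a subfield form that subfield. -/
theorem mem_of_pow_eq {q₀ : ℕ} (hF₀ : Nat.card ↥F₀ = q₀) {c : F} (hc : c ^ q₀ = c) : c ∈ F₀ := by
  classical
  haveI : Fintype F₀ := Fintype.ofFinite _
  have hq : Fintype.card F₀ = q₀ := by rw [← Nat.card_eq_fintype_card, hF₀]
  have hq1 : 1 < q₀ := hF₀ ▸ Finite.one_lt_card
  let Q : Polynomial F := Polynomial.X ^ q₀ - Polynomial.X
  have hQ : Q.natDegree = q₀ := by
    rw [Polynomial.natDegree_sub_eq_left_of_natDegree_lt (by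
      rw [Polynomial.natDegree_X, Polynomial.natDegree_X_pow]; exact hq1), Polynomial.natDegree_X_pow]
  have hQ0 : Q ≠ 0 := fun e => by
    rw [e, Polynomial.natDegree_zero] at hQ
    omega
  have hmem : ∀ y : F, y ^ q₀ = y → y ∈ Q.roots.toFinset := fun y hy => by
    rw [Multiset.mem_toFinset, Polynomial.mem_roots hQ0]
    simp [Q, hy]
  have hsub : (Finset.univ.map ⟨F₀.subtype, F₀.subtype.injective⟩) ⊆ Q.roots.toFinset := by
    intro y hy
    obtain ⟨a, -, rfl⟩ := Finset.mem_map.1 hy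
    refine hmem _ ?_
    show (F₀.subtype a) ^ q₀ = F₀.subtype a
    rw [← map_pow, ← hq, FiniteField.pow_card]
  have heq := Finset.eq_of_subset_of_card_le hsub (by
    rw [Finset.card_map, Finset.card_univ, hq, ← hQ]
    exact (Multiset.toFinset_card_le _).trans (Polynomial.card_roots' Q))
  have h := hmem c hc
  rw [← heq] at h
  obtain ⟨a, -, rfl⟩ := Finset.mem_map.1 h
  exact a.2

omit [Fintype F] in
/-- The rank of a matrix does not change under a homomorphism of fields. -/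
theorem rank_map {K : Type*} [Field K] (f : F →+* K) (M : Matrix (Fin n) (Fin n) F) :
    (M.map f).rank = M.rank := by
  classical
  obtain ⟨V, U, e, hV, hU, hN⟩ := Matrix.exists_rank_normal_form M
  set w : Fin n → F := fun i => Sum.elim (fun _ => 1) (fun _ => 0) (e i)
  have hw : (Matrix.fromBlocks 1 0 0 0).submatrix e e = Matrix.diagonal w := by
    rw [← Matrix.diagonal_one, ← Matrix.diagonal_zero, Matrix.fromBlocks_diagonal,
      Matrix.submatrix_diagonal_equiv]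
    rfl
  rw [hw] at hN
  have h1 : M.rank = (Matrix.diagonal w).rank := by
    rw [← hN, Matrix.rank_mul_eq_left_of_isUnit_det U _ ((Matrix.isUnit_iff_isUnit_det _).1 hU),
      Matrix.rank_mul_eq_right_of_isUnit_det V _ ((Matrix.isUnit_iff_isUnit_det _).1 hV)]
  have hmap : ∀ W : Matrix (Fin n) (Fin n) F, IsUnit W → IsUnit (W.map f).det := fun W hW => by
    rw [← RingHom.mapMatrix_apply, ← RingHom.map_det]
    exact ((Matrix.isUnit_iff_isUnit_det _).1 hW).map f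
  have h2 : (M.map f).rank = (Matrix.diagonal fun i => f (w i)).rank := by
    have h := congrArg (fun A : Matrix (Fin n) (Fin n) F => A.map f) hN
    simp only [Matrix.map_mul, Matrix.diagonal_map (map_zero f)] at h
    rw [← h, Matrix.rank_mul_eq_left_of_isUnit_det (U.map f) _ (hmap U hU),
      Matrix.rank_mul_eq_right_of_isUnit_det (V.map f) _ (hmap V hV)]
  rw [h1, h2, Matrix.rank_diagonal, Matrix.rank_diagonal]
  exact Fintype.card_congr (Equiv.subtypeEquivRight fun i => map_ne_zero f)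

end Cfsg.Agent.Elusive.Subfld
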