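import Cfsg.Agent.Lib.Elusive.Arith

/-!
The two directions of the criterion for invariant `m`-subspaces, `r` not the characteristic.
-/

set_option autoImplicit false
set_option linter.style.haveILetI false

namespace Cfsg.Agent.Elusive

open Module

variable {F : Type*} [Field F] [Fintype F] {p : ℕ} [Fact p.Prime] [CharP F p] {r : ℕ} [Fact r.Prime]

/-- The power scalar, and either a rescaling of order `r` or no `r`-th root. -/
theorem scalar_cases {n : ℕ} (hn : 0 < n) (hrp : r ≠ p) (x : Matrix.SpecialLinearGroup (Fin n) F)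
    (hx : ∃ c : F, ((x ^ r : Matrix.SpecialLinearGroup (Fin n) F) : Matrix (Fin n) (Fin n) F) =
      c • (1 : Matrix (Fin n) (Fin n) F)) :
    (∃ (l : F) (B : Module.End F (Fin n → F)), l ≠ 0 ∧ B ^ r = 1 ∧
      Matrix.toLin' (x : Matrix (Fin n) (Fin n) F) = l • B) ∨
    (∃ c : F, (∀ b : F, b ^ r ≠ c) ∧
      (Matrix.toLin' (x : Matrix (Fin n) (Fin n) F) : Module.End F (Fin n → F)) ^ r = c • 1 ∧
      orderOf (Fintype.card F : ZMod r) = 1 ∧ r ∣ n ∧ ((-1) ^ (r - 1) * c) ^ (n / r) = 1) := by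
  obtain ⟨c, hc⟩ := hx
  have hA := toLin'_pow_eq x hc
  have hc0 := scalar_ne_zero hn x hc
  by_cases hpow : ∃ b : F, b ^ r = c
  · obtain ⟨b, hb⟩ := hpow
    have hb0 : b ≠ 0 := fun h => hc0 (by rw [← hb, h, zero_pow (Fact.out : r.Prime).ne_zero])
    refine Or.inl ⟨b, b⁻¹ • Matrix.toLin' (x : Matrix (Fin n) (Fin n) F), hb0, ?_,
      (smul_inv_smul₀ hb0 _).symm⟩
    rw [smul_pow, hA, smul_smul, inv_pow, hb, inv_mul_cancel₀ hc0, one_smul]
  · push Not at hpow
    have hdim : finrank F (Fin n → F) = n := by rw [finrank_pi, Fintype.card_fin]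
    have hrn := prime_dvd_finrank hA hpow (U := ⊤) le_top
    rw [finrank_top, hdim] at hrn
    refine Or.inr ⟨c, hpow, hA, ?_, hrn, ?_⟩
    · by_contra hi
      obtain ⟨b, hb⟩ := exists_pow_eq_of_orderOf_ne_one (r := r) hi c
      exact hpow b hb
    · have hd := det_of_nonpower (natCast_prime_ne_zero hrp) hA hpow
      rw [hdim, LinearMap.det_toLin', x.det_coe] at hd
      exact hd.symm

theorem map_smul_le {n : ℕ} {l : F} (B : Module.End F (Fin n → F)) {W : Submodule F (Fin n → F)}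
    (hW : W.map B ≤ W) : W.map (l • B) ≤ W := by
  rintro _ ⟨v, hv, rfl⟩
  exact W.smul_mem l (hW ⟨v, hv, rfl⟩)

/-- Sufficiency: an invariant `m`-space with an invariant complement. -/
theorem exists_fixed_compl {n m : ℕ} (hn : 0 < n) (hrp : r ≠ p) (hmn : m ≤ n)
    (hcond : (orderOf (Fintype.card F : ZMod r) = 1 ∧ (r ∣ m ∨
        (padicValNat r n ≤ padicValNat r (Fintype.card F - 1) ∧ (r = 2 → Even n → Fintype.card F % 4 = 1)))) ∨
      (2 ≤ orderOf (Fintype.card F : ZMod r) ∧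
        m % orderOf (Fintype.card F : ZMod r) ≤ n % orderOf (Fintype.card F : ZMod r)))
    (x : Matrix.SpecialLinearGroup (Fin n) F)
    (hx : ∃ c : F, ((x ^ r : Matrix.SpecialLinearGroup (Fin n) F) : Matrix (Fin n) (Fin n) F) =
      c • (1 : Matrix (Fin n) (Fin n) F)) :
    ∃ U W : Submodule F (Fin n → F), IsCompl U W ∧ finrank F U = m ∧
      U.map (Matrix.toLin' (x : Matrix (Fin n) (Fin n) F)) ≤ U ∧
      W.map (Matrix.toLin' (x : Matrix (Fin n) (Fin n) F)) ≤ W := by
  have hrF := natCast_prime_ne_zero (F := F) (p := p) hrp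
  have hdim : finrank F (Fin n → F) = n := by rw [finrank_pi, Fintype.card_fin]
  set i := orderOf (Fintype.card F : ZMod r)
  rcases scalar_cases hn hrp x hx with ⟨l, B, hl, hB, hxB⟩ | ⟨c, hc, hA, hi, hrn, hdet⟩
  · have hmod := finrank_mod_orderOf hB hrF (X := ⊤) le_top
    rw [finrank_top, hdim, top_inf_eq] at hmod
    have hk : m % i ≤ finrank F (fixedSpace B) := by
      rcases hcond with ⟨h1, -⟩ | ⟨-, h2⟩
      · rw [h1, Nat.mod_one]; exact Nat.zero_le _
      · exact h2.trans (hmod ▸ Nat.mod_le _ _)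
    obtain ⟨U, -, hUi, hUd, -⟩ := exists_invariant_dim hB hrF (card_cast_ne_zero hrp) (X := ⊤) le_top
      (m := m) (by rw [finrank_top, hdim]; exact hmn) (by rwa [top_inf_eq])
    obtain ⟨W, hW, hWi⟩ := exists_invariant_compl B hrF one_ne_zero (by rw [one_smul, hB]) hUi
    rw [hxB]
    exact ⟨U, W, hW, hUd, map_smul_le B hUi, map_smul_le B hWi⟩
  · rcases hcond with ⟨-, hrm | ⟨hle, h4⟩⟩ | ⟨h2, -⟩
    · obtain ⟨U, -, hUi, hUd⟩ := exists_invariant_dim_nonpower hrF hA hc (X := ⊤) le_top hrm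
        (by rw [finrank_top, hdim]; exact hmn)
      have hc0 : c ≠ 0 := fun h => hc 0 (by rw [h, zero_pow (Fact.out : r.Prime).ne_zero])
      obtain ⟨W, hW, hWi⟩ := exists_invariant_compl _ hrF hc0 hA hUi
      exact ⟨U, W, hW, hUd, hUi, hWi⟩
    · exact (no_nonpower_scalar hn.ne' hrn hc hdet hle h4).elim
    · exact absurd h2 (by simp only [i, hi]; omega)

/-- Necessity when `r ∣ q - 1`. -/
theorem cond_one_of_fixed {n m : ℕ} (hn : 0 < n) (hrp : r ≠ p)
    (hi : orderOf (Fintype.card F : ZMod r) = 1)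
    (h : ∀ x : Matrix.SpecialLinearGroup (Fin n) F,
      (∃ c : F, ((x ^ r : Matrix.SpecialLinearGroup (Fin n) F) : Matrix (Fin n) (Fin n) F) =
        c • (1 : Matrix (Fin n) (Fin n) F)) →
      (∀ c : F, (x : Matrix (Fin n) (Fin n) F) ≠ c • (1 : Matrix (Fin n) (Fin n) F)) →
      ∃ W : Submodule F (Fin n → F), finrank F W = m ∧
        W.map (Matrix.toLin' (x : Matrix (Fin n) (Fin n) F)) ≤ W) :
    r ∣ m ∨ (padicValNat r n ≤ padicValNat r (Fintype.card F - 1) ∧
      (r = 2 → Even n → Fintype.card F % 4 = 1)) := by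
  by_contra hneg
  rw [not_or] at hneg
  obtain ⟨hrm, hneg⟩ := hneg
  have hdvd : r ∣ Fintype.card F - 1 := orderOf_card_eq_one_iff.1 hi
  have hw : padicValNat r (Fintype.card F - 1) < padicValNat r n ∨
      (r = 2 ∧ Even n ∧ Fintype.card F % 4 ≠ 1) := by
    by_cases hle : padicValNat r n ≤ padicValNat r (Fintype.card F - 1)
    · refine Or.inr ?_
      by_contra h'
      exact hneg ⟨hle, fun h1 h2 => by_contra fun h3 => h' ⟨h1, h2, h3⟩⟩
    · exact Or.inl (not_le.1 hle)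
  obtain ⟨hrn, c, hc, hdet⟩ := exists_scalar_witness hn.ne' hdvd hw
  obtain ⟨x, hx⟩ := exists_nonpower_element hrp hrn hc hdet
  have hns : ∀ z : F, (x : Matrix (Fin n) (Fin n) F) ≠ z • (1 : Matrix (Fin n) (Fin n) F) := by
    intro z hz
    haveI : Nonempty (Fin n) := ⟨⟨0, hn⟩⟩
    rw [Matrix.SpecialLinearGroup.coe_pow, hz, smul_pow, one_pow] at hx
    have := congrFun (congrFun hx ⟨0, hn⟩) ⟨0, hn⟩
    simp at this
    exact hc z this
  obtain ⟨W, hWd, hWi⟩ := h x ⟨c, hx⟩ hns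
  exact hrm (hWd ▸ prime_dvd_finrank (toLin'_pow_eq x hx) hc hWi)

/-- Necessity: if every element of order `r` fixes an `m`-space, the criterion holds. -/
theorem cond_of_fixed {n m : ℕ} (hn : 0 < n) (hrp : r ≠ p)
    (hmod : n % orderOf (Fintype.card F : ZMod r) < m) (hin : orderOf (Fintype.card F : ZMod r) ≤ n)
    (h : ∀ x : Matrix.SpecialLinearGroup (Fin n) F,
      (∃ c : F, ((x ^ r : Matrix.SpecialLinearGroup (Fin n) F) : Matrix (Fin n) (Fin n) F) =
        c • (1 : Matrix (Fin n) (Fin n) F)) →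
      (∀ c : F, (x : Matrix (Fin n) (Fin n) F) ≠ c • (1 : Matrix (Fin n) (Fin n) F)) →
      ∃ W : Submodule F (Fin n → F), finrank F W = m ∧
        W.map (Matrix.toLin' (x : Matrix (Fin n) (Fin n) F)) ≤ W) :
    (orderOf (Fintype.card F : ZMod r) = 1 ∧ (r ∣ m ∨
        (padicValNat r n ≤ padicValNat r (Fintype.card F - 1) ∧ (r = 2 → Even n → Fintype.card F % 4 = 1)))) ∨
      (2 ≤ orderOf (Fintype.card F : ZMod r) ∧ orderOf (Fintype.card F : ZMod r) ≤ m ∧
        m % orderOf (Fintype.card F : ZMod r) ≤ n % orderOf (Fintype.card F : ZMod r)) := by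
  set i := orderOf (Fintype.card F : ZMod r) with hidef
  have hipos : 0 < i := orderOf_card_pos hrp
  by_cases hi : i = 1
  · exact Or.inl ⟨hi, cond_one_of_fixed hn hrp hi h⟩
  · have hi2 : 2 ≤ i := by omega
    obtain ⟨x, hx, hns, hfix⟩ := exists_small_fixed (F := F) (r := r) hrp hi2 hin
    obtain ⟨W, hWd, hWi⟩ := h x ⟨1, hx⟩ hns
    have hB : (Matrix.toLin' (x : Matrix (Fin n) (Fin n) F) : Module.End F (Fin n → F)) ^ r = 1 := by
      rw [toLin'_pow_eq x hx, one_smul]
    have hm := finrank_mod_orderOf hB (natCast_prime_ne_zero hrp) hWi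
    have hle : finrank F ↥(W ⊓ fixedSpace (Matrix.toLin' (x : Matrix (Fin n) (Fin n) F))) ≤ n % i :=
      hfix ▸ Submodule.finrank_mono inf_le_right
    have hlt : n % i < i := Nat.mod_lt _ hipos
    have hmi : m % i ≤ n % i := by
      rw [← hWd, hm]
      exact (Nat.mod_le _ _).trans hle
    refine Or.inr ⟨hi2, ?_, hmi⟩
    by_contra him
    rw [Nat.mod_eq_of_lt (not_le.1 him)] at hmi
    omega

end Cfsg.Agent.Elusive
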