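import Cfsg.Agent.Lib.Elusive.FormIsometry
import Cfsg.Agent.Lib.Forms.Models
import Cfsg.Prelude.Def_GeometricClasses

/-!
Orthogonal decompositions of a symplectic space into nondegenerate summands of equal dimension.
-/

set_option autoImplicit false
set_option linter.style.haveILetI false

namespace Cfsg.Agent.Elusive.SpDecomp

open Module FormIso

variable {F : Type*} [Field F]

/-- An orthogonal decomposition into nondegenerate summands of dimension `a`. -/
def IsND {d t : ℕ} (a : ℕ) (D : Fin t → Submodule F (Fin d ⊕ Fin d → F)) : Prop :=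
  Cfsg.Geo.IsMDecomposition a D ∧ (∀ j, ∀ u ∈ D j, u ≠ 0 → ∃ v ∈ D j, Cfsg.sympForm d F u v ≠ 0) ∧
    (∀ j j', j ≠ j' → ∀ u ∈ D j, ∀ v ∈ D j', Cfsg.sympForm d F u v = 0)

theorem sympForm_eq {d : ℕ} (u v : Fin d ⊕ Fin d → F) : Cfsg.sympForm d F u v = FormsLib.spB d F u v :=
  (FormsLib.spB_apply u v).symm

theorem ndOn_top {d : ℕ} : NdOn (FormsLib.spB d F) ⊤ := fun u _ h =>
  FormsLib.spB_nondeg.1 u fun v => h v trivial

/-- Orthogonal invariant nondegenerate summands, split off one at a time. -/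
theorem exists_blocks {V : Type*} [AddCommGroup V] [Module F V] [FiniteDimensional F V]
    {B : LinearMap.BilinForm F V} (hB : LinearMap.IsAlt B) {T : Module.End F V}
    (hiso : ∀ u v, B (T u) (T v) = B u v) {r : ℕ} (hr : r ≠ 0) (hT : T ^ r = 1) {a : ℕ} :
    ∀ (t : ℕ),
      (∀ (t' : ℕ) (X : Submodule F V), t' < t → NdOn B X → X.map T ≤ X → finrank F X = a * (t' + 1) →
        ∃ U : Submodule F V, U ≤ X ∧ U.map T ≤ U ∧ NdOn B U ∧ finrank F U = a) →
      ∀ X : Submodule F V, NdOn B X → X.map T ≤ X → finrank F X = a * t →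
      ∃ D : Fin t → Submodule F V, (∀ j, (D j).map T ≤ D j ∧ NdOn B (D j) ∧ finrank F (D j) = a) ∧
        (∀ j j', j ≠ j' → OrthTo B (D j) (D j')) ∧ (⨆ j, D j) = X := by
  intro t
  induction t with
  | zero =>
    intro _ X _ _ hX
    rw [mul_zero, Submodule.finrank_eq_zero] at hX
    exact ⟨fun j => j.elim0, fun j => j.elim0, fun j => j.elim0, by rw [hX]; exact iSup_of_empty _⟩
  | succ t ih =>
    intro hstep X hXn hXi hX
    obtain ⟨U, hUX, hUi, hUn, hUd⟩ := hstep t X (Nat.lt_succ_self t) hXn hXi hX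
    obtain ⟨W, hWX, hWi, hWn, ho, hsup, -, hd⟩ :=
      exists_compl (refl_of_alt hB) hiso hr hT hXn hXi hUn hUi hUX
    obtain ⟨D, hD1, hD2, hD3⟩ := ih (fun t' X' ht' => hstep t' X' (by omega)) W hWn hWi
      (by rw [hUd, hX, Nat.mul_succ] at hd; omega)
    have hDW : ∀ j, D j ≤ W := fun j => hD3 ▸ le_iSup D j
    refine ⟨Fin.cons U D, fun j => ?_, fun j j' hne => ?_, ?_⟩
    · induction j using Fin.cases with
      | zero => exact ⟨hUi, hUn, hUd⟩
      | succ j => exact hD1 j
    · induction j using Fin.cases with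
      | zero =>
        induction j' using Fin.cases with
        | zero => exact absurd rfl hne
        | succ j' => exact fun u hu v hv => ho u hu v (hDW j' hv)
      | succ j =>
        induction j' using Fin.cases with
        | zero => exact fun u hu v hv => ho.symm (refl_of_alt hB) u (hDW j hu) v hv
        | succ j' => exact hD2 j j' fun h => hne (by rw [h])
    · rw [← hsup, ← hD3]
      refine le_antisymm (iSup_le fun j => ?_) (sup_le (le_iSup_of_le 0 le_rfl) (iSup_le fun j => le_iSup_of_le j.succ le_rfl))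
      induction j using Fin.cases with
      | zero => exact le_sup_left
      | succ j => exact le_sup_of_le_right (le_iSup D j)

/-- Packaging the summands. -/
theorem isND_of {d t a : ℕ} (ht : 2 ≤ t) (ha : 0 < a) {D : Fin t → Submodule F (Fin d ⊕ Fin d → F)}
    (h1 : ∀ j, NdOn (FormsLib.spB d F) (D j) ∧ finrank F (D j) = a)
    (h2 : ∀ j j', j ≠ j' → OrthTo (FormsLib.spB d F) (D j) (D j')) (h3 : (⨆ j, D j) = ⊤) : IsND a D := by
  refine ⟨⟨ht, ha, fun j => (h1 j).2, fun i => ?_, h3⟩, fun j u hu hu0 => ?_,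
    fun i j hij u hu v hv => (sympForm_eq u v).trans (h2 i j hij u hu v hv)⟩
  · rw [Submodule.disjoint_def]
    intro v hv hv'
    refine (h1 i).1 v hv fun w hw => ?_
    have h6 : (⨆ (j) (_ : j ≠ i), D j) ≤ LinearMap.ker ((FormsLib.spB d F).flip w) :=
      iSup₂_le fun j hj y hy => h2 j i hj y hy w hw
    exact h6 hv'
  · by_contra h
    push Not at h
    exact hu0 ((h1 j).1 u hu fun v hv => (sympForm_eq u v).symm.trans (h v hv))

theorem ndOn_of_isND {d t a : ℕ} {D : Fin t → Submodule F (Fin d ⊕ Fin d → F)} (hD : IsND a D) (j : Fin t) :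
    NdOn (FormsLib.spB d F) (D j) := fun u hu h => by
  by_contra h0
  obtain ⟨v, hv, hne⟩ := hD.2.1 j u hu h0
  exact hne ((sympForm_eq u v).trans (h v hv))

/-- Some decomposition exists. -/
theorem exists_isND {d t a : ℕ} (hat : 2 * d = a * t) (ha : 0 < a) (hae : Even a) (ht : 2 ≤ t) :
    ∃ D : Fin t → Submodule F (Fin d ⊕ Fin d → F), IsND a D := by
  have hA : LinearMap.IsAlt (FormsLib.spB d F) := FormsLib.spB_alt
  have hdim : finrank F (Fin d ⊕ Fin d → F) = a * t := by simp [← hat, two_mul]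
  obtain ⟨D, h1, h2, h3⟩ := exists_blocks (T := 1) (a := a) hA (fun _ _ => rfl) one_ne_zero (one_pow 1) t
    (fun t' X _ hX _ hXd => by
      obtain ⟨b, rfl⟩ := even_iff_two_dvd.1 hae
      obtain ⟨U, hUX, hUi, hU, hUd⟩ := exists_multiple (T := (1 : Module.End F (Fin d ⊕ Fin d → F)))
        (refl_of_alt hA) (fun _ _ => rfl) one_ne_zero (one_pow 1) two_pos hX (Submodule.map_id X).le
        (fun W _ _ hW hne => by
          obtain ⟨S, hSW, hS, hSd⟩ := exists_plane hA hW hne
          exact ⟨S, hSW, (Submodule.map_id S).le, hS, hSd⟩) b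
        (by rw [hXd, mul_comm b 2]; exact Nat.le_mul_of_pos_right _ (Nat.succ_pos t'))
      exact ⟨U, hUX, hUi, hU, by rw [hUd, mul_comm]⟩)
    ⊤ ndOn_top le_top (by rw [finrank_top, hdim])
  exact ⟨D, isND_of ht ha (fun j => ⟨(h1 j).2.1, (h1 j).2.2⟩) h2 h3⟩

/-- The symplectic group is transitive on decompositions. -/
theorem exists_map {d t a : ℕ} (hae : Even a) {D D' : Fin t → Submodule F (Fin d ⊕ Fin d → F)}
    (hD : IsND a D) (hD' : IsND a D') :
    ∃ g : Matrix.symplecticGroup (Fin d) F,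
      ∀ j, (D j).map (Matrix.toLin' (g : Matrix (Fin d ⊕ Fin d) (Fin d ⊕ Fin d) F)) = D' j := by
  classical
  set B := FormsLib.spB d F
  obtain ⟨b, rfl⟩ := even_iff_two_dvd.1 hae
  have frame : ∀ {D : Fin t → Submodule F (Fin d ⊕ Fin d → F)}, IsND (2 * b) D → ∀ j,
      ∃ e : Basis (Fin b ⊕ Fin b) F (D j), ∀ i k, B (e i : Fin d ⊕ Fin d → F) (e k) =
        FormsLib.spB b F (Pi.single i 1) (Pi.single k 1) := by
    intro D hD j
    obtain ⟨e, he⟩ := FormModel.exists_symp_coords
      (B := B.compl₁₂ (D j).subtype (D j).subtype) (fun u => FormsLib.spB_alt (u : Fin d ⊕ Fin d → F))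
      (fun u hu => Subtype.ext (ndOn_of_isND hD j _ u.2 fun v hv => hu ⟨v, hv⟩)) (hD.1.finrank_eq j)
    exact ⟨(Pi.basisFun F _).map e, fun i k => by simpa using he (Pi.single i 1) (Pi.single k 1)⟩
  choose b0 hb0 using frame hD
  choose b1 hb1 using frame hD'
  have h0 := DirectSum.isInternal_submodule_of_iSupIndep_of_iSup_eq_top hD.1.indep hD.1.iSup_eq_top
  have h1 := DirectSum.isInternal_submodule_of_iSupIndep_of_iSup_eq_top hD'.1.indep hD'.1.iSup_eq_top
  let g := (h0.collectedBasis b0).equiv (h1.collectedBasis b1) (Equiv.refl _)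
  have hg : ∀ j i, g ((b0 j i : D j) : Fin d ⊕ Fin d → F) = ((b1 j i : D' j) : Fin d ⊕ Fin d → F) := by
    intro j i
    have := (h0.collectedBasis b0).equiv_apply ⟨j, i⟩ (h1.collectedBasis b1) (Equiv.refl _)
    simpa [g, DirectSum.IsInternal.collectedBasis_coe] using this
  have hiso : B.compl₁₂ g.toLinearMap g.toLinearMap = B := by
    refine (h0.collectedBasis b0).ext fun x => (h0.collectedBasis b0).ext fun y => ?_
    obtain ⟨j, i⟩ := x
    obtain ⟨k, l⟩ := y
    rw [LinearMap.compl₁₂_apply]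
    simp only [DirectSum.IsInternal.collectedBasis_coe, LinearEquiv.coe_coe, hg]
    by_cases hjk : j = k
    · subst hjk
      exact (hb1 j i l).trans (hb0 j i l).symm
    · rw [← sympForm_eq, hD'.2.2 j k hjk _ (b1 j i).2 _ (b1 k l).2,
        ← sympForm_eq, hD.2.2 j k hjk _ (b0 j i).2 _ (b0 k l).2]
  refine ⟨⟨LinearMap.toMatrix' g.toLinearMap, (FormsLib.mem_symplectic_iff _).2 fun u v => ?_⟩, fun j => ?_⟩
  · rw [LinearMap.toMatrix'_mulVec, LinearMap.toMatrix'_mulVec]
    exact LinearMap.congr_fun₂ hiso u v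
  · show (D j).map (Matrix.toLin' (LinearMap.toMatrix' g.toLinearMap)) = D' j
    rw [Matrix.toLin'_toMatrix']
    refine Submodule.eq_of_le_of_finrank_eq ?_ (by rw [g.finrank_map_eq, hD.1.finrank_eq, hD'.1.finrank_eq])
    have hspan : D j = Submodule.span F (Set.range fun i => ((b0 j i : D j) : Fin d ⊕ Fin d → F)) := by
      rw [show Set.range (fun i => ((b0 j i : D j) : Fin d ⊕ Fin d → F)) = (D j).subtype '' Set.range (b0 j) by
        rw [← Set.range_comp]; rfl, Submodule.span_image, (b0 j).span_eq, Submodule.map_top,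
        Submodule.range_subtype]
    rw [hspan, Submodule.map_span_le]
    rintro _ ⟨i, rfl⟩
    rw [LinearEquiv.coe_coe, hg]
    exact (b1 j i).2

/-- A prime dividing the number of unordered decompositions divides the order of the symplectic group. -/
theorem dvd_card_symplectic [Fintype F] {d t a r : ℕ} (hat : 2 * d = a * t) (ha : 0 < a) (hae : Even a) (ht : 2 ≤ t)
    (hΩ : r ∣ Nat.card {D : Fin t → Submodule F (Fin d ⊕ Fin d → F) // IsND a D} / Nat.factorial t) :
    r ∣ Nat.card (Matrix.symplecticGroup (Fin d) F) := by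
  classical
  set Ω := {D : Fin t → Submodule F (Fin d ⊕ Fin d → F) // IsND a D}
  letI : MulAction (Equiv.Perm (Fin t)) Ω :=
    { smul := fun σ D => ⟨fun j => D.1 (σ⁻¹ j),
        ⟨⟨ht, ha, fun i => D.2.1.finrank_eq _, D.2.1.indep.comp σ⁻¹.injective,
          by rw [← D.2.1.iSup_eq_top]; exact (σ⁻¹ : Equiv.Perm (Fin t)).iSup_comp (g := D.1)⟩,
          fun j => D.2.2.1 _, fun j j' h => D.2.2.2 _ _ (fun e => h (σ⁻¹.injective e))⟩⟩
      one_smul := fun D => Subtype.ext (funext fun j => by show D.1 ((1 : Equiv.Perm (Fin t))⁻¹ j) = _; simp)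
      mul_smul := fun σ τ D => Subtype.ext (funext fun j => by
        show D.1 ((σ * τ)⁻¹ j) = D.1 (τ⁻¹ (σ⁻¹ j))
        rw [mul_inv_rev, Equiv.Perm.mul_apply]) }
  have hfree : ∀ D : Ω, MulAction.stabilizer (Equiv.Perm (Fin t)) D = ⊥ := fun D => by
    rw [Subgroup.eq_bot_iff_forall]
    intro σ hσ
    refine Equiv.ext fun j => ?_
    by_contra hne
    have h1 := congrFun (congrArg Subtype.val hσ) (σ j)
    change D.1 (σ⁻¹ (σ j)) = D.1 (σ j) at h1
    rw [Equiv.Perm.inv_def, Equiv.symm_apply_apply] at h1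
    have h2 := D.2.1.indep.pairwiseDisjoint (show j ≠ σ j from fun e => hne e.symm)
    rw [Function.onFun, ← h1, disjoint_self] at h2
    have := D.2.1.finrank_eq j
    rw [h2, finrank_bot] at this
    omega
  haveI : Finite (Submodule F (Fin d ⊕ Fin d → F)) := Finite.of_injective _ SetLike.coe_injective
  haveI := Fintype.ofFinite Ω
  have hfac : Nat.factorial t ∣ Nat.card Ω := by
    rw [Nat.card_congr (MulAction.selfEquivSigmaOrbitsQuotientStabilizer (Equiv.Perm (Fin t)) Ω), Nat.card_sigma]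
    refine Finset.dvd_sum fun ω _ => ?_
    rw [← Subgroup.index_eq_card, hfree, Subgroup.index_bot, Nat.card_perm, Nat.card_eq_fintype_card,
      Fintype.card_fin]
  refine (hΩ.trans (Nat.div_dvd_of_dvd hfac)).trans ?_
  let E : Matrix.symplecticGroup (Fin d) F → ((Fin d ⊕ Fin d → F) ≃ₗ[F] (Fin d ⊕ Fin d → F)) :=
    fun g => (FormsLib.spEquiv d F g).1
  have hEiso : ∀ g u v, Cfsg.sympForm d F (E g u) (E g v) = Cfsg.sympForm d F u v := fun g u v => by
    rw [sympForm_eq, sympForm_eq]
    exact (FormsLib.mem_symplectic_iff _).1 g.2 u v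
  letI : MulAction (Matrix.symplecticGroup (Fin d) F) Ω :=
    { smul := fun g D => ⟨fun j => (D.1 j).map (E g).toLinearMap,
        ⟨⟨ht, ha, fun i => by rw [(E g).finrank_map_eq, D.2.1.finrank_eq],
          D.2.1.indep.map_orderIso (f := Submodule.orderIsoMapComap (E g)),
          by rw [← Submodule.map_iSup, D.2.1.iSup_eq_top, Submodule.map_top, LinearEquiv.range]⟩,
          fun j => by
            rintro _ ⟨u, hu, rfl⟩ hne
            obtain ⟨v, hv, h⟩ := D.2.2.1 j u hu fun e => hne (by rw [e, map_zero])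
            exact ⟨E g v, ⟨v, hv, rfl⟩, by rwa [LinearEquiv.coe_coe, hEiso]⟩,
          fun j j' h => by
            rintro _ ⟨u, hu, rfl⟩ _ ⟨v, hv, rfl⟩
            rw [LinearEquiv.coe_coe, hEiso, D.2.2.2 j j' h u hu v hv]⟩⟩
      one_smul := fun D => Subtype.ext (funext fun j => by
        show (D.1 j).map (E 1).toLinearMap = _
        rw [show (E 1).toLinearMap = LinearMap.id by simp [E]]
        exact Submodule.map_id _)
      mul_smul := fun g h D => Subtype.ext (funext fun j => by
        show (D.1 j).map (E (g * h)).toLinearMap = ((D.1 j).map (E h).toLinearMap).map (E g).toLinearMap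
        rw [← Submodule.map_comp]
        congr 1
        simp only [E, map_mul]
        rfl) }
  haveI : MulAction.IsPretransitive (Matrix.symplecticGroup (Fin d) F) Ω := ⟨fun D D' => by
    obtain ⟨g, hg⟩ := exists_map hae D.2 D'.2
    exact ⟨g, Subtype.ext (funext fun j => hg j)⟩⟩
  obtain ⟨D₀, hD₀⟩ := exists_isND (F := F) hat ha hae ht
  rw [← MulAction.index_stabilizer_of_transitive (Matrix.symplecticGroup (Fin d) F) (⟨D₀, hD₀⟩ : Ω)]
  exact Subgroup.index_dvd_card _

end Cfsg.Agent.Elusive.SpDecomp
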