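import Cfsg.Agent.Lib.Elusive.SymplecticUnipotent
import Cfsg.Agent.Lib.Elusive.SymplecticDecompositions
import Cfsg.Agent.Lib.FormTorus.Models
import Cfsg.Agent.Lib.FormTorus.SymplecticOrders

/-!
Jordan types of unipotent symplectic isometries and their nondegenerate invariant subspaces.
-/

set_option autoImplicit false
set_option linter.style.haveILetI false

namespace Cfsg.Agent.Elusive.SpUnip

open Module FormIso JordanOrth

/-- A Jordan type of a symplectic unipotent element of order at most `p`. -/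
def Valid (p : ℕ) (μ : Multiset ℕ) : Prop :=
  (∀ a ∈ μ, 1 ≤ a ∧ a ≤ p) ∧ ∀ a : ℕ, Odd a → Even (μ.count a)

theorem rk_add (μ ν : Multiset ℕ) (k : ℕ) : rk (μ + ν) k = rk μ k + rk ν k := by simp [rk]

theorem rk_replicate (j e k : ℕ) : rk (Multiset.replicate j e) k = j * (e - k) := by simp [rk]

theorem eq_of_rk {μ ν : Multiset ℕ} (hμ : ∀ a ∈ μ, 1 ≤ a) (hν : ∀ a ∈ ν, 1 ≤ a) (h : ∀ k, rk μ k = rk ν k) :
    μ = ν := by
  refine Multiset.ext.2 fun a => ?_
  rcases Nat.eq_zero_or_pos a with rfl | ha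
  · rw [Multiset.count_eq_zero.2 fun h0 => absurd (hμ 0 h0) (by omega),
      Multiset.count_eq_zero.2 fun h0 => absurd (hν 0 h0) (by omega)]
  · have h1 := count_eq_rk μ ha
    have h2 := count_eq_rk ν ha
    rw [h, h, h] at h1
    omega

theorem valid_replicate {p e j : ℕ} (h1 : 1 ≤ e) (hep : e ≤ p) (hj : j = 1 ↔ Even e) (hj2 : j = 1 ∨ j = 2) :
    Valid p (Multiset.replicate j e) := by
  refine ⟨fun a ha => by rw [Multiset.eq_of_mem_replicate ha]; exact ⟨h1, hep⟩, fun a ha => ?_⟩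
  rw [Multiset.count_replicate]
  split_ifs with h
  · rcases hj2 with rfl | rfl
    · exact absurd (h ▸ hj.1 rfl) (Nat.not_even_iff_odd.2 ha)
    · exact even_two
  · exact ⟨0, rfl⟩

theorem valid_add {p : ℕ} {μ ν : Multiset ℕ} (hμ : Valid p μ) (hν : Valid p ν) : Valid p (μ + ν) := by
  refine ⟨fun a ha => (Multiset.mem_add.1 ha).elim (hμ.1 a) (hν.1 a), fun a ha => ?_⟩
  rw [Multiset.count_add]
  exact (hμ.2 a ha).add (hν.2 a ha)

variable {F V : Type*} [Field F] [AddCommGroup V] [Module F V] [FiniteDimensional F V]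
  {B : LinearMap.BilinForm F V} {g : Module.End F V}

theorem pow_map_le {X : Submodule F V} (hX : X.map g ≤ X) (k : ℕ) : X.map ((g - 1) ^ k) ≤ X := by
  rintro _ ⟨v, hv, rfl⟩
  induction k with
  | zero => exact hv
  | succ k ih =>
    rw [pow_succ', Module.End.mul_apply]
    exact sub_mem (hX ⟨_, ih, rfl⟩) ih

theorem finrank_map_sup {S X' : Submodule F V} (hS : S.map g ≤ S) (hX' : X'.map g ≤ X') (hinf : S ⊓ X' = ⊥) (k : ℕ) :
    finrank F ((S ⊔ X').map ((g - 1) ^ k) : Submodule F V) =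
      finrank F (S.map ((g - 1) ^ k) : Submodule F V) + finrank F (X'.map ((g - 1) ^ k) : Submodule F V) := by
  have h := Submodule.finrank_sup_add_finrank_inf_eq (S.map ((g - 1) ^ k)) (X'.map ((g - 1) ^ k))
  have h2 : S.map ((g - 1) ^ k) ⊓ X'.map ((g - 1) ^ k) = ⊥ :=
    le_bot_iff.1 ((inf_le_inf (pow_map_le hS k) (pow_map_le hX' k)).trans hinf.le)
  rw [h2, finrank_bot, add_zero, ← Submodule.map_sup] at h
  exact h

variable {p : ℕ} {r : ℕ}

/-- The type of an invariant nondegenerate subspace, and subspaces realising every sub-type. -/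
theorem exists_type (h2 : (2 : F) ≠ 0) (hA : LinearMap.IsAlt B) (hiso : ∀ u v, B (g u) (g v) = B u v)
    (hr : r ≠ 0) (hg : g ^ r = 1) :
    ∀ X : Submodule F V, NdOn B X → X.map g ≤ X → (∀ u ∈ X, ((g - 1) ^ p) u = 0) →
      ∃ μ : Multiset ℕ, Valid p μ ∧ μ.sum = finrank F X ∧
        (∀ k, finrank F (X.map ((g - 1) ^ k) : Submodule F V) = rk μ k) ∧
        ∀ ν : Multiset ℕ, ν ≤ μ → Valid p ν →
          ∃ W : Submodule F V, W ≤ X ∧ W.map g ≤ W ∧ NdOn B W ∧ finrank F W = ν.sum := by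
  classical
  intro X
  induction hn : finrank F X using Nat.strong_induction_on generalizing X with
  | _ n ih =>
  intro hX hXg hp
  subst hn
  by_cases hne : X = ⊥
  · refine ⟨0, ⟨by simp, fun a _ => by simp⟩, by rw [hne, finrank_bot, Multiset.sum_zero], fun k => by rw [hne, Submodule.map_bot, finrank_bot]; simp [rk], fun ν hν _ => ?_⟩
    rw [Multiset.le_zero.1 hν]
    exact ⟨⊥, bot_le, by simp, ndOn_bot, by simp⟩
  obtain ⟨e, j, S, he1, hep, -, -, hj, hpar, hSX, hSg, hS, hSd, hSk⟩ :=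
    exists_piece (p := p) hA hiso hX hXg hne hp
  have hj2 : j = 1 ∨ j = 2 := hj.imp And.left And.left
  have hpar' := hpar h2
  have hje : 0 < j * e := Nat.mul_pos (by omega) he1
  obtain ⟨X', hX'X, hX'g, hX', ho, hsup, hinf, hd⟩ := exists_compl (refl_of_alt hA) hiso hr hg hX hXg hS hSg hSX
  obtain ⟨μ', hμ'v, hμ's, hμ'k, hμ'sub⟩ := ih (finrank F X') (by omega) X' rfl hX' hX'g fun u hu => hp u (hX'X hu)
  refine ⟨Multiset.replicate j e + μ', valid_add (valid_replicate he1 hep hpar' hj2) hμ'v, ?_, fun k => ?_,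
    fun ν hν hνv => ?_⟩
  · rw [Multiset.sum_add, Multiset.sum_replicate, smul_eq_mul, hμ's]
    omega
  · rw [← hsup, finrank_map_sup hSg hX'g hinf, hSk, hμ'k, rk_add, rk_replicate]
  · by_cases hle : ν ≤ μ'
    · obtain ⟨W, hW, h⟩ := hμ'sub ν hle hνv
      exact ⟨W, hW.trans hX'X, h⟩
    -- the piece is used
    rw [Multiset.le_iff_count] at hle hν
    push Not at hle
    obtain ⟨a, ha⟩ := hle
    have hν' := hν a
    rw [Multiset.count_add, Multiset.count_replicate] at hν'
    obtain rfl : e = a := by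
      by_contra h
      rw [if_neg h] at hν'
      omega
    rw [if_pos rfl] at hν'
    have hcount : j ≤ ν.count e := by
      rcases hj2 with rfl | rfl
      · omega
      · have hodd : Odd e := Nat.not_even_iff_odd.1 fun h => by have := hpar'.2 h; omega
        obtain ⟨u, hu⟩ := hνv.2 e hodd
        omega
    have hrep : Multiset.replicate j e ≤ ν := Multiset.le_count_iff_replicate_le.1 hcount
    obtain ⟨ν', rfl⟩ := Multiset.le_iff_exists_add.1 hrep
    have hν'v : Valid p ν' := by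
      refine ⟨fun b hb => hνv.1 b (Multiset.mem_add.2 (Or.inr hb)), fun b hb => ?_⟩
      have h1 := hνv.2 b hb
      rw [Multiset.count_add] at h1
      exact (Nat.even_add.1 h1).1 ((valid_replicate he1 hep hpar' hj2).2 b hb)
    have hν'le : ν' ≤ μ' := Multiset.le_iff_count.2 fun b => by
      have := hν b
      rw [Multiset.count_add, Multiset.count_add] at this
      omega
    obtain ⟨W, hWX, hWg, hW, hWd⟩ := hμ'sub ν' hν'le hν'v
    have hoW : OrthTo B S W := fun u hu v hv => ho u hu v (hWX hv)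
    refine ⟨S ⊔ W, sup_le hSX (hWX.trans hX'X), invariant_sup hSg hWg, ndOn_sup (refl_of_alt hA) hS hW hoW, ?_⟩
    have := Submodule.finrank_sup_add_finrank_inf_eq S W
    rw [le_bot_iff.1 ((inf_le_inf_left S hWX).trans hinf.le), finrank_bot] at this
    rw [Multiset.sum_add, Multiset.sum_replicate, smul_eq_mul]
    omega

/-- The type of an invariant nondegenerate subspace is a sub-type. -/
theorem exists_subtype (h2 : (2 : F) ≠ 0) (hA : LinearMap.IsAlt B) (hiso : ∀ u v, B (g u) (g v) = B u v)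
    (hr : r ≠ 0) (hg : g ^ r = 1) (hB : ∀ u, (∀ v, B u v = 0) → u = 0) (hp : (g - 1) ^ p = 0)
    {μ : Multiset ℕ} (hμ : ∀ a ∈ μ, 1 ≤ a)
    (hμk : ∀ k, finrank F ((⊤ : Submodule F V).map ((g - 1) ^ k) : Submodule F V) = rk μ k)
    {W : Submodule F V} (hW : NdOn B W) (hWg : W.map g ≤ W) :
    ∃ ν : Multiset ℕ, ν ≤ μ ∧ ν.sum = finrank F W ∧ ∀ a : ℕ, Odd a → Even (ν.count a) := by
  have htop : NdOn B ⊤ := fun u _ h => hB u fun v => h v trivial
  obtain ⟨W', -, hW'g, hW', -, hsup, hinf, -⟩ := exists_compl (refl_of_alt hA) hiso hr hg htop le_top hW hWg le_top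
  obtain ⟨ν, hνv, hνs, hνk, -⟩ := exists_type (p := p) h2 hA hiso hr hg W hW hWg fun u _ => by simp [hp]
  obtain ⟨ν', hν'v, -, hν'k, -⟩ := exists_type (p := p) h2 hA hiso hr hg W' hW' hW'g fun u _ => by simp [hp]
  have h : ν + ν' = μ := eq_of_rk (fun a ha => ((valid_add hνv hν'v).1 a ha).1) hμ fun k => by
    rw [rk_add, ← hνk, ← hν'k, ← finrank_map_sup hWg hW'g hinf, hsup, hμk]
  exact ⟨ν, h ▸ Multiset.le_add_right ν ν', hνs, hνv.2⟩

/-- Invariant nondegenerate subspaces for involutions in characteristic two. -/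
theorem exists_two (hA : LinearMap.IsAlt B) (hiso : ∀ u v, B (g u) (g v) = B u v) (hr : r ≠ 0) (hg : g ^ r = 1) :
    ∀ X : Submodule F V, NdOn B X → X.map g ≤ X → (∀ u ∈ X, ((g - 1) ^ (2 : ℕ)) u = 0) →
      (finrank F X % 2 = 0) ∧
      (∀ m : ℕ, Even m → m ≤ finrank F X → (m % 4 = 0 ∨ finrank F X % 4 = 2) →
        ∃ W : Submodule F V, W ≤ X ∧ W.map g ≤ W ∧ NdOn B W ∧ finrank F W = m) ∧
      ((∀ u ∈ X, B u ((g - 1) u) = 0) → (∀ u ∈ X, (g - 1) u = 0 → ∃ w, (g - 1) w = u) → finrank F X % 4 = 0) := by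
  classical
  intro X
  induction hn : finrank F X using Nat.strong_induction_on generalizing X with
  | _ n ih =>
  intro hX hXg hp
  subst hn
  by_cases hne : X = ⊥
  · rw [hne, finrank_bot]
    exact ⟨rfl, fun m _ hm _ => ⟨⊥, le_rfl, by simp, ndOn_bot, by simp; omega⟩, fun _ _ => rfl⟩
  obtain ⟨e, j, S, he1, hep, hkill, -, hj, -, hSX, hSg, hS, hSd, -⟩ := exists_piece (p := 2) hA hiso hX hXg hne hp
  have hcases : (e = 1 ∧ j = 2) ∨ (e = 2 ∧ (j = 1 ∨ j = 2)) := by
    rcases (show e = 1 ∨ e = 2 by omega) with rfl | rfl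
    · refine Or.inl ⟨rfl, hj.elim (fun h => ?_) And.left⟩
      obtain ⟨u, -, hu⟩ := h.2
      exact absurd (by simpa using hA u) hu
    · exact Or.inr ⟨rfl, hj.imp And.left And.left⟩
  have hS24 : finrank F S = 2 ∨ finrank F S = 4 := by
    rcases hcases with ⟨rfl, rfl⟩ | ⟨rfl, rfl | rfl⟩ <;> omega
  obtain ⟨X', hX'X, hX'g, hX', ho, hsup, hinf, hd⟩ := exists_compl (refl_of_alt hA) hiso hr hg hX hXg hS hSg hSX
  obtain ⟨hev', hsub', hfour'⟩ := ih (finrank F X') (by omega) X' rfl hX' hX'g fun u hu => hp u (hX'X hu)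
  refine ⟨by omega, fun m hm hmX hm4 => ?_, fun hq hker => ?_⟩
  · rcases hm with ⟨m, rfl⟩
    have withS : finrank F S ≤ m + m → m + m - finrank F S ≤ finrank F X' →
        ((m + m - finrank F S) % 4 = 0 ∨ finrank F X' % 4 = 2) →
        ∃ W : Submodule F V, W ≤ X ∧ W.map g ≤ W ∧ NdOn B W ∧ finrank F W = m + m := by
      intro h1 h2 h3
      obtain ⟨W, hWX, hWg, hW, hWd⟩ := hsub' _ (Nat.even_iff.2 (by omega)) h2 h3
      have hoW : OrthTo B S W := fun u hu v hv => ho u hu v (hWX hv)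
      refine ⟨S ⊔ W, sup_le hSX (hWX.trans hX'X), invariant_sup hSg hWg, ndOn_sup (refl_of_alt hA) hS hW hoW, ?_⟩
      have := Submodule.finrank_sup_add_finrank_inf_eq S W
      rw [le_bot_iff.1 ((inf_le_inf_left S hWX).trans hinf.le), finrank_bot] at this
      omega
    have withoutS : m + m ≤ finrank F X' → ((m + m) % 4 = 0 ∨ finrank F X' % 4 = 2) →
        ∃ W : Submodule F V, W ≤ X ∧ W.map g ≤ W ∧ NdOn B W ∧ finrank F W = m + m := by
      intro h1 h2
      obtain ⟨W, hWX, h⟩ := hsub' _ ⟨m, rfl⟩ h1 h2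
      exact ⟨W, hWX.trans hX'X, h⟩
    by_cases hall : m + m = finrank F X
    · exact ⟨X, le_rfl, hXg, hX, hall.symm⟩
    rcases hS24 with h | h
    · by_cases h4 : (m + m) % 4 = 0
      · exact withoutS (by omega) (Or.inl h4)
      · exact withS (by omega) (by omega) (Or.inl (by omega))
    · by_cases h4 : (m + m) % 4 = 0
      · by_cases h0 : m + m = 0
        · exact ⟨⊥, bot_le, by simp, ndOn_bot, by simp; omega⟩
        · exact withS (by omega) (by omega) (Or.inl (by omega))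
      · by_cases h4' : m + m < 4
        · refine withoutS ?_ (Or.inr ?_) <;> (clear withS withoutS hsub'; omega)
        · refine withS ?_ ?_ (Or.inr ?_) <;> (clear withS withoutS hsub'; omega)
  · rcases hcases with ⟨rfl, -⟩ | ⟨rfl, h⟩
    · exfalso
      obtain ⟨u, hu, hu0⟩ := Submodule.exists_mem_ne_zero_of_ne_bot hne
      refine hu0 (hX u hu fun v hv => ?_)
      have h1 : ∀ x ∈ X, (g - 1) x = 0 := fun x hx => by simpa using hkill x hx
      obtain ⟨w, rfl⟩ := hker u hu (h1 u hu)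
      rw [adjoint_step hiso, h1 v hv]
      simp
    · have hj2 : j = 2 := hj.elim (fun h' => by
        obtain ⟨u, hu, hu'⟩ := h'.2
        exact absurd (by simpa using hq u hu) hu') And.left
      have := hfour' (fun u hu => hq u (hX'X hu)) fun u hu => hker u (hX'X hu)
      rw [hj2] at hSd
      omega

end Cfsg.Agent.Elusive.SpUnip
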