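import Cfsg.Agent.Lib.Elusive.SymplecticDecompositions
import Cfsg.Agent.Lib.Elusive.Linear
import Cfsg.Agent.Lib.Forms.SpOrder

/-!
The number of nondegenerate subspaces of a symplectic space.
-/

set_option autoImplicit false
set_option linter.style.haveILetI false

namespace Cfsg.Agent.Elusive.SpSub

open Module FormIso

variable {F : Type*} [Field F] [Fintype F]

omit [Fintype F] in
/-- The isometry group of an alternating form has the order of the symplectic group. -/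
theorem card_isoSub {V : Type*} [AddCommGroup V] [Module F V] [FiniteDimensional F V]
    {B : LinearMap.BilinForm F V} (hA : LinearMap.IsAlt B) (hB : ∀ u, (∀ v, B u v = 0) → u = 0) {m : ℕ}
    (hdim : finrank F V = 2 * m) :
    Nat.card (FormModel.isoSub B) = Nat.card (Matrix.symplecticGroup (Fin m) F) := by
  obtain ⟨e⟩ := FormModel.exists_symp_equiv hA hB hdim
  exact Nat.card_congr e.toEquiv

/-- The orbit of a nondegenerate subspace. -/
theorem card_mul {d h : ℕ} (hh : h ≤ d) :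
    Nat.card {W : Submodule F (Fin d ⊕ Fin d → F) // finrank F ↥W = 2 * h ∧
        (∀ u ∈ W, u ≠ 0 → ∃ v ∈ W, Cfsg.sympForm d F u v ≠ 0)} *
      (Nat.card (Matrix.symplecticGroup (Fin h) F) * Nat.card (Matrix.symplecticGroup (Fin (d - h)) F)) =
      Nat.card (Matrix.symplecticGroup (Fin d) F) := by
  classical
  set V := Fin d ⊕ Fin d → F
  set B := FormsLib.spB d F
  have hA : LinearMap.IsAlt B := FormsLib.spB_alt
  set Ω := {W : Submodule F V // finrank F ↥W = 2 * h ∧ (∀ u ∈ W, u ≠ 0 → ∃ v ∈ W, Cfsg.sympForm d F u v ≠ 0)}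
  have hdim : finrank F V = 2 * d := by simp [V, two_mul]
  have hnd : ∀ W : Ω, NdOn B W.1 := fun W u hu h0 => by
    by_contra hne
    obtain ⟨v, hv, hv'⟩ := W.2.2 u hu hne
    exact hv' ((SpDecomp.sympForm_eq u v).trans (h0 v hv))
  letI : MulAction (FormModel.isoSub B) Ω :=
    { smul := fun g W => ⟨W.1.map g.1.toLinearMap, by rw [g.1.finrank_map_eq, W.2.1], by
        rintro _ ⟨u, hu, rfl⟩ hne
        obtain ⟨v, hv, hv'⟩ := W.2.2 u hu fun e => hne (by rw [e, map_zero])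
        refine ⟨g.1 v, ⟨v, hv, rfl⟩, ?_⟩
        rw [LinearEquiv.coe_coe, SpDecomp.sympForm_eq, g.2 u v, ← SpDecomp.sympForm_eq]
        exact hv'⟩
      one_smul := fun W => Subtype.ext (Submodule.map_id _)
      mul_smul := fun g g' W => Subtype.ext (Submodule.map_comp _ _ _) }
  have hsmul : ∀ (g : FormModel.isoSub B) (W : Ω), (g • W).1 = W.1.map g.1.toLinearMap := fun _ _ => rfl
  -- transitivity through adapted coordinates
  have hperp : ∀ W : Ω, NdOn B (FormModel.perp B W.1) ∧ finrank F ↥(FormModel.perp B W.1) = 2 * (d - h) := by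
    intro W
    have hc := FormModel.isCompl_perp (refl_of_alt hA) (hnd W)
    refine ⟨fun u hu hall => FormsLib.spB_nondeg.1 u fun v => ?_, ?_⟩
    · obtain ⟨a, ha, b, hb, rfl⟩ := Submodule.mem_sup.1 (hc.sup_eq_top ▸ Submodule.mem_top : v ∈ W.1 ⊔ FormModel.perp B W.1)
      rw [map_add, refl_of_alt hA a u (hu a ha), hall b hb, add_zero]
    · have := Submodule.finrank_add_eq_of_isCompl hc
      rw [W.2.1, hdim] at this
      rw [Nat.mul_sub]
      exact Nat.eq_sub_of_add_eq' this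
  have hcoords : ∀ W : Ω, ∃ Φ : ((Fin h ⊕ Fin h → F) × (Fin (d - h) ⊕ Fin (d - h) → F)) ≃ₗ[F] V,
      (∀ u v, B (Φ u) (Φ v) = FormsLib.spB h F u.1 v.1 + FormsLib.spB (d - h) F u.2 v.2) ∧
      (LinearMap.range (LinearMap.inl F (Fin h ⊕ Fin h → F) (Fin (d - h) ⊕ Fin (d - h) → F))).map
        Φ.toLinearMap = W.1 := by
    intro W
    have hc := FormModel.isCompl_perp (refl_of_alt hA) (hnd W)
    obtain ⟨e₁, he₁⟩ := FormModel.exists_symp_coords (B := B.compl₁₂ W.1.subtype W.1.subtype)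
      (fun u => hA (u : V)) (fun u hu => Subtype.ext (hnd W _ u.2 fun v hv => hu ⟨v, hv⟩)) W.2.1
    obtain ⟨e₂, he₂⟩ := FormModel.exists_symp_coords
      (B := B.compl₁₂ (FormModel.perp B W.1).subtype (FormModel.perp B W.1).subtype)
      (fun u => hA (u : V)) (fun u hu => Subtype.ext ((hperp W).1 _ u.2 fun v hv => hu ⟨v, hv⟩)) (hperp W).2
    let Φ := (e₁.prodCongr e₂).trans (Submodule.prodEquivOfIsCompl _ _ hc)
    have hΦ : ∀ u, Φ u = (e₁ u.1 : V) + (e₂ u.2 : V) := fun u => Submodule.coe_prodEquivOfIsCompl' _ _ hc _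
    refine ⟨Φ, fun u v => ?_, ?_⟩
    · have h1 : B (e₁ u.1 : V) (e₂ v.2 : V) = 0 := (e₂ v.2).2 _ (e₁ u.1).2
      have h2 : B (e₂ u.2 : V) (e₁ v.1 : V) = 0 := refl_of_alt hA _ _ ((e₂ u.2).2 _ (e₁ v.1).2)
      rw [hΦ, hΦ, map_add, map_add, LinearMap.add_apply, LinearMap.add_apply, h1, h2, add_zero, zero_add,
        ← he₁, ← he₂]
      rfl
    · ext v
      constructor
      · rintro ⟨_, ⟨a, rfl⟩, rfl⟩
        rw [LinearEquiv.coe_coe, hΦ]
        simp
      · intro hv
        refine ⟨_, ⟨e₁.symm ⟨v, hv⟩, rfl⟩, ?_⟩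
        rw [LinearEquiv.coe_coe, hΦ]
        simp
  haveI : MulAction.IsPretransitive (FormModel.isoSub B) Ω := ⟨fun W W' => by
    obtain ⟨Φ, hΦ, hW⟩ := hcoords W
    obtain ⟨Ψ, hΨ, hW'⟩ := hcoords W'
    refine ⟨⟨Φ.symm.trans Ψ, fun u v => ?_⟩, Subtype.ext ?_⟩
    · rw [LinearEquiv.trans_apply, LinearEquiv.trans_apply, hΨ, ← hΦ, Φ.apply_symm_apply, Φ.apply_symm_apply]
    · rw [hsmul, ← hW, ← hW', ← Submodule.map_comp]
      congr 1
      exact LinearMap.ext fun u => by simp⟩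
  obtain ⟨W₀⟩ : Nonempty Ω := by
    obtain ⟨U, -, -, hU, hUd⟩ := exists_multiple (T := (1 : Module.End F V)) (refl_of_alt hA) (fun _ _ => rfl)
      one_ne_zero (one_pow 1) two_pos SpDecomp.ndOn_top le_top
      (fun W _ _ hW hne => by
        obtain ⟨S, hSW, hS, hSd⟩ := exists_plane hA hW hne
        exact ⟨S, hSW, (Submodule.map_id S).le, hS, hSd⟩) h
      (by rw [finrank_top, hdim]; omega)
    refine ⟨⟨U, by rw [hUd, mul_comm], fun u hu hne => ?_⟩⟩
    by_contra hall
    push Not at hall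
    exact hne (hU u hu fun v hv => (SpDecomp.sympForm_eq u v).symm.trans (hall v hv))
  have key := Subgroup.index_mul_card (MulAction.stabilizer (FormModel.isoSub B) W₀)
  rw [MulAction.index_stabilizer_of_transitive] at key
  have hstab : Nat.card (MulAction.stabilizer (FormModel.isoSub B) W₀) =
      Nat.card ↥(FormModel.stabSub W₀.1 ⊓ FormModel.isoSub B) := by
    refine Nat.card_congr
      { toFun := fun g => ⟨g.1.1, fun v => ?_, g.1.2⟩
        invFun := fun g => ⟨⟨g.1, g.2.2⟩, Subtype.ext ?_⟩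
        left_inv := fun g => rfl
        right_inv := fun g => rfl }
    · have h1 : W₀.1.map g.1.1.toLinearMap = W₀.1 := congrArg Subtype.val g.2
      constructor
      · intro hv
        rw [← h1]
        exact ⟨v, hv, rfl⟩
      · intro hv
        rw [← h1] at hv
        obtain ⟨w, hw, hwv⟩ := hv
        exact g.1.1.injective hwv ▸ hw
    · rw [hsmul]
      exact le_antisymm (Submodule.map_le_iff_le_comap.2 fun v hv => (g.2.1 v).1 hv)
        fun v hv => ⟨g.1.symm v, (g.2.1 _).2 (by rwa [g.1.apply_symm_apply]), g.1.apply_symm_apply v⟩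
  obtain ⟨e⟩ := FormModel.exists_stab_prod (refl_of_alt hA) (hnd W₀)
  rw [hstab, Nat.card_congr e.toEquiv, Nat.card_prod,
    card_isoSub (B := FormModel.restr B W₀.1) (fun u => hA (u : V))
      (fun u hu => Subtype.ext (hnd W₀ _ u.2 fun v hv => hu ⟨v, hv⟩)) W₀.2.1,
    card_isoSub (B := FormModel.restr B (FormModel.perp B W₀.1)) (fun u => hA (u : V))
      (fun u hu => Subtype.ext ((hperp W₀).1 _ u.2 fun v hv => hu ⟨v, hv⟩)) (hperp W₀).2,
    card_isoSub hA (fun u hu => FormsLib.spB_nondeg.1 u hu) hdim] at key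
  exact key

variable {p : ℕ} [Fact p.Prime] [CharP F p] {r : ℕ} [Fact r.Prime]

/-- If `r` divides the number of nondegenerate `2h`-spaces, some multiple of `c` exceeds `n - 2h`. -/
theorem mod_lt_of_dvd (hrp : r ≠ p) {c : ℕ}
    (hc : c = if Even (orderOf (Fintype.card F : ZMod r)) then orderOf (Fintype.card F : ZMod r)
      else 2 * orderOf (Fintype.card F : ZMod r)) {d h : ℕ} (hh : h ≤ d)
    (hΩ : r ∣ Nat.card {W : Submodule F (Fin d ⊕ Fin d → F) // finrank F ↥W = 2 * h ∧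
      (∀ u ∈ W, u ≠ 0 → ∃ v ∈ W, Cfsg.sympForm d F u v ≠ 0)}) :
    (2 * d) % c < 2 * h ∧ c ≤ 2 * d := by
  have hrpr := (Fact.out : r.Prime)
  have hmul := card_mul (F := F) hh
  set q := Fintype.card F
  set N := Nat.card {W : Submodule F (Fin d ⊕ Fin d → F) // finrank F ↥W = 2 * h ∧
      (∀ u ∈ W, u ≠ 0 → ∃ v ∈ W, Cfsg.sympForm d F u v ≠ 0)}
  rw [FormsLib.card_symplecticGroup, FormsLib.card_symplecticGroup, FormsLib.card_symplecticGroup] at hmul
  obtain ⟨s, rfl⟩ : ∃ s, d = s + h := ⟨d - h, by omega⟩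
  rw [Nat.add_sub_cancel, Finset.prod_range_add] at hmul
  set P := ∏ i ∈ Finset.range s, (q ^ (2 * (i + 1)) - 1)
  set Q := ∏ i ∈ Finset.range h, (q ^ (2 * (s + i + 1)) - 1)
  have hPpos : 0 < P := Finset.prod_pos fun i _ => Nat.sub_pos_of_lt (Nat.one_lt_pow (by omega) Fintype.one_lt_card)
  set R := ∏ i ∈ Finset.range h, (q ^ (2 * (i + 1)) - 1)
  have h1 : N * (q ^ (h ^ 2) * R * q ^ (s ^ 2)) = q ^ ((s + h) ^ 2) * Q := by
    apply Nat.eq_of_mul_eq_mul_right hPpos
    linear_combination hmul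
  have hq : ¬ r ∣ q := fun h' =>
    card_cast_ne_zero (F := F) (p := p) hrp ((ZMod.natCast_eq_zero_iff _ _).2 h')
  have h2 : r ∣ q ^ ((s + h) ^ 2) * Q := h1 ▸ hΩ.mul_right _
  obtain ⟨i, hi, hri⟩ := (hrpr.prime.dvd_finsetProd_iff _).1
    ((hrpr.dvd_mul.1 h2).resolve_left fun h' => hq (hrpr.dvd_of_dvd_pow h'))
  have hi' : i < h := Finset.mem_range.1 hi
  have h3 : (q : ZMod r) ^ (2 * (s + i + 1)) = 1 := by
    rw [← sub_eq_zero, ← Nat.cast_pow, ← Nat.cast_one (R := ZMod r),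
      ← Nat.cast_sub (Nat.one_le_pow _ _ Fintype.card_pos), ZMod.natCast_eq_zero_iff]
    exact hri
  have h4 := orderOf_dvd_of_pow_eq_one h3
  have h5 : c ∣ 2 * (s + i + 1) := by
    rw [hc]
    split_ifs with hev
    · exact h4
    · exact Nat.mul_dvd_mul_left 2
        (((Nat.prime_two.coprime_iff_not_dvd.2 fun h' => hev (even_iff_two_dvd.2 h')).symm).dvd_of_dvd_mul_left h4)
  obtain ⟨l, hl⟩ := h5
  refine ⟨?_, (Nat.le_of_dvd (by omega) ⟨l, hl⟩).trans (by omega)⟩
  rw [show 2 * (s + h) = 2 * (h - (i + 1)) + c * l by omega, Nat.add_mul_mod_self_left]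
  exact (Nat.mod_le _ _).trans_lt (by omega)

end Cfsg.Agent.Elusive.SpSub
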