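import Cfsg.Agent.Lib.Elusive.InvolutionType
import Cfsg.Agent.Lib.Elusive.Linear
import Cfsg.Agent.Lib.Forms.Models
import Cfsg.Agent.Lib.TransvMax.SympSim

/-!
Involutions and similitude groups of symplectic forms.
-/

set_option autoImplicit false
set_option linter.style.haveILetI false

namespace Cfsg.Agent.Elusive

open Module
open scoped Matrix

variable {F : Type*} [Field F]

/-- A basis in pairs, each pair invariant, all pair determinants equal to `d`. -/
def IsPaired {V : Type*} [AddCommGroup V] [Module F V] (A : Module.End F V) (d : F) : Prop :=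
  ∃ (h : ℕ) (c : Basis (Fin h ⊕ Fin h) F V) (α β γ δ : Fin h → F),
    (∀ j, A (c (Sum.inl j)) = α j • c (Sum.inl j) + β j • c (Sum.inr j)) ∧
    (∀ j, A (c (Sum.inr j)) = γ j • c (Sum.inl j) + δ j • c (Sum.inr j)) ∧
    ∀ j, α j * δ j - β j * γ j = d

/-- Paired bases from a monomial basis whose blocks have equal determinants. -/
theorem isPaired_of_monomial {V : Type*} [AddCommGroup V] [Module F V] {ι : Type} [Fintype ι]
    (A : Module.End F V) (b : Basis ι F V) (π : ι → ι) (μ : ι → F) (hπ : Function.Involutive π)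
    (hb : ∀ i, A (b i) = μ i • b (π i)) (hev : Even (Fintype.card ι)) {d : F}
    (hmove : ∀ i, π i ≠ i → -(μ i * μ (π i)) = d) (hfix : ∀ i j, π i = i → π j = j → μ i * μ j = d) :
    IsPaired A d := by
  classical
  obtain ⟨σ⟩ : Nonempty (ι ≃ Fin (Fintype.card ι)) := ⟨Fintype.equivFin ι⟩
  let P : ι → Prop := fun i => σ i < σ (π i)
  let Q : ι → Prop := fun i => π i = i
  have htri : ∀ i, P i ∧ ¬ Q i ∧ ¬ P (π i) ∨ ¬ P i ∧ ¬ Q i ∧ P (π i) ∨ ¬ P i ∧ Q i := by
    intro i
    by_cases hQ : Q i
    · exact Or.inr (Or.inr ⟨fun h => by simp only [P, show π i = i from hQ] at h; exact lt_irrefl _ h, hQ⟩)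
    · rcases lt_trichotomy (σ i) (σ (π i)) with h | h | h
      · exact Or.inl ⟨h, hQ, fun h' => by simp only [P, hπ i] at h'; exact lt_asymm h h'⟩
      · exact absurd (σ.injective h).symm hQ
      · exact Or.inr (Or.inl ⟨fun h' => lt_asymm h h', hQ, by simpa only [P, hπ i] using h⟩)
  let R := {i // P i}
  let Fx := {i // Q i}
  let g : (R ⊕ R) ⊕ Fx → ι := Sum.elim (Sum.elim Subtype.val fun i => π i.1) Subtype.val
  have hg : Function.Bijective g := by
    refine ⟨?_, fun i => ?_⟩
    · rintro ((⟨i, hi⟩ | ⟨i, hi⟩) | ⟨i, hi⟩) ((⟨j, hj⟩ | ⟨j, hj⟩) | ⟨j, hj⟩) h <;>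
        simp only [g, Sum.elim_inl, Sum.elim_inr] at h
      · subst h; rfl
      · subst h
        rcases htri j with ⟨-, -, h'⟩ | ⟨h', -⟩ | ⟨h', -⟩
        exacts [absurd hi h', absurd hj h', absurd hj h']
      · subst h
        rcases htri i with ⟨-, h', -⟩ | ⟨h', -⟩ | ⟨h', -⟩
        exacts [absurd hj h', absurd hi h', absurd hi h']
      · subst h
        rcases htri i with ⟨-, -, h'⟩ | ⟨h', -⟩ | ⟨h', -⟩
        exacts [absurd hj h', absurd hi h', absurd hi h']
      · obtain rfl := hπ.injective h; rfl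
      · exfalso
        have hQi : Q i := by
          show π i = i
          have : π j = j := hj
          rw [← h] at this
          rw [hπ] at this
          exact this.symm
        rcases htri i with ⟨-, h', -⟩ | ⟨h', -⟩ | ⟨h', -⟩
        exacts [absurd hQi h', absurd hi h', absurd hi h']
      · subst h
        rcases htri i with ⟨-, h', -⟩ | ⟨h', -⟩ | ⟨h', -⟩
        exacts [absurd hi h', absurd hj h', absurd hj h']
      · exfalso
        have hQj : Q j := by
          show π j = j
          have : π i = i := hi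
          rw [h, hπ] at this
          exact this.symm
        rcases htri j with ⟨-, h', -⟩ | ⟨h', -⟩ | ⟨h', -⟩
        exacts [absurd hQj h', absurd hj h', absurd hj h']
      · subst h; rfl
    · rcases htri i with ⟨h, -⟩ | ⟨-, -, h⟩ | ⟨-, h⟩
      · exact ⟨Sum.inl (Sum.inl ⟨i, h⟩), rfl⟩
      · exact ⟨Sum.inl (Sum.inr ⟨π i, h⟩), hπ i⟩
      · exact ⟨Sum.inr ⟨i, h⟩, rfl⟩
  obtain ⟨k, hk⟩ := hev
  have hcard := Fintype.card_congr (Equiv.ofBijective g hg)
  rw [Fintype.card_sum, Fintype.card_sum] at hcard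
  obtain ⟨κ⟩ : Nonempty (Fx ≃ Fin (Fintype.card Fx / 2) ⊕ Fin (Fintype.card Fx / 2)) :=
    ⟨Fintype.equivOfCardEq (by rw [Fintype.card_sum, Fintype.card_fin]; omega)⟩
  let ρ : R ≃ Fin (Fintype.card R) := Fintype.equivFin R
  let τ : Fin (Fintype.card R + Fintype.card Fx / 2) ≃ R ⊕ Fin (Fintype.card Fx / 2) :=
    finSumFinEquiv.symm.trans (Equiv.sumCongr ρ.symm (Equiv.refl _))
  let L : Fin (Fintype.card R + Fintype.card Fx / 2) → ι := fun j =>
    Sum.elim (fun r => g (Sum.inl (Sum.inl r))) (fun s => g (Sum.inr (κ.symm (Sum.inl s)))) (τ j)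
  let Rr : Fin (Fintype.card R + Fintype.card Fx / 2) → ι := fun j =>
    Sum.elim (fun r => g (Sum.inl (Sum.inr r))) (fun s => g (Sum.inr (κ.symm (Sum.inr s)))) (τ j)
  have hbij : Function.Bijective (Sum.elim L Rr) := by
    refine ⟨?_, fun i => ?_⟩
    · rintro (j | j) (j' | j') h <;> simp only [Sum.elim_inl, Sum.elim_inr, L, Rr] at h <;>
        rcases hj : τ j with r | r <;> rcases hj' : τ j' with r' | r' <;> rw [hj, hj'] at h <;>
        simp only [Sum.elim_inl, Sum.elim_inr] at h <;> have h' := hg.1 h <;>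
        simp at h' <;> (try subst h') <;>
        exact congrArg _ (τ.injective (hj.trans hj'.symm))
    · obtain ⟨((r | r) | s), rfl⟩ := hg.2 i
      · exact ⟨Sum.inl (τ.symm (Sum.inl r)), by simp [L]⟩
      · exact ⟨Sum.inr (τ.symm (Sum.inl r)), by simp [Rr]⟩
      · rcases hs : κ s with u | u
        · exact ⟨Sum.inl (τ.symm (Sum.inr u)), by simp [L, ← hs]⟩
        · exact ⟨Sum.inr (τ.symm (Sum.inr u)), by simp [Rr, ← hs]⟩
  let e := (Equiv.ofBijective _ hbij).symm
  refine ⟨_, b.reindex e,
    fun j => Sum.elim (fun _ => 0) (fun _ => μ (L j)) (τ j),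
    fun j => Sum.elim (fun _ => μ (L j)) (fun _ => 0) (τ j),
    fun j => Sum.elim (fun _ => μ (Rr j)) (fun _ => 0) (τ j),
    fun j => Sum.elim (fun _ => 0) (fun _ => μ (Rr j)) (τ j), ?_, ?_, ?_⟩
  · intro j
    rw [Basis.reindex_apply, Basis.reindex_apply, show e.symm (Sum.inl j) = L j from rfl,
      show e.symm (Sum.inr j) = Rr j from rfl, hb]
    rcases hj : τ j with r | r
    · simp [L, Rr, hj, g]
    · have : π (L j) = L j := by
        simp only [L, hj, g, Sum.elim_inr]; exact (κ.symm (Sum.inl r)).2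
      simp [this, hj]
  · intro j
    rw [Basis.reindex_apply, Basis.reindex_apply, show e.symm (Sum.inl j) = L j from rfl,
      show e.symm (Sum.inr j) = Rr j from rfl, hb]
    rcases hj : τ j with r | r
    · simp [L, Rr, hj, g, hπ r.1]
    · have : π (Rr j) = Rr j := by
        simp only [Rr, hj, g, Sum.elim_inr]; exact (κ.symm (Sum.inr r)).2
      simp [this, hj]
  · intro j
    rcases hj : τ j with r | r
    · have h1 : π (L j) = Rr j := by simp [L, Rr, hj, g]
      have h2 : π (L j) ≠ L j := by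
        simp only [L, hj, g, Sum.elim_inl]
        intro e
        rcases htri r.1 with ⟨-, h', -⟩ | ⟨h', -⟩ | ⟨h', -⟩
        exacts [h' e, h' r.2, h' r.2]
      have := hmove (L j) h2
      rw [h1] at this
      simp only [hj, Sum.elim_inl]
      linear_combination this
    · have h1 : π (L j) = L j := by simp only [L, hj, g, Sum.elim_inr]; exact (κ.symm (Sum.inl r)).2
      have h2 : π (Rr j) = Rr j := by simp only [Rr, hj, g, Sum.elim_inr]; exact (κ.symm (Sum.inr r)).2
      simp only [hj, Sum.elim_inr]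
      linear_combination hfix _ _ h1 h2

variable [Fintype F] {n : ℕ} {f : (Fin n → F) → (Fin n → F) → F}

omit [Fintype F] in
/-- A paired map is conjugate in `SL` to a similitude of any symplectic form. -/
theorem exists_conj_similitude (hn : 0 < n) (hf : Cfsg.Geo.IsSymplecticForm f)
    (x : Matrix.SpecialLinearGroup (Fin n) F) {d : F} (hd : d ≠ 0)
    (hp : IsPaired (Matrix.toLin' (x : Matrix (Fin n) (Fin n) F)) d) :
    ∃ P : Matrix.SpecialLinearGroup (Fin n) F, P⁻¹ * x * P ∈ (Cfsg.Geo.similarityGroup f).comap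
      (Matrix.SpecialLinearGroup.toGL : Matrix.SpecialLinearGroup (Fin n) F →* GL (Fin n) F) := by
  classical
  obtain ⟨h, c₀, α, β, γ, δ, hA1, hA2, hdet⟩ := hp
  set A : Module.End F (Fin n → F) := Matrix.toLin' (x : Matrix (Fin n) (Fin n) F)
  have hdim : finrank F (Fin n → F) = 2 * h := by
    rw [Module.finrank_eq_card_basis c₀, Fintype.card_sum, Fintype.card_fin]; omega
  have hh : 0 < h := by
    rw [finrank_pi, Fintype.card_fin] at hdim
    omega
  set B := TransvMax.toBil hf
  obtain ⟨e, he⟩ := FormModel.exists_symp_coords (TransvMax.toBil_alt hf)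
    (fun u hu => (TransvMax.toBil_nondeg hf).1 u hu) hdim
  let E : Basis (Fin h ⊕ Fin h) F (Fin n → F) := (Pi.basisFun F _).map e
  set D := LinearMap.det ((E.equiv c₀ (Equiv.refl _) : (Fin n → F) ≃ₗ[F] (Fin n → F)) :
    (Fin n → F) →ₗ[F] (Fin n → F))
  have hD : D ≠ 0 := (LinearEquiv.isUnit_det' _).ne_zero
  let w : Fin h → F := fun j => if j = ⟨0, hh⟩ then D⁻¹ else 1
  have hw : ∀ j, w j ≠ 0 := fun j => by
    simp only [w]; split_ifs
    exacts [inv_ne_zero hD, one_ne_zero]
  let s : Fin h ⊕ Fin h → F := Sum.elim w fun _ => 1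
  let R : Module.End F (Fin n → F) := E.constr F fun k => s k • c₀ k
  have hR : ∀ k, R (E k) = s k • c₀ k := fun k => E.constr_basis F _ k
  have hRdet : LinearMap.det R = 1 := by
    let Dg : Module.End F (Fin n → F) := c₀.constr F fun k => s k • c₀ k
    have hDg : ∀ k, Dg (c₀ k) = s k • c₀ k := fun k => c₀.constr_basis F _ k
    have : R = Dg ∘ₗ ((E.equiv c₀ (Equiv.refl _) : (Fin n → F) ≃ₗ[F] (Fin n → F)) :
        (Fin n → F) →ₗ[F] (Fin n → F)) := E.ext fun k => by simp [hR, hDg]
    rw [this, LinearMap.det_comp, det_monomial c₀ Dg 1 s (by simpa using hDg), Equiv.Perm.sign_one]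
    have hs : ∏ k, s k = D⁻¹ := by simp [s, w, Fintype.prod_sum_type]
    rw [hs, Units.val_one, Int.cast_one, one_mul]
    exact inv_mul_cancel₀ hD
  let P : Matrix.SpecialLinearGroup (Fin n) F := ⟨LinearMap.toMatrix' R, by rw [LinearMap.det_toMatrix', hRdet]⟩
  refine ⟨P, ?_⟩
  set y := P⁻¹ * x * P with hy
  set G : Module.End F (Fin n → F) := Matrix.toLin' (y : Matrix (Fin n) (Fin n) F)
  have hPR : ∀ v, (P : Matrix (Fin n) (Fin n) F) *ᵥ v = R v := fun v => LinearMap.toMatrix'_mulVec R v
  have hRG : ∀ v, R (G v) = A (R v) := fun v => by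
    rw [← hPR, ← hPR, Matrix.toLin'_apply, Matrix.toLin'_apply, Matrix.mulVec_mulVec, Matrix.mulVec_mulVec,
      ← Matrix.SpecialLinearGroup.coe_mul, ← Matrix.SpecialLinearGroup.coe_mul,
      show P * y = x * P by rw [hy]; group]
  have hRinj : Function.Injective R := by
    intro u v huv
    rw [← hPR, ← hPR] at huv
    have := congrArg (fun z => (P⁻¹ : Matrix.SpecialLinearGroup (Fin n) F).1 *ᵥ z) huv
    simp only [Matrix.mulVec_mulVec] at this
    rwa [← Matrix.SpecialLinearGroup.coe_mul, inv_mul_cancel, Matrix.SpecialLinearGroup.coe_one,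
      Matrix.one_mulVec, Matrix.one_mulVec] at this
  have hG1 : ∀ j, G (E (Sum.inl j)) = α j • E (Sum.inl j) + (w j * β j) • E (Sum.inr j) := fun j => hRinj (by
    rw [hRG, hR, map_add, map_smul, map_smul, map_smul, hR, hR]
    show w j • A (c₀ (Sum.inl j)) = _
    rw [hA1]
    simp only [s, Sum.elim_inl, Sum.elim_inr]
    module)
  have hG2 : ∀ j, G (E (Sum.inr j)) = (γ j / w j) • E (Sum.inl j) + δ j • E (Sum.inr j) := fun j => hRinj (by
    rw [hRG, hR, map_add, map_smul, map_smul, map_smul, hR, hR]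
    show (1 : F) • A (c₀ (Sum.inr j)) = _
    rw [hA2, one_smul]
    simp only [s, Sum.elim_inl, Sum.elim_inr, smul_smul, div_mul_cancel₀ _ (hw j), one_smul])
  have hEB : ∀ k l, B (E k) (E l) = FormsLib.spB h F (Pi.single k 1) (Pi.single l 1) := fun k l => by
    rw [← he]; simp [E, B]
  have hll : ∀ i j, B (E (Sum.inl i)) (E (Sum.inl j)) = 0 := fun i j => by
    rw [hEB, FormsLib.spB_expand]; simp
  have hrr : ∀ i j, B (E (Sum.inr i)) (E (Sum.inr j)) = 0 := fun i j => by
    rw [hEB, FormsLib.spB_expand]; simp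
  have hlr : ∀ i j, B (E (Sum.inl i)) (E (Sum.inr j)) = if i = j then -1 else 0 := fun i j => by
    rw [hEB, FormsLib.spB_expand]
    by_cases e : i = j
    · subst e; simp [Pi.single_apply]
    · simp [Pi.single_apply, e, Ne.symm e]
  have hrl : ∀ i j, B (E (Sum.inr i)) (E (Sum.inl j)) = if i = j then 1 else 0 := fun i j => by
    rw [hEB, FormsLib.spB_expand]
    by_cases e : i = j
    · subst e; simp [Pi.single_apply]
    · simp [Pi.single_apply, e, Ne.symm e]
  have hsim : ∀ u v, B (G u) (G v) = d * B u v := by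
    have : (B.compl₁₂ G G : LinearMap.BilinForm F (Fin n → F)) = d • B := by
      refine LinearMap.BilinForm.ext_basis E fun k l => ?_
      show B (G (E k)) (G (E l)) = d * B (E k) (E l)
      rcases k with k | k <;> rcases l with l | l <;>
        simp only [hG1, hG2, map_add, map_smul, LinearMap.add_apply, LinearMap.smul_apply, hll, hrr, hlr,
          hrl, smul_eq_mul] <;>
        by_cases hkl : k = l
      all_goals first
        | (subst hkl; simp only [if_true]; field_simp [hw k]; first
            | ring1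
            | linear_combination hdet k
            | linear_combination -(hdet k)
            | linear_combination w k * hdet k
            | linear_combination -(w k) * hdet k)
        | (simp only [if_neg hkl]; ring)
    exact fun u v => LinearMap.congr_fun₂ this u v
  rw [Subgroup.mem_comap]
  exact ⟨Units.mk0 d hd, fun u v => hsim u v⟩

end Cfsg.Agent.Elusive
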