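import Cfsg.Agent.Lib.Elusive.FormIsometry
import Cfsg.Agent.Lib.TransvMax.JordanSplit

/-!
Orthogonal decompositions of unipotent symplectic isometries.
-/

set_option autoImplicit false
set_option linter.style.haveILetI false

namespace Cfsg.Agent.Elusive.SpUnip

open Module FormIso

variable {F V : Type*} [Field F] [AddCommGroup V] [Module F V]
  {B : LinearMap.BilinForm F V} {g : Module.End F V}

/-- Moving the nilpotent part across the form. -/
theorem adjoint_step (hiso : ∀ u v, B (g u) (g v) = B u v) (a w : V) :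
    B ((g - 1) a) w = -B a ((g - 1) w) - B ((g - 1) a) ((g - 1) w) := by
  simp only [LinearMap.sub_apply, Module.End.one_apply, map_sub, hiso]
  ring

/-- The chains pair in a triangular way. -/
theorem pair_zero (hiso : ∀ u v, B (g u) (g v) = B u v) {e : ℕ} {v : V} (hv : ((g - 1) ^ e) v = 0) :
    ∀ (j : ℕ) (u : V) (l : ℕ), e ≤ j + l → B (((g - 1) ^ j) u) (((g - 1) ^ l) v) = 0 := by
  have hbig : ∀ l, e ≤ l → ((g - 1) ^ l) v = 0 := fun l hl => by
    rw [← Nat.sub_add_cancel hl, pow_add, Module.End.mul_apply, hv, map_zero]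
  intro j
  induction j with
  | zero => intro u l hl; rw [hbig l (by omega), map_zero]
  | succ j ih =>
    intro u l hl
    induction hn : e - l using Nat.strong_induction_on generalizing l with
    | _ n ihl =>
      by_cases hel : e ≤ l
      · rw [hbig l hel, map_zero]
      rw [pow_succ' _ j, Module.End.mul_apply, adjoint_step hiso, ← Module.End.mul_apply (g - 1) ((g - 1) ^ l),
        ← pow_succ', ← Module.End.mul_apply (g - 1) ((g - 1) ^ j), ← pow_succ', ih u (l + 1) (by omega),
        ihl (e - (l + 1)) (by omega) (l + 1) (by omega) rfl]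
      ring

/-- The antidiagonal pairing of the chains. -/
theorem pair_top (hiso : ∀ u v, B (g u) (g v) = B u v) {e : ℕ} {v : V} (hv : ((g - 1) ^ e) v = 0) (u : V) :
    ∀ j l : ℕ, j + l + 1 = e →
      B (((g - 1) ^ j) u) (((g - 1) ^ l) v) = (-1) ^ j * B u (((g - 1) ^ (e - 1)) v) := by
  intro j
  induction j with
  | zero => intro l hl; rw [show l = e - 1 by omega, pow_zero, pow_zero, one_mul, Module.End.one_apply]
  | succ j ih =>
    intro l hl
    rw [pow_succ' _ j, Module.End.mul_apply, adjoint_step hiso, ← Module.End.mul_apply (g - 1) ((g - 1) ^ l),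
      ← pow_succ', ← Module.End.mul_apply (g - 1) ((g - 1) ^ j), ← pow_succ', ih (l + 1) (by omega),
      pair_zero hiso hv (j + 1) u (l + 1) (by omega), pow_succ (-1 : F)]
    ring

/-- The symmetry of the top pairing. -/
theorem top_symm (hA : LinearMap.IsAlt B) (hiso : ∀ u v, B (g u) (g v) = B u v) {e : ℕ} (he : 1 ≤ e) {u v : V}
    (hu : ((g - 1) ^ e) v = 0) :
    B v (((g - 1) ^ (e - 1)) u) = (-1) ^ e * B u (((g - 1) ^ (e - 1)) v) := by
  have := pair_top hiso hu u (e - 1) 0 (by omega)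
  rw [pow_zero, Module.End.one_apply] at this
  rw [← hA.neg, this]
  conv_rhs => rw [← Nat.sub_add_cancel he, pow_succ, Nat.add_sub_cancel]
  ring

/-- Some chains spanning a nondegenerate invariant subspace. -/
theorem exists_span (hA : LinearMap.IsAlt B) (hiso : ∀ u v, B (g u) (g v) = B u v) {e j : ℕ}
    (x : Fin j → V) {X : Submodule F V} (hXg : X.map g ≤ X) (hx : ∀ i, x i ∈ X)
    (hxe : ∀ i, ((g - 1) ^ e) (x i) = 0)
    (hgram : ∀ c : Fin j → F, (∀ i, ∑ l, c l * B (x i) (((g - 1) ^ (e - 1)) (x l)) = 0) → c = 0) :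
    ∃ S : Submodule F V, S ≤ X ∧ S.map g ≤ S ∧ NdOn B S ∧ finrank F S = j * e ∧
      ∀ k, finrank F (S.map ((g - 1) ^ k) : Submodule F V) = j * (e - k) := by
  classical
  set N := g - 1 with hN
  let w : Fin j × Fin e → V := fun q => (N ^ (q.2 : ℕ)) (x q.1)
  set S := Submodule.span F (Set.range w)
  have hmemX : ∀ l, ∀ v ∈ X, (N ^ l) v ∈ X := by
    intro l
    induction l with
    | zero => intro v hv; exact hv
    | succ l ih =>
      intro v hv
      rw [pow_succ', Module.End.mul_apply]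
      exact sub_mem (hXg ⟨_, ih v hv, rfl⟩) (ih v hv)
  have hmemS : ∀ (i : Fin j) (l : ℕ), (N ^ l) (x i) ∈ S := by
    intro i l
    rcases Nat.lt_or_ge l e with hl | hl
    · exact Submodule.subset_span ⟨(i, ⟨l, hl⟩), rfl⟩
    · rw [← Nat.sub_add_cancel hl, pow_add, Module.End.mul_apply, hxe, map_zero]
      exact zero_mem S
  have key : ∀ c : Fin j × Fin e → F, (∀ q, B (w q) (∑ q', c q' • w q') = 0) → c = 0 := by
    intro c hc
    suffices h : ∀ (k : ℕ) (hk : k < e) (i : Fin j), c (i, ⟨k, hk⟩) = 0 from funext fun q => h q.2 q.2.2 q.1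
    intro k
    induction k using Nat.strong_induction_on with
    | _ k ih =>
      intro hk
      refine congrFun (hgram (fun i => c (i, ⟨k, hk⟩)) fun i => ?_)
      have h1 := hc (i, ⟨e - 1 - k, by omega⟩)
      rw [map_sum, Fintype.sum_prod_type] at h1
      have h2 : ∀ l : Fin j, ∑ k' : Fin e, B (w (i, ⟨e - 1 - k, by omega⟩)) (c (l, k') • w (l, k')) =
          (-1) ^ (e - 1 - k) * (c (l, ⟨k, hk⟩) * B (x i) ((N ^ (e - 1)) (x l))) := by
        intro l
        rw [Finset.sum_eq_single ⟨k, hk⟩ ?_ (by simp)]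
        · rw [map_smul, smul_eq_mul, pair_top hiso (hxe l) (x i) (e - 1 - k) k (by omega)]
          ring
        · intro k' _ hk'
          rw [map_smul, smul_eq_mul]
          rcases Nat.lt_or_gt_of_ne (fun h => hk' (Fin.ext h) : (k' : ℕ) ≠ k) with h | h
          · rw [ih _ h k'.2 l, zero_mul]
          · rw [pair_zero hiso (hxe l) (e - 1 - k) (x i) k' (by omega), mul_zero]
      rw [Finset.sum_congr rfl fun l _ => h2 l, ← Finset.mul_sum] at h1
      exact (mul_eq_zero.1 h1).resolve_left (pow_ne_zero _ (neg_ne_zero.2 one_ne_zero))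
  have hli : LinearIndependent F w := Fintype.linearIndependent_iff.2 fun c hc q =>
    congrFun (key c fun q' => by rw [hc, map_zero]) q
  refine ⟨S, Submodule.span_le.2 ?_, ?_, ?_, ?_, fun k => ?_⟩
  · rintro _ ⟨q, rfl⟩
    exact hmemX _ _ (hx _)
  · rw [Submodule.map_span_le]
    rintro _ ⟨q, rfl⟩
    have : g (w q) = (N ^ ((q.2 : ℕ) + 1)) (x q.1) + w q := by
      rw [pow_succ', Module.End.mul_apply, hN, LinearMap.sub_apply, Module.End.one_apply]
      exact (sub_add_cancel _ _).symm
    rw [this]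
    exact add_mem (hmemS _ _) (Submodule.subset_span ⟨q, rfl⟩)
  · intro u hu hall
    obtain ⟨c, rfl⟩ := (Submodule.mem_span_range_iff_exists_fun F).1 hu
    have h0 := key c fun q => refl_of_alt hA _ _ (hall _ (Submodule.subset_span ⟨q, rfl⟩))
    exact Finset.sum_eq_zero fun q _ => by rw [congrFun h0 q, Pi.zero_apply, zero_smul]
  · rw [finrank_span_eq_card hli, Fintype.card_prod, Fintype.card_fin, Fintype.card_fin]
  · let sub : Fin j × Fin (e - k) → Fin j × Fin e := fun q => (q.1, ⟨k + q.2, by have := q.2.2; omega⟩)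
    have hsub : Function.Injective sub := fun a b h => by
      simp only [sub, Prod.mk.injEq, Fin.mk.injEq] at h
      exact Prod.ext h.1 (Fin.ext (by omega))
    have hmap : S.map (N ^ k) = Submodule.span F (Set.range (w ∘ sub)) := by
      refine le_antisymm ?_ (Submodule.span_le.2 ?_)
      · rw [Submodule.map_span_le]
        rintro _ ⟨q, rfl⟩
        show (N ^ k) ((N ^ (q.2 : ℕ)) (x q.1)) ∈ _
        rw [← Module.End.mul_apply, ← pow_add]
        rcases Nat.lt_or_ge (k + q.2) e with hl | hl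
        · exact Submodule.subset_span ⟨(q.1, ⟨q.2, by omega⟩), rfl⟩
        · rw [← Nat.sub_add_cancel hl, pow_add, Module.End.mul_apply, hxe, map_zero]
          exact zero_mem _
      · rintro _ ⟨q, rfl⟩
        refine ⟨(N ^ (q.2 : ℕ)) (x q.1), hmemS _ _, ?_⟩
        show (N ^ k) ((N ^ (q.2 : ℕ)) (x q.1)) = (N ^ (k + (q.2 : ℕ))) (x q.1)
        rw [← Module.End.mul_apply, ← pow_add]
    rw [hmap, finrank_span_eq_card (hli.comp sub hsub), Fintype.card_prod, Fintype.card_fin, Fintype.card_fin]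

/-- The first piece to split off. -/
theorem exists_piece (hA : LinearMap.IsAlt B) (hiso : ∀ u v, B (g u) (g v) = B u v) {p : ℕ}
    {X : Submodule F V} (hX : NdOn B X) (hXg : X.map g ≤ X) (hne : X ≠ ⊥)
    (hp : ∀ u ∈ X, ((g - 1) ^ p) u = 0) :
    ∃ (e j : ℕ) (S : Submodule F V), 1 ≤ e ∧ e ≤ p ∧ (∀ u ∈ X, ((g - 1) ^ e) u = 0) ∧
      (∃ u ∈ X, ((g - 1) ^ (e - 1)) u ≠ 0) ∧
      ((j = 1 ∧ ∃ u ∈ X, B u (((g - 1) ^ (e - 1)) u) ≠ 0) ∨
        (j = 2 ∧ ∀ u ∈ X, B u (((g - 1) ^ (e - 1)) u) = 0)) ∧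
      ((2 : F) ≠ 0 → (j = 1 ↔ Even e)) ∧
      S ≤ X ∧ S.map g ≤ S ∧ NdOn B S ∧ finrank F S = j * e ∧
      ∀ k, finrank F (S.map ((g - 1) ^ k) : Submodule F V) = j * (e - k) := by
  classical
  set N := g - 1 with hN
  have hex : ∃ e, ∀ u ∈ X, (N ^ e) u = 0 := ⟨p, hp⟩
  set e := Nat.find hex
  have he : ∀ u ∈ X, (N ^ e) u = 0 := Nat.find_spec hex
  have hep : e ≤ p := Nat.find_min' hex hp
  have he1 : 1 ≤ e := by
    by_contra h
    obtain ⟨v, hv, hv0⟩ := Submodule.exists_mem_ne_zero_of_ne_bot hne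
    have := he v hv
    rw [show e = 0 by omega, pow_zero, Module.End.one_apply] at this
    exact hv0 this
  obtain ⟨u, hu, hu1⟩ : ∃ u ∈ X, (N ^ (e - 1)) u ≠ 0 := by
    have := Nat.find_min hex (show e - 1 < e by omega)
    push Not at this
    exact this
  by_cases hsingle : ∃ u ∈ X, B u ((N ^ (e - 1)) u) ≠ 0
  · obtain ⟨x, hx, hxx⟩ := hsingle
    obtain ⟨S, h1, h2, h3, h4, h5⟩ := exists_span hA hiso (fun _ : Fin 1 => x) hXg (fun _ => hx) (fun _ => he x hx)
      fun c hc => funext fun i => by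
        have := hc i
        rw [Fin.sum_univ_one] at this
        rw [Subsingleton.elim i 0]
        exact (mul_eq_zero.1 this).resolve_right hxx
    refine ⟨e, 1, S, he1, hep, he, ⟨u, hu, hu1⟩, Or.inl ⟨rfl, x, hx, hxx⟩, fun h2' => iff_of_true rfl ?_, h1, h2, h3,
      h4, h5⟩
    by_contra hodd
    have h6 := top_symm hA hiso he1 (u := x) (he x hx)
    rw [(Nat.not_even_iff_odd.1 hodd).neg_one_pow, neg_one_mul, eq_neg_iff_add_eq_zero, ← two_mul] at h6
    exact hxx ((mul_eq_zero.1 h6).resolve_left h2')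
  · push Not at hsingle
    obtain ⟨v, hv, hvu⟩ : ∃ v ∈ X, B v ((N ^ (e - 1)) u) ≠ 0 := by
      by_contra h
      push Not at h
      refine hu1 (hX _ ?_ fun y hy => refl_of_alt hA _ _ (h y hy))
      have : ∀ l, (N ^ l) u ∈ X := by
        intro l
        induction l with
        | zero => exact hu
        | succ l ih => rw [pow_succ', Module.End.mul_apply]; exact sub_mem (hXg ⟨_, ih, rfl⟩) ih
      exact this _
    have huv : B u ((N ^ (e - 1)) v) ≠ 0 := by
      intro h
      refine hvu ?_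
      rw [top_symm hA hiso he1 (he v hv), h, mul_zero]
    obtain ⟨S, h1, h2, h3, h4, h5⟩ := exists_span hA hiso ![u, v] hXg
      (fun i => by fin_cases i <;> assumption) (fun i => by fin_cases i <;> exact he _ (by assumption))
      fun c hc => by
        have e0 := hc 0
        have e1 := hc 1
        simp only [← hN, Fin.sum_univ_two, Matrix.cons_val_zero, Matrix.cons_val_one, hsingle u hu, hsingle v hv,
          mul_zero, zero_add, add_zero, mul_eq_zero, huv, hvu, or_false] at e0 e1
        funext i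
        fin_cases i <;> assumption
    refine ⟨e, 2, S, he1, hep, he, ⟨u, hu, hu1⟩, Or.inr ⟨rfl, hsingle⟩, fun h2' => iff_of_false (by omega) ?_, h1, h2,
      h3, h4, h5⟩
    intro hev
    have h6 := hsingle (u + v) (add_mem hu hv)
    have h7 := top_symm hA hiso he1 (u := u) (he v hv)
    rw [hev.neg_one_pow, one_mul] at h7
    simp only [map_add, LinearMap.add_apply] at h6
    rw [hsingle u hu, hsingle v hv, zero_add, add_zero, h7, ← two_mul] at h6
    exact huv ((mul_eq_zero.1 h6).resolve_left h2')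

end Cfsg.Agent.Elusive.SpUnip
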