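import Cfsg.Agent.Lib.Elusive.SymplecticJordan
import Cfsg.Agent.Lib.Forms.Models

/-!
Symplectic unipotent elements with prescribed Jordan types.
-/

set_option autoImplicit false
set_option linter.style.haveILetI false

namespace Cfsg.Agent.Elusive.SpUnip

open Module FormIso JordanOrth Polynomial

variable {F : Type*} [Field F]

/-- A standard symplectic isometry of the given Jordan type. -/
def HasModel (F : Type*) [Field F] (p : ℕ) (μ : Multiset ℕ) : Prop :=
  ∃ (d : ℕ) (g : Module.End F (Fin d ⊕ Fin d → F)), 2 * d = μ.sum ∧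
    (∀ u v, FormsLib.spB d F (g u) (g v) = FormsLib.spB d F u v) ∧ (g - 1) ^ p = 0 ∧
    ∀ k, finrank F ↥(LinearMap.range ((g - 1) ^ k)) = rk μ k

theorem pow_char_eq_one {p : ℕ} [Fact p.Prime] [CharP F p] {V : Type*} [AddCommGroup V] [Module F V]
    {g : Module.End F V} (h : (g - 1) ^ p = 0) : g ^ p = 1 := by
  have h1 : ((X : F[X]) - 1) ^ p = X ^ p - 1 := by rw [sub_pow_char, one_pow]
  have h2 := congrArg (aeval g) h1
  simp only [map_pow, map_sub, map_one, aeval_X] at h2
  rw [h] at h2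
  exact sub_eq_zero.1 h2.symm

/-- Carrying a model to the standard space. -/
theorem hasModel_of {p : ℕ} {μ : Multiset ℕ} {V : Type*} [AddCommGroup V] [Module F V] [FiniteDimensional F V]
    {B : LinearMap.BilinForm F V} (hA : LinearMap.IsAlt B) (hB : ∀ u, (∀ v, B u v = 0) → u = 0) {d : ℕ}
    (hd : finrank F V = 2 * d) (hsum : 2 * d = μ.sum) (g : Module.End F V) (hg : ∀ u v, B (g u) (g v) = B u v)
    (hp : (g - 1) ^ p = 0) (hk : ∀ k, finrank F ↥(LinearMap.range ((g - 1) ^ k)) = rk μ k) : HasModel F p μ := by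
  obtain ⟨Φ, hΦ⟩ := FormModel.exists_symp_coords hA hB hd
  let C := Φ.symm.conjAlgEquiv F
  have hC : ∀ (T : Module.End F V) v, C T v = Φ.symm (T (Φ v)) := fun T v => rfl
  have hpow : ∀ k, (C g - 1) ^ k = C ((g - 1) ^ k) := fun k => by rw [map_pow, map_sub, map_one]
  refine ⟨d, C g, hsum, fun u v => ?_, by rw [hpow, hp, map_zero], fun k => ?_⟩
  · rw [hC, hC, ← hΦ, Φ.apply_symm_apply, Φ.apply_symm_apply, hg, hΦ]
  · rw [← hk, hpow, show C ((g - 1) ^ k) =
      (Φ.symm : V →ₗ[F] _) ∘ₗ ((g - 1) ^ k) ∘ₗ (Φ : _ →ₗ[F] V) from rfl, LinearMap.range_comp,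
      LinearMap.range_comp, LinearEquiv.range, Submodule.map_top, LinearEquiv.finrank_map_eq]

theorem hasModel_zero (p : ℕ) (hp : 0 < p) : HasModel F p 0 := by
  refine ⟨0, 1, rfl, fun u v => rfl, by rw [sub_self, zero_pow hp.ne'], fun k => ?_⟩
  have h := Submodule.finrank_le (LinearMap.range ((1 - 1 : Module.End F (Fin 0 ⊕ Fin 0 → F)) ^ k))
  simp only [finrank_pi, Fintype.card_sum, Fintype.card_fin, add_zero, Nat.le_zero] at h
  rw [h]
  simp [rk]

theorem hasModel_add {p : ℕ} {μ ν : Multiset ℕ} (hμ : HasModel F p μ) (hν : HasModel F p ν) :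
    HasModel F p (μ + ν) := by
  obtain ⟨d₁, g₁, h1, hi1, hp1, hk1⟩ := hμ
  obtain ⟨d₂, g₂, h2, hi2, hp2, hk2⟩ := hν
  let B : LinearMap.BilinForm F ((Fin d₁ ⊕ Fin d₁ → F) × (Fin d₂ ⊕ Fin d₂ → F)) :=
    FormTorus.prodB (RingHom.id F) (FormsLib.spB d₁ F) (FormsLib.spB d₂ F)
  have hB : ∀ a b, B a b = FormsLib.spB d₁ F a.1 b.1 + FormsLib.spB d₂ F a.2 b.2 := fun a b => rfl
  let g := g₁.prodMap g₂
  have hpow : ∀ k, (g - 1) ^ k = ((g₁ - 1) ^ k).prodMap ((g₂ - 1) ^ k) := by
    intro k
    induction k with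
    | zero => simp
    | succ k ih =>
      rw [pow_succ, pow_succ, pow_succ, ih]
      exact LinearMap.ext fun v => rfl
  refine hasModel_of (B := B) (fun a => by rw [hB, FormsLib.spB_alt, FormsLib.spB_alt, add_zero])
    (fun a ha => Prod.ext (FormsLib.spB_nondeg.1 _ fun w => by simpa [hB] using ha (w, 0))
      (FormsLib.spB_nondeg.1 _ fun w => by simpa [hB] using ha (0, w))) (d := d₁ + d₂)
    (by rw [finrank_prod, finrank_pi, finrank_pi, Fintype.card_sum, Fintype.card_sum, Fintype.card_fin,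
      Fintype.card_fin]; omega)
    (by rw [Multiset.sum_add]; omega) g (fun a b => by rw [hB, hB]; exact congrArg₂ (· + ·) (hi1 _ _) (hi2 _ _))
    (by rw [hpow, hp1, hp2]; exact LinearMap.ext fun v => rfl) fun k => ?_
  rw [hpow, rk_add, ← hk1, ← hk2, LinearMap.range_prodMap]
  let e : ↥((LinearMap.range ((g₁ - 1) ^ k)).prod (LinearMap.range ((g₂ - 1) ^ k))) ≃ₗ[F]
      ↥(LinearMap.range ((g₁ - 1) ^ k)) × ↥(LinearMap.range ((g₂ - 1) ^ k)) :=
    { toFun := fun v => (⟨v.1.1, v.2.1⟩, ⟨v.1.2, v.2.2⟩)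
      invFun := fun v => ⟨(v.1.1, v.2.1), v.1.2, v.2.2⟩
      map_add' := fun _ _ => rfl
      map_smul' := fun _ _ => rfl
      left_inv := fun _ => rfl
      right_inv := fun _ => rfl }
  rw [e.finrank_eq, finrank_prod]

/-- A space with a single piece. -/
theorem hasModel_piece (h2 : (2 : F) ≠ 0) {V : Type*} [AddCommGroup V] [Module F V] [FiniteDimensional F V]
    {B : LinearMap.BilinForm F V} (hA : LinearMap.IsAlt B) (hB : ∀ u, (∀ v, B u v = 0) → u = 0)
    (g : Module.End F V) (hg : ∀ u v, B (g u) (g v) = B u v) {p e j : ℕ} (hep : e ≤ p) (he : 1 ≤ e)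
    (hj : j = 1 ↔ Even e) (hj2 : j = 1 ∨ j = 2) (hdim : finrank F V = j * e) (hN : (g - 1) ^ e = 0)
    (hN1 : (g - 1) ^ (e - 1) ≠ 0) : HasModel F p (Multiset.replicate j e) := by
  have htop : NdOn B ⊤ := fun u _ h => hB u fun v => h v trivial
  haveI : Nontrivial V := Module.nontrivial_of_finrank_pos (R := F) (by rw [hdim]; exact Nat.mul_pos (by omega) he)
  have hne : (⊤ : Submodule F V) ≠ ⊥ := top_ne_bot
  have hp : (g - 1) ^ p = 0 := by rw [← Nat.sub_add_cancel hep, pow_add, hN, mul_zero]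
  obtain ⟨e', j', S, -, -, hkill, ⟨u, -, hu⟩, hcase, hpar, -, -, -, hSd, hSk⟩ :=
    exists_piece hA hg htop le_top hne (fun u _ => by rw [hp, LinearMap.zero_apply])
  obtain rfl : e' = e := by
    rcases Nat.lt_trichotomy e' e with h | h | h
    · refine absurd (LinearMap.ext fun w => ?_) hN1
      rw [← Nat.sub_add_cancel (show e' ≤ e - 1 by omega), pow_add, Module.End.mul_apply, hkill w trivial, map_zero]
      rfl
    · exact h
    · refine absurd ?_ hu
      rw [← Nat.sub_add_cancel (show e ≤ e' - 1 by omega), pow_add, hN, mul_zero, LinearMap.zero_apply]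
  obtain rfl : j' = j := by
    have h := hpar h2
    rcases hcase.imp And.left And.left with rfl | rfl <;> rcases hj2 with rfl | rfl
    · rfl
    · exact absurd (hj.2 (h.1 rfl)) (by omega)
    · exact absurd (h.2 (hj.1 rfl)) (by omega)
    · rfl
  have hS : S = ⊤ := Submodule.eq_top_of_finrank_eq (by rw [hSd, hdim])
  obtain ⟨d, hd⟩ : Even (j' * e') := by
    rcases hj2 with rfl | rfl
    · exact (one_mul e').symm ▸ hj.1 rfl
    · exact even_two_mul e'
  refine hasModel_of hA hB (d := d) (by omega) (by rw [Multiset.sum_replicate, smul_eq_mul]; omega) g hg hp fun k => ?_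
  rw [rk_replicate, ← hSk k, hS, Submodule.map_top]

/-- A model with a single block of even size. -/
theorem hasModel_single [Finite F] (h2 : (2 : F) ≠ 0) {p e : ℕ} (hep : e ≤ p) (he : 1 ≤ e) (hev : Even e) :
    HasModel F p (Multiset.replicate 1 e) := by
  obtain ⟨B, g, hB, hg, hgv⟩ := FormTorus.exists_unipotent_model (σ := RingHom.id F) (ε := (-1 : F)) (m := e) he
    (fun c => rfl) (by simp) ⟨1, by
      have : Odd (e - 1) := Nat.Even.sub_odd he hev odd_one
      rw [this.neg_one_pow, map_one]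
      simpa [one_add_one_eq_two] using h2⟩
  obtain ⟨hfin, hdim⟩ := FormTorus.finrank_UR (F := F) e
  obtain ⟨hA, hN⟩ := FormTorus.isAlt_of_isFlip h2 hB
  set t : FormTorus.UR F e := AdjoinRoot.root ((X - 1 : F[X]) ^ e) with ht
  have hpow : ∀ k v, (((g : Module.End F (FormTorus.UR F e)) - 1) ^ k) v = (t - 1) ^ k * v := by
    intro k
    induction k with
    | zero => intro v; simp
    | succ k ih =>
      intro v
      rw [pow_succ', Module.End.mul_apply, ih, LinearMap.sub_apply, Module.End.one_apply, LinearEquiv.coe_coe, hgv,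
        pow_succ', sub_mul, sub_mul, one_mul, mul_assoc]
  have hmk : ∀ k, (t - 1) ^ k = AdjoinRoot.mk ((X - 1 : F[X]) ^ e) ((X - 1) ^ k) := fun k => by
    rw [map_pow, map_sub, map_one, AdjoinRoot.mk_X]
  refine hasModel_piece h2 hA hN.1 (g : Module.End F (FormTorus.UR F e)) hg hep he (iff_of_true rfl hev) (Or.inl rfl)
    (by rw [hdim, one_mul]) (LinearMap.ext fun v => ?_) fun h => ?_
  · rw [hpow, hmk, AdjoinRoot.mk_self, zero_mul]
    rfl
  · have h1 := LinearMap.congr_fun h 1
    rw [hpow, mul_one, hmk, LinearMap.zero_apply, AdjoinRoot.mk_eq_zero] at h1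
    have h3 := natDegree_le_of_dvd h1 (pow_ne_zero _ (by rw [← C_1]; exact X_sub_C_ne_zero 1))
    rw [← C_1, natDegree_pow, natDegree_pow, natDegree_X_sub_C] at h3
    omega

/-- A model with two blocks of equal odd size. -/
theorem hasModel_double (h2 : (2 : F) ≠ 0) {p e : ℕ} (hep : e ≤ p) (he : 1 ≤ e) (hodd : Odd e) :
    HasModel F p (Multiset.replicate 2 e) := by
  obtain ⟨hfin, hdim⟩ := FormTorus.finrank_UR (F := F) e
  set t : FormTorus.UR F e := AdjoinRoot.root ((X - 1 : F[X]) ^ e) with ht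
  have hnil : (t - 1) ^ e = 0 := by
    have : AdjoinRoot.mk ((X - 1 : F[X]) ^ e) ((X - 1) ^ e) = 0 := AdjoinRoot.mk_self
    rwa [map_pow, map_sub, map_one, AdjoinRoot.mk_X] at this
  obtain ⟨tu, htu⟩ : IsUnit t := by
    have := IsNilpotent.isUnit_one_add ⟨e, hnil⟩
    rwa [add_sub_cancel] at this
  set t' : FormTorus.UR F e := ((tu⁻¹ : (FormTorus.UR F e)ˣ) : FormTorus.UR F e)
  have htt : t' * t = 1 := by rw [← htu, Units.inv_mul]
  have hnil' : (t' - 1) ^ e = 0 := by
    rw [show t' - 1 = (t - 1) * (-t') by linear_combination htt, mul_pow, hnil, zero_mul]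
  let B : LinearMap.BilinForm F (FormTorus.UR F e × Module.Dual F (FormTorus.UR F e)) :=
    LinearMap.mk₂ F (fun a b => b.2 a.1 - a.2 b.1)
      (fun a a' b => by simp only [Prod.fst_add, Prod.snd_add, map_add, LinearMap.add_apply]; ring)
      (fun c a b => by simp only [Prod.smul_fst, Prod.smul_snd, map_smul, LinearMap.smul_apply, smul_eq_mul]; ring)
      (fun a b b' => by simp only [Prod.fst_add, Prod.snd_add, map_add, LinearMap.add_apply]; ring)
      (fun c a b => by simp only [Prod.smul_fst, Prod.smul_snd, map_smul, LinearMap.smul_apply, smul_eq_mul]; ring)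
  have hBv : ∀ a b : FormTorus.UR F e × Module.Dual F (FormTorus.UR F e), B a b = b.2 a.1 - a.2 b.1 := fun a b => rfl
  let g : Module.End F (FormTorus.UR F e × Module.Dual F (FormTorus.UR F e)) := (LinearMap.mulLeft F t).prodMap (LinearMap.mulLeft F t').dualMap
  have hpow : ∀ k (v : FormTorus.UR F e × Module.Dual F (FormTorus.UR F e)), ((g - 1) ^ k) v =
      ((t - 1) ^ k * v.1, v.2.comp (LinearMap.mulLeft F ((t' - 1) ^ k))) := by
    intro k
    induction k with
    | zero =>
      intro v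
      refine Prod.ext ?_ (LinearMap.ext fun w => ?_) <;> simp
    | succ k ih =>
      intro v
      rw [pow_succ', Module.End.mul_apply, ih]
      refine Prod.ext ?_ (LinearMap.ext fun w => ?_)
      · show t * ((t - 1) ^ k * v.1) - (t - 1) ^ k * v.1 = (t - 1) ^ (k + 1) * v.1
        ring
      · show v.2 ((t' - 1) ^ k * (t' * w)) - v.2 ((t' - 1) ^ k * w) = v.2 ((t' - 1) ^ (k + 1) * w)
        rw [← map_sub]
        congr 1
        ring
  refine hasModel_piece h2 (B := B) (fun a => by rw [hBv, sub_self]) (fun a ha => ?_) g (fun a b => ?_) hep he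
    (iff_of_false (by omega) (Nat.not_even_iff_odd.2 hodd)) (Or.inr rfl)
    (by rw [finrank_prod, Subspace.dual_finrank_eq, hdim, two_mul]) (LinearMap.ext fun v => ?_) fun h => ?_
  · have h1 : a.1 = 0 := (Module.forall_dual_apply_eq_zero_iff F a.1).1 fun φ => by
      simpa [hBv] using ha (0, φ)
    exact Prod.ext h1 (LinearMap.ext fun w => by simpa [hBv] using ha (w, 0))
  · show b.2 (t' * (t * a.1)) - a.2 (t' * (t * b.1)) = _
    rw [← mul_assoc, ← mul_assoc, htt, one_mul, one_mul, hBv]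
  · rw [hpow, hnil, hnil', zero_mul, LinearMap.mulLeft_zero_eq_zero, LinearMap.comp_zero]
    rfl
  · have h1 := congrArg Prod.fst (LinearMap.congr_fun h ((1 : FormTorus.UR F e), (0 : Module.Dual F (FormTorus.UR F e))))
    rw [hpow] at h1
    simp only [mul_one, LinearMap.zero_apply, Prod.fst_zero] at h1
    rw [ht, ← AdjoinRoot.mk_X, ← map_one (AdjoinRoot.mk _), ← map_sub, ← map_pow, AdjoinRoot.mk_eq_zero] at h1
    have h3 := natDegree_le_of_dvd h1 (pow_ne_zero _ (by rw [← C_1]; exact X_sub_C_ne_zero 1))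
    rw [← C_1, natDegree_pow, natDegree_pow, natDegree_X_sub_C] at h3
    omega

/-- Every valid type is realised. -/
theorem hasModel_of_valid [Finite F] (h2 : (2 : F) ≠ 0) {p : ℕ} (hp : 0 < p) {μ : Multiset ℕ} (hμ : Valid p μ) :
    HasModel F p μ := by
  classical
  induction μ using Multiset.strongInductionOn with
  | _ μ ih =>
  rcases Multiset.empty_or_exists_mem μ with rfl | ⟨a, ha⟩
  · exact hasModel_zero p hp
  obtain ⟨h1, h1'⟩ := hμ.1 a ha
  obtain ⟨j, hj2, hjev, hj, hmodel⟩ : ∃ j, (j = 1 ∨ j = 2) ∧ (j = 1 ↔ Even a) ∧ j ≤ μ.count a ∧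
      HasModel F p (Multiset.replicate j a) := by
    rcases Nat.even_or_odd a with hev | hodd
    · exact ⟨1, Or.inl rfl, iff_of_true rfl hev, Multiset.count_pos.2 ha, hasModel_single h2 h1' h1 hev⟩
    · refine ⟨2, Or.inr rfl, iff_of_false (by omega) (Nat.not_even_iff_odd.2 hodd), ?_, hasModel_double h2 h1' h1 hodd⟩
      obtain ⟨u, hu⟩ := hμ.2 a hodd
      have := Multiset.count_pos.2 ha
      omega
  obtain ⟨μ', rfl⟩ := Multiset.le_iff_exists_add.1 (Multiset.le_count_iff_replicate_le.1 hj)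
  refine hasModel_add hmodel (ih μ' ?_ ⟨fun b hb => hμ.1 b (Multiset.mem_add.2 (Or.inr hb)), fun b hb => ?_⟩)
  · refine lt_add_of_pos_left _ (pos_iff_ne_zero.2 fun h => ?_)
    have := congrArg Multiset.card h
    simp only [Multiset.card_replicate, Multiset.card_zero] at this
    omega
  · have h3 := hμ.2 b hb
    rw [Multiset.count_add] at h3
    exact (Nat.even_add.1 h3).1 ((valid_replicate h1 h1' hjev hj2).2 b hb)

end Cfsg.Agent.Elusive.SpUnip
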