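import Cfsg.Agent.Lib.Elusive.SubspaceCriterion
import Cfsg.Agent.Lib.GLUnipotent.JordanType

/-!
Invariant decompositions of unipotent maps, in terms of the partition given by the Jordan blocks.
-/

set_option autoImplicit false
set_option linter.style.haveILetI false

namespace Cfsg.Agent.Elusive

open Module
open scoped Matrix

/-- The truncated sums of a multiset determine its multiplicities. -/
theorem count_add_two_mul_sum (μ : Multiset ℕ) {l : ℕ} (hl : 1 ≤ l) :
    μ.count l + 2 * (μ.map (· - l)).sum =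
      (μ.map (· - (l - 1))).sum + (μ.map (· - (l + 1))).sum := by
  induction μ using Multiset.induction with
  | empty => simp
  | cons a s ih =>
    simp only [Multiset.count_cons, Multiset.map_cons, Multiset.sum_cons]
    split_ifs with h <;> omega

/-- A sub-multiset of the values of a function comes from a set of arguments. -/
theorem exists_finset_of_le {t : ℕ} (d : Fin t → ℕ) :
    ∀ ν : Multiset ℕ, ν ≤ (Finset.univ : Finset (Fin t)).val.map d →
      ∃ S : Finset (Fin t), S.val.map d = ν := by
  suffices H : ∀ (ν : Multiset ℕ) (T : Finset (Fin t)), ν ≤ T.val.map d →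
      ∃ S ⊆ T, S.val.map d = ν by
    intro ν hν
    obtain ⟨S, -, hS⟩ := H ν Finset.univ hν
    exact ⟨S, hS⟩
  intro ν
  induction ν using Multiset.induction with
  | empty => intro T _; exact ⟨∅, Finset.empty_subset _, rfl⟩
  | cons a s ih =>
    intro T hT
    obtain ⟨k, hk, rfl⟩ := Multiset.mem_map.1 (Multiset.mem_of_le hT (Multiset.mem_cons_self a s))
    rw [← Multiset.cons_erase hk, Multiset.map_cons] at hT
    obtain ⟨S, hS, hSm⟩ := ih (T.erase k) (by
      rw [Finset.erase_val]; exact (Multiset.cons_le_cons_iff _).1 hT)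
    refine ⟨Finset.cons k S fun h => (Finset.mem_erase.1 (hS h)).1 rfl, ?_, ?_⟩
    · intro i hi
      rcases Finset.mem_cons.1 hi with rfl | hi
      · exact hk
      · exact (Finset.mem_erase.1 (hS hi)).2
    · rw [Finset.cons_val, Multiset.map_cons, hSm]

variable {F : Type*} [Field F]

/-- The ranks of the powers of a nilpotent map with a chain basis. -/
theorem finrank_range_pow_of_chains {V : Type*} [AddCommGroup V] [Module F V] {t : ℕ} {d : Fin t → ℕ}
    (N : Module.End F V) (T : (JordanType.Idx d → F) ≃ₗ[F] V)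
    (hT : ∀ c, N (T c) = T (JordanType.shift F d *ᵥ c)) (l : ℕ) :
    finrank F (LinearMap.range (N ^ l)) = (((Finset.univ : Finset (Fin t)).val.map d).map (· - l)).sum := by
  classical
  have hl : ∀ (l : ℕ) (c : JordanType.Idx d → F), (N ^ l) (T c) = T ((JordanType.shift F d ^ l) *ᵥ c) := by
    intro l
    induction l with
    | zero => intro c; simp
    | succ l ih => intro c; rw [pow_succ', pow_succ', Module.End.mul_apply, ih, hT, Matrix.mulVec_mulVec]
  have hr : LinearMap.range (N ^ l) =
      (LinearMap.range (JordanType.shift F d ^ l).mulVecLin).map T.toLinearMap := by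
    rw [← LinearMap.range_comp]
    refine le_antisymm ?_ ?_
    · rintro _ ⟨v, rfl⟩
      obtain ⟨c, rfl⟩ := T.surjective v
      exact ⟨c, (hl l c).symm⟩
    · rintro _ ⟨c, rfl⟩
      exact ⟨T c, hl l c⟩
  rw [hr, T.finrank_map_eq, ← Matrix.rank, JordanType.rank_shift_pow, Multiset.map_map]
  rfl

variable [Fintype F] {p : ℕ} [Fact p.Prime] [CharP F p] {n m : ℕ}

/-- A matrix whose `p`-th power is scalar is a multiple of a unipotent one. -/
theorem exists_unipotent (hn : 0 < n) (x : Matrix.SpecialLinearGroup (Fin n) F)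
    (hx : ∃ c : F, ((x ^ p : Matrix.SpecialLinearGroup (Fin n) F) : Matrix (Fin n) (Fin n) F) =
      c • (1 : Matrix (Fin n) (Fin n) F)) :
    ∃ (l : F) (N : Module.End F (Fin n → F)), l ≠ 0 ∧ N ^ p = 0 ∧
      Matrix.toLin' (x : Matrix (Fin n) (Fin n) F) = l • (1 + N) := by
  obtain ⟨c, hc⟩ := hx
  obtain ⟨l, hl⟩ := surjective_frobenius F p c
  rw [frobenius_def] at hl
  have hA := toLin'_pow_eq x hc
  have hc0 := scalar_ne_zero hn x hc
  have hl0 : l ≠ 0 := fun h => hc0 (by rw [← hl, h, zero_pow (Fact.out : p.Prime).ne_zero])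
  haveI : Nonempty (Fin n) := ⟨⟨0, hn⟩⟩
  haveI : CharP (Module.End F (Fin n → F)) p :=
    charP_of_injective_algebraMap (FaithfulSMul.algebraMap_injective F (Module.End F (Fin n → F))) p
  refine ⟨l, l⁻¹ • Matrix.toLin' (x : Matrix (Fin n) (Fin n) F) - 1, hl0, ?_, ?_⟩
  · rw [sub_pow_char_of_commute p (Commute.one_right _), smul_pow, hA, smul_smul, inv_pow, hl,
      inv_mul_cancel₀ hc0, one_smul, one_pow, sub_self]
  · rw [add_sub_cancel, smul_inv_smul₀ hl0]

omit [Fintype F] [Fact p.Prime] [CharP F p] in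
theorem invariant_iff {V : Type*} [AddCommGroup V] [Module F V] {l : F} (hl : l ≠ 0) (N : Module.End F V)
    (U : Submodule F V) : U.map (l • (1 + N)) ≤ U ↔ U.map N ≤ U := by
  constructor
  · rintro h _ ⟨v, hv, rfl⟩
    have h1 := h ⟨v, hv, rfl⟩
    rw [LinearMap.smul_apply, LinearMap.add_apply, Module.End.one_apply, U.smul_mem_iff hl] at h1
    simpa using U.sub_mem h1 hv
  · rintro h _ ⟨v, hv, rfl⟩
    exact U.smul_mem l (U.add_mem hv (h ⟨v, hv, rfl⟩))

omit [Fintype F] [Fact p.Prime] [CharP F p] in
/-- Decompositions from a sub-multiset of the block sizes. -/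
theorem exists_decomposition_of_sub {V : Type*} [AddCommGroup V] [Module F V] [FiniteDimensional F V]
    {t : ℕ} {d : Fin t → ℕ} (N : Module.End F V) (T : (JordanType.Idx d → F) ≃ₗ[F] V)
    (hT : ∀ c, N (T c) = T (JordanType.shift F d *ᵥ c)) {ν : Multiset ℕ}
    (hν : ν ≤ (Finset.univ : Finset (Fin t)).val.map d) :
    ∃ U W : Submodule F V, IsCompl U W ∧ finrank F U = ν.sum ∧ U.map N ≤ U ∧ W.map N ≤ W := by
  classical
  obtain ⟨S, hS⟩ := exists_finset_of_le d ν hν
  let sub : Finset (Fin t) → Submodule F (JordanType.Idx d → F) := fun S =>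
    { carrier := {c | ∀ a, a.1 ∉ S → c a = 0}
      add_mem' := fun hc hc' a ha => by simp [hc a ha, hc' a ha]
      zero_mem' := fun _ _ => rfl
      smul_mem' := fun r c hc a ha => by simp [hc a ha] }
  have hinv : ∀ S, ((sub S).map T.toLinearMap).map N ≤ (sub S).map T.toLinearMap := by
    rintro S _ ⟨_, ⟨c, hc, rfl⟩, rfl⟩
    refine ⟨JordanType.shift F d *ᵥ c, fun a ha => ?_, (hT c).symm⟩
    refine Finset.sum_eq_zero fun b _ => ?_
    show JordanType.shift F d a b * c b = 0
    rw [JordanType.shift_apply]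
    by_cases hb : a.1 = b.1 ∧ (a.2 : ℕ) = b.2 + 1
    · rw [hc b (hb.1 ▸ ha), mul_zero]
    · rw [if_neg hb, zero_mul]
  have hsub : IsCompl (sub S) (sub Sᶜ) := by
    refine IsCompl.of_eq ?_ ?_
    · rw [Submodule.eq_bot_iff]
      rintro c ⟨h1, h2⟩
      funext a
      by_cases ha : a.1 ∈ S
      · exact h2 a (by simpa using ha)
      · exact h1 a ha
    · rw [eq_top_iff]
      intro c _
      refine Submodule.mem_sup.2 ⟨fun a => if a.1 ∈ S then c a else 0, fun a ha => if_neg ha,
        fun a => if a.1 ∈ S then 0 else c a, fun a ha => if_pos (by simpa using ha), funext fun a => ?_⟩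
      by_cases ha : a.1 ∈ S <;> simp [ha]
  refine ⟨(sub S).map T.toLinearMap, (sub Sᶜ).map T.toLinearMap, ?_, ?_, hinv S, hinv Sᶜ⟩
  · exact ((Submodule.orderIsoMapComap T).isCompl_iff).1 hsub
  · rw [T.finrank_map_eq]
    let R : sub S ≃ₗ[F] ({a : JordanType.Idx d // a.1 ∈ S} → F) :=
      { toFun := fun c a => c.1 a
        map_add' := fun _ _ => rfl
        map_smul' := fun _ _ => rfl
        invFun := fun c => ⟨fun a => if h : a.1 ∈ S then c ⟨a, h⟩ else 0, fun a ha => dif_neg ha⟩
        left_inv := fun c => Subtype.ext (funext fun a => by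
          by_cases h : a.1 ∈ S
          · simp [h]
          · simp [h, c.2 a h])
        right_inv := fun c => funext fun a => dif_pos a.2 }
    rw [R.finrank_eq, finrank_pi, Fintype.card_subtype, ← hS]
    rw [show (Finset.univ.filter fun a : JordanType.Idx d => a.1 ∈ S) = S.sigma fun k => Finset.univ by
      ext a; simp, Finset.card_sigma]
    simp only [Finset.card_univ, Fintype.card_fin]
    rfl

omit [Fintype F] [Fact p.Prime] [CharP F p] in
/-- An invariant decomposition splits the block sizes. -/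
theorem exists_sub_of_decomposition {V : Type*} [AddCommGroup V] [Module F V] [FiniteDimensional F V]
    {t : ℕ} {d : Fin t → ℕ} (N : Module.End F V) (T : (JordanType.Idx d → F) ≃ₗ[F] V)
    (hT : ∀ c, N (T c) = T (JordanType.shift F d *ᵥ c)) {e : ℕ} (hN : N ^ e = 0)
    {U W : Submodule F V} (hUW : IsCompl U W) (hU : U.map N ≤ U) (hW : W.map N ≤ W) :
    ∃ ν : Multiset ℕ, ν ≤ (Finset.univ : Finset (Fin t)).val.map d ∧ ν.sum = finrank F U := by
  classical
  have hpart : ∀ X : Submodule F V, X.map N ≤ X → ∃ μ : Multiset ℕ, ∀ l,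
      finrank F (X.map (N ^ l)) = (μ.map (· - l)).sum := by
    intro X hX
    let N' : Module.End F X := N.restrict fun v hv => hX ⟨v, hv, rfl⟩
    have hN' : N' ^ e = 0 := by
      refine LinearMap.ext fun v => Subtype.ext ?_
      rw [Module.End.pow_restrict e]
      show (N ^ e) v = _
      rw [hN]; rfl
    obtain ⟨t', d', T', -, hT'⟩ := JordanType.exists_chains N' e hN'
    refine ⟨(Finset.univ : Finset (Fin t')).val.map d', fun l => ?_⟩
    rw [← finrank_range_pow_of_chains N' T' hT' l, ← Submodule.finrank_map_subtype_eq X]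
    congr 2
    all_goals
      refine le_antisymm ?_ ?_
      · rintro _ ⟨v, hv, rfl⟩
        exact ⟨(N' ^ l) ⟨v, hv⟩, ⟨_, rfl⟩, by rw [Module.End.pow_restrict l]; rfl⟩
      · rintro _ ⟨_, ⟨v, rfl⟩, rfl⟩
        exact ⟨v, v.2, by rw [Module.End.pow_restrict l]; rfl⟩
  obtain ⟨μU, hμU⟩ := hpart U hU
  obtain ⟨μW, hμW⟩ := hpart W hW
  have hpow : ∀ X : Submodule F V, X.map N ≤ X → ∀ l, X.map (N ^ l) ≤ X := by
    intro X hX l
    induction l with
    | zero => rintro _ ⟨v, hv, rfl⟩; exact hv
    | succ l ih =>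
      rintro _ ⟨v, hv, rfl⟩
      rw [pow_succ', Module.End.mul_apply]
      exact hX ⟨_, ih ⟨v, hv, rfl⟩, rfl⟩
  have hadd : ∀ l, (((Finset.univ : Finset (Fin t)).val.map d).map (· - l)).sum =
      (μU.map (· - l)).sum + (μW.map (· - l)).sum := by
    intro l
    rw [← finrank_range_pow_of_chains N T hT l, ← hμU, ← hμW, LinearMap.range_eq_map, ← hUW.sup_eq_top,
      Submodule.map_sup]
    have := Submodule.finrank_sup_add_finrank_inf_eq (U.map (N ^ l)) (W.map (N ^ l))
    rw [le_bot_iff.1 ((inf_le_inf (hpow U hU l) (hpow W hW l)).trans hUW.inf_eq_bot.le), finrank_bot] at this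
    omega
  refine ⟨μU.filter (0 < ·), ?_, ?_⟩
  · rw [Multiset.le_iff_count]
    intro a
    rcases Nat.eq_zero_or_pos a with rfl | ha
    · rw [Multiset.count_filter_of_neg (p := fun x => 0 < x) (by simp)]; exact Nat.zero_le _
    · rw [Multiset.count_filter_of_pos (p := fun x => 0 < x) ha]
      have h1 := count_add_two_mul_sum ((Finset.univ : Finset (Fin t)).val.map d) ha
      have h2 := count_add_two_mul_sum μU ha
      have h3 := count_add_two_mul_sum μW ha
      have := hadd a
      have := hadd (a - 1)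
      have := hadd (a + 1)
      omega
  · have h0 := hμU 0
    rw [show U.map (N ^ 0) = U by rw [pow_zero]; exact Submodule.map_id U] at h0
    rw [h0]
    simp only [Nat.sub_zero, Multiset.map_id']
    conv_rhs => rw [← Multiset.filter_add_not (p := (0 < ·)) μU, Multiset.sum_add]
    rw [Multiset.sum_eq_zero (s := μU.filter fun a => ¬ 0 < a) fun a ha => by
      have := (Multiset.mem_filter.1 ha).2
      omega, add_zero]

/-- The criterion in the defining characteristic. -/
theorem unipotent_criterion (hn : 0 < n) (hmn : m ≤ n) :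
    (∀ x : Matrix.SpecialLinearGroup (Fin n) F,
      (∃ c : F, ((x ^ p : Matrix.SpecialLinearGroup (Fin n) F) : Matrix (Fin n) (Fin n) F) =
        c • (1 : Matrix (Fin n) (Fin n) F)) →
      (∀ c : F, (x : Matrix (Fin n) (Fin n) F) ≠ c • (1 : Matrix (Fin n) (Fin n) F)) →
      ∃ U W : Submodule F (Fin n → F), IsCompl U W ∧ finrank F U = m ∧
        U.map (Matrix.toLin' (x : Matrix (Fin n) (Fin n) F)) ≤ U ∧
        W.map (Matrix.toLin' (x : Matrix (Fin n) (Fin n) F)) ≤ W) ↔
    (∀ μ : Multiset ℕ, (∀ a ∈ μ, 0 < a ∧ a ≤ p) → μ.sum = n → ∃ ν : Multiset ℕ, ν ≤ μ ∧ ν.sum = m) := by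
  classical
  have hp := (Fact.out : p.Prime)
  have hdim : finrank F (Fin n → F) = n := by rw [finrank_pi, Fintype.card_fin]
  constructor
  · intro h μ hμ hsum
    by_cases h1 : ∀ a ∈ μ, a = 1
    · have h2 : μ = Multiset.replicate μ.card 1 := Multiset.eq_replicate_card.2 h1
      rw [h2, Multiset.sum_replicate, smul_eq_mul, mul_one] at hsum
      refine ⟨Multiset.replicate m 1, ?_, by simp⟩
      rw [h2, hsum]
      exact Multiset.replicate_le_replicate (a := 1) |>.2 hmn
    push Not at h1
    obtain ⟨a₀, ha₀, ha₀1⟩ := h1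
    set t := μ.toList.length
    let d : Fin t → ℕ := fun k => μ.toList.get k
    have hμd : (Finset.univ : Finset (Fin t)).val.map d = μ := by
      rw [Fin.univ_val_map]
      show ((List.ofFn μ.toList.get : List ℕ) : Multiset ℕ) = μ
      rw [List.ofFn_get, Multiset.coe_toList]
    have hdle : ∀ k, d k ≤ p := fun k =>
      (hμ _ (by rw [← hμd]; exact Multiset.mem_map.2 ⟨k, Finset.mem_univ k, rfl⟩)).2
    have hcard : Fintype.card (JordanType.Idx d) = n := by
      rw [Fintype.card_sigma, ← hsum, ← hμd]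
      simp only [Fintype.card_fin]
      rfl
    let N : Module.End F (JordanType.Idx d → F) := (JordanType.shift F d).mulVecLin
    have hN : N ^ p = 0 := by
      rw [show N = Matrix.toLinAlgEquiv' (JordanType.shift F d) from rfl, ← map_pow,
        show JordanType.shift F d ^ p = 0 from ?_, map_zero]
      ext a b
      rw [JordanType.shift_pow_apply, Matrix.zero_apply, if_neg]
      rintro ⟨e1, e2⟩
      have := a.2.2
      have := hdle a.1
      omega
    obtain ⟨a1, b1, hab⟩ : ∃ a b : JordanType.Idx d, JordanType.shift F d a b = 1 := by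
      obtain ⟨k, -, hk⟩ := Multiset.mem_map.1 (hμd ▸ ha₀)
      have h2 : 2 ≤ d k := by
        have := hμ a₀ ha₀
        omega
      refine ⟨⟨k, ⟨1, h2⟩⟩, ⟨k, ⟨0, by omega⟩⟩, ?_⟩
      rw [JordanType.shift_apply, if_pos ⟨rfl, rfl⟩]
    haveI : Nonempty (JordanType.Idx d) := ⟨a1⟩
    haveI : CharP (Module.End F (JordanType.Idx d → F)) p :=
      charP_of_injective_algebraMap (FaithfulSMul.algebraMap_injective F (Module.End F (JordanType.Idx d → F))) p
    have hB : (1 + N) ^ p = (1 : F) • (1 : Module.End F (JordanType.Idx d → F)) := by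
      rw [add_pow_char_of_commute p (Commute.one_left _), hN, one_pow, add_zero, one_smul]
    have hdet : LinearMap.det (1 + N) = 1 := by
      refine frobenius_inj F p ?_
      rw [frobenius_def, frobenius_def, ← map_pow, hB, one_smul, map_one, one_pow]
    obtain ⟨x, e, hx⟩ := exists_SL_of_end (by rw [finrank_pi, hcard]) (1 + N) hdet
    have hns : ∀ z : F, (x : Matrix (Fin n) (Fin n) F) ≠ z • (1 : Matrix (Fin n) (Fin n) F) := by
      intro z hz
      have h3 := hx (Pi.single b1 1)
      rw [hz, map_smul, Matrix.toLin'_one, LinearMap.smul_apply, LinearMap.id_apply, ← map_smul] at h3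
      have h4 := congrFun (e.injective h3) a1
      have hne : a1 ≠ b1 := by
        intro h
        rw [JordanType.shift_apply, h] at hab
        simp at hab
      simp [N, hne, hab] at h4
    obtain ⟨U, W, hUW, hUd, hUi, hWi⟩ := h x ⟨1, pow_eq_scalar (1 + N) hB x e hx⟩ hns
    let M : Module.End F (Fin n → F) :=
      Matrix.toLin' (x : Matrix (Fin n) (Fin n) F) - 1
    have hMe : ∀ c, M (e c) = e (JordanType.shift F d *ᵥ c) := fun c => by
      simp only [M, LinearMap.sub_apply, Module.End.one_apply, hx, LinearMap.add_apply, map_add]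
      simp [N]
    have hMp : M ^ p = 0 := by
      have hl : ∀ (l : ℕ) (c : JordanType.Idx d → F), (M ^ l) (e c) = e ((N ^ l) c) := by
        intro l
        induction l with
        | zero => intro c; rfl
        | succ l ih =>
          intro c
          rw [pow_succ', pow_succ', Module.End.mul_apply, Module.End.mul_apply, ih, hMe]
          rfl
      refine LinearMap.ext fun v => ?_
      obtain ⟨c, rfl⟩ := e.surjective v
      rw [hl, hN]; simp
    have hinv : ∀ X : Submodule F (Fin n → F),
        X.map (Matrix.toLin' (x : Matrix (Fin n) (Fin n) F)) ≤ X → X.map M ≤ X := by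
      rintro X hX _ ⟨v, hv, rfl⟩
      exact X.sub_mem (hX ⟨v, hv, rfl⟩) hv
    obtain ⟨ν, hν, hνs⟩ := exists_sub_of_decomposition M e hMe hMp hUW (hinv U hUi) (hinv W hWi)
    exact ⟨ν, hμd ▸ hν, hνs.trans hUd⟩
  · intro hcond x hx _
    obtain ⟨l, N, hl, hN, hxN⟩ := exists_unipotent hn x hx
    obtain ⟨t, d, T, hd, hT⟩ := JordanType.exists_chains N p hN
    set μ := (Finset.univ : Finset (Fin t)).val.map d
    obtain ⟨ν, hν, hνs⟩ := hcond (μ.filter (0 < ·)) (fun a ha => by
        obtain ⟨h1, h2⟩ := Multiset.mem_filter.1 ha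
        obtain ⟨k, -, rfl⟩ := Multiset.mem_map.1 h1
        exact ⟨h2, hd k⟩) (by
      have h1 : μ.sum = n := by
        have := T.finrank_eq
        rw [hdim, finrank_pi, Fintype.card_sigma] at this
        simp only [Fintype.card_fin] at this
        exact this
      conv_rhs => rw [← h1, ← Multiset.filter_add_not (p := (0 < ·)) μ, Multiset.sum_add]
      rw [Multiset.sum_eq_zero (s := μ.filter fun a => ¬ 0 < a) fun a ha => by
        have := (Multiset.mem_filter.1 ha).2
        omega, add_zero])
    obtain ⟨U, W, hUW, hUd, hUi, hWi⟩ := exists_decomposition_of_sub N T hT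
      (hν.trans (Multiset.filter_le _ _))
    refine ⟨U, W, hUW, hUd.trans hνs, ?_, ?_⟩
    · rw [hxN]; exact (invariant_iff hl N U).2 hUi
    · rw [hxN]; exact (invariant_iff hl N W).2 hWi

omit [Fact p.Prime] in
/-- Partitions into parts at most two. -/
theorem partition_two_iff (hm : m ≤ n) :
    (∀ μ : Multiset ℕ, (∀ a ∈ μ, 0 < a ∧ a ≤ 2) → μ.sum = n → ∃ ν : Multiset ℕ, ν ≤ μ ∧ ν.sum = m) ↔
      (Odd n ∨ Even m) := by
  constructor
  · intro h
    rw [← Nat.not_even_iff_odd, or_iff_not_imp_left, not_not]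
    intro hn
    obtain ⟨k, hk⟩ := hn
    obtain ⟨ν, hν, hνs⟩ := h (Multiset.replicate k 2)
      (fun a ha => by rw [Multiset.eq_of_mem_replicate ha]; omega)
      (by rw [Multiset.sum_replicate, smul_eq_mul]; omega)
    obtain ⟨j, -, rfl⟩ := Multiset.le_replicate_iff.1 hν
    rw [Multiset.sum_replicate, smul_eq_mul] at hνs
    exact ⟨j, by omega⟩
  · intro h μ hμ hsum
    have hμ' : μ = Multiset.replicate (μ.count 2) 2 + Multiset.replicate (μ.count 1) 1 := by
      ext a
      rw [Multiset.count_add, Multiset.count_replicate, Multiset.count_replicate]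
      by_cases ha : a ∈ μ
      · obtain ⟨h1, h2⟩ := hμ a ha
        interval_cases a <;> simp
      · rw [Multiset.count_eq_zero.2 ha]
        split_ifs with h1 h2 h2
        · omega
        · subst h1; rw [Multiset.count_eq_zero.2 ha]
        · subst h2; rw [Multiset.count_eq_zero.2 ha]
        · rfl
    rw [hμ', Multiset.sum_add, Multiset.sum_replicate, Multiset.sum_replicate, smul_eq_mul, smul_eq_mul] at hsum
    set j := min (μ.count 2) (m / 2)
    refine ⟨Multiset.replicate j 2 + Multiset.replicate (m - 2 * j) 1, ?_, ?_⟩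
    · rw [hμ']
      refine add_le_add ((Multiset.replicate_le_replicate 2).2 (min_le_left _ _))
        ((Multiset.replicate_le_replicate 1).2 ?_)
      rcases h with h | h
      · obtain ⟨k, hk⟩ := h; omega
      · obtain ⟨k, hk⟩ := h; omega
    · rw [Multiset.sum_add, Multiset.sum_replicate, Multiset.sum_replicate, smul_eq_mul, smul_eq_mul]
      omega

end Cfsg.Agent.Elusive
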