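import Cfsg.Agent.Lib.Forms.UnitaryParabolic
import Cfsg.Agent.Lib.LinearGroups.UnitaryOrder

/-!
Orders of `q`, `q^2` and `-q` modulo an odd prime.
-/

set_option autoImplicit false

namespace Cfsg.Agent.Elusive.SU

open UnitaryParabolic (ff PP)

variable {q r : ℕ} [Fact r.Prime] {i b c : ℕ}

/-- The order of `-q` is `c`. -/
theorem neg_pow_iff (hr2 : r ≠ 2) (hrq : (q : ZMod r) ≠ 0) (hi : i = orderOf (q : ZMod r))
    (hc : c = if i % 4 = 0 then i else if i % 4 = 2 then i / 2 else 2 * i) (n : ℕ) :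
    (-(q : ZMod r)) ^ n = 1 ↔ c ∣ n := by
  haveI : Fact (2 < r) := ⟨lt_of_le_of_ne (Fact.out : r.Prime).two_le (Ne.symm hr2)⟩
  have hipos : 0 < i := hi ▸ orderOf_pos_iff.2 (isUnit_iff_ne_zero.2 hrq).isOfFinOrder
  have hqi : (q : ZMod r) ^ i = 1 := hi ▸ pow_orderOf_eq_one _
  have hne : (-1 : ZMod r) ≠ 1 := ZMod.neg_one_ne_one
  suffices H : (-(q : ZMod r)) ^ c = 1 ∧ ∀ k, (-(q : ZMod r)) ^ k = 1 → c ∣ k by
    refine ⟨H.2 n, ?_⟩
    rintro ⟨l, rfl⟩
    rw [pow_mul, H.1, one_pow]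
  have hsq : ∀ k, (-(q : ZMod r)) ^ k = 1 → i ∣ 2 * k := fun k hk => by
    rw [hi]
    refine orderOf_dvd_of_pow_eq_one ?_
    rw [pow_mul, ← neg_sq, ← pow_mul, mul_comm, pow_mul, hk, one_pow]
  by_cases hodd : Odd i
  · have h4 := Nat.odd_iff.1 hodd
    rw [if_neg (by omega), if_neg (by omega)] at hc
    subst hc
    refine ⟨by rw [pow_mul, neg_sq, ← pow_mul, mul_comm, pow_mul, hqi, one_pow], fun k hk => ?_⟩
    have hik : i ∣ k := ((Nat.coprime_two_right.2 hodd).dvd_of_dvd_mul_left (hsq k hk))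
    obtain ⟨l, rfl⟩ := hik
    rcases Nat.even_or_odd l with ⟨u, rfl⟩ | hl
    · exact ⟨u, by ring⟩
    · rw [pow_mul, hodd.neg_pow, hqi, hl.neg_one_pow] at hk
      exact absurd hk hne
  obtain ⟨h, hh⟩ := (Nat.not_odd_iff_even.1 hodd).two_dvd
  have hqh : (q : ZMod r) ^ h = -1 := by
    have h2 : (q : ZMod r) ^ h * (q : ZMod r) ^ h = 1 := by rw [← pow_add, ← two_mul, ← hh, hqi]
    refine (mul_self_eq_one_iff.1 h2).resolve_left fun h' => ?_
    have := Nat.le_of_dvd (by omega) (hi ▸ orderOf_dvd_of_pow_eq_one h' : i ∣ h)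
    omega
  rcases Nat.even_or_odd h with ⟨u, hu⟩ | hh'
  · rw [if_pos (by omega)] at hc
    subst hc
    refine ⟨by rw [(Nat.not_odd_iff_even.1 hodd).neg_pow, hqi], fun k hk => ?_⟩
    have h3 := hsq k hk
    rw [hh] at h3
    have hev : Even k := by
      obtain ⟨l, hl⟩ := Nat.dvd_of_mul_dvd_mul_left two_pos h3
      exact ⟨u * l, by rw [hl, hu]; ring⟩
    rw [hev.neg_pow] at hk
    exact hi ▸ orderOf_dvd_of_pow_eq_one hk
  · have := Nat.odd_iff.1 hh'
    rw [if_neg (by omega), if_pos (by omega)] at hc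
    obtain rfl : c = h := by omega
    refine ⟨by rw [hh'.neg_pow, hqh, neg_neg], fun k hk => ?_⟩
    exact Nat.dvd_of_mul_dvd_mul_left two_pos (hh ▸ hsq k hk)

/-- The basic relations between `i`, `b` and `c`. -/
theorem bc_facts (hr2 : r ≠ 2) (hrq : (q : ZMod r) ≠ 0) (hi : i = orderOf (q : ZMod r))
    (hb : b = if Even i then i / 2 else i)
    (hc : c = if i % 4 = 0 then i else if i % 4 = 2 then i / 2 else 2 * i) :
    0 < b ∧ 0 < c ∧ b ∣ r - 1 ∧ orderOf ((q ^ 2 : ℕ) : ZMod r) = b ∧ (i % 4 = 2 → c = b ∧ Odd b ∧ i = 2 * b) ∧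
      (i % 4 ≠ 2 → c = 2 * b) := by
  have hipos : 0 < i := hi ▸ orderOf_pos_iff.2 (isUnit_iff_ne_zero.2 hrq).isOfFinOrder
  have hdvd : i ∣ r - 1 := hi ▸ orderOf_dvd_of_pow_eq_one (ZMod.pow_card_sub_one_eq_one hrq)
  have hsq : orderOf ((q ^ 2 : ℕ) : ZMod r) = b := by
    rw [Nat.cast_pow, orderOf_pow' _ two_ne_zero, ← hi, hb]
    split_ifs with hev
    · rw [Nat.gcd_eq_right hev.two_dvd]
    · rw [(Nat.coprime_two_right.2 (Nat.not_even_iff_odd.1 hev)).gcd_eq_one, Nat.div_one]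
  have hbi : b ∣ i := by
    rw [hb]
    split_ifs with hev
    · exact Nat.div_dvd_of_dvd hev.two_dvd
    · exact dvd_rfl
  have hb0 : 0 < b := Nat.pos_of_ne_zero fun h => by
    rw [h, zero_dvd_iff] at hbi
    omega
  refine ⟨hb0, ?_, hbi.trans hdvd, hsq, fun h4 => ?_, fun h4 => ?_⟩
  · rw [hc]; split_ifs <;> omega
  · rw [if_neg (by omega), if_pos h4] at hc
    rw [if_pos (Nat.even_iff.2 (by omega))] at hb
    exact ⟨by omega, Nat.odd_iff.2 (by omega), by omega⟩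
  · by_cases hev : Even i
    · have := Nat.even_iff.1 hev
      rw [if_pos (by omega)] at hc
      rw [if_pos hev] at hb
      omega
    · have := Nat.not_even_iff.1 hev
      rw [if_neg (by omega), if_neg h4] at hc
      rw [if_neg hev] at hb
      omega

/-- A factor of the order of the unitary group is divisible by `r` exactly at multiples of `c`. -/
theorem dvd_ff_iff (hr2 : r ≠ 2) (hrq : (q : ZMod r) ≠ 0) (hi : i = orderOf (q : ZMod r))
    (hc : c = if i % 4 = 0 then i else if i % 4 = 2 then i / 2 else 2 * i) (n : ℕ) :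
    r ∣ ff q n ↔ c ∣ n := by
  have hq1 : 1 ≤ q := Nat.one_le_iff_ne_zero.2 fun h => hrq (by rw [h, Nat.cast_zero])
  rw [← neg_pow_iff hr2 hrq hi hc, ← ZMod.natCast_eq_zero_iff, ff]
  by_cases hn : Even n
  · rw [if_pos hn, Nat.cast_sub (Nat.one_le_pow _ _ hq1), Nat.cast_pow, Nat.cast_one, sub_eq_zero, hn.neg_pow]
  · rw [if_neg hn, Nat.cast_add, Nat.cast_pow, Nat.cast_one, (Nat.not_even_iff_odd.1 hn).neg_pow,
      add_eq_zero_iff_eq_neg]
    exact ⟨fun h => by rw [h, neg_neg], fun h => by rw [← neg_neg ((q : ZMod r) ^ n), h]⟩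

/-- `r` is prime to `q + 1` unless `i = 2`. -/
theorem not_dvd_succ_iff (hr2 : r ≠ 2) (hi : i = orderOf (q : ZMod r)) : r ∣ q + 1 ↔ i = 2 := by
  haveI : Fact (2 < r) := ⟨lt_of_le_of_ne (Fact.out : r.Prime).two_le (Ne.symm hr2)⟩
  rw [← ZMod.natCast_eq_zero_iff, Nat.cast_add, Nat.cast_one, add_eq_zero_iff_eq_neg]
  constructor
  · intro h
    rw [hi, h]
    exact orderOf_eq_prime (by rw [neg_one_sq]) ZMod.neg_one_ne_one
  · intro h
    have h1 : (q : ZMod r) * q = 1 := by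
      rw [← pow_two, ← h, hi, pow_orderOf_eq_one]
    refine (mul_self_eq_one_iff.1 h1).resolve_left fun h' => ?_
    rw [h', orderOf_one] at hi
    omega

/-- A multiple of `c` in a window at the top makes the remainder small. -/
theorem mod_lt_of_window {n w j : ℕ} (hc0 : 0 < c) (hj : c ∣ n - j) (hjw : j < w) (hjn : j < n) :
    n % c < w ∧ c ≤ n := by
  obtain ⟨l, hl⟩ := hj
  refine ⟨?_, (Nat.le_of_dvd (by omega) ⟨l, hl⟩).trans (Nat.sub_le n j)⟩
  rw [show n = j + c * l by omega, Nat.add_mul_mod_self_left]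
  exact (Nat.mod_le _ _).trans_lt hjw

/-- The order of the unitary group is a product of the factors. -/
theorem dvd_card_GU {F : Type*} [Field F] [Fintype F] (hq : Fintype.card F = q ^ 2) (hrq : (q : ZMod r) ≠ 0) (n : ℕ) :
    r ∣ Nat.card (Cfsg.GU n F q) ↔ ∃ j < n, r ∣ ff q (j + 1) := by
  have hrp := (Fact.out : r.Prime)
  rw [UnitaryOrder.card_GU hq]
  have hP : ∀ j, (if Even j then q ^ (j + 1) + 1 else q ^ (j + 1) - 1) = ff q (j + 1) := fun j => by
    rw [ff]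
    by_cases h : Even j <;> simp [h, Nat.even_add_one]
  simp only [hP]
  constructor
  · intro h
    rcases hrp.dvd_mul.1 h with h | h
    · exact absurd ((ZMod.natCast_eq_zero_iff _ _).2 (hrp.dvd_of_dvd_pow h)) hrq
    · obtain ⟨j, hj, h⟩ := (hrp.prime.dvd_finsetProd_iff _).1 h
      exact ⟨j, Finset.mem_range.1 hj, h⟩
  · rintro ⟨j, hj, h⟩
    exact dvd_mul_of_dvd_right (h.trans (Finset.dvd_prod_of_mem (fun j => ff q (j + 1)) (Finset.mem_range.2 hj))) _

end Cfsg.Agent.Elusive.SU
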