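import Cfsg.Agent.Lib.Elusive.FormIsometry
import Cfsg.Agent.Lib.FormTorus.Realize
import Cfsg.Agent.Lib.LinearGroups.UnitaryOrder
import Cfsg.Agent.Lib.FormCentral.SUConj

/-!
Hermitian spaces over the field of `q^2` elements: transfer to the standard form and scalar facts.
-/

set_option autoImplicit false
set_option linter.style.haveILetI false

namespace Cfsg.Agent.Elusive.SU

open Module FormIso

variable {F : Type*} [Field F] [Fintype F] {q : ℕ}

/-- The involution, and the prime power shape of `q`. -/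
theorem exists_setup (hq : Fintype.card F = q ^ 2) {p : ℕ} [Fact p.Prime] [CharP F p] :
    ∃ (σ : F →+* F) (f : ℕ), (∀ x, σ x = x ^ q) ∧ (∀ x, σ (σ x) = x) ∧ (∃ a, σ a ≠ a) ∧ 2 ≤ q ∧
      q = p ^ f ∧ 0 < f := by
  obtain ⟨σ, hσ, hσσ, hq2⟩ := FormsLib.exists_qhom hq
  obtain ⟨⟨k, hk⟩, hp, hcard⟩ := FiniteField.card F p
  rw [hq] at hcard
  obtain ⟨f, -, hf⟩ := (Nat.dvd_prime_pow hp).1 (hcard ▸ dvd_pow_self q two_ne_zero)
  haveI := AutPSU.QField.of_card hq
  obtain ⟨a, ha⟩ := AutPSU.qb_ne (F := F) (q := q)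
  refine ⟨σ, f, hσ, hσσ, ⟨a, by rwa [hσ, ← AutPSU.qb_apply]⟩, hq2, hf, Nat.pos_of_ne_zero ?_⟩
  rintro rfl
  rw [pow_zero] at hf
  omega

variable {σ : F →+* F}

omit [Fintype F] in
/-- A norm-one element in either notation. -/
theorem norm_iff (hσ : ∀ x, σ x = x ^ q) (z : F) : z * σ z = 1 ↔ z ^ (q + 1) = 1 := by rw [hσ, ← pow_succ']

/-- The standard Hermitian form is flipped by the involution. -/
theorem hermB_flip (hσσ : ∀ x, σ (σ x) = x) (n : ℕ) : FormTorus.IsFlipForm σ 1 (FormsLib.hermB n σ) := by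
  classical
  refine ⟨fun v w => by simp [FormsLib.hermB, hσσ, mul_comm], fun v hv => funext fun i => ?_⟩
  have := hv (Pi.single i 1)
  simpa [FormsLib.hermB, Pi.single_apply] using this

variable {V : Type*} [AddCommGroup V] [Module F V] {B : V →ₛₗ[σ] V →ₗ[F] F}

omit [Fintype F] in
theorem refl_of_flip (hB : FormTorus.IsFlipForm σ 1 B) (x y : V) (h : B x y = 0) : B y x = 0 := by
  rw [hB.flip x y, h, map_zero, mul_zero]

omit [Fintype F] in
theorem ndOn_top (hB : FormTorus.IsFlipForm σ 1 B) : NdOn B ⊤ := fun u _ h => hB.nondeg u fun v => h v trivial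

omit [Fintype F] in
/-- Polarisation. -/
theorem eq_zero_of_diag (hne : ∃ a, σ a ≠ a) {X : Submodule F V} (h : ∀ v ∈ X, B v v = 0) :
    ∀ u ∈ X, ∀ v ∈ X, B u v = 0 := by
  intro u hu v hv
  obtain ⟨a, ha⟩ := hne
  have h1 := h (u + v) (X.add_mem hu hv)
  have h2 := h (a • u + v) (X.add_mem (X.smul_mem a hu) hv)
  simp only [map_add, map_smul, map_smulₛₗ, LinearMap.add_apply, LinearMap.smul_apply, smul_eq_mul, h u hu,
    h v hv, mul_zero, add_zero, zero_add] at h1 h2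
  have h3 : (σ a - a) * B u v = 0 := by linear_combination h2 - a * h1
  exact (mul_eq_zero.1 h3).resolve_left (sub_ne_zero.2 ha)

omit [Fintype F] in
/-- A nonzero nondegenerate subspace has an anisotropic vector. -/
theorem exists_aniso (hne : ∃ a, σ a ≠ a) {X : Submodule F V} (hX : NdOn B X) (hX0 : X ≠ ⊥) :
    ∃ v ∈ X, B v v ≠ 0 := by
  by_contra h
  push Not at h
  obtain ⟨u, hu, hu0⟩ := Submodule.exists_mem_ne_zero_of_ne_bot hX0
  exact hu0 (hX u hu (eq_zero_of_diag hne h u hu))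

omit [Fintype F] in
/-- Nondegenerate lines. -/
theorem exists_line (hne : ∃ a, σ a ≠ a) {X : Submodule F V} (hX : NdOn B X) (hX0 : X ≠ ⊥) :
    ∃ S : Submodule F V, S ≤ X ∧ NdOn B S ∧ finrank F S = 1 := by
  obtain ⟨v, hv, hvv⟩ := exists_aniso hne hX hX0
  have hv0 : v ≠ 0 := fun h => hvv (by rw [h, map_zero])
  refine ⟨Submodule.span F {v}, (Submodule.span_singleton_le_iff_mem v X).2 hv, fun u hu hall => ?_,
    finrank_span_singleton hv0⟩
  obtain ⟨c, rfl⟩ := Submodule.mem_span_singleton.1 hu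
  have := hall v (Submodule.mem_span_singleton_self v)
  rw [map_smulₛₗ, LinearMap.smul_apply, smul_eq_mul, mul_eq_zero, or_iff_left hvv, map_eq_zero] at this
  rw [this, zero_smul]

/-- Orthonormal coordinates. -/
theorem exists_transfer (hq : Fintype.card F = q ^ 2) (hσ : ∀ x, σ x = x ^ q) [FiniteDimensional F V]
    (hB : FormTorus.IsFlipForm σ 1 B) {n : ℕ} (hn : finrank F V = n) :
    ∃ Φ : V ≃ₗ[F] (Fin n → F), ∀ u v, B u v = FormsLib.hermB n σ (Φ u) (Φ v) := by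
  haveI := AutPSU.QField.of_card hq
  have hq' : σ = ((AutPSU.qb (F := F) q : F ≃+* F) : F →+* F) :=
    RingHom.ext fun a => by rw [hσ, RingEquiv.coe_toRingHom, AutPSU.qb_apply]
  subst hq'
  obtain ⟨Φ, hΦ⟩ := FormTorus.exists_isometry_fin hB hn
  exact ⟨Φ, fun u v => by rw [hΦ, FormsLib.hermB_apply hσ]⟩

/-- An isometry as an element of `GU`. -/
theorem exists_gu (hq : Fintype.card F = q ^ 2) (hσ : ∀ x, σ x = x ^ q) [FiniteDimensional F V]
    (hB : FormTorus.IsFlipForm σ 1 B) {n : ℕ} (hn : finrank F V = n) (g : Module.End F V)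
    (hg : ∀ u v, B (g u) (g v) = B u v) :
    ∃ (G : GL (Fin n) F) (Φ : V ≃ₗ[F] (Fin n → F)), G ∈ Cfsg.GU n F q ∧
      (∀ u v, B u v = FormsLib.hermB n σ (Φ u) (Φ v)) ∧
      Matrix.toLin' (G : Matrix (Fin n) (Fin n) F) = Φ.conjAlgEquiv F g ∧
      (G : Matrix (Fin n) (Fin n) F).det = LinearMap.det g := by
  obtain ⟨Φ, hΦ⟩ := exists_transfer hq hσ hB hn
  have hinj : Function.Injective g := (injective_iff_map_eq_zero g).2 fun u hu => hB.nondeg u fun v => by
    rw [← hg, hu, map_zero, LinearMap.zero_apply]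
  let ge : V ≃ₗ[F] V := LinearEquiv.ofBijective g ⟨hinj, LinearMap.injective_iff_surjective.1 hinj⟩
  let gn : (Fin n → F) ≃ₗ[F] (Fin n → F) := (Φ.symm.trans ge).trans Φ
  have hgn : ∀ v, gn v = Φ (g (Φ.symm v)) := fun v => rfl
  obtain ⟨G, hG, hGv, hGd⟩ := FormCentral.exists_gu_of_isometry hσ gn fun u v => by
    rw [hgn, hgn, ← hΦ, hg, hΦ, Φ.apply_symm_apply, Φ.apply_symm_apply]
  refine ⟨G, Φ, hG, hΦ, LinearMap.ext fun v => (Matrix.toLin'_apply _ v).trans (hGv v), hGd.trans ?_⟩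
  exact LinearMap.det_conj g Φ

/-- An isometry of determinant one as an element of `SU`, with its invariant subspaces. -/
theorem exists_su (hq : Fintype.card F = q ^ 2) (hσ : ∀ x, σ x = x ^ q) [FiniteDimensional F V]
    (hB : FormTorus.IsFlipForm σ 1 B) {n : ℕ} (hn : finrank F V = n) (g : Module.End F V)
    (hg : ∀ u v, B (g u) (g v) = B u v) (hdet : LinearMap.det g = 1) :
    ∃ x : Matrix.SpecialLinearGroup (Fin n) F, x ∈ Cfsg.SU n F q ∧
      (∀ (r : ℕ) (z : F), g ^ r = z • (1 : Module.End F V) →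
        ((x ^ r : Matrix.SpecialLinearGroup (Fin n) F) : Matrix (Fin n) (Fin n) F) =
          z • (1 : Matrix (Fin n) (Fin n) F)) ∧
      (∀ z : F, (x : Matrix (Fin n) (Fin n) F) = z • (1 : Matrix (Fin n) (Fin n) F) → ∀ v, g v = z • v) ∧
      ∀ W : Submodule F (Fin n → F), W.map (Matrix.toLin' (x : Matrix (Fin n) (Fin n) F)) ≤ W →
        ∃ U : Submodule F V, finrank F U = finrank F W ∧ U.map g ≤ U ∧
          ((∀ u ∈ W, ∀ v ∈ W, Cfsg.hermForm n F q u v = 0) → OrthTo B U U) ∧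
          ((∀ u ∈ W, u ≠ 0 → ∃ v ∈ W, Cfsg.hermForm n F q u v ≠ 0) → NdOn B U) := by
  obtain ⟨G, Φ, hG, hΦ, hGg, hGd⟩ := exists_gu hq hσ hB hn g hg
  let x : Matrix.SpecialLinearGroup (Fin n) F := ⟨(G : Matrix (Fin n) (Fin n) F), hGd.trans hdet⟩
  have hx : Matrix.toLin' (x : Matrix (Fin n) (Fin n) F) = Φ.conjAlgEquiv F g := hGg
  have hxv : ∀ v, Matrix.toLin' (x : Matrix (Fin n) (Fin n) F) (Φ v) = Φ (g v) := fun v => by
    rw [hx]
    show Φ (g (Φ.symm (Φ v))) = Φ (g v)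
    rw [Φ.symm_apply_apply]
  refine ⟨x, fun u v => hG u v, fun r z hz => Matrix.toLin'.injective ?_, fun z hz v => ?_, fun W hW => ?_⟩
  · rw [Matrix.SpecialLinearGroup.coe_pow, Matrix.toLin'_pow, hx, ← map_pow, hz, map_smul, map_one, map_smul,
      Matrix.toLin'_one]
    rfl
  · refine Φ.injective ?_
    rw [← hxv, hz, map_smul, Matrix.toLin'_one, map_smul]
    rfl
  · refine ⟨W.map (Φ.symm : (Fin n → F) →ₗ[F] V), Φ.symm.finrank_map_eq W, ?_, fun h => ?_, fun h => ?_⟩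
    · rintro _ ⟨_, ⟨w, hw, rfl⟩, rfl⟩
      refine ⟨_, hW ⟨w, hw, rfl⟩, ?_⟩
      rw [LinearEquiv.coe_coe, Φ.symm_apply_eq, ← hxv, Φ.apply_symm_apply]
    · rintro _ ⟨u, hu, rfl⟩ _ ⟨v, hv, rfl⟩
      rw [hΦ, LinearEquiv.coe_coe, Φ.apply_symm_apply, Φ.apply_symm_apply, FormsLib.hermB_apply hσ]
      exact h v hv u hu
    · rintro _ ⟨u, hu, rfl⟩ hall
      by_contra hne
      have hu0 : u ≠ 0 := fun e => hne (by rw [e, map_zero])
      obtain ⟨v, hv, hv'⟩ := h u hu hu0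
      refine hv' ?_
      have h1 := refl_of_flip hB _ _ (hall _ ⟨v, hv, rfl⟩)
      rwa [hΦ, LinearEquiv.coe_coe, Φ.apply_symm_apply, Φ.apply_symm_apply, FormsLib.hermB_apply hσ] at h1

/-- An element of `SU` as an isometry. -/
theorem iso_of_su (hσ : ∀ x, σ x = x ^ q) {n : ℕ} {x : Matrix.SpecialLinearGroup (Fin n) F}
    (hx : x ∈ Cfsg.SU n F q) (u v : Fin n → F) :
    FormsLib.hermB n σ (Matrix.toLin' (x : Matrix (Fin n) (Fin n) F) u)
      (Matrix.toLin' (x : Matrix (Fin n) (Fin n) F) v) = FormsLib.hermB n σ u v := by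
  rw [Matrix.toLin'_apply, Matrix.toLin'_apply, FormsLib.hermB_apply hσ, FormsLib.hermB_apply hσ]
  exact hx v u

/-- A scalar power of an element of `SU`. -/
theorem scalar_power (hq : Fintype.card F = q ^ 2) (hσ : ∀ x, σ x = x ^ q) {n : ℕ} (hn : 0 < n)
    {x : Matrix.SpecialLinearGroup (Fin n) F} (hx : x ∈ Cfsg.SU n F q) {r : ℕ} {z : F}
    (hz : ((x ^ r : Matrix.SpecialLinearGroup (Fin n) F) : Matrix (Fin n) (Fin n) F) =
      z • (1 : Matrix (Fin n) (Fin n) F)) :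
    z ^ n = 1 ∧ z ^ (q + 1) = 1 ∧
      Matrix.toLin' (x : Matrix (Fin n) (Fin n) F) ^ r = z • (1 : Module.End F (Fin n → F)) := by
  have hpow : Matrix.toLin' (x : Matrix (Fin n) (Fin n) F) ^ r = z • (1 : Module.End F (Fin n → F)) := by
    rw [← Matrix.toLin'_pow, ← Matrix.SpecialLinearGroup.coe_pow, hz, map_smul, Matrix.toLin'_one]
    rfl
  refine ⟨?_, ?_, hpow⟩
  · have h := (x ^ r).2
    rw [hz, Matrix.det_smul, Fintype.card_fin, Matrix.det_one, mul_one] at h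
    exact h
  · classical
    have hq0 : q ≠ 0 := fun h => by
      have := Fintype.card_pos (α := F)
      rw [hq, h] at this
      simp at this
    have h := pow_isometry (iso_of_su hσ hx) r (Pi.single ⟨0, hn⟩ (1 : F)) (Pi.single ⟨0, hn⟩ 1)
    rw [hpow] at h
    simp only [LinearMap.smul_apply, Module.End.one_apply, map_smul, map_smulₛₗ, smul_eq_mul] at h
    rw [FormsLib.hermB_apply hσ, UnitaryOrder.hermForm_single hq0, Pi.single_eq_same, mul_one, hσ] at h
    rw [pow_succ']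
    exact h

/-- An `r`-th root of norm one, when `r` is prime to `q + 1`. -/
theorem exists_root {r : ℕ} (hr : Nat.Coprime r (q + 1)) {z : F} (hz : z ^ (q + 1) = 1) :
    ∃ l : F, l ^ (q + 1) = 1 ∧ l ^ r = z := by
  have hz0 : z ≠ 0 := fun h => by simp [h] at hz
  refine ⟨z ^ Nat.gcdA r (q + 1), ?_, ?_⟩
  · rw [← zpow_natCast, ← zpow_mul, mul_comm, zpow_mul, zpow_natCast, hz, one_zpow]
  · have h := Nat.gcd_eq_gcd_ab r (q + 1)
    rw [hr.gcd_eq_one, Nat.cast_one] at h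
    rw [← zpow_natCast, ← zpow_mul, mul_comm]
    calc z ^ ((r : ℤ) * Nat.gcdA r (q + 1))
        = z ^ (((r : ℤ) * Nat.gcdA r (q + 1)) + ((q + 1 : ℕ) : ℤ) * Nat.gcdB r (q + 1)) := by
          rw [zpow_add₀ hz0, zpow_mul z ((q + 1 : ℕ) : ℤ), zpow_natCast, hz, one_zpow, mul_one]
      _ = z := by rw [← h, zpow_one]

/-- A square root of a norm-one element, of norm `1` or `-1`. -/
theorem exists_sqrt (hq : Fintype.card F = q ^ 2) (h2 : (2 : F) ≠ 0) {z : F} (hz : z ^ (q + 1) = 1) :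
    ∃ l : F, l * l = z ∧ (l ^ (q + 1) = 1 ∨ l ^ (q + 1) = -1) := by
  have hF2 : ringChar F ≠ 2 := fun h => h2 (by
    have h' := ringChar.Nat.cast_ringChar (R := F)
    rw [h] at h'
    exact_mod_cast h')
  have hodd := FiniteField.odd_card_of_char_ne_two hF2
  rw [hq] at hodd
  obtain ⟨k, hk⟩ : Odd q := Nat.not_even_iff_odd.1 fun h => by
    have := Nat.even_iff.1 (h.pow_of_ne_zero two_ne_zero)
    omega
  have hz0 : z ≠ 0 := fun h => by simp [h] at hz
  obtain ⟨l, hl⟩ := (FiniteField.isSquare_iff hF2 hz0).2 (show z ^ (Fintype.card F / 2) = 1 by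
    rw [hq, hk, show (2 * k + 1) ^ 2 / 2 = (2 * k + 1 + 1) * k by
      rw [show (2 * k + 1) ^ 2 = 2 * ((2 * k + 1 + 1) * k) + 1 by ring]; omega, ← hk, pow_mul, hz, one_pow])
  refine ⟨l, hl.symm, mul_self_eq_one_iff.1 ?_⟩
  rw [← mul_pow, ← hl, hz]

/-- Norm-one elements of any order dividing `q + 1`. -/
theorem exists_norm_one_of_order (hq : Fintype.card F = q ^ 2) {N : ℕ} (hN : N ∣ q + 1) :
    ∃ z : F, z ^ (q + 1) = 1 ∧ orderOf z = N := by
  obtain ⟨g, hg⟩ := IsCyclic.exists_ofOrder_eq_natCard (α := (powMonoidHom (q + 1) : Fˣ →* Fˣ).ker)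
  rw [UnitaryOrder.card_norm_one_units hq] at hg
  obtain ⟨l, hl⟩ := hN
  refine ⟨((g ^ l : (powMonoidHom (q + 1) : Fˣ →* Fˣ).ker) : Fˣ), ?_, ?_⟩
  · rw [← Units.val_pow_eq_pow_val]
    exact congrArg Units.val (g ^ l).2
  · rw [orderOf_units, Subgroup.orderOf_coe]
    have hl0 : l ≠ 0 := fun h => by rw [h, mul_zero] at hl; omega
    rw [orderOf_pow_of_dvd hl0 (by rw [hg, hl]; exact dvd_mul_left l N), hg, hl,
      Nat.mul_div_cancel _ (Nat.pos_of_ne_zero hl0)]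

end Cfsg.Agent.Elusive.SU
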