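import Cfsg.Agent.Lib.Elusive.UnitaryBasic
import Cfsg.Agent.Lib.Elusive.UnitaryArith

/-!
The numbers of nondegenerate and of totally isotropic subspaces of a Hermitian space modulo a prime.
-/

set_option autoImplicit false
set_option linter.style.haveILetI false

namespace Cfsg.Agent.Elusive.SU

open Module FormIso
open UnitaryParabolic (ff PP)

variable {F : Type*} [Field F] {σ : F →+* F} {V : Type*} [AddCommGroup V] [Module F V]

/-- The restriction of a form. -/
noncomputable def restr (B : V →ₛₗ[σ] V →ₗ[F] F) (X : Submodule F V) : X →ₛₗ[σ] X →ₗ[F] F :=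
  LinearMap.mk₂'ₛₗ σ (RingHom.id F) (fun u v => B (u : V) (v : V))
    (fun a b c => by simp) (fun a b c => by simp) (fun a b c => by simp) (fun a b c => by simp)

variable {B : V →ₛₗ[σ] V →ₗ[F] F}

theorem restr_apply {X : Submodule F V} (u v : X) : restr B X u v = B (u : V) (v : V) := rfl

/-- A nondegenerate subspace is Hermitian. -/
theorem restr_flip (hB : FormTorus.IsFlipForm σ 1 B) {X : Submodule F V} (hX : NdOn B X) :
    FormTorus.IsFlipForm σ 1 (restr B X) :=
  ⟨fun u v => hB.flip (u : V) (v : V), fun u h => Subtype.ext (hX u u.2 fun v hv => h ⟨v, hv⟩)⟩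

/-- Orthonormal families. -/
abbrev ONTup (B : V →ₛₗ[σ] V →ₗ[F] F) (m : ℕ) : Type _ :=
  {e : Fin m → V // ∀ i j, B (e i) (e j) = if i = j then 1 else 0}

theorem orth_linearIndependent {m : ℕ} (e : ONTup B m) : LinearIndependent F e.1 := by
  classical
  rw [Fintype.linearIndependent_iff]
  intro g hg i
  have h := congrArg (B (e.1 i)) hg
  simpa [map_sum, e.2] using h

variable [Fintype F] {q : ℕ}

/-- The number of orthonormal families in the standard space. -/
theorem card_onTup (hq : Fintype.card F = q ^ 2) (hσ : ∀ x, σ x = x ^ q) (hσσ : ∀ x, σ (σ x) = x) (n : ℕ) :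
    ∀ m, m ≤ n → Nat.card (ONTup (FormsLib.hermB n σ) m) =
      ∏ j ∈ Finset.range m, q ^ (n - j - 1) * ff q (n - j) := by
  classical
  intro m
  set H := FormsLib.hermB n σ
  have hH : FormTorus.IsFlipForm σ 1 H := hermB_flip hσσ n
  induction m with
  | zero =>
    intro _
    rw [Finset.range_zero, Finset.prod_empty]
    haveI : Unique (ONTup H 0) := ⟨⟨⟨Fin.elim0, fun i => i.elim0⟩⟩, fun e => Subtype.ext (funext fun i => i.elim0)⟩
    exact Nat.card_unique
  | succ j ih =>
    intro hj
    have hext : ∀ p : ONTup H j, Nat.card {v : Fin n → F // (∀ i, H (p.1 i) v = 0) ∧ H v v = 1} =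
        q ^ (n - j - 1) * ff q (n - j) := by
      intro p
      set L : (Fin n → F) →ₗ[F] (Fin j → F) := LinearMap.pi fun i => H (p.1 i)
      set P := LinearMap.ker L with hP
      have hLs : Function.Surjective L := fun a => ⟨∑ i, a i • p.1 i, funext fun i => by simp [L, map_sum, p.2]⟩
      have hd := L.finrank_range_add_finrank_ker
      rw [LinearMap.range_eq_top.2 hLs, finrank_top, finrank_fin_fun, finrank_fin_fun, ← hP] at hd
      have hmem : ∀ v, v ∈ P ↔ ∀ i, H (p.1 i) v = 0 := fun v => by simp [P, L, funext_iff]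
      have hPn : NdOn H P := fun u hu hall => hH.nondeg u fun v => by
        have h1 : v - ∑ i, L v i • p.1 i ∈ P := (hmem _).2 fun l => by simp [L, map_sum, p.2]
        have h2 := hall _ h1
        rw [map_sub, map_sum, sub_eq_zero] at h2
        rw [h2]
        refine Finset.sum_eq_zero fun i _ => ?_
        rw [map_smul, refl_of_flip hH _ _ ((hmem u).1 hu i), smul_zero]
      obtain ⟨Φ, hΦ⟩ := exists_transfer hq hσ (restr_flip hH hPn) (n := n - j - 1 + 1) (by omega)
      have hc := UnitaryOrder.card_norm_one_vec hq (n - j - 1)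
      rw [show (if Even (n - j - 1) then q ^ (n - j - 1 + 1) + 1 else q ^ (n - j - 1 + 1) - 1) = ff q (n - j) by
        rw [show n - j = n - j - 1 + 1 by omega, ff, Nat.add_sub_cancel]
        by_cases h : Even (n - j - 1) <;> simp [h, Nat.even_add_one]] at hc
      rw [← hc]
      refine Nat.card_congr (Equiv.trans ⟨fun v => (⟨⟨v.1, (hmem _).2 v.2.1⟩, v.2.2⟩ : {v : P // H v v = 1}),
        fun v => ⟨v.1.1, (hmem _).1 v.1.2, v.2⟩, fun _ => rfl, fun _ => rfl⟩
        (Equiv.subtypeEquiv Φ.toEquiv fun v => ?_))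
      rw [← FormsLib.hermB_apply hσ, LinearEquiv.coe_toEquiv, ← hΦ, restr_apply]
    let E : ONTup H (j + 1) ≃ Σ p : ONTup H j, {v : Fin n → F // (∀ i, H (p.1 i) v = 0) ∧ H v v = 1} :=
      { toFun := fun e => ⟨⟨Fin.tail e.1, fun a b => by simpa [Fin.tail] using e.2 a.succ b.succ⟩,
          ⟨e.1 0, fun i => by simpa [Fin.tail, Fin.succ_ne_zero] using e.2 i.succ 0, by simpa using e.2 0 0⟩⟩
        invFun := fun s => ⟨Fin.cons s.2.1 s.1.1, fun a b => by
          have h0 : ∀ i, H (s.1.1 i) s.2.1 = 0 := s.2.2.1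
          induction a using Fin.cases with
          | zero =>
            induction b using Fin.cases with
            | zero => simpa using s.2.2.2
            | succ b => simpa [(Fin.succ_ne_zero b).symm] using refl_of_flip hH _ _ (h0 b)
          | succ a =>
            induction b using Fin.cases with
            | zero => simpa [Fin.succ_ne_zero] using h0 a
            | succ b => simpa using s.1.2 a b⟩
        left_inv := fun e => Subtype.ext (Fin.cons_self_tail _)
        right_inv := fun s => by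
          obtain ⟨p, v, hv⟩ := s
          rfl }
    haveI : Fintype (ONTup H j) := Fintype.ofFinite _
    rw [Nat.card_congr E, Nat.card_sigma, Finset.sum_congr rfl fun p _ => hext p, Finset.sum_const, smul_eq_mul,
      Finset.card_univ, ← Nat.card_eq_fintype_card, ih (by omega), Finset.prod_range_succ]

variable {r : ℕ} [Fact r.Prime] {i c : ℕ}

/-- If `r` divides the number of nondegenerate `m`-spaces, a multiple of `c` lies in the top window. -/
theorem nd_mod_lt (hq : Fintype.card F = q ^ 2) (hσ : ∀ x, σ x = x ^ q) (hσσ : ∀ x, σ (σ x) = x)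
    (hr2 : r ≠ 2) (hrq : (q : ZMod r) ≠ 0) (hi : i = orderOf (q : ZMod r))
    (hc : c = if i % 4 = 0 then i else if i % 4 = 2 then i / 2 else 2 * i) (hc0 : 0 < c) {n m : ℕ} (hm : m ≤ n)
    (hΩ : r ∣ Nat.card {W : Submodule F (Fin n → F) // finrank F ↥W = m ∧
      (∀ u ∈ W, u ≠ 0 → ∃ v ∈ W, Cfsg.hermForm n F q u v ≠ 0)}) :
    n % c < m ∧ c ≤ n := by
  classical
  set H := FormsLib.hermB n σ
  have hH : FormTorus.IsFlipForm σ 1 H := hermB_flip hσσ n
  set Ω := {W : Submodule F (Fin n → F) // finrank F ↥W = m ∧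
      (∀ u ∈ W, u ≠ 0 → ∃ v ∈ W, Cfsg.hermForm n F q u v ≠ 0)}
  have hnd : ∀ W : Ω, NdOn H W.1 := fun W u hu hall => by
    by_contra hne
    obtain ⟨v, hv, hv'⟩ := W.2.2 u hu hne
    exact hv' ((FormsLib.hermB_apply hσ v u).symm.trans (refl_of_flip hH _ _ (hall v hv)))
  have hfib : ∀ W : Ω, Nat.card (ONTup (restr H W.1) m) = Nat.card (ONTup (FormsLib.hermB m σ) m) := fun W => by
    obtain ⟨Φ, hΦ⟩ := exists_transfer hq hσ (restr_flip hH (hnd W)) W.2.1
    exact Nat.card_congr (Equiv.subtypeEquiv (Equiv.arrowCongr (Equiv.refl _) Φ.toEquiv) fun e => by simp [hΦ])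
  let f : (Σ W : Ω, ONTup (restr H W.1) m) → ONTup H m := fun s => ⟨fun a => (s.2.1 a : Fin n → F), s.2.2⟩
  have hspan : ∀ s, Submodule.span F (Set.range (f s).1) = s.1.1 := fun s =>
    Submodule.eq_of_le_of_finrank_eq (Submodule.span_le.2 (by rintro _ ⟨a, rfl⟩; exact (s.2.1 a).2))
      (by rw [finrank_span_eq_card (orth_linearIndependent (f s)), Fintype.card_fin, s.1.2.1])
  have hbij : Function.Bijective f := by
    refine ⟨fun s s' h => ?_, fun e => ?_⟩
    · obtain ⟨W, a⟩ := s
      obtain ⟨W', a'⟩ := s'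
      obtain rfl : W = W' := Subtype.ext ((hspan ⟨W, a⟩).symm.trans (h ▸ hspan ⟨W', a'⟩))
      exact congrArg (Sigma.mk W) (Subtype.ext (funext fun l => Subtype.ext (congrFun (congrArg Subtype.val h) l)))
    · set W := Submodule.span F (Set.range e.1)
      have hW : finrank F W = m ∧ ∀ u ∈ W, u ≠ 0 → ∃ v ∈ W, Cfsg.hermForm n F q u v ≠ 0 := by
        refine ⟨by rw [finrank_span_eq_card (orth_linearIndependent e), Fintype.card_fin], fun u hu hu0 => ?_⟩
        by_contra hne
        push Not at hne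
        obtain ⟨g, rfl⟩ := (Submodule.mem_span_range_iff_exists_fun F).1 hu
        refine hu0 (Finset.sum_eq_zero fun l _ => ?_)
        have h := (FormsLib.hermB_apply hσ _ _).trans (hne (e.1 l) (Submodule.subset_span ⟨l, rfl⟩))
        simp only [map_sum, map_smul, smul_eq_mul, H, e.2] at h
        rw [Finset.sum_eq_single l (fun x _ hx => by rw [if_neg (Ne.symm hx), mul_zero]) (by simp), if_pos rfl,
          mul_one] at h
        rw [h, zero_smul]
      exact ⟨⟨⟨W, hW⟩, ⟨fun a => ⟨e.1 a, Submodule.subset_span ⟨a, rfl⟩⟩, e.2⟩⟩, rfl⟩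
  haveI : Fintype Ω := Fintype.ofFinite _
  have hkey := Nat.card_congr (Equiv.ofBijective f hbij)
  rw [Nat.card_sigma, Finset.sum_congr rfl (fun W _ => hfib W), Finset.sum_const, smul_eq_mul, Finset.card_univ,
    ← Nat.card_eq_fintype_card, card_onTup hq hσ hσσ n m hm] at hkey
  have hrp := (Fact.out : r.Prime)
  obtain ⟨j, hj, hdvd⟩ := (hrp.prime.dvd_finsetProd_iff _).1 (hkey ▸ hΩ.mul_right _)
  have hjm := Finset.mem_range.1 hj
  exact mod_lt_of_window hc0 ((dvd_ff_iff hr2 hrq hi hc _).1 ((hrp.dvd_mul.1 hdvd).resolve_left fun h =>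
    hrq ((ZMod.natCast_eq_zero_iff _ _).2 (hrp.dvd_of_dvd_pow h)))) hjm (by omega)

/-- The count of totally isotropic subspaces against bases. -/
theorem ti_card_mul (hq : Fintype.card F = q ^ 2) {n m : ℕ} :
    Nat.card {W : Submodule F (Fin n → F) // finrank F ↥W = m ∧
        (∀ u ∈ W, ∀ v ∈ W, Cfsg.hermForm n F q u v = 0)} *
      ∏ a : Fin m, ((q ^ 2) ^ m - (q ^ 2) ^ (a : ℕ)) =
      ∏ a ∈ Finset.range m, (q ^ (2 * a) * (ff q (n - 2 * a) * ff q (n - 2 * a - 1))) := by
  classical
  haveI := AutPSU.QField.of_card hq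
  rw [← UnitaryParabolic.card_tup (F := F) (q := q)]
  set Ω := {W : Submodule F (Fin n → F) // finrank F ↥W = m ∧ (∀ u ∈ W, ∀ v ∈ W, Cfsg.hermForm n F q u v = 0)}
  let f : (Σ W : Ω, {e : Fin m → W.1 // LinearIndependent F e}) → UnitaryParabolic.Tup n m F q := fun s =>
    ⟨fun a => (s.2.1 a : Fin n → F), s.2.2.map' s.1.1.subtype s.1.1.ker_subtype,
      fun a b => s.1.2.2 _ (s.2.1 a).2 _ (s.2.1 b).2⟩
  have hspan : ∀ s, Submodule.span F (Set.range (f s).1) = s.1.1 := fun s =>
    Submodule.eq_of_le_of_finrank_eq (Submodule.span_le.2 (by rintro _ ⟨a, rfl⟩; exact (s.2.1 a).2))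
      (by rw [finrank_span_eq_card (f s).2.1, Fintype.card_fin, s.1.2.1])
  have hbij : Function.Bijective f := by
    refine ⟨fun s s' h => ?_, fun e => ?_⟩
    · obtain ⟨W, a⟩ := s
      obtain ⟨W', a'⟩ := s'
      obtain rfl : W = W' := Subtype.ext ((hspan ⟨W, a⟩).symm.trans (h ▸ hspan ⟨W', a'⟩))
      exact congrArg (Sigma.mk W) (Subtype.ext (funext fun l => Subtype.ext (congrFun (congrArg Subtype.val h) l)))
    · have hW : ∀ u ∈ Submodule.span F (Set.range e.1), ∀ v ∈ Submodule.span F (Set.range e.1),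
          Cfsg.hermForm n F q u v = 0 := by
        intro u hu v hv
        obtain ⟨σ', hσ', -, -⟩ := FormsLib.exists_qhom hq
        rw [← FormsLib.hermB_apply hσ']
        obtain ⟨g, rfl⟩ := (Submodule.mem_span_range_iff_exists_fun F).1 hu
        obtain ⟨g', rfl⟩ := (Submodule.mem_span_range_iff_exists_fun F).1 hv
        simp only [map_sum, map_smul, map_smulₛₗ, LinearMap.sum_apply, LinearMap.smul_apply,
          FormsLib.hermB_apply hσ', e.2.2, smul_zero, Finset.sum_const_zero]
      exact ⟨⟨⟨_, by rw [finrank_span_eq_card e.2.1, Fintype.card_fin], hW⟩,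
        ⟨fun a => ⟨e.1 a, Submodule.subset_span ⟨a, rfl⟩⟩, LinearIndependent.of_comp (Submodule.subtype _) e.2.1⟩⟩, rfl⟩
  haveI : Fintype Ω := Fintype.ofFinite _
  rw [← Nat.card_congr (Equiv.ofBijective f hbij), Nat.card_sigma, Finset.sum_congr rfl fun W _ => ?_,
    Finset.sum_const, smul_eq_mul, Finset.card_univ, ← Nat.card_eq_fintype_card]
  have hl := @card_linearIndependent F W.1 _ _ _ _ _ m (by rw [W.2.1])
  rw [W.2.1, hq] at hl
  exact hl

end Cfsg.Agent.Elusive.SU
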