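import Cfsg.Agent.Lib.Elusive.UnitaryBasic
import Cfsg.Agent.Lib.Elusive.UnitaryArith
import Cfsg.Agent.Lib.Elusive.UnitaryCounts

/-!
Nondegenerate pieces of isometries of prime order of a Hermitian space, and elements with few fixed vectors.
-/

set_option autoImplicit false
set_option linter.style.haveILetI false

namespace Cfsg.Agent.Elusive.SU

open Module FormIso
open UnitaryParabolic (ff PP)

variable {F : Type*} [Field F] [Fintype F] {q r : ℕ} [Fact r.Prime] {σ : F →+* F} {i b c : ℕ}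

/-- The order of the field with `q^2` elements modulo `r`. -/
theorem orderOf_card (hq : Fintype.card F = q ^ 2) (hr2 : r ≠ 2) (hrq : (q : ZMod r) ≠ 0)
    (hi : i = orderOf (q : ZMod r)) (hb : b = if Even i then i / 2 else i)
    (hc : c = if i % 4 = 0 then i else if i % 4 = 2 then i / 2 else 2 * i) :
    orderOf (Fintype.card F : ZMod r) = b ∧ (Fintype.card F : ZMod r) ≠ 0 := by
  rw [hq]
  exact ⟨(bc_facts hr2 hrq hi hb hc).2.2.2.1, by rw [Nat.cast_pow]; exact pow_ne_zero _ hrq⟩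

variable {V : Type*} [AddCommGroup V] [Module F V] [FiniteDimensional F V] {B : V →ₛₗ[σ] V →ₗ[F] F}
  {T : Module.End F V}

/-- A nontrivial isometry of order `r` needs `c` dimensions. -/
theorem c_le_finrank (hq : Fintype.card F = q ^ 2) (hσ : ∀ x, σ x = x ^ q) (hB : FormTorus.IsFlipForm σ 1 B)
    (hiso : ∀ u v, B (T u) (T v) = B u v) (hT : T ^ r = 1) (hT1 : T ≠ 1) (hr2 : r ≠ 2) (hrq : (q : ZMod r) ≠ 0)
    (hi : i = orderOf (q : ZMod r))
    (hc : c = if i % 4 = 0 then i else if i % 4 = 2 then i / 2 else 2 * i) : c ≤ finrank F V := by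
  obtain ⟨G, Φ, hG, -, hGT, -⟩ := exists_gu hq hσ hB rfl T hiso
  have hGr : (⟨G, hG⟩ : Cfsg.GU (finrank F V) F q) ^ r = 1 := by
    refine Subtype.ext (Units.ext (Matrix.toLin'.injective ?_))
    rw [SubmonoidClass.coe_pow, Units.val_pow_eq_pow_val, Matrix.toLin'_pow, hGT, ← map_pow, hT, map_one,
      OneMemClass.coe_one, Units.val_one, Matrix.toLin'_one]
    rfl
  have hG1 : (⟨G, hG⟩ : Cfsg.GU (finrank F V) F q) ≠ 1 := fun h => hT1 <| by
    refine (Φ.conjAlgEquiv F).injective ?_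
    rw [← hGT, show (G : Matrix (Fin (finrank F V)) (Fin (finrank F V)) F) = 1 from
      congrArg (fun x : Cfsg.GU (finrank F V) F q => (x.1.1 : Matrix (Fin (finrank F V)) (Fin (finrank F V)) F)) h,
      Matrix.toLin'_one, map_one]
    rfl
  haveI : Finite (Cfsg.GU (finrank F V) F q) := inferInstance
  have h := orderOf_dvd_natCard (⟨G, hG⟩ : Cfsg.GU (finrank F V) F q)
  rw [orderOf_eq_prime hGr hG1] at h
  obtain ⟨j, hj, hff⟩ := (dvd_card_GU hq hrq _).1 h
  exact (Nat.le_of_dvd (by omega) ((dvd_ff_iff hr2 hrq hi hc _).1 hff)).trans hj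

/-- Nondegenerate pieces of dimension `c`. -/
theorem block (hq : Fintype.card F = q ^ 2) (hσ : ∀ x, σ x = x ^ q) (hσσ : ∀ x, σ (σ x) = x)
    (hne : ∃ a, σ a ≠ a) {p f : ℕ} [Fact p.Prime] [CharP F p] (hqp : q = p ^ f)
    (hB : FormTorus.IsFlipForm σ 1 B) (hiso : ∀ u v, B (T u) (T v) = B u v) (hT : T ^ r = 1) (hr2 : r ≠ 2)
    (hrF : (r : F) ≠ 0) (hrq : (q : ZMod r) ≠ 0) (hi : i = orderOf (q : ZMod r))
    (hb : b = if Even i then i / 2 else i)
    (hc : c = if i % 4 = 0 then i else if i % 4 = 2 then i / 2 else 2 * i)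
    (W : Submodule F V) (hWT : W.map T ≤ W) (hfree : ∀ v ∈ W, T v = v → v = 0) (hW : NdOn B W) (hW0 : W ≠ ⊥) :
    ∃ S : Submodule F V, S ≤ W ∧ S.map T ≤ S ∧ NdOn B S ∧ finrank F S = c := by
  obtain ⟨he, hrQ⟩ := orderOf_card hq hr2 hrq hi hb hc
  obtain ⟨hb0, hc0, -, -, h42, h4⟩ := bc_facts hr2 hrq hi hb hc
  by_cases h : i % 4 = 2
  · obtain ⟨hcb, hbodd, hib⟩ := h42 h
    have hN1 : ∀ a : F, σ a = a ^ p ^ (f * b) := fun a => by
      obtain ⟨l, hl⟩ := hbodd
      rw [pow_mul, ← hqp, hl, hσ, pow_succ', pow_mul a q, pow_mul q, ← hq, FiniteField.pow_card_pow]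
    have hN2 : r ∣ p ^ (f * b) + 1 := by
      rw [pow_mul, ← hqp, ← ZMod.natCast_eq_zero_iff, Nat.cast_add, Nat.cast_pow, Nat.cast_one]
      have h1 := (neg_pow_iff hr2 hrq hi hc b).2 (hcb ▸ dvd_rfl)
      rw [hbodd.neg_pow, neg_eq_iff_eq_neg] at h1
      rw [h1, neg_add_cancel]
    obtain ⟨S, hS1, hS2, hS3, hS4⟩ := exists_selfdual (refl_of_flip hB) hiso hr2 hrF hrQ hT hσσ (Or.inl hne)
      (p := p) hN1 hN2 hW hWT hfree hW0
    exact ⟨S, hS1, hS2, hS3, by rw [hS4, he, hcb]⟩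
  · have hno : ∀ S : Submodule F V, S.map T ≤ S → (∀ v ∈ S, T v = v → v = 0) →
        finrank F S = orderOf (Fintype.card F : ZMod r) → ¬ NdOn B S := by
      intro S hST hSfree hSd hS
      have hSm : ∀ v ∈ S, T v ∈ S := fun v hv => hST ⟨v, hv, rfl⟩
      have hle := c_le_finrank (T := T.restrict hSm) hq hσ (restr_flip hB hS) (fun u v => hiso (u : V) (v : V))
        (LinearMap.ext fun v => Subtype.ext (by rw [Module.End.pow_restrict r]; simp [hT]))
        (fun h1 => ?_) hr2 hrq hi hc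
      · rw [hSd, he, h4 h] at hle
        omega
      · have hS0 : S ≠ ⊥ := fun e => by
          rw [e, finrank_bot, he] at hSd
          omega
        obtain ⟨v, hv, hv0⟩ := Submodule.exists_mem_ne_zero_of_ne_bot hS0
        exact hv0 (hSfree v hv (congrArg Subtype.val (LinearMap.congr_fun h1 ⟨v, hv⟩)))
    obtain ⟨P, h1, h2, h3, h5⟩ := exists_pair (refl_of_flip hB) hiso hrF hrQ hT hW hWT hfree hW0 hno
    exact ⟨P, h1, h2, h3, by rw [h5, he, h4 h]⟩

omit [Fact r.Prime] in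
/-- An isometry as an element of `SU`, keeping the fixed space. -/
theorem exists_su_fix (hq : Fintype.card F = q ^ 2) (hσ : ∀ x, σ x = x ^ q) (hB : FormTorus.IsFlipForm σ 1 B) {n : ℕ}
    (hn : finrank F V = n) (g : Module.End F V) (hg : ∀ u v, B (g u) (g v) = B u v) (hdet : LinearMap.det g = 1)
    (hgr : g ^ r = 1) :
    ∃ x : Matrix.SpecialLinearGroup (Fin n) F, x ∈ Cfsg.SU n F q ∧
      (Matrix.toLin' (x : Matrix (Fin n) (Fin n) F)) ^ r = 1 ∧
      ((x ^ r : Matrix.SpecialLinearGroup (Fin n) F) : Matrix (Fin n) (Fin n) F) =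
          (1 : F) • (1 : Matrix (Fin n) (Fin n) F) ∧
      finrank F ↥(fixedSpace (Matrix.toLin' (x : Matrix (Fin n) (Fin n) F))) = finrank F ↥(fixedSpace g) := by
  obtain ⟨G, Φ, hG, -, hGg, hGd⟩ := exists_gu hq hσ hB hn g hg
  let x : Matrix.SpecialLinearGroup (Fin n) F := ⟨(G : Matrix (Fin n) (Fin n) F), hGd.trans hdet⟩
  have hx : Matrix.toLin' (x : Matrix (Fin n) (Fin n) F) = Φ.conjAlgEquiv F g := hGg
  have hpow : (Matrix.toLin' (x : Matrix (Fin n) (Fin n) F)) ^ r = 1 := by rw [hx, ← map_pow, hgr, map_one]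
  refine ⟨x, fun u v => hG u v, hpow, Matrix.toLin'.injective ?_, ?_⟩
  · rw [Matrix.SpecialLinearGroup.coe_pow, Matrix.toLin'_pow, hpow, one_smul, Matrix.toLin'_one]
    rfl
  · rw [hx, ← LinearEquiv.finrank_map_eq Φ (fixedSpace g)]
    suffices h : fixedSpace (Φ.conjAlgEquiv F g) = (fixedSpace g).map (Φ : V →ₗ[F] (Fin n → F)) by rw [h]
    ext v
    constructor
    · intro hv
      refine ⟨Φ.symm v, mem_fixedSpace.2 ?_, Φ.apply_symm_apply v⟩
      have h : Φ (g (Φ.symm v)) = v := mem_fixedSpace.1 hv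
      conv_rhs => rw [← h]
      rw [Φ.symm_apply_apply]
    · rintro ⟨u, hu, rfl⟩
      refine mem_fixedSpace.2 ?_
      show Φ (g (Φ.symm (Φ u))) = Φ u
      rw [Φ.symm_apply_apply, mem_fixedSpace.1 hu]

omit [FiniteDimensional F V] in
/-- An element with as few fixed vectors as possible. -/
theorem exists_element (hq : Fintype.card F = q ^ 2) (hσ : ∀ x, σ x = x ^ q) (hσσ : ∀ x, σ (σ x) = x)
    (hne : ∃ a, σ a ≠ a) {p f : ℕ} [Fact p.Prime] [CharP F p] (hqp : q = p ^ f)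
    (hr2 : r ≠ 2) (hrF : (r : F) ≠ 0) (hrq : (q : ZMod r) ≠ 0) (hi : i = orderOf (q : ZMod r))
    (hb : b = if Even i then i / 2 else i)
    (hc : c = if i % 4 = 0 then i else if i % 4 = 2 then i / 2 else 2 * i) (hi2 : i ≠ 2) (n : ℕ) :
    ∃ x : Matrix.SpecialLinearGroup (Fin n) F, x ∈ Cfsg.SU n F q ∧
      (Matrix.toLin' (x : Matrix (Fin n) (Fin n) F)) ^ r = 1 ∧
      ((x ^ r : Matrix.SpecialLinearGroup (Fin n) F) : Matrix (Fin n) (Fin n) F) =
          (1 : F) • (1 : Matrix (Fin n) (Fin n) F) ∧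
      finrank F ↥(fixedSpace (Matrix.toLin' (x : Matrix (Fin n) (Fin n) F))) = n % c := by
  classical
  obtain ⟨-, hc0, -⟩ := bc_facts hr2 hrq hi hb hc
  obtain ⟨G, hG⟩ := exists_prime_orderOf_dvd_card' (G := Cfsg.GU c F q) r
    ((dvd_card_GU hq hrq c).2 ⟨c - 1, by omega, by
      rw [Nat.sub_add_cancel hc0]
      exact (dvd_ff_iff hr2 hrq hi hc c).2 dvd_rfl⟩)
  set g : Module.End F (Fin c → F) := Matrix.toLin' (G.1.1 : Matrix (Fin c) (Fin c) F) with hgdef
  set H := FormsLib.hermB c σ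
  have hH : FormTorus.IsFlipForm σ 1 H := hermB_flip hσσ c
  have hgiso : ∀ u v, H (g u) (g v) = H u v := fun u v => by
    rw [hgdef, Matrix.toLin'_apply, Matrix.toLin'_apply, FormsLib.hermB_apply hσ, FormsLib.hermB_apply hσ]
    exact G.2 v u
  have hGr : G ^ r = 1 := by rw [← hG, pow_orderOf_eq_one]
  have hgr : g ^ r = 1 := by
    rw [hgdef, ← Matrix.toLin'_pow, ← Units.val_pow_eq_pow_val, ← SubmonoidClass.coe_pow, hGr]
    exact Matrix.toLin'_one
  have hfree : ∀ v, g v = v → v = 0 := by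
    obtain ⟨M, -, hMT, hMfree, hsup, -, hM, -, hdim⟩ :=
      exists_split (refl_of_flip hH) hgiso hrF hgr (ndOn_top hH) le_top
    have hM0 : M ≠ ⊥ := fun h => by
      rw [h, sup_bot_eq, top_inf_eq] at hsup
      have h1 : G = 1 := Subtype.ext (Units.ext (Matrix.toLin'.injective (LinearMap.ext fun v => by
        show g v = Matrix.toLin' (1 : Matrix (Fin c) (Fin c) F) v
        rw [Matrix.toLin'_one]
        exact mem_fixedSpace.1 (hsup ▸ trivial))))
      rw [h1, orderOf_one] at hG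
      exact (Fact.out : r.Prime).ne_one hG.symm
    obtain ⟨S, hSM, -, -, hSd⟩ := block hq hσ hσσ hne (p := p) hqp hH hgiso hgr hr2 hrF hrq hi hb hc M hMT hMfree hM hM0
    have h1 := Submodule.finrank_mono hSM
    rw [finrank_top, finrank_fin_fun] at hdim
    have hMtop : M = ⊤ := Submodule.eq_top_of_finrank_eq (by rw [finrank_fin_fun]; omega)
    exact fun v => hMfree v (hMtop ▸ trivial)
  set j := n / c
  set k := n % c
  let B' : ((Fin j → Fin c → F) × (Fin k → F)) →ₛₗ[σ] ((Fin j → Fin c → F) × (Fin k → F)) →ₗ[F] F :=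
    LinearMap.mk₂'ₛₗ σ (RingHom.id F) (fun u v => ∑ a, H (u.1 a) (v.1 a) + FormsLib.hermB k σ u.2 v.2)
      (fun u u' v => by simp [Finset.sum_add_distrib]; abel)
      (fun a u v => by simp [Finset.mul_sum, mul_add])
      (fun u v v' => by simp [Finset.sum_add_distrib]; abel)
      (fun a u v => by simp [Finset.mul_sum, mul_add])
  have hB' : ∀ u v, B' u v = ∑ a, H (u.1 a) (v.1 a) + FormsLib.hermB k σ u.2 v.2 := fun u v => rfl
  have hfl : FormTorus.IsFlipForm σ 1 B' := by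
    refine ⟨fun u v => ?_, fun u hu => Prod.ext (funext fun a => hH.nondeg _ fun y => ?_)
      ((hermB_flip hσσ k).nondeg _ fun y => ?_)⟩
    · rw [hB', hB', map_add, map_sum, one_mul]
      simp only [hH.flip (u.1 _) (v.1 _), (hermB_flip hσσ k).flip u.2 v.2, one_mul]
    · have := hu (Pi.single a y, 0)
      rw [hB', Finset.sum_eq_single a (fun x _ hx => by simp [Pi.single_eq_of_ne hx]) (by simp)] at this
      simpa using this
    · simpa [hB'] using hu (0, y)
  let g' : Module.End F ((Fin j → Fin c → F) × (Fin k → F)) :=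
    (LinearMap.pi fun a => g ∘ₗ LinearMap.proj a).prodMap LinearMap.id
  have hg' : ∀ u, g' u = ((fun a => g (u.1 a)), u.2) := fun u => rfl
  have hg'r : g' ^ r = 1 := by
    have key : ∀ (l : ℕ) u, (g' ^ l) u = ((fun a => (g ^ l) (u.1 a)), u.2) := by
      intro l
      induction l with
      | zero => exact fun u => rfl
      | succ l ih => intro u; rw [pow_succ', Module.End.mul_apply, ih, hg']; simp [pow_succ']
    refine LinearMap.ext fun u => ?_
    rw [key, hgr]
    rfl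
  have hg'iso : ∀ u v, B' (g' u) (g' v) = B' u v := fun u v => by
    rw [hB', hB', hg', hg']
    simp only [hgiso]
  have hfin : finrank F ((Fin j → Fin c → F) × (Fin k → F)) = n := by
    rw [finrank_prod, finrank_pi_fintype, Finset.sum_const, Finset.card_univ, Fintype.card_fin, finrank_fin_fun,
      finrank_fin_fun, smul_eq_mul, Nat.div_add_mod']
  obtain ⟨G', -, hG', -, -, hG'd⟩ := exists_gu hq hσ hfl hfin g' hg'iso
  have hd1 : LinearMap.det g' ^ (q + 1) = 1 := hG'd ▸ UnitaryOrder.det_norm_one hq hG'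
  have hd2 : LinearMap.det g' ^ r = 1 := by rw [← map_pow, hg'r, map_one]
  have hdet := pow_gcd_eq_one.2 ⟨hd2, hd1⟩
  rw [((Fact.out : r.Prime).coprime_iff_not_dvd.2 fun h => hi2 ((not_dvd_succ_iff hr2 hi).1 h)).gcd_eq_one,
    pow_one] at hdet
  obtain ⟨x, hx, hxr, hxr', hxfix⟩ := exists_su_fix hq hσ hfl hfin g' hg'iso hdet hg'r
  refine ⟨x, hx, hxr, hxr', hxfix.trans ?_⟩
  have hfs : fixedSpace g' = LinearMap.range (LinearMap.inr F (Fin j → Fin c → F) (Fin k → F)) := by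
    ext u
    rw [mem_fixedSpace, hg']
    constructor
    · intro hu
      exact ⟨u.2, Prod.ext (funext fun a => (hfree _ (congrFun (congrArg Prod.fst hu) a)).symm) rfl⟩
    · rintro ⟨y, rfl⟩
      simp
      rfl
  rw [hfs, LinearMap.finrank_range_of_inj LinearMap.inr_injective, finrank_fin_fun]

end Cfsg.Agent.Elusive.SU
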