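import Cfsg.Agent.Lib.Elusive.UnitaryIsotropic
import Cfsg.Agent.Lib.Elusive.UnitaryBlocks
import Cfsg.Agent.Lib.FormTorus.UnitaryTorus

/-!
Elements of prime order of unitary groups with small totally isotropic invariant subspaces.
-/

set_option autoImplicit false
set_option linter.style.haveILetI false

namespace Cfsg.Agent.Elusive.SU

open Module FormIso Polynomial

variable {F : Type*} [Field F] [Fintype F] {q r : ℕ} [Fact r.Prime] {σ : F →+* F}

/-- A Hermitian form on an extension of odd degree preserved by a root of unity. -/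
theorem exists_field_form (hq : Fintype.card F = q ^ 2) (hσ : ∀ x, σ x = x ^ q) {p f : ℕ} [Fact p.Prime] [CharP F p]
    (hqp : q = p ^ f) {K : Type*} [Field K] [Fintype K] [Algebra F K] {b : ℕ} (hb : Odd b)
    (hKdim : finrank F K = b) (hdvd : r ∣ q ^ b + 1) {ζ : K} (hζ : ζ ^ r = 1) :
    ∃ B : K →ₛₗ[σ] K →ₗ[F] F, FormTorus.IsFlipForm σ 1 B ∧ ∀ u v, B (ζ * u) (ζ * v) = B u v := by
  classical
  haveI : Module.Finite F K := Module.Finite.of_finite
  haveI : CharP K p := charP_of_injective_algebraMap (algebraMap F K).injective p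
  haveI : ExpChar K p := ExpChar.prime Fact.out
  let τ : K →+* K := iterateFrobenius K p (f * b)
  have hτ : ∀ z, τ z = z ^ q ^ b := fun z => by rw [hqp, ← pow_mul, iterateFrobenius_def]
  have hodd : ∀ c : F, c ^ q ^ b = c ^ q := fun c => by
    obtain ⟨e, rfl⟩ := hb
    rw [pow_succ, pow_mul, pow_mul, ← hq, FiniteField.pow_card_pow]
  have hτc : ∀ c, τ (algebraMap F K c) = algebraMap F K (σ c) := fun c => by
    rw [hτ, ← map_pow, hodd, hσ]
  have hττ : ∀ z, τ (τ z) = z := fun z => by
    rw [hτ, hτ, ← pow_mul, ← pow_two, ← pow_mul, mul_comm b 2, pow_mul, ← hq,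
      ← show Fintype.card K = Fintype.card F ^ b by rw [Module.card_eq_pow_finrank (K := F) (V := K), hKdim],
      FiniteField.pow_card]
  have htr : ∀ z, Algebra.trace F K (τ z) = σ (Algebra.trace F K z) := fun z => by
    refine (algebraMap F K).injective ?_
    rw [← hτc, FiniteField.algebraMap_trace_eq_sum_pow, FiniteField.algebraMap_trace_eq_sum_pow, map_sum]
    simp only [map_pow]
  refine ⟨FormTorus.fieldB σ τ hτc 1, FormTorus.fieldB_isFlip σ (1 : F) τ hτc htr hττ 1 (by simp) one_ne_zero,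
    fun u v => FormTorus.fieldB_mul σ τ hτc 1 ζ ?_ u v⟩
  obtain ⟨l, hl⟩ := hdvd
  rw [hτ, ← pow_succ, hl, pow_mul, hζ, one_pow]

/-- An element whose totally isotropic invariant subspaces are bounded class by class. -/
theorem exists_class_element (hq : Fintype.card F = q ^ 2) (hσ : ∀ x, σ x = x ^ q) (hσσ : ∀ x, σ (σ x) = x)
    {p f : ℕ} [Fact p.Prime] [CharP F p] (hqp : q = p ^ f) {K : Type*} [Field K] [Fintype K] [DecidableEq K]
    [Algebra F K] {b : ℕ} (hb : Odd b) (hKdim : finrank F K = b) (hbr : b = orderOf (Fintype.card F : ZMod r))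
    (hdvd : r ∣ q ^ b + 1) {N u : ℕ} (η : Fin N → K) (hη : ∀ k, η k ^ r = 1 ∧ η k ≠ 1)
    (hsep : ∀ k l, minpoly F (η k) = minpoly F (η l) → η k = η l)
    (hdet : Nat.Coprime r (q + 1) ∨ ∏ k, Algebra.norm F (η k) = 1)
    (hnon : (0 < N ∧ 0 < u) ∨ ∃ k l, η k ≠ η l ∨ ∀ z : F, η k ≠ algebraMap F K z) {n : ℕ} (hn : n = N * b + u) :
    ∃ x : Matrix.SpecialLinearGroup (Fin n) F, x ∈ Cfsg.SU n F q ∧
      (∃ z : F, ((x ^ r : Matrix.SpecialLinearGroup (Fin n) F) : Matrix (Fin n) (Fin n) F) =
        z • (1 : Matrix (Fin n) (Fin n) F)) ∧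
      (∀ z : F, (x : Matrix (Fin n) (Fin n) F) ≠ z • (1 : Matrix (Fin n) (Fin n) F)) ∧
      ∀ W : Submodule F (Fin n → F), (∀ v ∈ W, ∀ w ∈ W, Cfsg.hermForm n F q v w = 0) →
        W.map (Matrix.toLin' (x : Matrix (Fin n) (Fin n) F)) ≤ W →
        finrank F W ≤ u / 2 + ∑ z ∈ Finset.univ.image η, b * ((Finset.univ.filter fun k => η k = z).card / 2) := by
  classical
  haveI : Module.Finite F K := Module.Finite.of_finite
  choose Bk hBk hBiso using fun k => exists_field_form (r := r) hq hσ (p := p) hqp hb hKdim hdvd (hη k).1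
  let B : ((Fin N → K) × (Fin u → F)) →ₛₗ[σ] ((Fin N → K) × (Fin u → F)) →ₗ[F] F :=
    LinearMap.mk₂'ₛₗ σ (RingHom.id F) (fun v w => ∑ k, Bk k (v.1 k) (w.1 k) + FormsLib.hermB u σ v.2 w.2)
      (fun v v' w => by simp [Finset.sum_add_distrib]; abel)
      (fun a v w => by simp [Finset.mul_sum, mul_add])
      (fun v w w' => by simp [Finset.sum_add_distrib]; abel)
      (fun a v w => by simp [Finset.mul_sum, mul_add])
  have hB : ∀ v w, B v w = ∑ k, Bk k (v.1 k) (w.1 k) + FormsLib.hermB u σ v.2 w.2 := fun v w => rfl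
  have hfl : FormTorus.IsFlipForm σ 1 B := by
    refine ⟨fun v w => ?_, fun v hv => Prod.ext (funext fun k => (hBk k).nondeg _ fun y => ?_)
      ((hermB_flip hσσ u).nondeg _ fun y => ?_)⟩
    · rw [hB, hB, map_add, map_sum, one_mul, (hermB_flip hσσ u).flip v.2 w.2, one_mul]
      congr 1
      exact Finset.sum_congr rfl fun k _ => by rw [(hBk k).flip (v.1 k) (w.1 k), one_mul]
    · have := hv (Pi.single k y, 0)
      rw [hB, Finset.sum_eq_single k (fun l _ hl => by simp [Pi.single_eq_of_ne hl]) (by simp)] at this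
      simpa using this
    · simpa [hB] using hv (0, y)
  let g : Module.End F ((Fin N → K) × (Fin u → F)) :=
    (LinearMap.pi fun k => LinearMap.mulLeft F (η k) ∘ₗ LinearMap.proj k).prodMap LinearMap.id
  have hg : ∀ v, g v = ((fun k => η k * v.1 k), v.2) := fun v => rfl
  have hpoly : ∀ (P : F[X]) v, aeval g P v = ((fun k => aeval (η k) P * v.1 k), P.eval 1 • v.2) := by
    intro P
    induction P using Polynomial.induction_on with
    | C c =>
      intro v
      rw [aeval_C, Module.algebraMap_end_apply, eval_C]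
      refine Prod.ext (funext fun k => ?_) rfl
      show c • v.1 k = aeval (η k) (C c) * v.1 k
      rw [aeval_C, ← Algebra.smul_def]
    | add P Q hP hQ =>
      intro v
      rw [map_add, LinearMap.add_apply, hP, hQ]
      refine Prod.ext (funext fun k => ?_) ?_
      · simp [add_mul]
      · simp [add_smul]
    | monomial l c ih =>
      intro v
      rw [pow_succ, ← mul_assoc, map_mul, aeval_X, Module.End.mul_apply, ih, hg]
      refine Prod.ext (funext fun k => ?_) ?_
      · simp only [map_mul, aeval_X]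
        ring
      · simp
  have hgr : g ^ r = 1 := LinearMap.ext fun v => by
    rw [← aeval_X (R := F) g, ← map_pow, hpoly]
    refine Prod.ext (funext fun k => ?_) ?_
    · simp [(hη k).1]
    · simp
  have hiso : ∀ v w, B (g v) (g w) = B v w := fun v w => by
    rw [hB, hB, hg, hg]
    simp only [hBiso]
  have hfin : finrank F ((Fin N → K) × (Fin u → F)) = n := by
    rw [finrank_prod, finrank_pi_fintype, Finset.sum_const, Finset.card_univ, Fintype.card_fin, hKdim, finrank_fin_fun,
      smul_eq_mul, hn]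
  have hdet1 : LinearMap.det g = 1 := by
    rcases hdet with hcop | hprod
    · obtain ⟨G, -, hG, -, -, hGd⟩ := exists_gu hq hσ hfl hfin g hiso
      have hd1 : LinearMap.det g ^ (q + 1) = 1 := hGd ▸ UnitaryOrder.det_norm_one hq hG
      have hd2 : LinearMap.det g ^ r = 1 := by rw [← map_pow, hgr, map_one]
      have h := pow_gcd_eq_one.2 ⟨hd2, hd1⟩
      rwa [hcop.gcd_eq_one, pow_one] at h
    · show LinearMap.det ((LinearMap.pi fun k => LinearMap.mulLeft F (η k) ∘ₗ LinearMap.proj k).prodMap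
        (LinearMap.id : (Fin u → F) →ₗ[F] _)) = 1
      rw [LinearMap.det_prodMap, LinearMap.det_id, mul_one, LinearMap.det_pi, ← hprod]
      exact Finset.prod_congr rfl fun k _ => rfl
  obtain ⟨x, hx, hxp, hxs, hxW⟩ := exists_su hq hσ hfl hfin g hiso hdet1
  refine ⟨x, hx, ⟨1, hxp r 1 (by rw [hgr, one_smul])⟩, fun z hz => ?_, fun W₀ hW₀ hW₀T => ?_⟩
  · have h1 : ∀ v, g v = z • v := hxs z hz
    have hk : ∀ k, η k = algebraMap F K z := fun k => by
      have h := congrArg (fun v => v.1 k) (h1 (Pi.single k 1, 0))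
      simp [hg] at h
      rw [h, Algebra.smul_def, mul_one]
    rcases hnon with ⟨hN0, hu0⟩ | ⟨k, l, h | h⟩
    · have h := congrArg (fun v => v.2 ⟨0, hu0⟩) (h1 (0, fun _ => 1))
      simp [hg] at h
      exact (hη ⟨0, hN0⟩).2 (by rw [hk, ← h, map_one])
    · exact h ((hk k).trans (hk l).symm)
    · exact h z (hk k)
  obtain ⟨W, hWd, hWg', hWiso, -⟩ := hxW W₀ hW₀T
  have hW := hWiso hW₀
  rw [← hWd]
  have hWg : ∀ v ∈ W, g v ∈ W := fun v hv => hWg' ⟨v, hv, rfl⟩
  have hWP : ∀ (P : F[X]), ∀ v ∈ W, aeval g P v ∈ W := by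
    intro P v hv
    rw [aeval_eq_sum_range, LinearMap.sum_apply]
    exact Submodule.sum_mem _ fun l _ => Submodule.smul_mem _ _ (pow_mem hWg' hv l)
  have hint : ∀ y : K, IsIntegral F y := fun y => Algebra.IsIntegral.isIntegral y
  have hmin : ∀ y y' : K, aeval y (minpoly F y') = 0 → minpoly F y = minpoly F y' := fun y y' h0 =>
    eq_of_monic_of_associated (minpoly.monic (hint _)) (minpoly.monic (hint _))
      ((minpoly.irreducible (hint _)).associated_of_dvd (minpoly.irreducible (hint _)) (minpoly.dvd F _ h0))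
  have hone : ∀ k, (minpoly F (η k)).eval 1 ≠ 0 := fun k h0 => by
    have h2 : aeval (1 : K) (minpoly F (η k)) = 0 := by
      rw [← map_one (algebraMap F K), aeval_algebraMap_apply, coe_aeval_eq_eval, h0, map_zero]
    have h4 := minpoly.aeval F (η k)
    rw [← hmin 1 (η k) h2, minpoly.one, map_sub, aeval_X, map_one, sub_eq_zero] at h4
    exact (hη k).2 h4
  set Z := Finset.univ.image η with hZ
  have hZmem : ∀ k, η k ∈ Z := fun k => Finset.mem_image_of_mem η (Finset.mem_univ k)
  -- the separating polynomials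
  let P1 : F[X] := ∏ z ∈ Z, minpoly F z
  let Pz : K → F[X] := fun z => (X - 1) * ∏ z' ∈ Z.erase z, minpoly F z'
  have hP1 : ∀ k, aeval (η k) P1 = 0 := fun k => by
    rw [map_prod]
    exact Finset.prod_eq_zero (hZmem k) (minpoly.aeval F (η k))
  have hP1one : P1.eval 1 ≠ 0 := by
    rw [eval_prod]
    refine Finset.prod_ne_zero_iff.2 fun z hz => ?_
    obtain ⟨k, -, rfl⟩ := Finset.mem_image.1 hz
    exact hone k
  have hPz0 : ∀ z k, η k ≠ z → aeval (η k) (Pz z) = 0 := fun z k hk => by
    rw [map_mul, map_prod]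
    exact mul_eq_zero_of_right _ (Finset.prod_eq_zero (Finset.mem_erase.2 ⟨hk, hZmem k⟩) (minpoly.aeval F (η k)))
  have hPz1 : ∀ k, aeval (η k) (Pz (η k)) ≠ 0 := fun k => by
    rw [map_mul, map_sub, aeval_X, map_one, map_prod]
    refine mul_ne_zero (sub_ne_zero.2 (hη k).2) (Finset.prod_ne_zero_iff.2 fun z' hz' h0 => ?_)
    obtain ⟨hne', hz''⟩ := Finset.mem_erase.1 hz'
    obtain ⟨l, -, rfl⟩ := Finset.mem_image.1 hz''
    exact hne' (hsep k l (hmin _ _ h0)).symm
  -- the subspaces of the classes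
  let Cz : K → Submodule F ((Fin N → K) × (Fin u → F)) := fun z =>
    { carrier := {v | (∀ k, η k ≠ z → v.1 k = 0) ∧ v.2 = 0}
      add_mem' := fun {a a'} ha ha' => ⟨fun k hk => by simp [ha.1 k hk, ha'.1 k hk], by simp [ha.2, ha'.2]⟩
      zero_mem' := ⟨fun _ _ => rfl, rfl⟩
      smul_mem' := fun c {a} ha => ⟨fun k hk => by simp [ha.1 k hk], by simp [ha.2]⟩ }
  let C1 : Submodule F ((Fin N → K) × (Fin u → F)) := LinearMap.range (LinearMap.inr F (Fin N → K) (Fin u → F))
  let Φ : W →ₗ[F] ((∀ z : Z, ↥(W ⊓ Cz (z : K))) × ↥(W ⊓ C1)) :=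
    (LinearMap.pi fun z : Z => ((aeval g (Pz (z : K))) ∘ₗ W.subtype).codRestrict (W ⊓ Cz (z : K)) fun v =>
      ⟨hWP _ v v.2, fun k hk => by
        show (aeval g (Pz (z : K)) (v : (Fin N → K) × (Fin u → F))).1 k = 0
        rw [hpoly]
        simp [hPz0 _ k hk], by
        show (aeval g (Pz (z : K)) (v : (Fin N → K) × (Fin u → F))).2 = 0
        rw [hpoly]
        simp [Pz]⟩).prod
    (((aeval g P1) ∘ₗ W.subtype).codRestrict (W ⊓ C1) fun v => ⟨hWP _ v v.2, P1.eval 1 • (v : (Fin N → K) × (Fin u → F)).2, by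
      show _ = aeval g P1 (v : (Fin N → K) × (Fin u → F))
      rw [hpoly]
      exact Prod.ext (funext fun k => by simp [hP1]) rfl⟩)
  have hΦ : Function.Injective Φ := by
    refine (injective_iff_map_eq_zero Φ).2 fun v hv => Subtype.ext (Prod.ext (funext fun k => ?_) ?_)
    · have h : aeval g (Pz (η k)) (v : (Fin N → K) × (Fin u → F)) = 0 :=
        congrArg Subtype.val (congrFun (congrArg Prod.fst hv) ⟨η k, hZmem k⟩)
      rw [hpoly] at h
      exact (mul_eq_zero.1 (congrFun (congrArg Prod.fst h) k)).resolve_left (hPz1 k)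
    · have h : aeval g P1 (v : (Fin N → K) × (Fin u → F)) = 0 := congrArg Subtype.val (congrArg Prod.snd hv)
      rw [hpoly] at h
      exact (smul_eq_zero.1 (congrArg Prod.snd h)).resolve_left hP1one
  have hdim := LinearMap.finrank_le_finrank_of_injective hΦ
  rw [finrank_prod, finrank_pi_fintype, Finset.sum_coe_sort Z fun z => finrank F ↥(W ⊓ Cz z)] at hdim
  have hfix : 2 * finrank F ↥(W ⊓ C1) ≤ u := by
    have hC1n : NdOn B C1 := by
      rintro _ ⟨a, rfl⟩ hall
      have : a = 0 := (hermB_flip hσσ u).nondeg _ fun y => by simpa [hB] using hall _ ⟨y, rfl⟩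
      rw [this, map_zero]
    have h := two_mul_finrank_le hσσ hfl hC1n (inf_le_right : W ⊓ C1 ≤ C1) fun a ha c hc => hW a ha.1 c hc.1
    rwa [LinearMap.finrank_range_of_inj LinearMap.inr_injective, finrank_fin_fun] at h
  have hclass : ∀ z ∈ Z, finrank F ↥(W ⊓ Cz z) ≤ b * ((Finset.univ.filter fun k => η k = z).card / 2) := by
    intro z hz
    let ι : ({k : Fin N // η k = z} → K) →ₗ[F] ((Fin N → K) × (Fin u → F)) :=
      LinearMap.inl F _ _ ∘ₗ LinearMap.pi fun k : Fin N => if hk : η k = z then LinearMap.proj ⟨k, hk⟩ else 0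
    have hι : ∀ a k, (ι a).1 k = if hk : η k = z then a ⟨k, hk⟩ else 0 := fun a k => by
      by_cases hk : η k = z <;> simp [ι, hk]
    have hιinj : Function.Injective ι := fun a a' haa => funext fun k => by
      have := congrFun (congrArg Prod.fst haa) k.1
      rw [hι, hι, dif_pos k.2, dif_pos k.2] at this
      exact this
    have hCeq : Cz z = LinearMap.range ι := by
      ext v
      constructor
      · rintro ⟨hv1, hv2⟩
        refine ⟨fun k => v.1 k.1, Prod.ext (funext fun k => ?_) hv2.symm⟩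
        rw [hι]
        split_ifs with hk
        · rfl
        · exact (hv1 k hk).symm
      · rintro ⟨a, rfl⟩
        exact ⟨fun k hk => by rw [hι, dif_neg hk], rfl⟩
    have hCn : NdOn B (Cz z) := by
      intro v hv hall
      refine Prod.ext (funext fun k => ?_) hv.2
      by_cases hk : η k = z
      · refine (hBk k).nondeg _ fun y => ?_
        have h := hall (Pi.single k y, 0) ⟨fun l hl => Pi.single_eq_of_ne (fun e => hl (by rw [e, hk])) _, rfl⟩
        rw [hB, Finset.sum_eq_single k (fun l _ hl => by simp [Pi.single_eq_of_ne hl]) (by simp)] at h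
        simpa using h
      · exact hv.1 k hk
    have h2 := two_mul_finrank_le hσσ hfl hCn (inf_le_right : W ⊓ Cz z ≤ Cz z) fun a ha c hc => hW a ha.1 c hc.1
    have hCd : finrank F (Cz z) = (Finset.univ.filter fun k => η k = z).card * b := by
      rw [hCeq, LinearMap.finrank_range_of_inj hιinj, finrank_pi_fintype, Finset.sum_const, Finset.card_univ, hKdim,
        smul_eq_mul, Fintype.card_subtype]
    have hdvd' : b ∣ finrank F ↥(W ⊓ Cz z) := by
      rw [hbr]
      refine orderOf_dvd_finrank hgr ?_ fun v hv hfixv => Prod.ext (funext fun k => ?_) hv.2.2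
      · rintro _ ⟨v, hv, rfl⟩
        exact ⟨hWg v hv.1, fun k hk => by rw [hg]; simp [hv.2.1 k hk], hv.2.2⟩
      · have h : (η k - 1) * v.1 k = 0 := by
          rw [sub_mul, one_mul, sub_eq_zero]
          exact congrFun (congrArg Prod.fst hfixv) k
        exact (mul_eq_zero.1 h).resolve_left (sub_ne_zero.2 (hη k).2)
    obtain ⟨a, ha⟩ := hdvd'
    rw [ha, hCd, mul_comm _ b, mul_left_comm] at h2
    rw [ha]
    exact Nat.mul_le_mul_left b (by have := Nat.le_of_mul_le_mul_left h2 hb.pos; omega)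
  have hsum := Finset.sum_le_sum hclass
  omega

end Cfsg.Agent.Elusive.SU
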