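import Cfsg.Agent.Lib.Elusive.UnitaryIsotropic
import Cfsg.Agent.Lib.Elusive.UnitaryBlocks

/-!
Totally isotropic invariant subspaces for isometries of prime order of Hermitian spaces.
-/

set_option autoImplicit false
set_option linter.style.haveILetI false

namespace Cfsg.Agent.Elusive.SU

open Module FormIso Polynomial

variable {F : Type*} [Field F] {σ : F →+* F} {V : Type*} [AddCommGroup V] [Module F V] [FiniteDimensional F V]
  {B : V →ₛₗ[σ] V →ₗ[F] F} {T : Module.End F V}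

omit [FiniteDimensional F V] in
/-- The sum of orthogonal totally isotropic subspaces. -/
theorem orthTo_sup (hB : FormTorus.IsFlipForm σ 1 B) {U W : Submodule F V} (hU : OrthTo B U U) (hW : OrthTo B W W)
    (hUW : OrthTo B U W) : OrthTo B (U ⊔ W) (U ⊔ W) :=
  OrthTo.sup ((OrthTo.sup hU (hUW.symm (refl_of_flip hB))).symm (refl_of_flip hB))
    ((OrthTo.sup hUW hW).symm (refl_of_flip hB))

/-- Totally isotropic subspaces of all dimensions up to one half. -/
theorem exists_isotropic [Fintype F] {q : ℕ} (hq : Fintype.card F = q ^ 2) (hσ : ∀ x, σ x = x ^ q)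
    (hB : FormTorus.IsFlipForm σ 1 B) {X : Submodule F V} (hX : NdOn B X) {m : ℕ} (hm : 2 * m ≤ finrank F X) :
    ∃ W : Submodule F V, W ≤ X ∧ OrthTo B W W ∧ finrank F W = m := by
  classical
  haveI := AutPSU.QField.of_card hq
  obtain ⟨η, hη⟩ := AutPSU.exists_norm (F := F) (q := q) (c := (-1 : F)) (by rw [map_neg, map_one])
  rw [AutPSU.qb_apply, ← hσ] at hη
  obtain ⟨Φ, hΦ⟩ := exists_transfer hq hσ (restr_flip hB hX) (n := finrank F X) rfl
  let i0 : Fin m → Fin (finrank F X) := fun j => ⟨2 * (j : ℕ), by have := j.2; omega⟩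
  let i1 : Fin m → Fin (finrank F X) := fun j => ⟨2 * (j : ℕ) + 1, by have := j.2; omega⟩
  let w : Fin m → (Fin (finrank F X) → F) := fun j => Pi.single (i0 j) 1 + η • Pi.single (i1 j) 1
  let v : Fin m → V := fun j => ((Φ.symm (w j) : X) : V)
  have h00 : ∀ a b, i0 a = i0 b ↔ a = b :=
    fun a b => ⟨fun h => Fin.ext (by simpa [i0] using h), fun h => h ▸ rfl⟩
  have h11 : ∀ a b, i1 a = i1 b ↔ a = b :=
    fun a b => ⟨fun h => Fin.ext (by simpa [i1] using h), fun h => h ▸ rfl⟩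
  have h01 : ∀ a b, i0 a ≠ i1 b := fun a b h => by
    have := congrArg Fin.val h
    simp [i0, i1] at this
    omega
  have hvB : ∀ a b, B (v a) (v b) = 0 := fun a b => by
    show restr B X (Φ.symm (w a)) (Φ.symm (w b)) = 0
    rw [hΦ, Φ.apply_symm_apply, Φ.apply_symm_apply]
    simp only [w, map_add, map_smul, map_smulₛₗ, LinearMap.add_apply, LinearMap.smul_apply, smul_eq_mul,
      FormsLib.hermB_apply hσ, UnitaryOrder.hermForm_single (show q ≠ 0 by have := AutPSU.two_le_q (F := F) (q := q); omega),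
      Pi.single_apply, h00, h11, h01, fun c d => (h01 d c).symm, if_false, mul_zero, zero_add, add_zero]
    rcases eq_or_ne a b with rfl | hab
    · simp only [if_true, mul_one]
      linear_combination hη
    · simp [hab]
  have hli : LinearIndependent F v := by
    refine LinearIndependent.map' ?_ X.subtype X.ker_subtype
    refine LinearIndependent.map' ?_ (Φ.symm.toLinearMap) Φ.symm.ker
    rw [Fintype.linearIndependent_iff]
    intro g hg j
    have h := congrFun hg (i0 j)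
    simp [w, Pi.single_apply, h00, h01] at h
    exact h
  refine ⟨Submodule.span F (Set.range v), Submodule.span_le.2 ?_, ?_, by rw [finrank_span_eq_card hli, Fintype.card_fin]⟩
  · rintro _ ⟨j, rfl⟩
    exact (Φ.symm (w j)).2
  · intro x hx y hy
    obtain ⟨g, rfl⟩ := (Submodule.mem_span_range_iff_exists_fun F).1 hx
    obtain ⟨g', rfl⟩ := (Submodule.mem_span_range_iff_exists_fun F).1 hy
    simp [map_sum, hvB]

/-- Splitting off pieces that contain isotropic halves. -/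
theorem exists_free_of_step (hB : FormTorus.IsFlipForm σ 1 B) (hiso : ∀ u v, B (T u) (T v) = B u v) {N : ℕ}
    (hN : N ≠ 0) (hT : T ^ N = 1) {e D : ℕ} {M : Submodule F V}
    (hstep : ∀ X : Submodule F V, X ≤ M → X.map T ≤ X → NdOn B X → D ≤ finrank F X →
      ∃ P W : Submodule F V, P ≤ X ∧ P.map T ≤ P ∧ NdOn B P ∧ finrank F P = 2 * e ∧
        W ≤ P ∧ W.map T ≤ W ∧ OrthTo B W W ∧ finrank F W = e) :
    ∀ (a : ℕ) (X : Submodule F V), X ≤ M → X.map T ≤ X → NdOn B X →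
      (a = 0 ∨ 2 * ((a - 1) * e) + D ≤ finrank F X) →
      ∃ U : Submodule F V, U ≤ X ∧ U.map T ≤ U ∧ OrthTo B U U ∧ finrank F U = a * e := by
  intro a
  induction a with
  | zero =>
    intro X _ _ _ _
    exact ⟨⊥, bot_le, by simp, fun u hu v _ => by rw [(Submodule.mem_bot F).1 hu]; simp, by simp⟩
  | succ a ih =>
    intro X hXM hXT hX ha
    have ha' := ha.resolve_left (Nat.succ_ne_zero a)
    rw [Nat.add_sub_cancel] at ha'
    obtain ⟨P, W, hPX, hPT, hP, hPd, hWP, hWT, hW, hWd⟩ := hstep X hXM hXT hX (by omega)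
    obtain ⟨X', hX'X, hX'T, hX', ho, -, hinf, hd⟩ := exists_compl (refl_of_flip hB) hiso hN hT hX hXT hP hPT hPX
    obtain ⟨U, hUX, hUT, hU, hUd⟩ := ih X' (hX'X.trans hXM) hX'T hX' (by
      rcases Nat.eq_zero_or_pos a with h | h
      · exact Or.inl h
      · refine Or.inr ?_
        obtain ⟨l, rfl⟩ : ∃ l, a = l + 1 := ⟨a - 1, by omega⟩
        rw [add_mul, one_mul] at ha'
        rw [Nat.add_sub_cancel]
        omega)
    refine ⟨W ⊔ U, sup_le (hWP.trans hPX) (hUX.trans hX'X), invariant_sup hWT hUT,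
      orthTo_sup hB hW hU fun u hu v hv => ho u (hWP hu) v (hUX hv), ?_⟩
    have := Submodule.finrank_sup_add_finrank_inf_eq W U
    rw [le_bot_iff.1 ((inf_le_inf hWP hUX).trans hinf.le), finrank_bot, hWd, hUd] at this
    rw [Nat.succ_mul]
    omega

/-- Totally isotropic pieces in the fixed part and in the rest. -/
theorem exists_isotropic_invariant [Fintype F] {q : ℕ} (hq : Fintype.card F = q ^ 2) (hσ : ∀ x, σ x = x ^ q)
    (hB : FormTorus.IsFlipForm σ 1 B) {K M : Submodule F V} (hK : NdOn B K) (hKT : ∀ v ∈ K, T v = v)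
    (hfree : ∀ v ∈ M, T v = v → v = 0) (ho : OrthTo B K M) {m : ℕ} {U₁ : Submodule F V} (hU₁M : U₁ ≤ M)
    (hU₁T : U₁.map T ≤ U₁) (hU₁ : OrthTo B U₁ U₁) (hle : finrank F U₁ ≤ m)
    (hfix : 2 * (m - finrank F U₁) ≤ finrank F K) :
    ∃ U : Submodule F V, U.map T ≤ U ∧ OrthTo B U U ∧ finrank F U = m := by
  obtain ⟨U₀, hU₀K, hU₀, hU₀d⟩ := exists_isotropic hq hσ hB hK hfix
  have hU₀T : U₀.map T ≤ U₀ := by
    rintro _ ⟨v, hv, rfl⟩
    rwa [hKT v (hU₀K hv)]
  refine ⟨U₀ ⊔ U₁, invariant_sup hU₀T hU₁T, orthTo_sup hB hU₀ hU₁ fun u hu v hv => ho u (hU₀K hu) v (hU₁M hv), ?_⟩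
  have hinf : U₀ ⊓ U₁ = ⊥ := by
    rw [Submodule.eq_bot_iff]
    rintro x ⟨h0, h1⟩
    exact hfree x (hU₁M h1) (hKT x (hU₀K h0))
  have := Submodule.finrank_sup_add_finrank_inf_eq U₀ U₁
  rw [hinf, finrank_bot, hU₀d] at this
  omega

variable [Fintype F] {r : ℕ} [Fact r.Prime]

/-- Pairs of dual pieces give isotropic halves. -/
theorem step_pairs (hB : FormTorus.IsFlipForm σ 1 B) (hiso : ∀ u v, B (T u) (T v) = B u v) (hrF : (r : F) ≠ 0)
    (hrQ : (Fintype.card F : ZMod r) ≠ 0) (hT : T ^ r = 1)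
    (hno : ∀ S : Submodule F V, S.map T ≤ S → (∀ v ∈ S, T v = v → v = 0) →
      finrank F S = orderOf (Fintype.card F : ZMod r) → ¬ NdOn B S)
    {M : Submodule F V} (hfree : ∀ v ∈ M, T v = v → v = 0) (X : Submodule F V) (hXM : X ≤ M) (hXT : X.map T ≤ X)
    (hX : NdOn B X) (hD : 2 * orderOf (Fintype.card F : ZMod r) ≤ finrank F X) :
    ∃ P W : Submodule F V, P ≤ X ∧ P.map T ≤ P ∧ NdOn B P ∧
      finrank F P = 2 * orderOf (Fintype.card F : ZMod r) ∧
      W ≤ P ∧ W.map T ≤ W ∧ OrthTo B W W ∧ finrank F W = orderOf (Fintype.card F : ZMod r) := by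
  have hepos : 0 < orderOf (Fintype.card F : ZMod r) :=
    orderOf_pos_iff.2 (isUnit_iff_ne_zero.2 hrQ).isOfFinOrder
  have hX0 : X ≠ ⊥ := fun h => by rw [h, finrank_bot] at hD; omega
  obtain ⟨P, hPX, hPT, hP, hPd⟩ :=
    exists_pair (refl_of_flip hB) hiso hrF hrQ hT hX hXT (fun v hv => hfree v (hXM hv)) hX0 hno
  have hP0 : P ≠ ⊥ := fun h => by rw [h, finrank_bot] at hPd; omega
  have hPfree : ∀ v ∈ P, T v = v → v = 0 := fun v hv => hfree v (hXM (hPX hv))
  obtain ⟨W, hWP, hWT, hWd⟩ := exists_invariant_orderOf hT hrQ hPT hP0 hPfree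
  exact ⟨P, W, hPX, hPT, hP, hPd, hWP, hWT,
    (ndOn_or_orthTo (refl_of_flip hB) hiso hT hWT (fun v hv => hPfree v (hWP hv)) hWd).resolve_left
      (hno W hWT (fun v hv => hPfree v (hWP hv)) hWd), hWd⟩

omit [Fintype F] [Fact r.Prime] in
/-- A family of orthogonal pieces. -/
theorem exists_family (hB : FormTorus.IsFlipForm σ 1 B) (hiso : ∀ u v, B (T u) (T v) = B u v) {N : ℕ} (hN : N ≠ 0)
    (hT : T ^ N = 1) {e : ℕ} {M : Submodule F V}
    (hblock : ∀ W : Submodule F V, W ≤ M → W.map T ≤ W → NdOn B W → W ≠ ⊥ →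
      ∃ S : Submodule F V, S ≤ W ∧ S.map T ≤ S ∧ NdOn B S ∧ finrank F S = e) (he : 0 < e) :
    ∀ (J : ℕ) (X : Submodule F V), X ≤ M → X.map T ≤ X → NdOn B X → J * e ≤ finrank F X →
      ∃ D : Fin J → Submodule F V, (∀ j, D j ≤ X ∧ (D j).map T ≤ D j ∧ NdOn B (D j) ∧ finrank F (D j) = e) ∧
        ∀ j j', j ≠ j' → OrthTo B (D j) (D j') := by
  intro J
  induction J with
  | zero => exact fun X _ _ _ _ => ⟨fun j => j.elim0, fun j => j.elim0, fun j => j.elim0⟩
  | succ J ih =>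
    intro X hXM hXT hX hJ
    rw [Nat.succ_mul] at hJ
    obtain ⟨S, hSX, hST, hS, hSd⟩ := hblock X hXM hXT hX fun h => by rw [h, finrank_bot] at hJ; omega
    obtain ⟨X', hX'X, hX'T, hX', ho, -, -, hd⟩ := exists_compl (refl_of_flip hB) hiso hN hT hX hXT hS hST hSX
    obtain ⟨D, hD1, hD2⟩ := ih X' (hX'X.trans hXM) hX'T hX' (by omega)
    refine ⟨Fin.cons S D, fun j => ?_, fun j j' hjj => ?_⟩
    · induction j using Fin.cases with
      | zero => exact ⟨hSX, hST, hS, hSd⟩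
      | succ j => exact ⟨(hD1 j).1.trans hX'X, (hD1 j).2⟩
    · induction j using Fin.cases with
      | zero =>
        induction j' using Fin.cases with
        | zero => exact absurd rfl hjj
        | succ j' => exact fun u hu v hv => ho u hu v ((hD1 j').1 hv)
      | succ j =>
        induction j' using Fin.cases with
        | zero => exact fun u hu v hv => refl_of_flip hB _ _ (ho v hv u ((hD1 j).1 hu))
        | succ j' => exact hD2 j j' fun h => hjj (by rw [h])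

omit [Fact r.Prime] in
/-- Two orthogonal pieces with the same factor contain an isotropic piece. -/
theorem exists_iso_cyclic (hσσ : ∀ x, σ (σ x) = x) (hB : FormTorus.IsFlipForm σ 1 B)
    (hiso : ∀ u v, B (T u) (T v) = B u v) {p : ℕ} [Fact p.Prime] [CharP F p] {M : ℕ}
    (hN1 : ∀ a, σ a = a ^ p ^ M) (hT : T ^ (p ^ M + 1) = 1) {f : F[X]} (hfm : f.Monic) (hfi : Irreducible f)
    {e : ℕ} (hfd : f.natDegree = e) (hdeg : Fintype.card F ^ e = (p ^ M) ^ 2) {S₁ S₂ : Submodule F V}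
    (h₁T : S₁.map T ≤ S₁) (h₂T : S₂.map T ≤ S₂) (h₁ : NdOn B S₁) (h₂ : NdOn B S₂) (h₁d : finrank F S₁ = e)
    (h₂d : finrank F S₂ = e) (ho : OrthTo B S₁ S₂) (h₁f : ∀ v ∈ S₁, aeval T f v = 0)
    (h₂f : ∀ v ∈ S₂, aeval T f v = 0)
    (hmin : ∀ U : Submodule F V, U ≤ S₁ ⊔ S₂ → U.map T ≤ U → U ≠ ⊥ → e ≤ finrank F U) :
    ∃ W : Submodule F V, W ≤ S₁ ⊔ S₂ ∧ W.map T ≤ W ∧ OrthTo B W W ∧ finrank F W = e := by
  classical
  set P := S₁ ⊔ S₂ with hPdef
  have hPn : NdOn B P := ndOn_sup (refl_of_flip hB) h₁ h₂ ho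
  have hPT : P.map T ≤ P := invariant_sup h₁T h₂T
  have hPm : ∀ v ∈ P, T v ∈ P := fun v hv => hPT ⟨v, hv, rfl⟩
  set B' := restr B P
  let T' : Module.End F P := T.restrict hPm
  have hval : ∀ (g : F[X]) (u : P), ((aeval T' g u : P) : V) = aeval T g (u : V) :=
    fun g u => (aeval_restrict_apply hPm g u).symm
  have hfP : aeval T' f = 0 := LinearMap.ext fun v => Subtype.ext (by
    rw [hval]
    obtain ⟨x, hx, y, hy, hxy⟩ := Submodule.mem_sup.1 v.2
    rw [← hxy, map_add, h₁f x hx, h₂f y hy, add_zero]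
    rfl)
  have hT' : T' ^ (p ^ M + 1) = 1 := LinearMap.ext fun v => Subtype.ext (by
    rw [Module.End.pow_restrict _]
    simp [hT])
  have hpoly : ∀ (S : Submodule F V), S.map T ≤ S → ∀ (g : F[X]), ∀ x ∈ S, aeval T g x ∈ S := fun S hS g x hx => by
    rw [aeval_eq_sum_range, LinearMap.sum_apply]
    exact S.sum_mem fun l _ => S.smul_mem _ (pow_mem hS hx l)
  have he : 0 < e := hfd ▸ hfi.natDegree_pos
  -- each piece is spanned by any orbit
  have hcyc : ∀ (S : Submodule F V), S ≤ P → S.map T ≤ S → NdOn B S → finrank F S = e → (∀ v ∈ S, aeval T f v = 0) →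
      ∀ (u : P), (u : V) ∈ S → u ≠ 0 →
      ∀ g : F[X], (∀ g' : F[X], B' (aeval T' g' u) (aeval T' g u) = 0) → aeval T' g u = 0 := by
    intro S hSP hST hS hSd hSf u hu hu0 g hg
    set U := Submodule.span F (Set.range fun l : Fin f.natDegree => (T ^ (l : ℕ)) (u : V))
    obtain ⟨hUT, huU⟩ := Simple.span_orbit_invariant hfm (hSf u hu) U rfl
    have hUS : U ≤ S := Submodule.span_le.2 (by rintro _ ⟨l, rfl⟩; exact pow_mem hST hu l)
    have hUeq : U = S := Submodule.eq_of_le_of_finrank_le hUS (hSd.le.trans (hmin U (hUS.trans hSP) hUT fun h =>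
      hu0 (Subtype.ext (by rw [h, Submodule.mem_bot] at huU; exact huU))))
    refine Subtype.ext ?_
    rw [hval]
    refine hS _ (hpoly S hST g _ hu) fun y hy => refl_of_flip hB _ _ ?_
    rw [← hUeq] at hy
    obtain ⟨c, rfl⟩ := (Submodule.mem_span_range_iff_exists_fun F).1 hy
    simp only [map_sum, map_smulₛₗ, LinearMap.sum_apply, LinearMap.smul_apply]
    refine Finset.sum_eq_zero fun l _ => ?_
    have h := hg (Polynomial.X ^ (l : ℕ))
    rw [restr_apply, hval, hval, map_pow, aeval_X] at h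
    rw [h, smul_zero]
  obtain ⟨x₁, hx₁, hx₁0⟩ := Submodule.exists_mem_ne_zero_of_ne_bot (p := S₁) fun h => by
    rw [h, finrank_bot] at h₁d; omega
  obtain ⟨x₂, hx₂, hx₂0⟩ := Submodule.exists_mem_ne_zero_of_ne_bot (p := S₂) fun h => by
    rw [h, finrank_bot] at h₂d; omega
  let u₁ : P := ⟨x₁, Submodule.mem_sup_left hx₁⟩
  let u₂ : P := ⟨x₂, Submodule.mem_sup_right hx₂⟩
  obtain ⟨g, hv0, hv⟩ := Simple.exists_isotropic_vector (B := B') (T := T') (fun u v => hiso (u : V) (v : V)) hσσ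
    (ε := 1) (restr_flip hB hPn).flip (p := p) hN1 hT' hfi hfP (by rw [hfd]; exact hdeg) (u₁ := u₁) (u₂ := u₂)
    (fun k => by
      rw [restr_apply, hval]
      exact ho x₁ hx₁ _ (hpoly S₂ h₂T k x₂ hx₂))
    (fun h => hx₂0 (congrArg Subtype.val h))
    (hcyc S₁ le_sup_left h₁T h₁ h₁d h₁f u₁ hx₁ fun h => hx₁0 (congrArg Subtype.val h))
    (fun h => hx₁0 (congrArg Subtype.val h))
    (hcyc S₂ le_sup_right h₂T h₂ h₂d h₂f u₂ hx₂ fun h => hx₂0 (congrArg Subtype.val h))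
  set v := aeval T' g u₁ + u₂
  set U := Submodule.span F (Set.range fun l : Fin f.natDegree => (T ^ (l : ℕ)) (v : V))
  obtain ⟨hUT, hvU⟩ := Simple.span_orbit_invariant (T := T) hfm (show aeval T f (v : V) = 0 by rw [← hval, hfP]; rfl) U rfl
  have hUP : U ≤ P := Submodule.span_le.2 (by rintro _ ⟨l, rfl⟩; exact pow_mem hPT v.2 l)
  refine ⟨U, hUP, hUT, ?_, le_antisymm ((finrank_range_le_card _).trans ((Fintype.card_fin _).trans hfd).le)
    (hmin U hUP hUT fun h => hv0 (Subtype.ext (by rw [h, Submodule.mem_bot] at hvU; exact hvU)))⟩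
  have hv' : ∀ j : ℕ, B (v : V) ((T ^ j) (v : V)) = 0 := fun j => by
    have h := hv j
    rw [restr_apply, show T' ^ j = aeval T' ((Polynomial.X : F[X]) ^ j) by rw [map_pow, aeval_X], hval, map_pow,
      aeval_X] at h
    exact h
  have key : ∀ a b : ℕ, B ((T ^ a) (v : V)) ((T ^ b) (v : V)) = 0 := fun a b => by
    rcases le_total a b with h | h <;> obtain ⟨k, rfl⟩ := Nat.exists_eq_add_of_le h
    · rw [pow_add, Module.End.mul_apply, pow_isometry hiso a, hv']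
    · refine refl_of_flip hB _ _ ?_
      rw [pow_add, Module.End.mul_apply, pow_isometry hiso b, hv']
  intro x hx y hy
  obtain ⟨a, rfl⟩ := (Submodule.mem_span_range_iff_exists_fun F).1 hx
  obtain ⟨a', rfl⟩ := (Submodule.mem_span_range_iff_exists_fun F).1 hy
  simp [map_sum, key]

/-- Self-dual pieces give isotropic halves beyond the number of classes. -/
theorem step_selfdual {q : ℕ} (hq : Fintype.card F = q ^ 2) (hσ : ∀ x, σ x = x ^ q) (hσσ : ∀ x, σ (σ x) = x)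
    (hne : ∃ a, σ a ≠ a) {p f : ℕ} [Fact p.Prime] [CharP F p] (hqp : q = p ^ f) (hB : FormTorus.IsFlipForm σ 1 B)
    (hiso : ∀ u v, B (T u) (T v) = B u v) (hT : T ^ r = 1) (hr2 : r ≠ 2) (hrF : (r : F) ≠ 0)
    (hrq : (q : ZMod r) ≠ 0) {i b c : ℕ} (hi : i = orderOf (q : ZMod r)) (hb : b = if Even i then i / 2 else i)
    (hc : c = if i % 4 = 0 then i else if i % 4 = 2 then i / 2 else 2 * i) (h4 : i % 4 = 2)
    {M : Submodule F V} (hfree : ∀ v ∈ M, T v = v → v = 0) (X : Submodule F V) (hXM : X ≤ M) (hXT : X.map T ≤ X)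
    (hX : NdOn B X) (hD : ((r - 1) / b + 1) * b ≤ finrank F X) :
    ∃ P W : Submodule F V, P ≤ X ∧ P.map T ≤ P ∧ NdOn B P ∧ finrank F P = 2 * b ∧
      W ≤ P ∧ W.map T ≤ W ∧ OrthTo B W W ∧ finrank F W = b := by
  classical
  obtain ⟨he, hrQ⟩ := orderOf_card hq hr2 hrq hi hb hc
  obtain ⟨hb0, -, hbd, -, h42, -⟩ := bc_facts hr2 hrq hi hb hc
  obtain ⟨hcb, hbodd, -⟩ := h42 h4
  obtain ⟨D, hD1, hD2⟩ := exists_family hB hiso (Fact.out : r.Prime).ne_zero hT (M := M) (e := b)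
    (fun W hW hWT hWn hW0 => hcb ▸ block hq hσ hσσ hne (p := p) hqp hB hiso hT hr2 hrF hrq hi hb hc W hWT
      (fun v hv => hfree v (hW hv)) hWn hW0) hb0 _ X hXM hXT hX hD
  have hDfree : ∀ j, ∀ v ∈ D j, T v = v → v = 0 := fun j v hv => hfree v (hXM ((hD1 j).1 hv))
  choose F' hfm hfi hfdvd hfv using fun j => Simple.exists_factor hrF hT (hD1 j).2.1 (hDfree j)
    (show finrank F (D j) = orderOf (Fintype.card F : ZMod r) by rw [(hD1 j).2.2.2, he])
    (by rw [(hD1 j).2.2.2]; exact hb0)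
  obtain ⟨j, j', hjj, hne'⟩ : ∃ j j', F' j = F' j' ∧ j ≠ j' := by
    by_contra h
    push Not at h
    have h1 := Simple.card_factors_le (Finset.univ.image F') (by
      intro g hg
      obtain ⟨j, -, rfl⟩ := Finset.mem_image.1 hg
      exact ⟨hfm j, hfi j, hfdvd j⟩) hrF hrQ
    rw [Finset.card_image_of_injective _ fun x y hxy => h x y hxy, Finset.card_univ, Fintype.card_fin, he,
      add_mul, one_mul, Nat.div_mul_cancel hbd] at h1
    omega
  have hN2 : r ∣ p ^ (f * b) + 1 := by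
    rw [pow_mul, ← hqp, ← ZMod.natCast_eq_zero_iff, Nat.cast_add, Nat.cast_pow, Nat.cast_one]
    have h1 := (neg_pow_iff hr2 hrq hi hc b).2 (hcb ▸ dvd_rfl)
    rw [hbodd.neg_pow, neg_eq_iff_eq_neg] at h1
    rw [h1, neg_add_cancel]
  obtain ⟨l, hl⟩ := hN2
  obtain ⟨W, hWP, hWT, hW, hWd⟩ := exists_iso_cyclic hσσ hB hiso (p := p) (M := f * b) (fun a => by
      obtain ⟨u, hu⟩ := hbodd
      rw [pow_mul, ← hqp, hu, hσ, pow_succ', pow_mul a q, pow_mul q, ← hq, FiniteField.pow_card_pow])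
    (by rw [hl, pow_mul, hT, one_pow]) (hfm j) (hfi j) ((Simple.natDegree_factor hrF hrQ (hfi j) (hfdvd j)).trans he)
    (by rw [hq, pow_mul, ← hqp, ← pow_mul, ← pow_mul, mul_comm]) (hD1 j).2.1 (hD1 j').2.1 (hD1 j).2.2.1
    (hD1 j').2.2.1 (hD1 j).2.2.2 (hD1 j').2.2.2 (hD2 j j' hne') (hfv j) (hjj ▸ hfv j') fun U hU hUT hU0 => by
      rw [← he]
      exact Nat.le_of_dvd (Nat.pos_of_ne_zero fun h => hU0 (Submodule.finrank_eq_zero.1 h))
        (orderOf_dvd_finrank hT hUT fun v hv => hfree v (hXM (sup_le (hD1 j).1 (hD1 j').1 (hU hv))))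
  refine ⟨D j ⊔ D j', W, sup_le (hD1 j).1 (hD1 j').1, invariant_sup (hD1 j).2.1 (hD1 j').2.1,
    ndOn_sup (refl_of_flip hB) (hD1 j).2.2.1 (hD1 j').2.2.1 (hD2 j j' hne'), ?_, hWP, hWT, hW, hWd⟩
  have := Submodule.finrank_sup_add_finrank_inf_eq (D j) (D j')
  rw [inf_eq_bot (hD1 j).2.2.1 (hD2 j' j (Ne.symm hne')), finrank_bot, (hD1 j).2.2.2, (hD1 j').2.2.2] at this
  omega

/-- Without a root, two nondegenerate pieces contain an isotropic one. -/
theorem step_nonpower {q : ℕ} (hq : Fintype.card F = q ^ 2) (hσ : ∀ x, σ x = x ^ q) (hσσ : ∀ x, σ (σ x) = x)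
    (hne : ∃ a, σ a ≠ a) {p f : ℕ} [Fact p.Prime] [CharP F p] (hqp : q = p ^ f) (hB : FormTorus.IsFlipForm σ 1 B)
    (hiso : ∀ u v, B (T u) (T v) = B u v) (hr2 : r ≠ 2) (hr : r ∣ q + 1) {z : F} (hzq : z ^ (q + 1) = 1)
    (hT : T ^ r = z • (1 : Module.End F V)) (hno : ∀ b : F, b ^ r ≠ z) (X : Submodule F V)
    (hXT : X.map T ≤ X) (hX : NdOn B X) (hD : 2 * r ≤ finrank F X) :
    ∃ P W : Submodule F V, P ≤ X ∧ P.map T ≤ P ∧ NdOn B P ∧ finrank F P = 2 * r ∧
      W ≤ P ∧ W.map T ≤ W ∧ OrthTo B W W ∧ finrank F W = r := by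
  have hrp := (Fact.out : r.Prime)
  obtain ⟨u, hu⟩ := hrp.odd_of_ne_two hr2
  have hqr : r * (q + 1) ∣ q ^ r + 1 := by
    have hgs : ((q : ℤ) + 1) * ∑ l ∈ Finset.range r, (-(q : ℤ)) ^ l = (q : ℤ) ^ r + 1 := by
      have h := geom_sum_mul (-(q : ℤ)) r
      rw [(hrp.odd_of_ne_two hr2).neg_pow] at h
      linear_combination -h
    have hsum : (r : ℤ) ∣ ∑ l ∈ Finset.range r, (-(q : ℤ)) ^ l := by
      rw [← ZMod.intCast_zmod_eq_zero_iff_dvd]
      push_cast
      have hq1 : -(q : ZMod r) = 1 := by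
        rw [neg_eq_iff_eq_neg, ← add_eq_zero_iff_eq_neg]
        exact_mod_cast (ZMod.natCast_eq_zero_iff _ _).2 hr
      simp [hq1]
    obtain ⟨l, hl⟩ := hsum
    rw [← Int.natCast_dvd_natCast]
    refine ⟨l, ?_⟩
    push_cast
    rw [← hgs, hl]
    ring
  obtain ⟨l, hl⟩ := hqr
  have hTN : T ^ (q ^ r + 1) = 1 := by
    rw [hl, mul_assoc, pow_mul, hT, _root_.smul_pow, one_pow, pow_mul, hzq, one_pow, one_smul]
  obtain ⟨D, hD1, hD2⟩ := exists_family hB hiso (Nat.succ_ne_zero _) hTN (M := ⊤) (e := r)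
    (fun W _ hWT hWn hW0 => exists_piece_nonpower hne hB hiso (Nat.succ_ne_zero _) hTN hT hno hWn hWT hW0) hrp.pos 2 X
    le_top hXT hX hD
  have hkill : ∀ v : V, aeval T (Polynomial.X ^ r - Polynomial.C z) v = 0 := fun v => by
    simp [hT, Algebra.algebraMap_eq_smul_one]
  obtain ⟨W, hWP, hWT, hW, hWd⟩ := exists_iso_cyclic hσσ hB hiso (p := p) (M := f * r) (fun a => by
      rw [pow_mul, ← hqp, hu, hσ, pow_succ', pow_mul a q, pow_mul q, ← hq, FiniteField.pow_card_pow])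
    (by rw [pow_mul, ← hqp, hTN]) (monic_X_pow_sub_C z hrp.ne_zero)
    (X_pow_sub_C_irreducible_of_prime hrp hno) natDegree_X_pow_sub_C
    (by rw [hq, pow_mul, ← hqp, ← pow_mul, ← pow_mul, mul_comm]) (hD1 0).2.1 (hD1 1).2.1 (hD1 0).2.2.1
    (hD1 1).2.2.1 (hD1 0).2.2.2 (hD1 1).2.2.2 (hD2 0 1 (by decide)) (fun v _ => hkill v) (fun v _ => hkill v)
    fun U _ hUT hU0 => Nat.le_of_dvd (Nat.pos_of_ne_zero fun h => hU0 (Submodule.finrank_eq_zero.1 h))
      (prime_dvd_finrank hT hno hUT)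
  refine ⟨D 0 ⊔ D 1, W, sup_le (hD1 0).1 (hD1 1).1, invariant_sup (hD1 0).2.1 (hD1 1).2.1,
    ndOn_sup (refl_of_flip hB) (hD1 0).2.2.1 (hD1 1).2.2.1 (hD2 0 1 (by decide)), ?_, hWP, hWT, hW, hWd⟩
  have := Submodule.finrank_sup_add_finrank_inf_eq (D 0) (D 1)
  rw [inf_eq_bot (hD1 0).2.2.1 (hD2 1 0 (by decide)), finrank_bot, (hD1 0).2.2.2, (hD1 1).2.2.2] at this
  omega

end Cfsg.Agent.Elusive.SU
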