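import Cfsg.Agent.Lib.Elusive.UnitaryBasic
import Cfsg.Agent.Lib.Elusive.UnitaryCounts
import Cfsg.Agent.Lib.Elusive.SimpleFactors

/-!
Totally isotropic subspaces of Hermitian spaces.
-/

set_option autoImplicit false
set_option linter.style.haveILetI false

namespace Cfsg.Agent.Elusive.SU

open Module FormIso Polynomial

variable {F : Type*} [Field F] {σ : F →+* F} {V : Type*} [AddCommGroup V] [Module F V] [FiniteDimensional F V]
  {B : V →ₛₗ[σ] V →ₗ[F] F}

/-- The vectors orthogonal to an independent family. -/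
theorem finrank_perp (hσσ : ∀ x, σ (σ x) = x) (hB : FormTorus.IsFlipForm σ 1 B) {k : ℕ} {e : Fin k → V}
    (he : LinearIndependent F e) :
    finrank F ↥(LinearMap.ker (LinearMap.pi fun i => B (e i))) + k = finrank F V := by
  classical
  set L : V →ₗ[F] (Fin k → F) := LinearMap.pi fun i => B (e i) with hL
  have hsurj : LinearMap.range L = ⊤ := by
    by_contra h
    obtain ⟨φ, hφ0, hφ⟩ := Submodule.exists_le_ker_of_lt_top (LinearMap.range L) (lt_top_iff_ne_top.2 h)
    refine hφ0 (LinearMap.pi_ext fun i a => ?_)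
    have hzero : ∑ i, σ (φ (Pi.single i 1)) • e i = 0 := hB.nondeg _ fun v => by
      rw [map_sum, LinearMap.sum_apply]
      have h1 : φ (L v) = 0 := hφ ⟨v, rfl⟩
      rw [pi_eq_sum_univ (L v), map_sum] at h1
      rw [← h1]
      refine Finset.sum_congr rfl fun j _ => ?_
      rw [map_smulₛₗ, LinearMap.smul_apply, map_smul, hσσ, smul_eq_mul, smul_eq_mul, mul_comm]
      congr 1
      refine congrArg φ (funext fun l => ?_)
      simp [Pi.single_apply, eq_comm]
    have h2 := Fintype.linearIndependent_iff.1 he _ hzero i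
    rw [map_eq_zero] at h2
    rw [show (Pi.single i a : Fin k → F) = a • Pi.single i 1 by rw [← Pi.single_smul, smul_eq_mul, mul_one],
      map_smul, h2, smul_zero]
    rfl
  have := L.finrank_range_add_finrank_ker
  rw [hsurj, finrank_top, finrank_fin_fun, ← hL] at *
  omega

/-- A totally isotropic subspace of a nondegenerate one has at most half its dimension. -/
theorem two_mul_finrank_le (hσσ : ∀ x, σ (σ x) = x) (hB : FormTorus.IsFlipForm σ 1 B) {X W : Submodule F V}
    (hX : NdOn B X) (hWX : W ≤ X) (hW : OrthTo B W W) : 2 * finrank F W ≤ finrank F X := by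
  set W' := W.comap X.subtype
  have hd : finrank F W' = finrank F W := (Submodule.comapSubtypeEquivOfLe hWX).finrank_eq
  let b := finBasisOfFinrankEq F W' hd
  have h := finrank_perp hσσ (restr_flip hB hX) (e := fun i => (b i : X))
    (b.linearIndependent.map' W'.subtype W'.ker_subtype)
  have hle : W' ≤ LinearMap.ker (LinearMap.pi fun i => restr B X (b i : X)) := fun v hv =>
    LinearMap.mem_ker.2 (funext fun i => hW _ (b i).2 _ hv)
  have := Submodule.finrank_mono hle
  omega

/-- The determinant when the eigenspaces are totally isotropic. -/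
theorem det_sign (h2 : (2 : F) ≠ 0) (hσσ : ∀ x, σ (σ x) = x) (hB : FormTorus.IsFlipForm σ 1 B)
    {S : Module.End F V} (hneg : ∀ u v, B (S u) (S v) = - B u v) (hSS : ∀ v, S (S v) = v) (l : F) :
    ∃ d, finrank F V = d + d ∧ LinearMap.det (l • S) = (-(l * l)) ^ d := by
  classical
  let E : F → Submodule F V := fun a => LinearMap.ker (S - a • (1 : Module.End F V))
  have hE : ∀ a v, v ∈ E a ↔ S v = a • v := fun a v => by simp [E, sub_eq_zero]
  have hEi : ∀ a : F, a * a = 1 → σ a = a → 2 * finrank F (E a) ≤ finrank F V := fun a ha hσa => by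
    have := two_mul_finrank_le hσσ hB (ndOn_top hB) (le_top (a := E a)) fun u hu v hv => by
      have h := hneg u v
      rw [(hE a u).1 hu, (hE a v).1 hv] at h
      simp only [map_smul, map_smulₛₗ, LinearMap.smul_apply, smul_eq_mul, hσa] at h
      exact (mul_eq_zero.1 (show (2 : F) * B u v = 0 by linear_combination h - (B u v) * ha)).resolve_left h2
    rwa [finrank_top] at this
  have hc : IsCompl (E 1) (E (-1)) := by
    refine IsCompl.of_eq ?_ ?_
    · rw [Submodule.eq_bot_iff]
      rintro v ⟨hv1, hv2⟩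
      have h1 := (hE 1 v).1 hv1
      have h3 := (hE (-1) v).1 hv2
      rw [h1, one_smul, neg_one_smul, eq_neg_iff_add_eq_zero, ← two_smul F] at h3
      exact (smul_eq_zero.1 h3).resolve_left h2
    · rw [eq_top_iff]
      rintro v -
      refine Submodule.mem_sup.2 ⟨(2 : F)⁻¹ • (v + S v), (hE _ _).2 ?_, (2 : F)⁻¹ • (v - S v), (hE _ _).2 ?_, ?_⟩
      · rw [map_smul, map_add, hSS, one_smul, add_comm (S v)]
      · rw [map_smul, map_sub, hSS, neg_one_smul, ← smul_neg, neg_sub]
      · rw [← smul_add, show v + S v + (v - S v) = (2 : F) • v by rw [two_smul]; abel, smul_smul,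
          inv_mul_cancel₀ h2, one_smul]
  have hdim := Submodule.finrank_add_eq_of_isCompl hc
  have h3 := hEi 1 (one_mul 1) (map_one σ)
  have h4 := hEi (-1) (by ring) (by simp)
  refine ⟨finrank F (E 1), by omega, ?_⟩
  let Ψ := Submodule.prodEquivOfIsCompl _ _ hc
  have hconj : l • S = (Ψ : (E 1 × E (-1)) →ₗ[F] V) ∘ₗ
      ((l • LinearMap.id).prodMap ((-l) • LinearMap.id)) ∘ₗ (Ψ.symm : V →ₗ[F] (E 1 × E (-1))) := by
    refine LinearMap.ext fun v => ?_
    obtain ⟨⟨a, b⟩, rfl⟩ := Ψ.surjective v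
    simp only [LinearMap.comp_apply, LinearEquiv.coe_coe, LinearEquiv.symm_apply_apply, LinearMap.smul_apply]
    simp [Ψ, (hE 1 a).1 a.2, (hE (-1) b).1 b.2]
  rw [hconj, LinearMap.det_conj, LinearMap.det_prodMap, LinearMap.det_smul, LinearMap.det_smul, LinearMap.det_id,
    LinearMap.det_id, mul_one, mul_one, show finrank F (E (-1)) = finrank F (E 1) by omega, ← mul_pow, mul_neg]

variable {T : Module.End F V} {r : ℕ} [Fact r.Prime]

/-- A nondegenerate piece of dimension `r` when the scalar has no root. -/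
theorem exists_piece_nonpower [Fintype F] (hne : ∃ a, σ a ≠ a) (hB : FormTorus.IsFlipForm σ 1 B)
    (hiso : ∀ u v, B (T u) (T v) = B u v) {N : ℕ} (hN0 : N ≠ 0) (hTN : T ^ N = 1) {z : F}
    (hT : T ^ r = z • (1 : Module.End F V)) (hno : ∀ b : F, b ^ r ≠ z) {Y : Submodule F V} (hY : NdOn B Y)
    (hYT : Y.map T ≤ Y) (hY0 : Y ≠ ⊥) :
    ∃ S : Submodule F V, S ≤ Y ∧ S.map T ≤ S ∧ NdOn B S ∧ finrank F S = r := by
  classical
  have hrp := (Fact.out : r.Prime)
  obtain ⟨v, hv, hvv⟩ := exists_aniso hne hY hY0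
  set f : F[X] := X ^ r - C z
  have hfm : f.Monic := monic_X_pow_sub_C z hrp.ne_zero
  have hfd : f.natDegree = r := natDegree_X_pow_sub_C
  obtain ⟨hUT, hvU⟩ := Simple.span_orbit_invariant (T := T) (v := v) hfm
    (by simp [f, hT, Algebra.algebraMap_eq_smul_one]) _ rfl
  set U := Submodule.span F (Set.range fun l : Fin f.natDegree => (T ^ (l : ℕ)) v)
  have hUY : U ≤ Y := Submodule.span_le.2 (by rintro _ ⟨l, rfl⟩; exact pow_mem hYT hv l)
  have hv0 : v ≠ 0 := fun h => hvv (by rw [h, map_zero])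
  have hUle : finrank F U ≤ r := (finrank_range_le_card _).trans ((Fintype.card_fin _).trans hfd).le
  have hUd : finrank F U = r := le_antisymm hUle (Nat.le_of_dvd
    (Nat.pos_of_ne_zero fun h => hv0 (by rwa [Submodule.finrank_eq_zero.1 h, Submodule.mem_bot] at hvU))
    (prime_dvd_finrank hT hno hUT))
  refine ⟨U, hUY, hUT, ?_, hUd⟩
  set R := U ⊓ FormModel.perp B U
  have hRT : R.map T ≤ R := by
    rintro _ ⟨u, hu, rfl⟩
    refine ⟨hUT ⟨u, hu.1, rfl⟩, fun w hw => ?_⟩
    rw [← map_eq hN0 hTN hUT] at hw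
    obtain ⟨w', hw', rfl⟩ := hw
    rw [hiso]
    exact hu.2 w' hw'
  intro u hu hall
  have huR : u ∈ R := ⟨hu, fun w hw => refl_of_flip hB _ _ (hall w hw)⟩
  by_contra hu0
  have hpos : 0 < finrank F R := Nat.pos_of_ne_zero fun h => hu0 (by
    rwa [Submodule.finrank_eq_zero.1 h, Submodule.mem_bot] at huR)
  have hRU : R = U := Submodule.eq_of_le_of_finrank_le inf_le_left
    (hUd.le.trans (Nat.le_of_dvd hpos (prime_dvd_finrank hT hno hRT)))
  rw [← hRU] at hvU
  exact hvv (hvU.2 v hvU.1)

end Cfsg.Agent.Elusive.SU
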