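import Cfsg.Agent.Lib.Elusive.UnitaryBasic
import Cfsg.Agent.Lib.Elusive.UnitaryCounts
import Cfsg.Agent.Lib.Elusive.SymplecticJordan

/-!
Jordan types of unipotent isometries of Hermitian spaces.
-/

set_option autoImplicit false
set_option linter.style.haveILetI false

namespace Cfsg.Agent.Elusive.SU

open Module FormIso JordanOrth Polynomial

variable {F : Type*} [Field F] {σ : F →+* F} {V : Type*} [AddCommGroup V] [Module F V] [FiniteDimensional F V]
  {B : V →ₛₗ[σ] V →ₗ[F] F} {T : Module.End F V}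

omit [FiniteDimensional F V] in
theorem comm_pow (a : ℕ) (x : V) : T (((T - 1) ^ a) x) = ((T - 1) ^ a) (T x) := by
  have h : Commute T ((T - 1) ^ a) := ((Commute.refl T).sub_right (Commute.one_right T)).pow_right a
  exact LinearMap.congr_fun h.eq x

omit [FiniteDimensional F V] in
theorem adjoint_pow (hiso : ∀ u v, B (T u) (T v) = B u v) (a b : ℕ) (x y : V) :
    B (((T - 1) ^ (a + 1)) x) (((T - 1) ^ b) y) = - B (((T - 1) ^ a) (T x)) (((T - 1) ^ (b + 1)) y) := by
  rw [pow_succ' (T - 1) a, pow_succ' (T - 1) b, Module.End.mul_apply, Module.End.mul_apply, ← comm_pow]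
  simp only [LinearMap.sub_apply, Module.End.one_apply, map_sub, hiso]
  abel

/-- A cyclic nondegenerate piece. -/
theorem exists_jordan_piece (hne : ∃ a, σ a ≠ a) (hiso : ∀ u v, B (T u) (T v) = B u v) {X : Submodule F V}
    (hX : NdOn B X) (hXT : X.map T ≤ X) (hX0 : X ≠ ⊥) {p : ℕ} (hp : ∀ u ∈ X, ((T - 1) ^ p) u = 0) :
    ∃ (k : ℕ) (S : Submodule F V), 1 ≤ k ∧ k ≤ p ∧ S ≤ X ∧ S.map T ≤ S ∧ NdOn B S ∧ finrank F S = k ∧
      ∀ l, finrank F (S.map ((T - 1) ^ l) : Submodule F V) = k - l := by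
  classical
  have hex : ∃ k : ℕ, ∀ u ∈ X, ((T - 1) ^ k) u = 0 := ⟨p, hp⟩
  set k := Nat.find hex with hk
  have hkill : ∀ u ∈ X, ((T - 1) ^ k) u = 0 := Nat.find_spec hex
  have hk1 : 1 ≤ k := Nat.one_le_iff_ne_zero.2 fun h => by
    obtain ⟨u, hu, hu0⟩ := Submodule.exists_mem_ne_zero_of_ne_bot hX0
    have := hkill u hu
    rw [h] at this
    exact hu0 this
  have hkp : k ≤ p := Nat.find_min' hex hp
  have hmem : ∀ (l : ℕ), ∀ u ∈ X, ((T - 1) ^ l) u ∈ X := fun l u hu =>
    SpUnip.pow_map_le hXT l ⟨u, hu, rfl⟩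
  have hzero : ∀ (a b : ℕ), k ≤ a + b → ∀ x ∈ X, ∀ y ∈ X, B (((T - 1) ^ a) x) (((T - 1) ^ b) y) = 0 := by
    intro a
    induction a with
    | zero =>
      intro b hb x hx y hy
      rw [← Nat.sub_add_cancel (show k ≤ b by omega), pow_add (T - 1) (b - k) k, Module.End.mul_apply, hkill y hy,
        map_zero, map_zero]
    | succ a ih =>
      intro b hb x hx y hy
      rw [adjoint_pow hiso, ih (b + 1) (by omega) _ (hXT ⟨x, hx, rfl⟩) y hy, neg_zero]
  have hsign : ∀ (a b : ℕ), a + b + 1 = k → ∀ x ∈ X, ∀ y ∈ X,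
      B (((T - 1) ^ a) x) (((T - 1) ^ b) y) = (-1) ^ a * B x (((T - 1) ^ (k - 1)) y) := by
    intro a
    induction a with
    | zero =>
      intro b hb x _ y _
      rw [show b = k - 1 by omega]
      simp
    | succ a ih =>
      intro b hb x hx y hy
      have hTx : ((T - 1) ^ a) (T x) = ((T - 1) ^ a) x + ((T - 1) ^ (a + 1)) x := by
        rw [pow_succ, Module.End.mul_apply, ← map_add]
        simp
      rw [adjoint_pow hiso, hTx, map_add, LinearMap.add_apply, ih (b + 1) (by omega) x hx y hy,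
        hzero (a + 1) (b + 1) (by omega) x hx y hy, add_zero, pow_succ' (-1 : F)]
      ring
  obtain ⟨u, hu, huu⟩ : ∃ u ∈ X, B u (((T - 1) ^ (k - 1)) u) ≠ 0 := by
    by_contra h
    push Not at h
    obtain ⟨w, hw, hw0⟩ : ∃ w ∈ X, ((T - 1) ^ (k - 1)) w ≠ 0 := by
      have := Nat.find_min hex (show k - 1 < k by omega)
      push Not at this
      exact this
    obtain ⟨a, ha⟩ := hne
    refine hw0 (hX _ (hmem _ w hw) fun v hv => ?_)
    have h1 := h (w + v) (X.add_mem hw hv)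
    have h2 := h (a • w + v) (X.add_mem (X.smul_mem a hw) hv)
    simp only [map_add, map_smul, map_smulₛₗ, LinearMap.add_apply, LinearMap.smul_apply, smul_eq_mul, h w hw,
      h v hv, mul_zero, add_zero, zero_add] at h1 h2
    have h4 : B w (((T - 1) ^ (k - 1)) v) = 0 := by
      have h3 : (σ a - a) * B w (((T - 1) ^ (k - 1)) v) = 0 := by linear_combination h2 - a * h1
      exact (mul_eq_zero.1 h3).resolve_left (sub_ne_zero.2 ha)
    have h5 := hsign (k - 1) 0 (by omega) w hw v hv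
    rw [pow_zero, Module.End.one_apply, h4, mul_zero] at h5
    exact h5
  let w : Fin k → V := fun l => ((T - 1) ^ (l : ℕ)) u
  set S := Submodule.span F (Set.range w)
  have hwX : ∀ l, w l ∈ X := fun l => hmem _ u hu
  have hBw : ∀ l j : Fin k, k ≤ (l : ℕ) + j → B (w l) (w j) = 0 := fun l j h => hzero l j h u hu u hu
  have key : ∀ g : Fin k → F, (∀ l, B (w l) (∑ j, g j • w j) = 0) → g = 0 := by
    intro g hg
    by_contra hg0
    have hex' : ∃ j, j < k ∧ ∃ h : j < k, g ⟨j, h⟩ ≠ 0 := by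
      obtain ⟨j, hj⟩ := Function.ne_iff.1 hg0
      exact ⟨j, j.2, j.2, hj⟩
    set j₀ := Nat.find hex' with hj₀
    obtain ⟨hj₀k, hj₀k', hgj⟩ := Nat.find_spec hex'
    have hlow : ∀ j : Fin k, (j : ℕ) < j₀ → g j = 0 := fun j hj => by
      by_contra hne
      exact Nat.find_min hex' hj ⟨j.2, j.2, hne⟩
    have h := hg ⟨k - 1 - j₀, by omega⟩
    rw [map_sum, Finset.sum_eq_single ⟨j₀, hj₀k⟩] at h
    · rw [map_smul, smul_eq_mul, mul_eq_zero, or_iff_right hgj,
        hsign (k - 1 - j₀) j₀ (by omega) u hu u hu, mul_eq_zero] at h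
      exact huu (h.resolve_left (pow_ne_zero _ (neg_ne_zero.2 one_ne_zero)))
    · intro j _ hj
      rcases Nat.lt_or_ge (j : ℕ) j₀ with hlt | hge
      · rw [hlow j hlt, zero_smul, map_zero]
      · have : j₀ ≠ (j : ℕ) := fun e => hj (Fin.ext e.symm)
        rw [map_smul, hBw _ j (by simp only; omega), smul_zero]
    · simp
  have hli : LinearIndependent F w := Fintype.linearIndependent_iff.2 fun g hg l =>
    congrFun (key g fun j => by rw [hg, map_zero]) l
  have hSX : S ≤ X := Submodule.span_le.2 (by rintro _ ⟨l, rfl⟩; exact hwX l)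
  have hmap : ∀ l : ℕ, ∀ j : Fin k, ((T - 1) ^ l) (w j) ∈ S := fun l j => by
    show ((T - 1) ^ l) (((T - 1) ^ (j : ℕ)) u) ∈ S
    rw [← Module.End.mul_apply, ← pow_add]
    rcases Nat.lt_or_ge (l + j) k with hlt | hge
    · exact Submodule.subset_span ⟨⟨l + j, hlt⟩, rfl⟩
    · rw [← Nat.sub_add_cancel hge, pow_add, Module.End.mul_apply, hkill u hu, map_zero]
      exact S.zero_mem
  have hST : S.map T ≤ S := by
    rw [Submodule.map_span_le]
    rintro _ ⟨j, rfl⟩
    have h1 := hmap 1 j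
    rw [pow_one, LinearMap.sub_apply, Module.End.one_apply] at h1
    simpa using S.add_mem h1 (Submodule.subset_span ⟨j, rfl⟩ : w j ∈ S)
  refine ⟨k, S, hk1, hkp, hSX, hST, fun s hs hall => ?_, by rw [finrank_span_eq_card hli, Fintype.card_fin],
    fun l => ?_⟩
  · obtain ⟨g, rfl⟩ := (Submodule.mem_span_range_iff_exists_fun F).1 hs
    have h0 : g = 0 := by
      have hg : (fun j => σ (g j)) = 0 := by
        by_contra hne'
        obtain ⟨j, hj⟩ := Function.ne_iff.1 hne'
        -- the orthogonality in the other slot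
        have hg1 : ∀ l : Fin k, ∑ j, σ (g j) * B (w j) (w l) = 0 := fun l => by
          have := hall (w l) (Submodule.subset_span ⟨l, rfl⟩)
          simpa [map_sum, map_smulₛₗ, LinearMap.sum_apply] using this
        have hex' : ∃ j, ∃ h : j < k, g ⟨j, h⟩ ≠ 0 := ⟨j, j.2, fun e => hj (by simp [e])⟩
        set j₀ := Nat.find hex'
        obtain ⟨hj₀k, hgj⟩ := Nat.find_spec hex'
        have hlow : ∀ j : Fin k, (j : ℕ) < j₀ → g j = 0 := fun j hj => by
          by_contra hne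
          exact Nat.find_min hex' hj ⟨j.2, hne⟩
        have h := hg1 ⟨k - 1 - j₀, by omega⟩
        rw [Finset.sum_eq_single ⟨j₀, hj₀k⟩] at h
        · rw [mul_eq_zero, map_eq_zero, or_iff_right hgj, hsign j₀ (k - 1 - j₀) (by omega) u hu u hu,
            mul_eq_zero] at h
          exact huu (h.resolve_left (pow_ne_zero _ (neg_ne_zero.2 one_ne_zero)))
        · intro i _ hi
          rcases Nat.lt_or_ge (i : ℕ) j₀ with hlt | hge
          · rw [hlow i hlt, map_zero, zero_mul]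
          · have : j₀ ≠ (i : ℕ) := fun e => hi (Fin.ext e.symm)
            rw [hBw i _ (by simp only; omega), mul_zero]
        · simp
      funext j
      exact (map_eq_zero σ).1 (congrFun hg j)
    simp [h0]
  · have e : S.map ((T - 1) ^ l) = Submodule.span F (Set.range fun j : Fin (k - l) => w ⟨l + j, by omega⟩) := by
      refine le_antisymm ?_ (Submodule.span_le.2 ?_)
      · rw [Submodule.map_span_le]
        rintro _ ⟨j, rfl⟩
        show ((T - 1) ^ l) (((T - 1) ^ (j : ℕ)) u) ∈ _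
        rw [← Module.End.mul_apply, ← pow_add]
        rcases Nat.lt_or_ge (l + j) k with hlt | hge
        · exact Submodule.subset_span ⟨⟨j, by omega⟩, rfl⟩
        · rw [← Nat.sub_add_cancel hge, pow_add, Module.End.mul_apply, hkill u hu, map_zero]
          exact zero_mem _
      · rintro _ ⟨j, rfl⟩
        refine ⟨w ⟨j, by omega⟩, Submodule.subset_span ⟨_, rfl⟩, ?_⟩
        show ((T - 1) ^ l) (((T - 1) ^ (j : ℕ)) u) = ((T - 1) ^ (l + (j : ℕ))) u
        rw [← Module.End.mul_apply, ← pow_add]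
    rw [e, finrank_span_eq_card, Fintype.card_fin]
    exact hli.comp _ fun a b hab => Fin.ext (by simpa using congrArg Fin.val hab)

/-- The type of an invariant nondegenerate subspace, and subspaces realising every sub-type. -/
theorem exists_type (hne : ∃ a, σ a ≠ a) (hB : FormTorus.IsFlipForm σ 1 B) (hiso : ∀ u v, B (T u) (T v) = B u v)
    {r : ℕ} (hr : r ≠ 0) (hT : T ^ r = 1) {p : ℕ} :
    ∀ X : Submodule F V, NdOn B X → X.map T ≤ X → (∀ u ∈ X, ((T - 1) ^ p) u = 0) →
      ∃ μ : Multiset ℕ, (∀ a ∈ μ, 1 ≤ a ∧ a ≤ p) ∧ μ.sum = finrank F X ∧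
        (∀ l, finrank F (X.map ((T - 1) ^ l) : Submodule F V) = rk μ l) ∧
        ∀ ν : Multiset ℕ, ν ≤ μ →
          ∃ W : Submodule F V, W ≤ X ∧ W.map T ≤ W ∧ NdOn B W ∧ finrank F W = ν.sum := by
  classical
  intro X
  induction hn : finrank F X using Nat.strong_induction_on generalizing X with
  | _ n ih =>
  intro hX hXT hp
  subst hn
  by_cases h0 : X = ⊥
  · refine ⟨0, by simp, by rw [h0, finrank_bot, Multiset.sum_zero],
      fun l => by rw [h0, Submodule.map_bot, finrank_bot]; simp [rk], fun ν hν => ?_⟩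
    rw [Multiset.le_zero.1 hν]
    exact ⟨⊥, bot_le, by simp, ndOn_bot, by simp⟩
  obtain ⟨k, S, hk1, hkp, hSX, hST, hS, hSd, hSk⟩ := exists_jordan_piece hne hiso hX hXT h0 hp
  obtain ⟨X', hX'X, hX'T, hX', ho, hsup, hinf, hd⟩ :=
    exists_compl (refl_of_flip hB) hiso hr hT hX hXT hS hST hSX
  obtain ⟨μ', hμ'v, hμ's, hμ'k, hμ'sub⟩ := ih (finrank F X') (by omega) X' rfl hX' hX'T fun u hu => hp u (hX'X hu)
  refine ⟨k ::ₘ μ', fun a ha => ?_, by rw [Multiset.sum_cons, hμ's]; omega, fun l => ?_, fun ν hν => ?_⟩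
  · rcases Multiset.mem_cons.1 ha with rfl | ha
    · exact ⟨hk1, hkp⟩
    · exact hμ'v a ha
  · rw [← hsup, SpUnip.finrank_map_sup hST hX'T hinf, hSk, hμ'k]
    simp [rk]
  · by_cases hkν : k ∈ ν
    · obtain ⟨W, hWX, hWT, hW, hWd⟩ := hμ'sub (ν.erase k) (Multiset.erase_le_iff_le_cons.2 hν)
      have hoW : OrthTo B S W := fun u hu v hv => ho u hu v (hWX hv)
      refine ⟨S ⊔ W, sup_le hSX (hWX.trans hX'X), invariant_sup hST hWT, ndOn_sup (refl_of_flip hB) hS hW hoW, ?_⟩
      have := Submodule.finrank_sup_add_finrank_inf_eq S W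
      rw [le_bot_iff.1 ((inf_le_inf_left S hWX).trans hinf.le), finrank_bot] at this
      rw [← Multiset.sum_erase hkν]
      omega
    · obtain ⟨W, hWX, h⟩ := hμ'sub ν ((Multiset.le_cons_of_notMem hkν).1 hν)
      exact ⟨W, hWX.trans hX'X, h⟩

/-- The type of an invariant nondegenerate subspace is a sub-type. -/
theorem exists_subtype (hne : ∃ a, σ a ≠ a) (hB : FormTorus.IsFlipForm σ 1 B) (hiso : ∀ u v, B (T u) (T v) = B u v)
    {r : ℕ} (hr : r ≠ 0) (hT : T ^ r = 1) {p : ℕ} (hp : (T - 1) ^ p = 0) {μ : Multiset ℕ} (hμ : ∀ a ∈ μ, 1 ≤ a)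
    (hμk : ∀ l, finrank F ↥(LinearMap.range ((T - 1) ^ l)) = rk μ l) {W : Submodule F V} (hW : NdOn B W)
    (hWT : W.map T ≤ W) : ∃ ν : Multiset ℕ, ν ≤ μ ∧ ν.sum = finrank F W := by
  obtain ⟨W', -, hW'T, hW', -, hsup, hinf, -⟩ :=
    exists_compl (refl_of_flip hB) hiso hr hT (ndOn_top hB) le_top hW hWT le_top
  obtain ⟨ν, hνv, hνs, hνk, -⟩ := exists_type hne hB hiso hr hT (p := p) W hW hWT fun u _ => by rw [hp]; rfl
  obtain ⟨ν', hν'v, -, hν'k, -⟩ := exists_type hne hB hiso hr hT (p := p) W' hW' hW'T fun u _ => by rw [hp]; rfl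
  have h : ν + ν' = μ := SpUnip.eq_of_rk (fun a ha => (Multiset.mem_add.1 ha).elim (fun h => (hνv a h).1)
    fun h => (hν'v a h).1) hμ fun l => by
      rw [SpUnip.rk_add, ← hνk, ← hν'k, ← SpUnip.finrank_map_sup hWT hW'T hinf, hsup, Submodule.map_top, hμk]
  exact ⟨ν, h ▸ Multiset.le_add_right ν ν', hνs⟩

end Cfsg.Agent.Elusive.SU
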