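import Cfsg.Agent.Lib.Elusive.UnitaryJordan
import Cfsg.Agent.Lib.Elusive.SymplecticUnipotentModels

/-!
Unipotent isometries of Hermitian spaces with prescribed Jordan types.
-/

set_option autoImplicit false
set_option linter.style.haveILetI false

namespace Cfsg.Agent.Elusive.SU

open Module FormIso JordanOrth Polynomial

variable {F : Type*} [Field F] [Fintype F] {q : ℕ} {σ : F →+* F}

/-- An isometry of the standard space of the given Jordan type. -/
def HasModel (σ : F →+* F) (p : ℕ) (μ : Multiset ℕ) : Prop :=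
  ∃ (n : ℕ) (g : Module.End F (Fin n → F)), n = μ.sum ∧
    (∀ u v, FormsLib.hermB n σ (g u) (g v) = FormsLib.hermB n σ u v) ∧ (g - 1) ^ p = 0 ∧
    ∀ l, finrank F ↥(LinearMap.range ((g - 1) ^ l)) = rk μ l

/-- Carrying a model to the standard space. -/
theorem hasModel_of (hq : Fintype.card F = q ^ 2) (hσ : ∀ x, σ x = x ^ q) {p : ℕ} {μ : Multiset ℕ} {V : Type*}
    [AddCommGroup V] [Module F V] [FiniteDimensional F V] {B : V →ₛₗ[σ] V →ₗ[F] F}
    (hB : FormTorus.IsFlipForm σ 1 B) (hd : finrank F V = μ.sum) (g : Module.End F V)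
    (hg : ∀ u v, B (g u) (g v) = B u v) (hp : (g - 1) ^ p = 0)
    (hk : ∀ l, finrank F ↥(LinearMap.range ((g - 1) ^ l)) = rk μ l) : HasModel σ p μ := by
  obtain ⟨Φ, hΦ⟩ := exists_transfer hq hσ hB hd
  let C := Φ.conjAlgEquiv F
  have hC : ∀ (S : Module.End F V) v, C S v = Φ (S (Φ.symm v)) := fun S v => rfl
  have hpow : ∀ l, (C g - 1) ^ l = C ((g - 1) ^ l) := fun l => by rw [map_pow, map_sub, map_one]
  refine ⟨μ.sum, C g, rfl, fun u v => ?_, by rw [hpow, hp, map_zero], fun l => ?_⟩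
  · rw [hC, hC, ← hΦ, hg, hΦ, Φ.apply_symm_apply, Φ.apply_symm_apply]
  · rw [← hk, hpow, show C ((g - 1) ^ l) =
      (Φ : V →ₗ[F] _) ∘ₗ ((g - 1) ^ l) ∘ₗ (Φ.symm : _ →ₗ[F] V) from rfl, LinearMap.range_comp,
      LinearMap.range_comp, LinearEquiv.range, Submodule.map_top, LinearEquiv.finrank_map_eq]

omit [Fintype F] in
theorem hasModel_zero (p : ℕ) (hp : 0 < p) : HasModel σ p 0 := by
  refine ⟨0, 1, rfl, fun u v => rfl, by rw [sub_self, zero_pow hp.ne'], fun l => ?_⟩
  have h := Submodule.finrank_le (LinearMap.range ((1 - 1 : Module.End F (Fin 0 → F)) ^ l))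
  simp only [finrank_fin_fun, Nat.le_zero] at h
  rw [h]
  simp [rk]

theorem hasModel_add (hq : Fintype.card F = q ^ 2) (hσ : ∀ x, σ x = x ^ q) (hσσ : ∀ x, σ (σ x) = x) {p : ℕ}
    {μ ν : Multiset ℕ} (hμ : HasModel σ p μ) (hν : HasModel σ p ν) : HasModel σ p (μ + ν) := by
  obtain ⟨n₁, g₁, h1, hi1, hp1, hk1⟩ := hμ
  obtain ⟨n₂, g₂, h2, hi2, hp2, hk2⟩ := hν
  let B := FormTorus.prodB σ (FormsLib.hermB n₁ σ) (FormsLib.hermB n₂ σ)
  let g := g₁.prodMap g₂
  have hpow : ∀ l, (g - 1) ^ l = ((g₁ - 1) ^ l).prodMap ((g₂ - 1) ^ l) := by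
    intro l
    induction l with
    | zero => simp
    | succ l ih =>
      rw [pow_succ, pow_succ, pow_succ, ih]
      exact LinearMap.ext fun v => rfl
  refine hasModel_of hq hσ (B := B) (FormTorus.prodB_isFlip (hermB_flip hσσ _) (hermB_flip hσσ _))
    (by rw [finrank_prod, finrank_fin_fun, finrank_fin_fun, Multiset.sum_add, h1, h2]) g
    (fun a b => by rw [FormTorus.prodB_apply, FormTorus.prodB_apply]; exact congrArg₂ (· + ·) (hi1 _ _) (hi2 _ _))
    (by rw [hpow, hp1, hp2]; exact LinearMap.ext fun v => rfl) fun l => ?_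
  rw [hpow, SpUnip.rk_add, ← hk1, ← hk2, LinearMap.range_prodMap]
  let e : ↥((LinearMap.range ((g₁ - 1) ^ l)).prod (LinearMap.range ((g₂ - 1) ^ l))) ≃ₗ[F]
      ↥(LinearMap.range ((g₁ - 1) ^ l)) × ↥(LinearMap.range ((g₂ - 1) ^ l)) :=
    { toFun := fun v => (⟨v.1.1, v.2.1⟩, ⟨v.1.2, v.2.2⟩)
      invFun := fun v => ⟨(v.1.1, v.2.1), v.1.2, v.2.2⟩
      map_add' := fun _ _ => rfl
      map_smul' := fun _ _ => rfl
      left_inv := fun _ => rfl
      right_inv := fun _ => rfl }
  rw [e.finrank_eq, finrank_prod]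

/-- A single block of any size up to `p`. -/
theorem hasModel_block (hq : Fintype.card F = q ^ 2) (hσ : ∀ x, σ x = x ^ q) (hσσ : ∀ x, σ (σ x) = x)
    (hne : ∃ a, σ a ≠ a) {p : ℕ} [Fact p.Prime] [CharP F p] {k : ℕ} (hk : 1 ≤ k) (hkp : k ≤ p) :
    HasModel σ p {k} := by
  haveI := (FormTorus.finrank_UR (F := F) k).1
  obtain ⟨B, g, hB, hg, hgv⟩ := FormTorus.exists_unipotent_model (σ := σ) (ε := (1 : F)) hk hσσ (by simp) (by
    obtain ⟨a, ha⟩ := hne
    by_contra h
    push Not at h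
    have h1 := h 1
    rw [map_one, mul_one, one_mul] at h1
    refine ha ?_
    have h2 := h a
    rw [one_mul] at h2
    linear_combination a * h1 - h2 + (σ a - a) * h1)
  set P : F[X] := (X - 1) ^ k with hP
  have hpow : ∀ (l : ℕ) v, (((g : Module.End F (FormTorus.UR F k)) - 1) ^ l) v = (AdjoinRoot.root P - 1) ^ l * v := by
    intro l
    induction l with
    | zero => intro v; simp
    | succ l ih =>
      intro v
      rw [pow_succ', Module.End.mul_apply, ih, LinearMap.sub_apply, Module.End.one_apply, LinearEquiv.coe_coe, hgv]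
      ring
  have hroot : (AdjoinRoot.root P - 1) = AdjoinRoot.mk P (X - 1) := by rw [map_sub, AdjoinRoot.mk_X, map_one]
  have hkill : ((g : Module.End F (FormTorus.UR F k)) - 1) ^ p = 0 := LinearMap.ext fun v => by
    rw [hpow, hroot, ← map_pow, ← Nat.sub_add_cancel hkp, pow_add, map_mul, show AdjoinRoot.mk P ((X - 1) ^ k) = 0 from AdjoinRoot.mk_self, mul_zero,
      zero_mul]
    rfl
  have hgp : (g : Module.End F (FormTorus.UR F k)) ^ p = 1 := SpUnip.pow_char_eq_one hkill
  obtain ⟨μ, hμv, hμs, hμk, -⟩ := exists_type hne hB (T := (g : Module.End F (FormTorus.UR F k))) (fun u v => hg u v)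
    (Fact.out : p.Prime).ne_zero hgp ⊤ (ndOn_top hB) le_top fun u _ => by rw [hkill]; rfl
  rw [finrank_top, (FormTorus.finrank_UR (F := F) k).2] at hμs
  have hlast : 0 < rk μ (k - 1) := by
    rw [← hμk, Submodule.map_top]
    refine Nat.pos_of_ne_zero fun h0 => ?_
    have h1 := LinearMap.congr_fun (LinearMap.range_eq_bot.1 (Submodule.finrank_eq_zero.1 h0)) 1
    rw [hpow, mul_one, hroot, ← map_pow, LinearMap.zero_apply, AdjoinRoot.mk_eq_zero] at h1
    have hdeg : ∀ l : ℕ, ((X - 1 : F[X]) ^ l).natDegree = l := fun l => by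
      rw [← C_1, natDegree_pow, natDegree_X_sub_C, mul_one]
    have h2 := natDegree_le_of_dvd h1 (pow_ne_zero _ (by rw [← C_1]; exact X_sub_C_ne_zero 1))
    rw [hP, hdeg, hdeg] at h2
    omega
  have hμ : μ = {k} := by
    obtain ⟨a, ha, hak⟩ : ∃ a ∈ μ, k ≤ a := by
      by_contra h
      push Not at h
      have h0 : rk μ (k - 1) = 0 := Multiset.sum_eq_zero fun x hx => by
        obtain ⟨a, ha, rfl⟩ := Multiset.mem_map.1 hx
        have := h a ha
        omega
      omega
    have hcons := Multiset.cons_erase ha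
    have hsum : a + (μ.erase a).sum = k := by rw [← Multiset.sum_cons, hcons, hμs]
    have hE : μ.erase a = 0 := Multiset.eq_zero_of_forall_notMem fun x hx => by
      have := (hμv x (Multiset.mem_of_mem_erase hx)).1
      have := Multiset.le_sum_of_mem hx
      omega
    rw [← hcons, hE, show a = k by rw [hE, Multiset.sum_zero] at hsum; omega]
    rfl
  subst hμ
  exact hasModel_of hq hσ hB (by rw [(FormTorus.finrank_UR (F := F) k).2, Multiset.sum_singleton]) _
    (fun u v => hg u v) hkill fun l => by rw [← hμk, Submodule.map_top]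

theorem hasModel_of_valid (hq : Fintype.card F = q ^ 2) (hσ : ∀ x, σ x = x ^ q) (hσσ : ∀ x, σ (σ x) = x)
    (hne : ∃ a, σ a ≠ a) {p : ℕ} [Fact p.Prime] [CharP F p] :
    ∀ μ : Multiset ℕ, (∀ a ∈ μ, 1 ≤ a ∧ a ≤ p) → HasModel σ p μ := by
  intro μ
  induction μ using Multiset.induction with
  | empty => exact fun _ => hasModel_zero p (Fact.out : p.Prime).pos
  | cons a μ ih =>
    intro h
    rw [← Multiset.singleton_add]
    exact hasModel_add hq hσ hσσ (hasModel_block hq hσ hσσ hne (h a (Multiset.mem_cons_self a μ)).1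
      (h a (Multiset.mem_cons_self a μ)).2) (ih fun b hb => h b (Multiset.mem_cons_of_mem hb))

end Cfsg.Agent.Elusive.SU
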