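import Cfsg.Agent.Lib.Elusive.UnitaryBlocks

/-!
Roots of norm-one scalars and the elements whose power is a scalar without a root.
-/

set_option autoImplicit false
set_option linter.style.haveILetI false

namespace Cfsg.Agent.Elusive.SU

open Module FormIso

variable {F : Type*} [Field F] [Fintype F] {q r : ℕ} [Fact r.Prime]

/-- An `r`-th root of norm one. -/
theorem exists_root_of_pow (hq : Fintype.card F = q ^ 2) (hr : r ∣ q + 1) {z : F} (hz : z ^ ((q + 1) / r) = 1) :
    ∃ l : F, l ^ (q + 1) = 1 ∧ l ^ r = z := by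
  obtain ⟨z₀, hz₀, hord⟩ := exists_norm_one_of_order hq (dvd_refl (q + 1))
  obtain ⟨u, hu⟩ := hr
  have hrp := (Fact.out : r.Prime)
  rw [hu, Nat.mul_div_cancel_left _ hrp.pos] at hz
  have hz0 : z ≠ 0 := fun h => by
    rw [h, zero_pow] at hz
    · exact zero_ne_one hz
    · rintro rfl; omega
  have hzq : z ^ (q + 1) = 1 := by rw [hu, mul_comm, pow_mul, hz, one_pow]
  haveI : NeZero (q + 1) := ⟨Nat.succ_ne_zero q⟩
  have hprim : IsPrimitiveRoot z₀ (q + 1) := hord ▸ IsPrimitiveRoot.orderOf z₀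
  obtain ⟨k, -, rfl⟩ := hprim.eq_pow_of_pow_eq_one hzq
  rw [← pow_mul] at hz
  have h := orderOf_dvd_of_pow_eq_one hz
  rw [hord, hu] at h
  have hu0 : 0 < u := Nat.pos_of_ne_zero fun e => by rw [e, mul_zero] at hu; omega
  obtain ⟨l, rfl⟩ := Nat.dvd_of_mul_dvd_mul_right hu0 h
  exact ⟨z₀ ^ l, by rw [← pow_mul, mul_comm, pow_mul, hz₀, one_pow], by rw [← pow_mul, mul_comm]⟩

/-- A norm-one element of full `r`-order has no root in the field. -/
theorem no_root (hq : Fintype.card F = q ^ 2) (hr2 : r ≠ 2) (hr : r ∣ q + 1) {z : F}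
    (hz : orderOf z = r ^ padicValNat r (q + 1)) : ∀ b : F, b ^ r ≠ z := by
  intro b hb
  have hrp := (Fact.out : r.Prime)
  obtain ⟨e, he⟩ : ∃ e, padicValNat r (q + 1) = e + 1 :=
    ⟨padicValNat r (q + 1) - 1, by have := one_le_padicValNat_of_dvd (show q + 1 ≠ 0 by omega) hr; omega⟩
  rw [he] at hz
  have hob : orderOf b = r ^ (e + 2) := by
    refine orderOf_eq_prime_pow (fun h => ?_) ?_
    · rw [pow_succ' r e, pow_mul, hb] at h
      have := Nat.le_of_dvd (pow_pos hrp.pos _) (orderOf_dvd_of_pow_eq_one h)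
      rw [hz] at this
      exact absurd this (not_le.2 (Nat.pow_lt_pow_right hrp.one_lt (Nat.lt_succ_self e)))
    · rw [pow_succ' r (e + 1), pow_mul, hb, ← hz, pow_orderOf_eq_one]
  have hb0 : b ≠ 0 := fun h => by
    rw [h, orderOf_zero] at hob
    exact (pow_ne_zero _ hrp.ne_zero) hob.symm
  have h1 := orderOf_dvd_of_pow_eq_one (FiniteField.pow_card_sub_one_eq_one b hb0)
  rw [hob, hq, show q ^ 2 - 1 = (q + 1) * (q - 1) by rw [← Nat.sq_sub_sq, one_pow]] at h1
  have hnd : ¬ r ∣ q - 1 := fun h => hr2 <| (Nat.prime_dvd_prime_iff_eq hrp Nat.prime_two).1 <| by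
    have h' := Nat.dvd_sub hr h
    rwa [show q + 1 - (q - 1) = 2 by
      have : 0 < q := Nat.pos_of_ne_zero fun e => by
        have := Fintype.card_pos (α := F)
        simp [hq, e] at this
      omega] at h'
  have h2 := (((hrp.coprime_iff_not_dvd).2 hnd).pow_left (e + 2)).dvd_of_dvd_mul_right h1
  have h3 := (padicValNat_dvd_iff_le (show q + 1 ≠ 0 by omega)).1 h2
  rw [he] at h3
  omega

/-- The scalar has a root when the `r`-part of `n` is no larger than that of `q + 1`. -/
theorem exists_root_of_val (hq : Fintype.card F = q ^ 2) (hr : r ∣ q + 1) {n : ℕ} (hn : n ≠ 0) (hrn : r ∣ n)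
    (hv : padicValNat r n ≤ padicValNat r (q + 1)) {z : F} (hzq : z ^ (q + 1) = 1) (hzn : z ^ (n / r) = 1) :
    ∃ l : F, l ^ (q + 1) = 1 ∧ l ^ r = z := by
  have hrp := (Fact.out : r.Prime)
  refine exists_root_of_pow hq hr (orderOf_dvd_iff_pow_eq_one.1 ?_)
  rw [Nat.dvd_div_iff_mul_dvd hr]
  set o := orderOf z
  have ho1 : o ∣ q + 1 := orderOf_dvd_of_pow_eq_one hzq
  have ho2 : r * o ∣ n := (Nat.mul_dvd_mul_left r (orderOf_dvd_of_pow_eq_one hzn)).trans (Nat.mul_div_cancel' hrn).dvd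
  obtain ⟨w, hw⟩ : ∃ w, o = r ^ padicValNat r o * w := pow_padicValNat_dvd
  have ho0 : o ≠ 0 := fun h => Nat.succ_ne_zero q (by rw [h, zero_dvd_iff] at ho1; exact ho1)
  have hcop : Nat.Coprime r w := (hrp.coprime_iff_not_dvd).2 fun h => by
    have h' : r ^ (padicValNat r o + 1) ∣ o := by
      conv_rhs => rw [hw]
      rw [pow_succ]
      exact Nat.mul_dvd_mul_left _ h
    have := (padicValNat_dvd_iff_le ho0).1 h'
    omega
  rw [hw, ← mul_assoc, ← pow_succ']
  refine (hcop.pow_left _).mul_dvd_of_dvd_of_dvd ?_ ((hw ▸ dvd_mul_left w _).trans ho1)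
  refine (padicValNat_dvd_iff_le (show q + 1 ≠ 0 by omega)).2 (le_trans ?_ hv)
  refine (padicValNat_dvd_iff_le hn).1 ?_
  rw [pow_succ']
  exact (Nat.mul_dvd_mul_left r pow_padicValNat_dvd).trans ho2

variable {σ : F →+* F}

/-- An element of `SU` whose power is a scalar without root, so that invariant dimensions are multiples of `r`. -/
theorem exists_nonpower_element (hq : Fintype.card F = q ^ 2) (hσ : ∀ x, σ x = x ^ q) (hσσ : ∀ x, σ (σ x) = x)
    (hr2 : r ≠ 2) (hrF : (r : F) ≠ 0) (hr : r ∣ q + 1) {n : ℕ} (hn : 0 < n)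
    (hv : ¬ padicValNat r n ≤ padicValNat r (q + 1)) :
    ∃ x : Matrix.SpecialLinearGroup (Fin n) F, x ∈ Cfsg.SU n F q ∧
      (∃ z : F, ((x ^ r : Matrix.SpecialLinearGroup (Fin n) F) : Matrix (Fin n) (Fin n) F) =
          z • (1 : Matrix (Fin n) (Fin n) F)) ∧
      (∀ z : F, (x : Matrix (Fin n) (Fin n) F) ≠ z • (1 : Matrix (Fin n) (Fin n) F)) ∧
      ∀ W : Submodule F (Fin n → F), W.map (Matrix.toLin' (x : Matrix (Fin n) (Fin n) F)) ≤ W →
        r ∣ finrank F W := by
  classical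
  have hrp := (Fact.out : r.Prime)
  have hdvd : r ^ (padicValNat r (q + 1) + 1) ∣ n :=
    (padicValNat_dvd_iff_le hn.ne').2 (Nat.lt_of_not_le hv)
  rw [pow_succ'] at hdvd
  obtain ⟨z, hzq, hzo⟩ := exists_norm_one_of_order hq (N := r ^ padicValNat r (q + 1)) pow_padicValNat_dvd
  have hno := no_root hq hr2 hr hzo
  obtain ⟨t, rfl⟩ := (dvd_mul_right r _).trans hdvd
  have hzt : z ^ t = 1 := orderOf_dvd_iff_pow_eq_one.1 (hzo ▸ Nat.dvd_of_mul_dvd_mul_left hrp.pos hdvd)
  obtain ⟨s, hs⟩ : ∃ s, r = s + 1 := ⟨r - 1, by have := hrp.pos; omega⟩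
  let B : (Fin t → Fin (s + 1) → F) →ₛₗ[σ] (Fin t → Fin (s + 1) → F) →ₗ[F] F :=
    LinearMap.mk₂'ₛₗ σ (RingHom.id F) (fun u v => ∑ a, FormsLib.hermB (s + 1) σ (u a) (v a))
      (fun u u' v => by simp [Finset.sum_add_distrib])
      (fun a u v => by simp [Finset.mul_sum])
      (fun u v v' => by simp [Finset.sum_add_distrib])
      (fun a u v => by simp [Finset.mul_sum])
  have hB : ∀ u v, B u v = ∑ a, ∑ l, v a l * σ (u a l) := fun u v => rfl
  have hfl : FormTorus.IsFlipForm σ 1 B := by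
    refine ⟨fun u v => ?_, fun u hu => funext fun a => (hermB_flip hσσ (s + 1)).nondeg _ fun y => ?_⟩
    · simp [hB, hσσ, mul_comm]
    · have := hu (Pi.single a y)
      rw [hB, Finset.sum_eq_single a (fun x _ hx => by simp [Pi.single_eq_of_ne hx]) (by simp)] at this
      simp only [Pi.single_eq_same] at this
      exact this
  let g : Module.End F (Fin t → Fin (s + 1) → F) :=
    LinearMap.pi fun a => (LinearMap.pi (φ := fun _ : Fin (s + 1) => F)
      (Fin.cons (α := fun _ : Fin (s + 1) => (Fin (s + 1) → F) →ₗ[F] F)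
        (z • LinearMap.proj (Fin.last s)) fun l => LinearMap.proj l.castSucc)) ∘ₗ LinearMap.proj a
  have hg0 : ∀ u a, g u a 0 = z * u a (Fin.last s) := fun u a => rfl
  have hg1 : ∀ u a (l : Fin s), g u a l.succ = u a l.castSucc := fun u a l => by simp [g]
  have hzσ : z * σ z = 1 := (norm_iff hσ z).2 hzq
  have hiso : ∀ u v, B (g u) (g v) = B u v := fun u v => by
    rw [hB, hB]
    refine Finset.sum_congr rfl fun a _ => ?_
    rw [Fin.sum_univ_succ, Fin.sum_univ_castSucc (fun l => v a l * σ (u a l)), hg0, hg0]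
    simp only [hg1, map_mul]
    linear_combination (v a (Fin.last s) * σ (u a (Fin.last s))) * hzσ
  have hpow : ∀ j, j ≤ s + 1 → ∀ u a (l : Fin (s + 1)),
      ((l : ℕ) < j → ∀ k : Fin (s + 1), (k : ℕ) + j = (l : ℕ) + (s + 1) → (g ^ j) u a l = z * u a k) ∧
      (j ≤ (l : ℕ) → ∀ k : Fin (s + 1), (k : ℕ) + j = (l : ℕ) → (g ^ j) u a l = u a k) := by
    intro j
    induction j with
    | zero =>
      intro _ u a l
      refine ⟨fun h => absurd h (by omega), fun _ k hk => ?_⟩
      rw [show k = l from Fin.ext (by omega)]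
      rfl
    | succ j ih =>
      intro hj u a l
      rw [pow_succ', Module.End.mul_apply]
      induction l using Fin.cases with
      | zero =>
        refine ⟨fun _ k hk => ?_, fun h => absurd h (by simp)⟩
        rw [hg0, ((ih (by omega) u a (Fin.last s)).2 (by simp; omega) k (by simp at hk ⊢; omega))]
      | succ l =>
        refine ⟨fun hl k hk => ?_, fun hl k hk => ?_⟩ <;> rw [hg1] <;> simp at hl hk
        · exact (ih (by omega) u a l.castSucc).1 (by simp; omega) k (by simp; omega)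
        · exact (ih (by omega) u a l.castSucc).2 (by simp; omega) k (by simp; omega)
  have hgr : g ^ r = z • (1 : Module.End F (Fin t → Fin (s + 1) → F)) := by
    rw [hs]
    refine LinearMap.ext fun u => funext fun a => funext fun l => ?_
    exact (hpow (s + 1) le_rfl u a l).1 l.2 l rfl
  have hfin : finrank F (Fin t → Fin (s + 1) → F) = r * t := by
    rw [finrank_pi_fintype, Finset.sum_const, Finset.card_univ, Fintype.card_fin, finrank_fin_fun, smul_eq_mul,
      hs, mul_comm]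
  have hdet : LinearMap.det g = 1 := by
    rw [det_of_nonpower hrF hgr hno, hfin, Nat.mul_div_cancel_left _ hrp.pos,
      (hrp.odd_of_ne_two hr2 |> fun h => Nat.Odd.sub_odd h odd_one : Even (r - 1)).neg_one_pow, one_mul, hzt]
  obtain ⟨x, hx, hxp, hxs, hxW⟩ := exists_su hq hσ hfl hfin g hiso hdet
  refine ⟨x, hx, ⟨z, hxp r z hgr⟩, fun w hw => ?_, fun W hW => ?_⟩
  · have h := LinearMap.congr_fun hgr (fun _ _ => 1)
    have h2 : ∀ j v, (g ^ j) v = w ^ j • v := fun j => by
      induction j with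
      | zero => simp
      | succ j ih => intro v; rw [pow_succ', Module.End.mul_apply, ih, map_smul, hxs w hw, smul_smul, pow_succ]
    rw [h2] at h
    have ht : 0 < t := Nat.pos_of_ne_zero fun e => by simp [e] at hn
    have h3 := congrFun (congrFun h ⟨0, ht⟩) 0
    simp at h3
    exact hno w h3
  · obtain ⟨U, hUd, hUT, -, -⟩ := hxW W hW
    exact hUd ▸ prime_dvd_finrank hgr hno hUT

end Cfsg.Agent.Elusive.SU
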